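import Mathlib
import Cfsg.Prelude.Def_OddOrderLocal
import Cfsg.Agent.Lib.Helper32.BG142Defs

/-!
# BG 14.2 leaf G3: `N_M(X) = N_E(X) C_W(X)` (for helper32, S1430)
-/

set_option autoImplicit false
set_option linter.style.haveILetI false
set_option linter.unusedSectionVars false
set_option linter.unusedVariables false

namespace Cfsg.Agent.Lib.Helper32.BG142

open Subgroup Cfsg

universe u

variable {G : Type u} [Group G] [Finite G]

/-- LEAF G3: `N_M(X) = C_W(X) N_E(X)` for `X ≤ E`, `M = W ⋊ E`. -/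
theorem inf_normalizer_eq_sup {M E W X : Subgroup G} (hE : IsComplIn E W M)
    (hWn : M ≤ normalizer (W : Set G)) (hXE : X ≤ E) :
    M ⊓ normalizer (X : Set G) = (E ⊓ normalizer (X : Set G)) ⊔ (W ⊓ centralizer (X : Set G)) := by
  obtain ⟨hEM, hWM, hEW, hprod⟩ := hE
  apply le_antisymm
  · rintro g ⟨hgM, hgN⟩
    obtain ⟨e, he, w, hw, rfl⟩ := hprod g hgM
    have hgN' : ∀ h, h ∈ X ↔ e * w * h * (e * w)⁻¹ ∈ X := mem_normalizer_iff.mp hgN
    -- `w` centralizes `X`
    have hwC : w ∈ centralizer (X : Set G) := by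
      rw [mem_centralizer_iff]
      intro x hx
      have hx'' : e * w * x * (e * w)⁻¹ ∈ X := (hgN' x).mp hx
      have h1 : w * x * w⁻¹ ∈ E := by
        have h2 : w * x * w⁻¹ = e⁻¹ * (e * w * x * (e * w)⁻¹) * e := by group
        rw [h2]
        exact E.mul_mem (E.mul_mem (E.inv_mem he) (hXE hx'')) he
      have h3 : w * x * w⁻¹ * x⁻¹ ∈ E := E.mul_mem h1 (E.inv_mem (hXE hx))
      have hxM : x ∈ M := hEM (hXE hx)
      have h4 : x * w⁻¹ * x⁻¹ ∈ W :=
        (mem_normalizer_iff.mp (hWn hxM) w⁻¹).mp (W.inv_mem hw)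
      have h5 : w * x * w⁻¹ * x⁻¹ ∈ W := by
        have h6 : w * x * w⁻¹ * x⁻¹ = w * (x * w⁻¹ * x⁻¹) := by group
        rw [h6]; exact W.mul_mem hw h4
      have h7 : w * x * w⁻¹ * x⁻¹ ∈ E ⊓ W := ⟨h3, h5⟩
      rw [hEW, mem_bot] at h7
      -- w x w⁻¹ x⁻¹ = 1 → x * w = w * x
      have h8 : w * x = x * w := by
        have : w * x = (w * x * w⁻¹ * x⁻¹) * (x * w) := by group
        rw [this, h7, one_mul]
      exact h8.symm
    have hwN : w ∈ normalizer (X : Set G) := centralizer_le_normalizer _ hwC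
    have heN : e ∈ normalizer (X : Set G) := by
      have : e = (e * w) * w⁻¹ := by group
      rw [this]
      exact (normalizer (X : Set G)).mul_mem hgN ((normalizer (X : Set G)).inv_mem hwN)
    exact mul_mem_sup ⟨he, heN⟩ ⟨hw, hwC⟩
  · apply sup_le
    · exact inf_le_inf_right _ hEM
    · exact inf_le_inf hWM (centralizer_le_normalizer _)

end Cfsg.Agent.Lib.Helper32.BG142
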