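import Cfsg.Prelude.Def_Blocks
import Mathlib.Data.Nat.Prime.Int

set_option autoImplicit false

namespace Cfsg.Agent.Lib.Helper81

open Cfsg

variable {M : Ideal AlgInt}

theorem algInt_coe_ne_zero_of_not_mem {b : AlgInt} (hb : b ∉ M) : (b : ℂ) ≠ 0 := by
  intro h
  apply hb
  have : b = 0 := Subtype.ext h
  rw [this]
  exact M.zero_mem

theorem one_not_mem_of_isPrime (hM : M.IsPrime) : (1 : AlgInt) ∉ M := by
  intro h
  exact hM.ne_top ((Ideal.eq_top_iff_one M).2 h)

theorem isPrime_of_isPModular {p : ℕ} (h : IsPModular p M) : M.IsPrime :=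
  h.2.1.isPrime

theorem memLocalRing_algInt (hM : M.IsPrime) (a : AlgInt) : MemLocalRing M (a : ℂ) :=
  ⟨a, 1, one_not_mem_of_isPrime hM, by simp⟩

theorem memLocalRing_zero (hM : M.IsPrime) : MemLocalRing M 0 := by
  simpa using memLocalRing_algInt hM 0

theorem memLocalRing_one (hM : M.IsPrime) : MemLocalRing M 1 := by
  simpa using memLocalRing_algInt hM 1

theorem memLocalRing_intCast (hM : M.IsPrime) (n : ℤ) : MemLocalRing M (n : ℂ) := by
  simpa using memLocalRing_algInt hM (n : AlgInt)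

theorem memLocalRing_natCast (hM : M.IsPrime) (n : ℕ) : MemLocalRing M (n : ℂ) := by
  simpa using memLocalRing_algInt hM (n : AlgInt)

theorem memLocalRing_add (hM : M.IsPrime) {x y : ℂ} (hx : MemLocalRing M x)
    (hy : MemLocalRing M y) : MemLocalRing M (x + y) := by
  obtain ⟨a, b, hb, rfl⟩ := hx
  obtain ⟨c, d, hd, rfl⟩ := hy
  refine ⟨a * d + c * b, b * d, fun h => (hM.mem_or_mem h).elim hb hd, ?_⟩
  have hb0 := algInt_coe_ne_zero_of_not_mem hb
  have hd0 := algInt_coe_ne_zero_of_not_mem hd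
  push_cast
  field_simp

theorem memLocalRing_mul (hM : M.IsPrime) {x y : ℂ} (hx : MemLocalRing M x)
    (hy : MemLocalRing M y) : MemLocalRing M (x * y) := by
  obtain ⟨a, b, hb, rfl⟩ := hx
  obtain ⟨c, d, hd, rfl⟩ := hy
  refine ⟨a * c, b * d, fun h => (hM.mem_or_mem h).elim hb hd, ?_⟩
  have hb0 := algInt_coe_ne_zero_of_not_mem hb
  have hd0 := algInt_coe_ne_zero_of_not_mem hd
  push_cast
  field_simp

theorem memLocalRing_neg {x : ℂ} (hx : MemLocalRing M x) : MemLocalRing M (-x) := by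
  obtain ⟨a, b, hb, rfl⟩ := hx
  exact ⟨-a, b, hb, by push_cast; ring⟩

theorem memLocalRing_sub (hM : M.IsPrime) {x y : ℂ} (hx : MemLocalRing M x)
    (hy : MemLocalRing M y) : MemLocalRing M (x - y) := by
  rw [sub_eq_add_neg]
  exact memLocalRing_add hM hx (memLocalRing_neg hy)

theorem memLocalRing_pow (hM : M.IsPrime) {x : ℂ} (hx : MemLocalRing M x) (n : ℕ) :
    MemLocalRing M (x ^ n) := by
  induction n with
  | zero => simpa using memLocalRing_one hM
  | succ n ih => rw [pow_succ]; exact memLocalRing_mul hM ih hx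

theorem memLocalRing_sum (hM : M.IsPrime) {ι : Type*} (s : Finset ι) (f : ι → ℂ)
    (h : ∀ i ∈ s, MemLocalRing M (f i)) : MemLocalRing M (∑ i ∈ s, f i) := by
  classical
  induction s using Finset.induction_on with
  | empty => simpa using memLocalRing_zero hM
  | insert i s hi ih =>
    rw [Finset.sum_insert hi]
    exact memLocalRing_add hM (h i (Finset.mem_insert_self i s))
      (ih fun j hj => h j (Finset.mem_insert_of_mem hj))

theorem memLocalRing_prod (hM : M.IsPrime) {ι : Type*} (s : Finset ι) (f : ι → ℂ)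
    (h : ∀ i ∈ s, MemLocalRing M (f i)) : MemLocalRing M (∏ i ∈ s, f i) := by
  classical
  induction s using Finset.induction_on with
  | empty => simpa using memLocalRing_one hM
  | insert i s hi ih =>
    rw [Finset.prod_insert hi]
    exact memLocalRing_mul hM (h i (Finset.mem_insert_self i s))
      (ih fun j hj => h j (Finset.mem_insert_of_mem hj))

theorem memLocalRing_of_memLocalIdeal {x : ℂ} (hx : MemLocalIdeal M x) : MemLocalRing M x := by
  obtain ⟨a, b, _, hb, rfl⟩ := hx
  exact ⟨a, b, hb, rfl⟩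

theorem memLocalIdeal_of_mem (hM : M.IsPrime) {a : AlgInt} (ha : a ∈ M) :
    MemLocalIdeal M (a : ℂ) :=
  ⟨a, 1, ha, one_not_mem_of_isPrime hM, by simp⟩

theorem memLocalIdeal_zero (hM : M.IsPrime) : MemLocalIdeal M 0 := by
  simpa using memLocalIdeal_of_mem hM M.zero_mem

theorem memLocalIdeal_add (hM : M.IsPrime) {x y : ℂ} (hx : MemLocalIdeal M x)
    (hy : MemLocalIdeal M y) : MemLocalIdeal M (x + y) := by
  obtain ⟨a, b, ha, hb, rfl⟩ := hx
  obtain ⟨c, d, hc, hd, rfl⟩ := hy
  refine ⟨a * d + c * b, b * d, M.add_mem (M.mul_mem_right _ ha) (M.mul_mem_right _ hc),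
    fun h => (hM.mem_or_mem h).elim hb hd, ?_⟩
  have hb0 := algInt_coe_ne_zero_of_not_mem hb
  have hd0 := algInt_coe_ne_zero_of_not_mem hd
  push_cast
  field_simp

theorem memLocalIdeal_neg {x : ℂ} (hx : MemLocalIdeal M x) : MemLocalIdeal M (-x) := by
  obtain ⟨a, b, ha, hb, rfl⟩ := hx
  exact ⟨-a, b, M.neg_mem ha, hb, by push_cast; ring⟩

theorem memLocalIdeal_sub (hM : M.IsPrime) {x y : ℂ} (hx : MemLocalIdeal M x)
    (hy : MemLocalIdeal M y) : MemLocalIdeal M (x - y) := by
  rw [sub_eq_add_neg]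
  exact memLocalIdeal_add hM hx (memLocalIdeal_neg hy)

theorem memLocalIdeal_mul_left (hM : M.IsPrime) {x y : ℂ} (hx : MemLocalRing M x)
    (hy : MemLocalIdeal M y) : MemLocalIdeal M (x * y) := by
  obtain ⟨a, b, hb, rfl⟩ := hx
  obtain ⟨c, d, hc, hd, rfl⟩ := hy
  refine ⟨a * c, b * d, M.mul_mem_left _ hc, fun h => (hM.mem_or_mem h).elim hb hd, ?_⟩
  have hb0 := algInt_coe_ne_zero_of_not_mem hb
  have hd0 := algInt_coe_ne_zero_of_not_mem hd
  push_cast
  field_simp

theorem memLocalIdeal_mul_right (hM : M.IsPrime) {x y : ℂ} (hx : MemLocalIdeal M x)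
    (hy : MemLocalRing M y) : MemLocalIdeal M (x * y) := by
  rw [mul_comm]
  exact memLocalIdeal_mul_left hM hy hx

theorem memLocalIdeal_sum (hM : M.IsPrime) {ι : Type*} (s : Finset ι) (f : ι → ℂ)
    (h : ∀ i ∈ s, MemLocalIdeal M (f i)) : MemLocalIdeal M (∑ i ∈ s, f i) := by
  classical
  induction s using Finset.induction_on with
  | empty => simpa using memLocalIdeal_zero hM
  | insert i s hi ih =>
    rw [Finset.sum_insert hi]
    exact memLocalIdeal_add hM (h i (Finset.mem_insert_self i s))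
      (ih fun j hj => h j (Finset.mem_insert_of_mem hj))

theorem memLocalIdeal_algInt_iff (hM : M.IsPrime) (a : AlgInt) :
    MemLocalIdeal M (a : ℂ) ↔ a ∈ M := by
  constructor
  · rintro ⟨c, d, hc, hd, h⟩
    have hd0 := algInt_coe_ne_zero_of_not_mem hd
    have h1 : (c : ℂ) = (a : ℂ) * (d : ℂ) := by
      rw [← h]; field_simp
    have h2 : c = a * d := Subtype.ext (by push_cast; exact h1)
    rw [h2] at hc
    exact (hM.mem_or_mem hc).resolve_right hd
  · exact memLocalIdeal_of_mem hM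

theorem not_memLocalIdeal_one (hM : M.IsPrime) : ¬ MemLocalIdeal M 1 := by
  intro h
  have : MemLocalIdeal M ((1 : AlgInt) : ℂ) := by simpa using h
  exact one_not_mem_of_isPrime hM ((memLocalIdeal_algInt_iff hM 1).1 this)

theorem memLocalRing_inv_of_not_memLocalIdeal {x : ℂ} (hx : MemLocalRing M x)
    (hx' : ¬ MemLocalIdeal M x) : MemLocalRing M x⁻¹ := by
  obtain ⟨a, b, hb, rfl⟩ := hx
  have ha : a ∉ M := fun ha => hx' ⟨a, b, ha, hb, rfl⟩
  exact ⟨b, a, ha, by rw [inv_div]⟩

theorem memLocalIdeal_of_mul_of_not_memLocalIdeal (hM : M.IsPrime) {x y : ℂ}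
    (hx : MemLocalRing M x) (hx' : ¬ MemLocalIdeal M x) (hxy : MemLocalIdeal M (x * y)) :
    MemLocalIdeal M y := by
  have hinv := memLocalRing_inv_of_not_memLocalIdeal hx hx'
  have hx0 : x ≠ 0 := fun h => hx' (h ▸ memLocalIdeal_zero hM)
  have := memLocalIdeal_mul_left hM hinv hxy
  rwa [← mul_assoc, inv_mul_cancel₀ hx0, one_mul] at this

theorem intCast_mem_iff {p : ℕ} (h : IsPModular p M) (n : ℤ) :
    ((n : AlgInt) ∈ M) ↔ (p : ℤ) ∣ n := by
  have hM := isPrime_of_isPModular h
  constructor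
  · intro hn
    by_contra hpn
    have hp : Prime (p : ℤ) := Nat.prime_iff_prime_int.1 h.1
    have hcop : IsCoprime (p : ℤ) n := (Prime.coprime_iff_not_dvd hp).2 hpn
    obtain ⟨u, v, huv⟩ := hcop
    apply one_not_mem_of_isPrime hM
    have h1 : ((u * p + v * n : ℤ) : AlgInt) ∈ M := by
      push_cast
      exact M.add_mem (M.mul_mem_left _ h.2.2) (M.mul_mem_left _ hn)
    rw [huv] at h1
    simpa using h1
  · rintro ⟨k, rfl⟩
    push_cast
    exact M.mul_mem_right _ h.2.2

theorem natCast_mem_iff {p : ℕ} (h : IsPModular p M) (n : ℕ) :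
    ((n : AlgInt) ∈ M) ↔ p ∣ n := by
  have := intCast_mem_iff h (n : ℤ)
  rw [Int.natCast_dvd_natCast] at this
  simpa using this

theorem memLocalIdeal_intCast_iff {p : ℕ} (h : IsPModular p M) (n : ℤ) :
    MemLocalIdeal M (n : ℂ) ↔ (p : ℤ) ∣ n := by
  rw [← intCast_mem_iff h, ← memLocalIdeal_algInt_iff (isPrime_of_isPModular h)]
  simp

theorem memLocalIdeal_natCast_iff {p : ℕ} (h : IsPModular p M) (n : ℕ) :
    MemLocalIdeal M (n : ℂ) ↔ p ∣ n := by
  rw [← natCast_mem_iff h, ← memLocalIdeal_algInt_iff (isPrime_of_isPModular h)]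
  simp

theorem memLocalRing_inv_natCast {p : ℕ} (h : IsPModular p M) {n : ℕ} (hn : ¬ p ∣ n) :
    MemLocalRing M ((n : ℂ)⁻¹) :=
  memLocalRing_inv_of_not_memLocalIdeal (memLocalRing_natCast (isPrime_of_isPModular h) n)
    (fun h' => hn ((memLocalIdeal_natCast_iff h n).1 h'))

theorem exists_mul_sub_one_mem (hM : M.IsMaximal) {a : AlgInt} (ha : a ∉ M) :
    ∃ b : AlgInt, a * b - 1 ∈ M := by
  obtain ⟨b, i, hi, hb⟩ := hM.exists_inv ha
  refine ⟨b, ?_⟩
  have : a * b - 1 = -i := by
    rw [← hb]; ring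
  rw [this]
  exact M.neg_mem hi

theorem sameBlock_refl (hM : M.IsPrime) {G : Type*} [Group G] (χ : G → ℂ) : SameBlock M χ χ := by
  intro g
  simpa using memLocalIdeal_zero hM

theorem sameBlock_symm {G : Type*} [Group G] {χ ψ : G → ℂ} (h : SameBlock M χ ψ) :
    SameBlock M ψ χ := by
  intro g
  have := memLocalIdeal_neg (h g)
  simpa using this

theorem sameBlock_trans (hM : M.IsPrime) {G : Type*} [Group G] {χ ψ φ : G → ℂ}
    (h1 : SameBlock M χ ψ) (h2 : SameBlock M ψ φ) : SameBlock M χ φ := by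
  intro g
  have := memLocalIdeal_add hM (h1 g) (h2 g)
  simpa using this

theorem centralChar_one {G : Type*} [Group G] (g : G) :
    centralChar (fun _ : G => (1 : ℂ)) g =
      ((Subgroup.centralizer ({g} : Set G)).index : ℂ) := by
  simp [centralChar]

theorem mem_principalBlock_iff {G : Type*} [Group G] (χ : IrrCharacter G) :
    χ ∈ principalBlock M G ↔
      ∀ g : G, MemLocalIdeal M
        (((Subgroup.centralizer ({g} : Set G)).index : ℂ) - centralChar (χ : G → ℂ) g) := by
  unfold principalBlock blockOf SameBlock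
  simp only [Set.mem_ofPred_eq, centralChar_one]

end Cfsg.Agent.Lib.Helper81
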