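import Cfsg.Agent.Lib.Helper81.Irr
import Cfsg.Agent.Lib.Helper81.LocalRing

set_option autoImplicit false

namespace Cfsg.Agent.Lib.Helper81

open Cfsg

universe u
variable {G : Type u} [Group G]

theorem isIrrCharacter_one : IsIrrCharacter G (fun _ => (1 : ℂ)) := by
  refine ⟨1, Representation.trivial ℂ G (Fin 1 → ℂ), ?_, ?_⟩
  · refine { exists_pair_ne := ⟨⊥, ⊤, ?_⟩, eq_bot_or_eq_top := ?_ }
    · intro h
      have h1 : (⊥ : Subrepresentation (Representation.trivial ℂ G (Fin 1 → ℂ))).toSubmodule =
          (⊤ : Subrepresentation (Representation.trivial ℂ G (Fin 1 → ℂ))).toSubmodule := by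
        rw [h]
      exact bot_ne_top h1
    · intro W
      by_cases hW : W.toSubmodule = ⊥
      · left
        exact Subrepresentation.toSubmodule_injective hW
      · right
        apply Subrepresentation.toSubmodule_injective
        change W.toSubmodule = ⊤
        have hW' : W.toSubmodule ≠ ⊥ := hW
        rw [Submodule.ne_bot_iff] at hW'
        obtain ⟨w, hwW, hw0⟩ := hW'
        have hw : w 0 ≠ 0 := by
          intro h0
          apply hw0
          ext i
          rw [Subsingleton.elim i 0, h0]
          rfl
        rw [eq_top_iff]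
        intro v _
        have : v = (v 0 / w 0) • w := by
          ext i
          rw [Subsingleton.elim i 0]
          simp only [Pi.smul_apply, smul_eq_mul]
          field_simp
        rw [this]
        exact W.toSubmodule.smul_mem _ hwW
  · ext g
    simp [Representation.character]

/-- The trivial character as an element of `IrrCharacter G`. -/
noncomputable def oneIrr (G : Type u) [Group G] : IrrCharacter G :=
  ⟨fun _ => (1 : ℂ), isIrrCharacter_one⟩

theorem oneIrr_apply (g : G) : ((oneIrr G : IrrCharacter G) : G → ℂ) g = 1 := rfl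

theorem isPBlock_principalBlock (M : Ideal AlgInt) : IsPBlock M (principalBlock M G) :=
  ⟨oneIrr G, rfl⟩

theorem oneIrr_mem_principalBlock {M : Ideal AlgInt} (hM : M.IsPrime) :
    oneIrr G ∈ principalBlock M G :=
  sameBlock_refl hM _

/-- For a nontrivial irreducible character the values sum to zero. -/
theorem irr_sum_eq_zero_of_ne_one [Fintype G] (χ : IrrCharacter G)
    (h : (χ : G → ℂ) ≠ fun _ => (1 : ℂ)) : ∑ g : G, (χ : G → ℂ) g = 0 := by
  have hne : χ ≠ oneIrr G := fun hh => h (congrArg Subtype.val hh)
  have := irr_sum_mul_inv_of_ne χ (oneIrr G) hne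
  simpa [oneIrr_apply] using this

end Cfsg.Agent.Lib.Helper81
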