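import Cfsg.Agent.Lib.Helper81.Regular
import Cfsg.Prelude.Def_Blocks

set_option autoImplicit false

namespace Cfsg.Agent.Lib.Helper81

open Cfsg

universe u
variable {G : Type u} [Group G]

theorem sum_char_mul_char_inv [Fintype G] {n m : ℕ} (ρ : Representation ℂ G (Fin n → ℂ))
    (σ : Representation ℂ G (Fin m → ℂ)) (hρ : ρ.IsIrreducible) (hσ : σ.IsIrreducible) :
    ∑ g : G, ρ.character g * σ.character g⁻¹ =
      by classical exact if ρ.character = σ.character then (Nat.card G : ℂ) else 0 := by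
  classical
  have hG : (Nat.card G : ℂ) ≠ 0 := by exact_mod_cast Nat.card_pos.ne'
  have : Invertible (Nat.card G : ℂ) := invertibleOfNonzero hG
  have := hρ
  have := hσ
  have h1 := Representation.char_orthonormal ρ σ
  have h2 := Representation.char_orthonormal ρ ρ
  have key : ρ.character = σ.character ↔ Nonempty (Representation.Equiv σ ρ) := by
    constructor
    · intro h
      by_contra hne
      rw [if_neg hne] at h1
      rw [if_pos ⟨Representation.Equiv.refl ρ⟩] at h2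
      rw [← h] at h1
      rw [h1] at h2
      simp at h2
    · rintro ⟨φ⟩
      exact (Representation.char_iso φ).symm
  by_cases h : ρ.character = σ.character
  · rw [if_pos h]
    rw [if_pos (key.1 h)] at h1
    field_simp at h1
    simpa using h1
  · rw [if_neg h]
    rw [if_neg (fun hh => h (key.2 hh))] at h1
    simpa [hG] using h1

theorem irr_sum_mul_inv_self [Fintype G] (χ : IrrCharacter G) :
    ∑ g : G, (χ : G → ℂ) g * (χ : G → ℂ) g⁻¹ = (Nat.card G : ℂ) := by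
  obtain ⟨_, n, ρ, hρ, rfl⟩ := χ
  have := sum_char_mul_char_inv ρ ρ hρ hρ
  simpa using this

theorem irr_sum_mul_inv_of_ne [Fintype G] (χ ψ : IrrCharacter G) (h : χ ≠ ψ) :
    ∑ g : G, (χ : G → ℂ) g * (ψ : G → ℂ) g⁻¹ = 0 := by
  obtain ⟨_, n, ρ, hρ, rfl⟩ := χ
  obtain ⟨_, m, σ, hσ, rfl⟩ := ψ
  have := sum_char_mul_char_inv ρ σ hρ hσ
  have hne : ρ.character ≠ σ.character := fun hh => h (Subtype.ext hh)
  simpa [hne] using this

theorem dim_ne_zero_of_isIrreducible {n : ℕ} (ρ : Representation ℂ G (Fin n → ℂ))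
    (hρ : ρ.IsIrreducible) : n ≠ 0 := by
  rintro rfl
  have := hρ
  obtain ⟨a, b, hab⟩ := hρ.exists_pair_ne
  apply hab
  apply Subrepresentation.toSubmodule_injective
  apply Subsingleton.elim

theorem irr_apply_one (χ : IrrCharacter G) : ∃ n : ℕ, n ≠ 0 ∧ (χ : G → ℂ) 1 = (n : ℂ) := by
  obtain ⟨_, n, ρ, hρ, rfl⟩ := χ
  exact ⟨n, dim_ne_zero_of_isIrreducible ρ hρ, by simp⟩

theorem irr_apply_one_ne_zero (χ : IrrCharacter G) : (χ : G → ℂ) 1 ≠ 0 := by
  obtain ⟨n, hn, h⟩ := irr_apply_one χ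
  rw [h]
  exact_mod_cast hn

/-- The Wedderburn family as a finite family of irreducible characters. -/
theorem exists_irrCharacter_family [Finite G] :
    ∃ (n : ℕ) (d : Fin n → ℕ) (f : Fin n → IrrCharacter G),
      (∀ i, ((f i : IrrCharacter G) : G → ℂ) 1 = (d i : ℂ)) ∧
      (∑ i, (d i : ℂ) * ((f i : IrrCharacter G) : G → ℂ) 1 = (Nat.card G : ℂ)) ∧
      ∀ g : G, g ≠ 1 → ∑ i, (d i : ℂ) * ((f i : IrrCharacter G) : G → ℂ) g = 0 := by
  obtain ⟨n, d, ρ, hd, hirr, h1, hne⟩ := exists_irr_family (G := G)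
  refine ⟨n, d, fun i => ⟨(ρ i).character, d i, ρ i, hirr i, rfl⟩, fun i => ?_, h1, hne⟩
  simp

theorem family_surjective [Finite G] {n : ℕ} (d : Fin n → ℕ) (f : Fin n → IrrCharacter G)
    (h1 : ∑ i, (d i : ℂ) * ((f i : IrrCharacter G) : G → ℂ) 1 = (Nat.card G : ℂ))
    (hne : ∀ g : G, g ≠ 1 → ∑ i, (d i : ℂ) * ((f i : IrrCharacter G) : G → ℂ) g = 0) :
    Function.Surjective f := by
  classical
  have : Fintype G := Fintype.ofFinite G
  intro ψ
  by_contra hcon
  push Not at hcon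
  have hG : (Nat.card G : ℂ) ≠ 0 := by exact_mod_cast Nat.card_pos.ne'
  have e1 : ∑ g : G, (∑ i, (d i : ℂ) * ((f i : IrrCharacter G) : G → ℂ) g) * (ψ : G → ℂ) g⁻¹ =
      (Nat.card G : ℂ) * (ψ : G → ℂ) 1 := by
    rw [Finset.sum_eq_single (1 : G)]
    · rw [h1, inv_one]
    · intro g _ hg
      rw [hne g hg, zero_mul]
    · intro h; exact absurd (Finset.mem_univ _) h
  have e2 : ∑ g : G, (∑ i, (d i : ℂ) * ((f i : IrrCharacter G) : G → ℂ) g) * (ψ : G → ℂ) g⁻¹ = 0 := by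
    simp_rw [Finset.sum_mul]
    rw [Finset.sum_comm]
    apply Finset.sum_eq_zero
    intro i _
    simp_rw [mul_assoc]
    rw [← Finset.mul_sum, irr_sum_mul_inv_of_ne (f i) ψ (hcon i), mul_zero]
  rw [e2] at e1
  exact (mul_ne_zero hG (irr_apply_one_ne_zero ψ)) e1.symm

theorem finite_irrCharacter [Finite G] : Finite (IrrCharacter G) := by
  obtain ⟨n, d, f, _, h1, hne⟩ := exists_irrCharacter_family (G := G)
  exact Finite.of_surjective f (family_surjective d f h1 hne)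

theorem regular_aux [Finite G] [Fintype (IrrCharacter G)] :
    ∃ R : G → ℂ, R 1 = (Nat.card G : ℂ) ∧ (∀ g, g ≠ 1 → R g = 0) ∧
      ∀ g : G, ∑ χ : IrrCharacter G, (χ : G → ℂ) 1 * (χ : G → ℂ) g = R g := by
  classical
  have : Fintype G := Fintype.ofFinite G
  obtain ⟨n, d, f, hd, h1, hne⟩ := exists_irrCharacter_family (G := G)
  have hG : (Nat.card G : ℂ) ≠ 0 := by exact_mod_cast Nat.card_pos.ne'
  refine ⟨fun g => ∑ i, (d i : ℂ) * ((f i : IrrCharacter G) : G → ℂ) g, h1, hne, ?_⟩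
  -- multiplicities
  let m : IrrCharacter G → ℂ := fun χ => ∑ i with f i = χ, (d i : ℂ)
  have hR : ∀ g : G, ∑ i, (d i : ℂ) * ((f i : IrrCharacter G) : G → ℂ) g =
      ∑ χ : IrrCharacter G, m χ * (χ : G → ℂ) g := by
    intro g
    rw [← Finset.sum_fiberwise Finset.univ f]
    refine Finset.sum_congr rfl fun χ _ => ?_
    rw [Finset.sum_mul]
    refine Finset.sum_congr rfl fun i hi => ?_
    rw [(Finset.mem_filter.1 hi).2]
  have hm : ∀ ψ : IrrCharacter G, m ψ = (ψ : G → ℂ) 1 := by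
    intro ψ
    have e1 : ∑ g : G, (∑ i, (d i : ℂ) * ((f i : IrrCharacter G) : G → ℂ) g) * (ψ : G → ℂ) g⁻¹ =
        (Nat.card G : ℂ) * (ψ : G → ℂ) 1 := by
      rw [Finset.sum_eq_single (1 : G)]
      · rw [h1, inv_one]
      · intro g _ hg
        rw [hne g hg, zero_mul]
      · intro h; exact absurd (Finset.mem_univ _) h
    have e2 : ∑ g : G, (∑ i, (d i : ℂ) * ((f i : IrrCharacter G) : G → ℂ) g) * (ψ : G → ℂ) g⁻¹ =
        m ψ * (Nat.card G : ℂ) := by
      simp_rw [hR, Finset.sum_mul]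
      rw [Finset.sum_comm]
      rw [Finset.sum_eq_single ψ]
      · simp_rw [mul_assoc]
        rw [← Finset.mul_sum, irr_sum_mul_inv_self]
      · intro χ _ hχ
        simp_rw [mul_assoc]
        rw [← Finset.mul_sum, irr_sum_mul_inv_of_ne χ ψ hχ, mul_zero]
      · intro h; exact absurd (Finset.mem_univ _) h
    rw [e1] at e2
    have : (Nat.card G : ℂ) * (ψ : G → ℂ) 1 = (Nat.card G : ℂ) * m ψ := by rw [e2, mul_comm]
    exact (mul_left_cancel₀ hG this).symm
  intro g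
  change _ = ∑ i, (d i : ℂ) * ((f i : IrrCharacter G) : G → ℂ) g
  rw [hR g]
  refine Finset.sum_congr rfl fun χ _ => ?_
  rw [hm χ]

theorem sum_irr_deg_mul_one [Finite G] [Fintype (IrrCharacter G)] :
    ∑ χ : IrrCharacter G, (χ : G → ℂ) 1 * (χ : G → ℂ) 1 = (Nat.card G : ℂ) := by
  obtain ⟨R, h1, _, h⟩ := regular_aux (G := G)
  rw [h 1, h1]

theorem sum_irr_deg_mul_of_ne_one [Finite G] [Fintype (IrrCharacter G)] {g : G} (hg : g ≠ 1) :
    ∑ χ : IrrCharacter G, (χ : G → ℂ) 1 * (χ : G → ℂ) g = 0 := by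
  obtain ⟨R, _, hne, h⟩ := regular_aux (G := G)
  rw [h g, hne g hg]


theorem charDegree_eq_of_apply_one {χ : G → ℂ} {n : ℕ} (h : χ 1 = (n : ℂ)) :
    charDegree χ = n := by
  unfold charDegree
  rw [h]
  simp

theorem irr_charDegree_ne_zero (χ : IrrCharacter G) : charDegree (χ : G → ℂ) ≠ 0 := by
  obtain ⟨n, hn, h⟩ := irr_apply_one χ
  rw [charDegree_eq_of_apply_one h]
  exact hn

theorem irr_apply_one_eq_charDegree (χ : IrrCharacter G) :
    (χ : G → ℂ) 1 = (charDegree (χ : G → ℂ) : ℂ) := by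
  obtain ⟨n, hn, h⟩ := irr_apply_one χ
  rw [charDegree_eq_of_apply_one h, h]

theorem irr_conj_apply (χ : IrrCharacter G) (g h : G) :
    (χ : G → ℂ) (h * g * h⁻¹) = (χ : G → ℂ) g := by
  obtain ⟨_, n, ρ, hρ, rfl⟩ := χ
  exact Representation.char_conj ρ g h

end Cfsg.Agent.Lib.Helper81
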