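import Mathlib
import Cfsg.Prelude.Def_ClassicalGeometry
import Cfsg.Prelude.Def_GeometricClasses
import Cfsg.Agent.Lib.Helper48.TiDefs
import Cfsg.Agent.Lib.Helper37.PlusType

/-! # Definitions for the S5989 hive "On" (helper81): `Ω⁺_{2d}(q)`, `q` odd, acting on the
nondegenerate odd-dimensional subspaces isometric to a given one.

Abstract layer: `V` finite-dimensional over a finite field `F`, `B : V →ₗ[F] V →ₗ[F] F` a SYMMETRIC
form, `Nd B W` (relative nondegeneracy, `Cfsg.Agent.Lib.Helper99.Nd`), `Inv f W`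
(`Cfsg.Agent.Lib.Helper2.BG.Inv`), `Isom B f` (`Cfsg.Agent.Lib.Helper48.Ti.Isom`). -/

set_option autoImplicit false

namespace Cfsg.Agent.Lib.Helper81.On

open Module
open Cfsg.Agent.Lib.Helper2.BG Cfsg.Agent.Lib.Helper99 Cfsg.Agent.Lib.Helper48.Ti

section defs

variable {F V : Type*} [Field F] [AddCommGroup V] [Module F V]

/-- the subspaces `W`, `W'` are isometric for the bilinear form `B` -/
def SameType (B : V →ₗ[F] V →ₗ[F] F) (W W' : Submodule F V) : Prop :=
  ∃ e : W ≃ₗ[F] W', ∀ u v : W, B (e u : V) (e v : V) = B (u : V) (v : V)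

/-- `f` leaves invariant a nondegenerate subspace isometric to `W₀` -/
def Fixes (B : V →ₗ[F] V →ₗ[F] F) (f : Module.End F V) (W₀ : Submodule F V) : Prop :=
  ∃ W : Submodule F V, Nd B W ∧ SameType B W W₀ ∧ Inv f W

/-- the family of nondegenerate subspaces of `Z` isometric to `W₀` -/
def Fam (B : V →ₗ[F] V →ₗ[F] F) (Z W₀ : Submodule F V) : Set (Submodule F V) :=
  {W | W ≤ Z ∧ Nd B W ∧ SameType B W W₀}

/-- the block size: `i` if `i` is even, `2 i` otherwise -/
def cOf (i : ℕ) : ℕ := if Even i then i else 2 * i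

end defs

/-- the ambient space of `quadFormPlus d` -/
abbrev VP (d : ℕ) (F : Type*) := Fin d ⊕ Fin d → F

/-- the polar form of `quadFormPlus d` as a bilinear map (Gram matrix `Helper37.gramP`) -/
noncomputable def plusB (d : ℕ) {F : Type*} [Field F] : VP d F →ₗ[F] VP d F →ₗ[F] F :=
  Matrix.toBilin' (Cfsg.Agent.Lib.Helper37.gramP d F)

end Cfsg.Agent.Lib.Helper81.On
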