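import Cfsg.Agent.Lib.Helper81.Twist
import Cfsg.Agent.Lib.Helper81.OneIrr

set_option autoImplicit false

namespace Cfsg.Agent.Lib.Helper81

open Cfsg

universe u
variable {G : Type u} [Group G]

/-- Consequence of Brauer's permutation lemma: an automorphism that fixes no conjugacy class
other than the trivial one fixes no irreducible character other than the trivial one. -/
theorem irr_eq_one_of_comp_eq [Finite G] (α : G ≃* G) (hα : ∀ g : G, IsConj (α g) g → g = 1)
    (χ : IrrCharacter G) (hχ : (χ : G → ℂ) ∘ α = (χ : G → ℂ)) :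
    (χ : G → ℂ) = fun _ => 1 := by
  have h := brauer_permutation (irrTwist α) (classMap α) (by
    intro χ C
    obtain ⟨g, rfl⟩ := ConjClasses.exists_rep C
    rw [classMap_mk, irrAt_mk, irrAt_mk, irrTwist_apply, MulEquiv.symm_apply_apply])
  have h1 : Nat.card {C : ConjClasses G // classMap α C = C} = 1 := by
    rw [Nat.card_eq_one_iff_unique]
    refine ⟨⟨?_⟩, ⟨⟨ConjClasses.mk 1, ?_⟩⟩⟩
    · rintro ⟨C, hC⟩ ⟨D, hD⟩
      apply Subtype.ext
      obtain ⟨g, rfl⟩ := ConjClasses.exists_rep C
      obtain ⟨k, rfl⟩ := ConjClasses.exists_rep D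
      rw [classMap_mk, ConjClasses.mk_eq_mk_iff_isConj] at hC hD
      have hg1 := hα g hC
      have hk1 := hα k hD
      show ConjClasses.mk g = ConjClasses.mk k
      rw [hg1, hk1]
    · rw [classMap_mk, map_one]
  rw [h1, Nat.card_eq_one_iff_unique] at h
  obtain ⟨hsub, _⟩ := h
  have hone : irrTwist α (oneIrr G) = oneIrr G := by
    rw [irrTwist_eq_self_iff]
    funext g
    rfl
  have h2 : (⟨χ, (irrTwist_eq_self_iff α χ).2 hχ⟩ :
      {χ : IrrCharacter G // irrTwist α χ = χ}) = ⟨oneIrr G, hone⟩ := Subsingleton.elim _ _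
  have h3 := congrArg (fun a => (a.1 : G → ℂ)) h2
  exact h3

end Cfsg.Agent.Lib.Helper81
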