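import Mathlib

/-!
# HupSpec (CF): a chief factor above a maximal abelian normal subgroup (for helper12, S3360)
-/

set_option autoImplicit false
set_option linter.style.haveILetI false
set_option linter.unusedVariables false
set_option linter.unusedSectionVars false

namespace Cfsg.Agent.Lib.Helper55.HupSpec

open scoped commutatorElement

/-- A nontrivial normal subgroup of a finite solvable group contains a nontrivial normal
elementary abelian subgroup of the whole group. -/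
theorem cf_exists_elem_ab {Q : Type*} [Group Q] [Finite Q] (hsol : Group.IsSolvable Q)
    (K : Subgroup Q) [K.Normal] (hK : K ≠ ⊥) :
    ∃ (N : Subgroup Q) (s : ℕ), N.Normal ∧ s.Prime ∧ N ≤ K ∧ N ≠ ⊥ ∧
      (∀ x ∈ N, ∀ y ∈ N, x * y = y * x) ∧ (∀ x ∈ N, x ^ s = 1) := by
  classical
  have hex : ∃ n : ℕ, ∃ N : Subgroup Q, N.Normal ∧ N ≤ K ∧ N ≠ ⊥ ∧ Nat.card N = n :=
    ⟨_, K, inferInstance, le_rfl, hK, rfl⟩
  obtain ⟨N, hNn, hNK, hNbot, hNcard⟩ := Nat.find_spec hex
  have hmin : ∀ M : Subgroup Q, M.Normal → M ≤ N → M ≠ ⊥ → M = N := by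
    intro M hMn hMN hMbot
    have h1 : Nat.find hex ≤ Nat.card M :=
      Nat.find_min' hex ⟨M, hMn, hMN.trans hNK, hMbot, rfl⟩
    have h2 : Nat.card M ≤ Nat.card N := Subgroup.card_le_of_le hMN
    exact Subgroup.eq_of_le_of_card_ge hMN (by omega)
  haveI := hNn
  -- `N` is abelian
  have hab : ⁅N, N⁆ = ⊥ := by
    by_contra hne
    have hNN : ⁅N, N⁆ = N := hmin _ inferInstance (Subgroup.commutator_le_left N N) hne
    have hle : ∀ k, N ≤ derivedSeries Q k := by
      intro k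
      induction k with
      | zero => simp
      | succ k ih =>
        rw [derivedSeries_succ]
        calc N = ⁅N, N⁆ := hNN.symm
          _ ≤ _ := Subgroup.commutator_mono ih ih
    obtain ⟨k, hk⟩ := (Group.isSolvable_def Q).mp hsol
    exact hNbot (le_bot_iff.mp (hk ▸ hle k))
  have hcomm : ∀ x ∈ N, ∀ y ∈ N, x * y = y * x := by
    intro x hx y hy
    have h1 : ⁅x, y⁆ ∈ ⁅N, N⁆ := Subgroup.commutator_mem_commutator hx hy
    rw [hab, Subgroup.mem_bot] at h1
    exact commutatorElement_eq_one_iff_mul_comm.mp h1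
  -- a prime divisor of `|N|`
  have hc1 : Nat.card N ≠ 1 := fun h => hNbot (Subgroup.eq_bot_of_card_eq N h)
  obtain ⟨s, hs, hsd⟩ := Nat.exists_prime_and_dvd hc1
  haveI : Fact s.Prime := ⟨hs⟩
  obtain ⟨⟨z, hzN⟩, hz⟩ := exists_prime_orderOf_dvd_card' s hsd
  have hz' : orderOf z = s := by
    rw [← hz]; exact (Subgroup.orderOf_mk z hzN).symm
  let Ns : Subgroup Q :=
    { carrier := {x | x ∈ N ∧ x ^ s = 1}
      one_mem' := ⟨N.one_mem, one_pow _⟩
      mul_mem' := by
        rintro a b ⟨ha, ha'⟩ ⟨hb, hb'⟩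
        refine ⟨N.mul_mem ha hb, ?_⟩
        rw [(show Commute a b from hcomm a ha b hb).mul_pow, ha', hb', one_mul]
      inv_mem' := by
        rintro a ⟨ha, ha'⟩
        exact ⟨N.inv_mem ha, by rw [inv_pow, ha', inv_one]⟩ }
  have hNsn : Ns.Normal := by
    constructor
    rintro a ⟨ha, ha'⟩ g
    refine ⟨hNn.conj_mem a ha g, ?_⟩
    rw [conj_pow, ha', mul_one, mul_inv_cancel]
  have hNsN : Ns ≤ N := fun x hx => hx.1
  have hzNs : z ∈ Ns := ⟨hzN, by rw [← hz']; exact pow_orderOf_eq_one z⟩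
  have hNsbot : Ns ≠ ⊥ := by
    intro h
    rw [h, Subgroup.mem_bot] at hzNs
    rw [hzNs, orderOf_one] at hz'
    exact hs.one_lt.ne hz'
  have hNsEq : Ns = N := hmin Ns hNsn hNsN hNsbot
  refine ⟨N, s, hNn, hs, hNK, hNbot, hcomm, ?_⟩
  intro x hx
  have : x ∈ Ns := hNsEq ▸ hx
  exact this.2

/-- (CF) a chief factor above a maximal abelian normal subgroup that is not self-centralising. -/
theorem exists_chief_class_two {G : Type*} [Group G] [Finite G] (hsol : Group.IsSolvable G)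
    (A : Subgroup G) [A.Normal] (hAc : ∀ a ∈ A, ∀ b ∈ A, a * b = b * a)
    (hmax : ∀ B : Subgroup G, B.Normal → (∀ a ∈ B, ∀ b ∈ B, a * b = b * a) → A ≤ B → B = A)
    (hC : ∃ c ∈ Subgroup.centralizer (A : Set G), c ∉ A) :
    ∃ (N : Subgroup G) (s : ℕ), N.Normal ∧ s.Prime ∧ A ≤ N ∧
      N ≤ Subgroup.centralizer (A : Set G) ∧
      (∃ x ∈ N, x ∉ A) ∧ (∀ x ∈ N, ∀ y ∈ N, ⁅x, y⁆ ∈ A) ∧ (∀ x ∈ N, x ^ s ∈ A) ∧
      (∀ x ∈ N, (∀ y ∈ N, x * y = y * x) → x ∈ A) := by
  classical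
  obtain ⟨c, hcC, hcA⟩ := hC
  have hAC : A ≤ Subgroup.centralizer (A : Set G) := fun a ha =>
    Subgroup.mem_centralizer_iff.mpr (fun b hb => hAc b hb a ha)
  let π : G →* G ⧸ A := QuotientGroup.mk' A
  have hπ : Function.Surjective π := QuotientGroup.mk'_surjective A
  have hπ1 : ∀ x : G, π x = 1 ↔ x ∈ A := fun x => QuotientGroup.eq_one_iff x
  haveI : (Subgroup.centralizer (A : Set G)).Normal := Subgroup.normal_centralizer
  let K : Subgroup (G ⧸ A) := (Subgroup.centralizer (A : Set G)).map π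
  haveI : K.Normal := Subgroup.Normal.map inferInstance π hπ
  have hK : K ≠ ⊥ := by
    intro h
    have h1 : π c ∈ K := Subgroup.mem_map_of_mem π hcC
    rw [h, Subgroup.mem_bot] at h1
    exact hcA ((hπ1 c).mp h1)
  haveI := hsol
  have hsolQ : Group.IsSolvable (G ⧸ A) := inferInstance
  obtain ⟨N0, s, hN0n, hs, hN0K, hN0bot, hN0c, hN0s⟩ := cf_exists_elem_ab hsolQ K hK
  have hNn : (N0.comap π).Normal := hN0n.comap π
  have hAN : A ≤ N0.comap π := by
    intro a ha
    rw [Subgroup.mem_comap, (hπ1 a).mpr ha]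
    exact N0.one_mem
  have hNC : N0.comap π ≤ Subgroup.centralizer (A : Set G) := by
    intro x hx
    have hx' : π x ∈ K := hN0K hx
    obtain ⟨y, hyC, hyx⟩ := Subgroup.mem_map.mp hx'
    have h1 : y⁻¹ * x ∈ A := by
      rw [← hπ1, map_mul, map_inv, hyx, inv_mul_cancel]
    have h2 : x = y * (y⁻¹ * x) := by group
    rw [h2]
    exact Subgroup.mul_mem _ hyC (hAC h1)
  refine ⟨N0.comap π, s, hNn, hs, hAN, hNC, ?_, ?_, ?_, ?_⟩
  · obtain ⟨z, hz, hz1⟩ := (Subgroup.bot_or_exists_ne_one N0).resolve_left hN0bot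
    obtain ⟨x, rfl⟩ := hπ z
    exact ⟨x, hz, fun hxA => hz1 ((hπ1 x).mpr hxA)⟩
  · intro x hx y hy
    rw [← hπ1, map_commutatorElement]
    exact commutatorElement_eq_one_iff_mul_comm.mpr (hN0c _ hx _ hy)
  · intro x hx
    rw [← hπ1, map_pow]
    exact hN0s _ hx
  · intro x hx hxc
    let B : Subgroup G := N0.comap π ⊓ Subgroup.centralizer ((N0.comap π : Subgroup G) : Set G)
    haveI := hNn
    haveI : (Subgroup.centralizer ((N0.comap π : Subgroup G) : Set G)).Normal :=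
      Subgroup.normal_centralizer
    have hBn : B.Normal := inferInstance
    have hBc : ∀ a ∈ B, ∀ b ∈ B, a * b = b * a := by
      intro a ha b hb
      exact (Subgroup.mem_centralizer_iff.mp hb.2 a ha.1)
    have hAB : A ≤ B := by
      intro a ha
      refine ⟨hAN ha, Subgroup.mem_centralizer_iff.mpr ?_⟩
      intro y hy
      exact (Subgroup.mem_centralizer_iff.mp (hNC hy) a ha).symm
    have hBA : B = A := hmax B hBn hBc hAB
    have hxB : x ∈ B := ⟨hx, Subgroup.mem_centralizer_iff.mpr (fun y hy => (hxc y hy).symm)⟩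
    exact hBA ▸ hxB

end Cfsg.Agent.Lib.Helper55.HupSpec
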