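import Mathlib

/-!
# HupSpec (L1): automorphisms of an elementary abelian group (for helper12, S3360)
-/

set_option autoImplicit false
set_option linter.style.haveILetI false
set_option linter.unusedVariables false
set_option linter.unusedSectionVars false

namespace Cfsg.Agent.Lib.Helper55.HupSpec

/-- (L1') automorphisms of an elementary abelian group of order `s^j`: order equals `|GL(j,s)|`. -/
theorem card_mulAut_eq {U : Type*} [Group U] [Finite U] (s j : ℕ) (hs : s.Prime)
    (hcomm : ∀ a b : U, a * b = b * a) (hexp : ∀ u : U, u ^ s = 1) (hcard : Nat.card U = s ^ j) :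
    Nat.card (MulAut U) = ∏ i ∈ Finset.range j, (s ^ j - s ^ i) := by
  classical
  haveI : Fact s.Prime := ⟨hs⟩
  letI : CommGroup U := { ‹Group U› with mul_comm := hcomm }
  letI : Module (ZMod s) (Additive U) :=
    AddCommGroup.zmodModule (n := s) (fun x => congrArg Additive.ofMul (hexp (Additive.toMul x)))
  haveI : Finite (Additive U) := ‹Finite U›
  have hfin : Module.finrank (ZMod s) (Additive U) = j := by
    have h1 : Nat.card (Additive U) = Nat.card (ZMod s) ^ Module.finrank (ZMod s) (Additive U) :=
      Module.natCard_eq_pow_finrank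
    rw [Nat.card_zmod] at h1
    have h2 : Nat.card (Additive U) = s ^ j := hcard
    exact Nat.pow_right_injective hs.two_le (h1.symm.trans h2)
  let b : Module.Basis (Fin j) (ZMod s) (Additive U) := Module.finBasisOfFinrankEq _ _ hfin
  let e1 : MulAut U ≃ (Additive U ≃+ Additive U) := MulEquiv.toAdditive
  let e2 : (Additive U ≃+ Additive U) ≃ (Additive U ≃ₗ[ZMod s] Additive U) :=
    { toFun := fun e => e.toLinearEquiv (fun c x => ZMod.map_smul e c x)
      invFun := fun l => l.toAddEquiv
      left_inv := fun e => by ext; rfl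
      right_inv := fun l => by ext; rfl }
  let e3 := (LinearMap.GeneralLinearGroup.generalLinearEquiv (ZMod s) (Additive U)).symm.toEquiv
  let e4 := (LinearMap.GeneralLinearGroup.congrLinearEquiv b.equivFun).toEquiv
  let e5 := (Matrix.GeneralLinearGroup.toLin (n := Fin j) (R := ZMod s)).symm.toEquiv
  have hc : Nat.card (MulAut U) = Nat.card (GL (Fin j) (ZMod s)) :=
    Nat.card_congr (e1.trans (e2.trans (e3.trans (e4.trans e5))))
  rw [hc, Matrix.card_GL_field, ZMod.card, Finset.prod_range (fun i => s ^ j - s ^ i)]

/-- (L1) automorphisms of an elementary abelian group of order `s^j`: order divides `|GL(j,s)|`. -/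
theorem card_mulAut_dvd {U : Type*} [Group U] [Finite U] (s j : ℕ) (hs : s.Prime)
    (hcomm : ∀ a b : U, a * b = b * a) (hexp : ∀ u : U, u ^ s = 1) (hcard : Nat.card U = s ^ j) :
    Nat.card (MulAut U) ∣ ∏ i ∈ Finset.range j, (s ^ j - s ^ i) :=
  (card_mulAut_eq s j hs hcomm hexp hcard).dvd

end Cfsg.Agent.Lib.Helper55.HupSpec
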