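import Mathlib
import Cfsg.Agent.Lib.Helper81.HupL1

/-!
# HupSpec (I): order bound for a class-two normal subgroup with self-centralising centre
(for helper12, S3360)
-/

set_option autoImplicit false
set_option linter.style.haveILetI false
set_option linter.unusedVariables false
set_option linter.unusedSectionVars false

namespace Cfsg.Agent.Lib.Helper55.HupSpec

open scoped commutatorElement

/-- homomorphisms from a finite abelian group to a finite cyclic group: the number divides `|U|`. -/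
theorem ci_card_hom_dvd {U A : Type*} [CommGroup U] [Finite U] [CommGroup A] [Finite A]
    [IsCyclic A] : Nat.card (U →* A) ∣ Nat.card U := by
  classical
  haveI : NeZero (Nat.card A) := ⟨Nat.card_pos.ne'⟩
  have hc : Nat.card A = Nat.card (rootsOfUnity (Nat.card A) ℂ) :=
    (Complex.card_rootsOfUnity _).symm
  let e : A ≃* rootsOfUnity (Nat.card A) ℂ := mulEquivOfCyclicCardEq hc
  let ι : A →* ℂˣ := (rootsOfUnity (Nat.card A) ℂ).subtype.comp e.toMonoidHom
  have hι : Function.Injective ι := (Subgroup.subtype_injective _).comp e.injective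
  let F : (U →* A) →* (U →* ℂˣ) := MonoidHom.compHom ι
  have hF : Function.Injective F := by
    intro f g hfg
    ext u
    apply hι
    exact DFunLike.congr_fun hfg u
  haveI : NeZero (Monoid.exponent U) := ⟨Monoid.exponent_ne_zero_of_finite⟩
  have h1 : Nat.card (U →* ℂˣ) = Nat.card U :=
    CommGroup.card_monoidHom_of_hasEnoughRootsOfUnity U ℂ
  rw [← h1]
  exact Subgroup.card_dvd_of_injective F hF

/-- (I) order bound: `A` central cyclic in `H`, `N ⊴ H` of class two over `A` with `N/A` elementary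
abelian of order `s^j`, `C_H(N) = A`. -/
theorem card_dvd_of_class_two_normal {H : Type*} [Group H] [Finite H] (N A : Subgroup H) [N.Normal]
    (s j : ℕ) (hs : s.Prime)
    (hAN : A ≤ N) (hAcen : ∀ a ∈ A, ∀ h : H, h * a = a * h)
    (hAcyc : IsCyclic A)
    (hcomm : ∀ x ∈ N, ∀ y ∈ N, ⁅x, y⁆ ∈ A) (hexp : ∀ x ∈ N, x ^ s ∈ A)
    (hcard : A.relIndex N = s ^ j)
    (hCN : ∀ h : H, (∀ x ∈ N, h * x = x * h) → h ∈ A) :
    Nat.card H ∣ Nat.card A * s ^ j * ∏ i ∈ Finset.range j, (s ^ j - s ^ i) := by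
  classical
  have hfix : ∀ a ∈ A, ∀ h : H, h * a * h⁻¹ = a := fun a ha h => by
    rw [hAcen a ha h, mul_inv_cancel_right]
  have hAn : A.Normal := ⟨fun a ha g => by rw [hfix a ha g]; exact ha⟩
  let T : Subgroup N := A.subgroupOf N
  haveI hTn : T.Normal := hAn.subgroupOf N
  have hTmem : ∀ x : N, x ∈ T ↔ (x : H) ∈ A := fun x => Subgroup.mem_subgroupOf
  have hUcard : Nat.card (N ⧸ T) = s ^ j := by
    rw [← hcard]; exact (Subgroup.index_eq_card T).symm
  have hUcomm : ∀ a b : N ⧸ T, a * b = b * a := by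
    intro a b
    induction a using QuotientGroup.induction_on with | H x =>
    induction b using QuotientGroup.induction_on with | H y =>
    rw [← QuotientGroup.mk_mul, ← QuotientGroup.mk_mul, QuotientGroup.eq, hTmem]
    have h1 : (((x * y)⁻¹ * (y * x) : N) : H) = ⁅((y : H)⁻¹ : H), ((x : H)⁻¹ : H)⁆ := by
      simp [commutatorElement_def, mul_assoc]
    rw [h1]
    exact hcomm _ (N.inv_mem y.2) _ (N.inv_mem x.2)
  have hUexp : ∀ u : N ⧸ T, u ^ s = 1 := by
    intro u
    induction u using QuotientGroup.induction_on with | H x =>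
    rw [← QuotientGroup.mk_pow, QuotientGroup.eq_one_iff, hTmem]
    simpa using hexp x x.2
  -- the action on `N / A`
  have hθfix : ∀ (h : H) (y : N), y ∈ T → MulAut.conjNormal h y = y := by
    intro h y hy
    apply Subtype.ext
    rw [MulAut.conjNormal_apply]
    exact hfix _ ((hTmem y).mp hy) h
  have hmap : ∀ h : H, T.map ((MulAut.conjNormal h : MulAut N) : N →* N) = T := by
    intro h
    ext x
    constructor
    · rintro ⟨y, hy, rfl⟩
      show MulAut.conjNormal h y ∈ T
      rw [hθfix h y hy]; exact hy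
    · intro hx
      exact ⟨x, hx, hθfix h x hx⟩
  let Φ : H →* MulAut (N ⧸ T) :=
    MonoidHom.mk' (fun h => QuotientGroup.congr T T (MulAut.conjNormal h) (hmap h)) (by
      intro a b
      ext u
      induction u using QuotientGroup.induction_on with | H x =>
      simp [QuotientGroup.congr_mk, map_mul])
  have hΦ : ∀ (h : H) (x : N), Φ h (QuotientGroup.mk x) = QuotientGroup.mk (MulAut.conjNormal h x) :=
    fun h x => QuotientGroup.congr_mk T T _ (hmap h) x
  -- elements of the kernel
  have hker : ∀ c ∈ Φ.ker, ∀ x : N, (x : H)⁻¹ * (c * x * c⁻¹) ∈ A := by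
    intro c hc x
    have h1 : Φ c (QuotientGroup.mk x) = QuotientGroup.mk x := by
      rw [MonoidHom.mem_ker.mp hc]; rfl
    rw [hΦ] at h1
    have h2 := QuotientGroup.eq.mp h1.symm
    rw [hTmem] at h2
    simpa [MulAut.conjNormal_apply] using h2
  letI : CommGroup A := IsCyclic.commGroup
  -- the homomorphism `x ↦ x⁻¹ c x c⁻¹`
  let g : ∀ c : Φ.ker, N →* A := fun c =>
    MonoidHom.mk' (fun x => ⟨(x : H)⁻¹ * ((c : H) * x * (c : H)⁻¹), hker c c.2 x⟩) (by
      intro x y
      apply Subtype.ext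
      have hz := hAcen _ (hker c c.2 x) ((y : H)⁻¹)
      show ((x * y : N) : H)⁻¹ * ((c : H) * ((x * y : N) : H) * (c : H)⁻¹)
        = ((x : H)⁻¹ * ((c : H) * x * (c : H)⁻¹)) * ((y : H)⁻¹ * ((c : H) * y * (c : H)⁻¹))
      rw [← mul_assoc (((x : H)⁻¹ * ((c : H) * x * (c : H)⁻¹))), ← hz]
      simp [mul_assoc])
  have hgT : ∀ c : Φ.ker, T ≤ (g c).ker := by
    intro c x hx
    rw [MonoidHom.mem_ker]
    apply Subtype.ext
    show (x : H)⁻¹ * ((c : H) * x * (c : H)⁻¹) = 1
    rw [hfix _ ((hTmem x).mp hx), inv_mul_cancel]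
  let Ψ : Φ.ker →* ((N ⧸ T) →* A) :=
    MonoidHom.mk' (fun c => QuotientGroup.lift T (g c) (hgT c)) (by
      intro c d
      ext x
      simp only [MonoidHom.coe_comp, QuotientGroup.coe_mk', Function.comp_apply,
        QuotientGroup.lift_mk, MonoidHom.mul_apply]
      show (((x : H)⁻¹ * (((c * d : Φ.ker) : H) * x * ((c * d : Φ.ker) : H)⁻¹)) : H)
        = ((x : H)⁻¹ * ((c : H) * x * (c : H)⁻¹)) * ((x : H)⁻¹ * ((d : H) * x * (d : H)⁻¹))
      have hz := hAcen _ (hker d d.2 x) ((c : H)⁻¹)
      have h3 : ((x : H)⁻¹ * ((c : H) * x * (c : H)⁻¹)) * ((x : H)⁻¹ * ((d : H) * x * (d : H)⁻¹))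
          = (x : H)⁻¹ * (c : H) * x * (((c : H)⁻¹) * ((x : H)⁻¹ * ((d : H) * x * (d : H)⁻¹))) := by
        simp [mul_assoc]
      rw [h3, hz]
      simp [mul_assoc])
  have hΨ : ∀ (c : Φ.ker) (x : N), ((Ψ c (QuotientGroup.mk x) : A) : H)
      = (x : H)⁻¹ * ((c : H) * x * (c : H)⁻¹) := fun c x => rfl
  -- the kernel of `Ψ` is `A`
  have hkerΨ : Ψ.ker.map Φ.ker.subtype = A := by
    ext c
    constructor
    · rintro ⟨c', hc', rfl⟩
      apply hCN
      intro x hx
      have h1 : Ψ c' (QuotientGroup.mk ⟨x, hx⟩) = 1 := by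
        rw [MonoidHom.mem_ker.mp hc']; rfl
      have h2 := hΨ c' ⟨x, hx⟩
      rw [h1] at h2
      have h3 : (x : H) = (c' : H) * x * (c' : H)⁻¹ := by
        have := h2.symm
        simp only [OneMemClass.coe_one] at this
        exact inv_mul_eq_one.mp this
      show (c' : H) * x = x * (c' : H)
      calc (c' : H) * x = ((c' : H) * x * (c' : H)⁻¹) * c' := by group
        _ = x * (c' : H) := by rw [← h3]
    · intro hc
      have hcx : ∀ x : H, c * x * c⁻¹ = x := fun x => by
        rw [← hAcen c hc x, mul_inv_cancel_right]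
      have hcΦ : c ∈ Φ.ker := by
        rw [MonoidHom.mem_ker]
        ext u
        induction u using QuotientGroup.induction_on with | H x =>
        rw [hΦ]
        have : MulAut.conjNormal c x = x := by
          apply Subtype.ext
          rw [MulAut.conjNormal_apply]; exact hcx x
        rw [this]; rfl
      refine ⟨⟨c, hcΦ⟩, ?_, rfl⟩
      rw [SetLike.mem_coe, MonoidHom.mem_ker]
      ext x
      simp only [MonoidHom.coe_comp, QuotientGroup.coe_mk', Function.comp_apply]
      rw [hΨ]
      show (x : H)⁻¹ * (c * x * c⁻¹) = 1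
      rw [hcx, inv_mul_cancel]
  have hcardKerΨ : Nat.card Ψ.ker = Nat.card A := by
    have h0 := Subgroup.card_map_of_injective (K := Ψ.ker) (Subgroup.subtype_injective Φ.ker)
    rw [hkerΨ] at h0
    exact h0.symm
  -- counting
  letI : CommGroup (N ⧸ T) := { (inferInstance : Group (N ⧸ T)) with mul_comm := hUcomm }
  have h1 : Nat.card Φ.ker * Nat.card Φ.range = Nat.card H := by
    rw [← Subgroup.index_ker]; exact Subgroup.card_mul_index _
  have h2 : Nat.card Ψ.ker * Nat.card Ψ.range = Nat.card Φ.ker := by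
    rw [← Subgroup.index_ker]; exact Subgroup.card_mul_index _
  have h3 : Nat.card Φ.range ∣ ∏ i ∈ Finset.range j, (s ^ j - s ^ i) :=
    (Subgroup.card_subgroup_dvd_card _).trans (card_mulAut_dvd s j hs hUcomm hUexp hUcard)
  have h4 : Nat.card Ψ.range ∣ s ^ j := by
    refine (Subgroup.card_subgroup_dvd_card _).trans ?_
    rw [← hUcard]
    exact ci_card_hom_dvd
  rw [← h1, ← h2, hcardKerΨ]
  exact Nat.mul_dvd_mul (Nat.mul_dvd_mul dvd_rfl h4) h3

end Cfsg.Agent.Lib.Helper55.HupSpec
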