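import Mathlib
import Cfsg.Prelude.Def_GeometricClasses

/-!
# Es hive (S5877): definitions

Eigenspace bounds for elements normalising an absolutely irreducible extraspecial group.
-/

set_option autoImplicit false
set_option linter.style.haveILetI false
set_option linter.unusedVariables false
set_option linter.unusedSectionVars false

namespace Cfsg.Agent.Lib.Helper81.Es

open scoped MatrixGroups

variable {F : Type*} [Field F] {n : ℕ}

/-- the `c`-eigenspace of an invertible matrix -/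
def eig (g : GL (Fin n) F) (c : F) : Submodule F (Fin n → F) :=
  Module.End.eigenspace (Matrix.toLin' (g : Matrix (Fin n) (Fin n) F)) c

/-- `g` is a scalar matrix -/
def IsSc (g : GL (Fin n) F) : Prop := ∃ c : F, (g : Matrix (Fin n) (Fin n) F) = c • 1

/-- the commutator `x y x⁻¹ y⁻¹`, written out -/
def cm (x y : GL (Fin n) F) : GL (Fin n) F := x * y * x⁻¹ * y⁻¹

/-- the hypotheses on `R` that the whole argument uses -/
structure Setup (r : ℕ) (R : Subgroup (GL (Fin n) F)) : Prop where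
  prime : r.Prime
  schur : ∀ M : Matrix (Fin n) (Fin n) F,
    (∀ x ∈ R, M * (x : Matrix (Fin n) (Fin n) F) = (x : Matrix (Fin n) (Fin n) F) * M) →
      ∃ c : F, M = c • 1
  comm : ∀ x ∈ R, ∀ y ∈ R, ∃ ζ : F, ζ ^ r = 1 ∧
    ((cm x y : GL (Fin n) F) : Matrix (Fin n) (Fin n) F) = ζ • 1
  root : ∀ ζ : F, ζ ^ r = 1 → ∃ x ∈ R, (x : Matrix (Fin n) (Fin n) F) = ζ • 1
  prim : ∃ x ∈ R, ∃ y ∈ R, cm x y ≠ 1

/-- `g` acts trivially on `R` modulo scalars -/
def ActsTriv (R : Subgroup (GL (Fin n) F)) (g : GL (Fin n) F) : Prop :=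
  ∀ x ∈ R, IsSc (cm g x)

/-- the group `R Z` -/
def NN (R : Subgroup (GL (Fin n) F)) : Subgroup (GL (Fin n) F) :=
  R ⊔ Cfsg.Geo.scalars (Fin n) F

theorem isSc_iff_mem_scalars (g : GL (Fin n) F) : IsSc g ↔ g ∈ Cfsg.Geo.scalars (Fin n) F := by
  rw [Cfsg.Geo.mem_scalars_iff]
  constructor
  · rintro ⟨c, hc⟩
    by_cases hc0 : c = 0
    · subst hc0
      have h1 : (g : Matrix (Fin n) (Fin n) F) = 0 := by rw [hc, zero_smul]
      have h2 : (1 : Matrix (Fin n) (Fin n) F) = 0 := by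
        have : ((g * g⁻¹ : GL (Fin n) F) : Matrix (Fin n) (Fin n) F) = 0 := by
          rw [Units.val_mul, h1, zero_mul]
        rwa [mul_inv_cancel, Units.val_one] at this
      refine ⟨1, ?_⟩
      rw [h1, h2, smul_zero]
    · exact ⟨Units.mk0 c hc0, by simpa using hc⟩
  · rintro ⟨c, hc⟩
    exact ⟨c, hc⟩

end Cfsg.Agent.Lib.Helper81.Es
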