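import Mathlib
import Cfsg.Agent.Lib.Helper81.OnDefs
import Cfsg.Agent.Lib.Helper8.SpBlkDec
import Cfsg.Agent.Lib.Helper2.OnSPLIT
import Cfsg.Agent.Lib.Helper2.OnBLOCKS

/-! # On hive (S5989): ON-NOFIX odd_nofix, ON-MODFIX mod_le_fix, ON-NOELT eq_one_of_small -/

set_option autoImplicit false
set_option linter.unusedVariables false
set_option linter.unusedSectionVars false

namespace Cfsg.Agent.Lib.Helper81.On

open Polynomial Module
open Cfsg.Agent.Lib.Helper2.BG Cfsg.Agent.Lib.Helper99 Cfsg.Agent.Lib.Helper48.Ti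
open Cfsg.Agent.Lib.Helper8.SpBlk (blk)

variable {F V : Type*} [Field F] [AddCommGroup V] [Module F V] [FiniteDimensional F V]
variable {B : V →ₗ[F] V →ₗ[F] F}
variable [Fintype F] {p : ℕ} [Fact p.Prime] [CharP F p] {r : ℕ} [Fact r.Prime]

/-- dimension formula for an invariant nondegenerate subspace -/
theorem nofix_finrank (h2 : (2 : F) ≠ 0) (hB : ∀ u v, B u v = B v u) (hr2 : r ≠ 2) (hrp : r ≠ p)
    {f : Module.End F V} (hf : Isom B f) (hfr : f ^ r = 1) {W : Submodule F V} (hWf : Inv f W)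
    (hW : Nd B W) :
    ∃ s : ℕ, finrank F W = finrank F ↥(W ⊓ LinearMap.ker (f - 1)) + s * blk F r := by
  obtain ⟨M, hMW, hMf, hMnd, hMfpf, -, -, hdisj, hsup⟩ := fix_split (p := p) hB hrp hf hfr hW hWf
  obtain ⟨s, hs, -⟩ := exists_blocks_sym (p := p) h2 hB hr2 hrp hf hfr hMf hMnd hMfpf
  refine ⟨s, ?_⟩
  have h1 := Submodule.finrank_sup_add_finrank_inf_eq (W ⊓ LinearMap.ker (f - 1)) M
  rw [hsup, disjoint_iff.1 hdisj, finrank_bot, add_zero] at h1
  rw [h1, hs]

/-- ON-NOFIX -/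
theorem odd_nofix (h2 : (2 : F) ≠ 0) (hB : ∀ u v, B u v = B v u) (hr2 : r ≠ 2) (hrp : r ≠ p)
    {f : Module.End F V} (hf : Isom B f) (hfr : f ^ r = 1)
    (ht : finrank F (LinearMap.ker (f - 1)) < blk F r)
    (hte : Even (finrank F (LinearMap.ker (f - 1)))) {W : Submodule F V} (hWf : Inv f W)
    (hW : Nd B W) (hodd : Odd (finrank F W)) :
    0 < finrank F W % blk F r ∧ finrank F W % blk F r < finrank F (LinearMap.ker (f - 1)) := by
  obtain ⟨s, hs⟩ := nofix_finrank (p := p) h2 hB hr2 hrp hf hfr hWf hW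
  have hle : finrank F ↥(W ⊓ LinearMap.ker (f - 1)) ≤ finrank F (LinearMap.ker (f - 1)) :=
    Submodule.finrank_mono inf_le_right
  have hceven : Even (blk F r) := Cfsg.Agent.Lib.Helper8.SpBlk.blk_even
  set a := finrank F ↥(W ⊓ LinearMap.ker (f - 1)) with ha
  have hmod : finrank F W % blk F r = a := by
    rw [hs, Nat.add_mul_mod_self_right, Nat.mod_eq_of_lt (lt_of_le_of_lt hle ht)]
  have haodd : Odd a := by
    have hse : Even (s * blk F r) := hceven.mul_left s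
    rw [hs] at hodd
    by_contra hne
    rw [Nat.not_odd_iff_even] at hne
    exact (Nat.not_odd_iff_even.2 (hne.add hse)) hodd
  rw [hmod]
  refine ⟨haodd.pos, lt_of_le_of_ne hle ?_⟩
  intro heq
  rw [heq] at haodd
  exact (Nat.not_odd_iff_even.2 hte) haodd

/-- ON-MODFIX -/
theorem mod_le_fix (h2 : (2 : F) ≠ 0) (hB : ∀ u v, B u v = B v u) (hV : Nd B ⊤) (hr2 : r ≠ 2)
    (hrp : r ≠ p) {f : Module.End F V} (hf : Isom B f) (hfr : f ^ r = 1) :
    ∃ s : ℕ, finrank F V = finrank F (LinearMap.ker (f - 1)) + s * blk F r := by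
  obtain ⟨s, hs⟩ := nofix_finrank (p := p) h2 hB hr2 hrp hf hfr (W := ⊤)
    (fun v _ => Submodule.mem_top) hV
  refine ⟨s, ?_⟩
  rw [top_inf_eq, finrank_top] at hs
  exact hs

/-- ON-NOELT -/
theorem eq_one_of_small (h2 : (2 : F) ≠ 0) (hB : ∀ u v, B u v = B v u) (hV : Nd B ⊤)
    (hr2 : r ≠ 2) (hrp : r ≠ p) {f : Module.End F V} (hf : Isom B f) (hfr : f ^ r = 1)
    (hc : finrank F V < blk F r) : f = 1 := by
  obtain ⟨s, hs⟩ := mod_le_fix (p := p) h2 hB hV hr2 hrp hf hfr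
  have hs0 : s = 0 := by
    by_contra hne
    have : blk F r ≤ s * blk F r := Nat.le_mul_of_pos_left _ (Nat.pos_of_ne_zero hne)
    omega
  rw [hs0, zero_mul, add_zero] at hs
  have htop : LinearMap.ker (f - 1) = ⊤ := Submodule.eq_top_of_finrank_eq hs.symm
  ext v
  have hv : v ∈ LinearMap.ker (f - 1) := by rw [htop]; exact Submodule.mem_top
  rw [LinearMap.mem_ker, LinearMap.sub_apply, sub_eq_zero] at hv
  rw [hv]

end Cfsg.Agent.Lib.Helper81.On
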