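import Mathlib
import Cfsg.Prelude.Def_ClassicalGeometry
import Cfsg.Prelude.Def_GeometricClasses

/-!
# Definitions for S6002 (hive owner: helper81)

`R ≤ Sp_4(F)` extraspecial of order `2^5` of minus type, in its 4-dimensional representation on
`F^(Fin 2 ⊕ Fin 2)` (`F` a finite field of odd order).  `MinusLike R` collects the matrix-level
properties; `Frame R e` = five pairwise anticommuting involutions of `R` (the `Spin_5` picture:
`R/Z` is the `F_2`-space of minus type with the five singular points `±e i`).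
-/

set_option autoImplicit false

namespace Cfsg.Agent.Lib.Helper81.Q4

open Matrix

/-- index type of the 4-dimensional symplectic space. -/
abbrev I4 : Type := Fin 2 ⊕ Fin 2

variable {F : Type*} [Field F]

/-- `y` is a scalar matrix. -/
def IsScalar (y : GL I4 F) : Prop := ∃ c : F, (y : Matrix I4 I4 F) = c • (1 : Matrix I4 I4 F)

/-- the conjugation invariant `tr y * tr y⁻¹`. -/
def tt (y : GL I4 F) : F :=
  Matrix.trace (y : Matrix I4 I4 F) * Matrix.trace ((y⁻¹ : GL I4 F) : Matrix I4 I4 F)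

/-- Abstract (matrix-level) properties of `2^{1+4}_- ≤ Sp_4(F)`. -/
structure MinusLike (R : Subgroup (GL I4 F)) : Prop where
  card : Nat.card R = 32
  comm : ∀ M : Matrix I4 I4 F,
    (∀ g ∈ R, M * (g : Matrix I4 I4 F) = (g : Matrix I4 I4 F) * M) →
      ∃ c : F, M = c • (1 : Matrix I4 I4 F)
  sq : ∀ g ∈ R, (g : Matrix I4 I4 F) * (g : Matrix I4 I4 F) = 1 ∨
    (g : Matrix I4 I4 F) * (g : Matrix I4 I4 F) = -1
  anti : ∀ g ∈ R, ∀ h ∈ R,
    (g : Matrix I4 I4 F) * (h : Matrix I4 I4 F) = (h : Matrix I4 I4 F) * (g : Matrix I4 I4 F) ∨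
      (g : Matrix I4 I4 F) * (h : Matrix I4 I4 F) =
        -((h : Matrix I4 I4 F) * (g : Matrix I4 I4 F))
  symp : R ≤ Cfsg.spGL 2 F
  negone : ∃ g ∈ R, (g : Matrix I4 I4 F) = -1
  scal : ∀ g ∈ R, ∀ c : F, (g : Matrix I4 I4 F) = c • (1 : Matrix I4 I4 F) → c = 1 ∨ c = -1
  minus : ∀ a ∈ R, ∀ b ∈ R, (a : Matrix I4 I4 F) * (a : Matrix I4 I4 F) = 1 →
    (b : Matrix I4 I4 F) * (b : Matrix I4 I4 F) = 1 →
    (a : Matrix I4 I4 F) * (b : Matrix I4 I4 F) = (b : Matrix I4 I4 F) * (a : Matrix I4 I4 F) →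
      IsScalar a ∨ IsScalar b ∨ IsScalar (a * b)

/-- five pairwise anticommuting involutions of `R`. -/
structure Frame (R : Subgroup (GL I4 F)) (e : Fin 5 → GL I4 F) : Prop where
  mem : ∀ i, e i ∈ R
  sq : ∀ i, ((e i : GL I4 F) : Matrix I4 I4 F) * ((e i : GL I4 F) : Matrix I4 I4 F) = 1
  anti : ∀ i j, i ≠ j →
    ((e i : GL I4 F) : Matrix I4 I4 F) * ((e j : GL I4 F) : Matrix I4 I4 F) =
      -(((e j : GL I4 F) : Matrix I4 I4 F) * ((e i : GL I4 F) : Matrix I4 I4 F))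

end Cfsg.Agent.Lib.Helper81.Q4
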