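import Cfsg.Agent.Lib.Helper15.HsBasic

/-!
# Ha hive (S2534, owner helper14), leaf HA-X: an explicit `{2,3}`-subgroup of `A_n` (`n = 7, 8`),
transitive on a 6-set and fixing the other points (`A₄` acting on the six 2-subsets of a 4-set).
-/

set_option autoImplicit false

namespace Cfsg.Agent.Lib.Helper14.Ha

open Cfsg Cfsg.Agent.Lib.Helper15.Hs

/-- element 0 of the copy of `A₄` acting on six points. -/
def hax_e0 : Equiv.Perm (Fin 6) where
  toFun := ![0, 1, 2, 3, 4, 5]
  invFun := ![0, 1, 2, 3, 4, 5]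
  left_inv := by decide
  right_inv := by decide

/-- element 1 of the copy of `A₄` acting on six points. -/
def hax_e1 : Equiv.Perm (Fin 6) where
  toFun := ![0, 4, 3, 2, 1, 5]
  invFun := ![0, 4, 3, 2, 1, 5]
  left_inv := by decide
  right_inv := by decide

/-- element 2 of the copy of `A₄` acting on six points. -/
def hax_e2 : Equiv.Perm (Fin 6) where
  toFun := ![1, 2, 0, 5, 3, 4]
  invFun := ![2, 0, 1, 4, 5, 3]
  left_inv := by decide
  right_inv := by decide

/-- element 3 of the copy of `A₄` acting on six points. -/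
def hax_e3 : Equiv.Perm (Fin 6) where
  toFun := ![1, 3, 5, 0, 2, 4]
  invFun := ![3, 0, 4, 1, 5, 2]
  left_inv := by decide
  right_inv := by decide

/-- element 4 of the copy of `A₄` acting on six points. -/
def hax_e4 : Equiv.Perm (Fin 6) where
  toFun := ![2, 0, 1, 4, 5, 3]
  invFun := ![1, 2, 0, 5, 3, 4]
  left_inv := by decide
  right_inv := by decide

/-- element 5 of the copy of `A₄` acting on six points. -/
def hax_e5 : Equiv.Perm (Fin 6) where
  toFun := ![2, 5, 4, 1, 0, 3]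
  invFun := ![4, 3, 0, 5, 2, 1]
  left_inv := by decide
  right_inv := by decide

/-- element 6 of the copy of `A₄` acting on six points. -/
def hax_e6 : Equiv.Perm (Fin 6) where
  toFun := ![3, 0, 4, 1, 5, 2]
  invFun := ![1, 3, 5, 0, 2, 4]
  left_inv := by decide
  right_inv := by decide

/-- element 7 of the copy of `A₄` acting on six points. -/
def hax_e7 : Equiv.Perm (Fin 6) where
  toFun := ![3, 5, 1, 4, 0, 2]
  invFun := ![4, 2, 5, 0, 3, 1]
  left_inv := by decide
  right_inv := by decide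

/-- element 8 of the copy of `A₄` acting on six points. -/
def hax_e8 : Equiv.Perm (Fin 6) where
  toFun := ![4, 2, 5, 0, 3, 1]
  invFun := ![3, 5, 1, 4, 0, 2]
  left_inv := by decide
  right_inv := by decide

/-- element 9 of the copy of `A₄` acting on six points. -/
def hax_e9 : Equiv.Perm (Fin 6) where
  toFun := ![4, 3, 0, 5, 2, 1]
  invFun := ![2, 5, 4, 1, 0, 3]
  left_inv := by decide
  right_inv := by decide

/-- element 10 of the copy of `A₄` acting on six points. -/
def hax_e10 : Equiv.Perm (Fin 6) where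
  toFun := ![5, 1, 3, 2, 4, 0]
  invFun := ![5, 1, 3, 2, 4, 0]
  left_inv := by decide
  right_inv := by decide

/-- element 11 of the copy of `A₄` acting on six points. -/
def hax_e11 : Equiv.Perm (Fin 6) where
  toFun := ![5, 4, 2, 3, 1, 0]
  invFun := ![5, 4, 2, 3, 1, 0]
  left_inv := by decide
  right_inv := by decide

/-- the twelve elements of the copy of `A₄` inside `Perm (Fin 6)`. -/
def hax_list : List (Equiv.Perm (Fin 6)) := [hax_e0, hax_e1, hax_e2, hax_e3, hax_e4, hax_e5, hax_e6, hax_e7, hax_e8, hax_e9, hax_e10, hax_e11]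

set_option maxRecDepth 1000000 in
theorem hax_one_mem : (1 : Equiv.Perm (Fin 6)) ∈ hax_list := by decide

set_option maxRecDepth 1000000 in
theorem hax_mul_mem : ∀ a ∈ hax_list, ∀ b ∈ hax_list, a * b ∈ hax_list := by decide

set_option maxRecDepth 1000000 in
theorem hax_inv_mem : ∀ a ∈ hax_list, a⁻¹ ∈ hax_list := by decide

set_option maxRecDepth 1000000 in
theorem hax_pow : ∀ a ∈ hax_list, a ^ 12 = 1 := by decide

set_option maxRecDepth 1000000 in
theorem hax_cube : ∀ a ∈ hax_list, ∃ b ∈ hax_list, ∃ c ∈ hax_list, b ^ 3 = 1 ∧ c ^ 3 = 1 ∧ a = b * c := by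
  decide

set_option maxRecDepth 1000000 in
theorem hax_trans : ∀ i j : Fin 6, ∃ a ∈ hax_list, a i = j := by decide

theorem hax_sign_of_cube {b : Equiv.Perm (Fin 6)} (hb : b ^ 3 = 1) : Equiv.Perm.sign b = 1 := by
  have h3 : (Equiv.Perm.sign b) ^ 3 = 1 := by rw [← map_pow, hb, map_one]
  rcases Int.units_eq_one_or (Equiv.Perm.sign b) with h | h
  · exact h
  · rw [h] at h3
    exact absurd h3 (by decide)

theorem hax_sign : ∀ a ∈ hax_list, Equiv.Perm.sign a = 1 := by
  intro a ha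
  obtain ⟨b, -, c, -, hb, hc, rfl⟩ := hax_cube a ha
  rw [map_mul, hax_sign_of_cube hb, hax_sign_of_cube hc, one_mul]

/-- the copy of `A₄` inside `Perm (Fin 6)`. -/
def hax_Y : Subgroup (Equiv.Perm (Fin 6)) where
  carrier := {a | a ∈ hax_list}
  mul_mem' := fun {a b} ha hb => hax_mul_mem a ha b hb
  one_mem' := hax_one_mem
  inv_mem' := fun {a} ha => hax_inv_mem a ha

theorem hax_mem_Y {a : Equiv.Perm (Fin 6)} : a ∈ hax_Y ↔ a ∈ hax_list := Iff.rfl

/-- the embedding `Perm (Fin 6) →* Perm (Fin n)` (acting on the first six points). -/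
noncomputable def hax_phi (n : ℕ) (h6 : 6 ≤ n) : Equiv.Perm (Fin 6) →* Equiv.Perm (Fin n) :=
  Equiv.Perm.extendDomainHom (Fin.castLEEmb h6).toEquivRange

theorem hax_phi_apply_image (n : ℕ) (h6 : 6 ≤ n) (y : Equiv.Perm (Fin 6)) (i : Fin 6) :
    hax_phi n h6 y (Fin.castLEEmb h6 i) = Fin.castLEEmb h6 (y i) := by
  unfold hax_phi
  rw [Equiv.Perm.extendDomainHom_apply]
  exact Equiv.Perm.extendDomain_apply_image y (Fin.castLEEmb h6).toEquivRange i

theorem hax_phi_apply_not (n : ℕ) (h6 : 6 ≤ n) (y : Equiv.Perm (Fin 6)) (z : Fin n)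
    (hz : z ∉ Set.range (Fin.castLEEmb h6)) : hax_phi n h6 y z = z := by
  unfold hax_phi
  rw [Equiv.Perm.extendDomainHom_apply]
  exact Equiv.Perm.extendDomain_apply_not_subtype y (Fin.castLEEmb h6).toEquivRange hz

theorem hax_phi_sign (n : ℕ) (h6 : 6 ≤ n) (y : Equiv.Perm (Fin 6)) :
    Equiv.Perm.sign (hax_phi n h6 y) = Equiv.Perm.sign y := by
  unfold hax_phi
  rw [Equiv.Perm.extendDomainHom_apply]
  exact Equiv.Perm.sign_extendDomain y (Fin.castLEEmb h6).toEquivRange

theorem hax_main (n : ℕ) (h6 : 6 ≤ n) (π : Set ℕ) (h2 : 2 ∈ π) (h3 : 3 ∈ π) :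
    ∃ (X : Subgroup ↥(alternatingGroup (Fin n))) (O : Set (Fin n)), IsPiSubgroup π X ∧ Nat.card ↥O = 6 ∧
      ∀ a ∈ O, ∀ b ∈ O, ∃ g ∈ X, (g : Equiv.Perm (Fin n)) a = b ∧
        ∀ z, z ∉ O → (g : Equiv.Perm (Fin n)) z = z := by
  refine ⟨(hax_Y.map (hax_phi n h6)).subgroupOf (alternatingGroup (Fin n)),
    Set.range (Fin.castLEEmb h6), ?_, ?_, ?_⟩
  · intro p hp hdvd
    have : Fact p.Prime := ⟨hp⟩
    obtain ⟨g, hg⟩ := exists_prime_orderOf_dvd_card' p hdvd
    have hgm : ((g : ↥(alternatingGroup (Fin n))) : Equiv.Perm (Fin n)) ∈ hax_Y.map (hax_phi n h6) :=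
      Subgroup.mem_subgroupOf.mp g.2
    obtain ⟨y, hy, hyg⟩ := Subgroup.mem_map.mp hgm
    have h12 : g ^ 12 = 1 := by
      apply Subtype.ext
      apply Subtype.ext
      push_cast
      rw [← hyg, ← map_pow, hax_pow y hy, map_one]
    have hd : p ∣ 12 := hg ▸ orderOf_dvd_of_pow_eq_one h12
    have hle : p ≤ 12 := Nat.le_of_dvd (by norm_num) hd
    have h2le := hp.two_le
    interval_cases p <;> first | exact h2 | exact h3 | (exfalso; revert hd; decide) | (exfalso; revert hp; decide)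
  · rw [Nat.card_range_of_injective (Fin.castLEEmb h6).injective]
    simp
  · rintro a ⟨a', rfl⟩ b ⟨b', rfl⟩
    obtain ⟨y, hy, hyab⟩ := hax_trans a' b'
    have hmem : hax_phi n h6 y ∈ alternatingGroup (Fin n) := by
      rw [Equiv.Perm.mem_alternatingGroup, hax_phi_sign, hax_sign y hy]
    refine ⟨⟨hax_phi n h6 y, hmem⟩, ?_, ?_, ?_⟩
    · rw [Subgroup.mem_subgroupOf]
      exact Subgroup.mem_map.mpr ⟨y, hy, rfl⟩
    · show hax_phi n h6 y (Fin.castLEEmb h6 a') = Fin.castLEEmb h6 b'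
      rw [hax_phi_apply_image, hyab]
    · intro z hz
      exact hax_phi_apply_not n h6 y z hz

/-- **HA-X.** -/
theorem exists_six_transitive (n : ℕ) (hn : n = 7 ∨ n = 8) (π : Set ℕ) (h2 : 2 ∈ π) (h3 : 3 ∈ π) :
    ∃ (X : Subgroup ↥(alternatingGroup (Fin n))) (O : Set (Fin n)), IsPiSubgroup π X ∧ Nat.card ↥O = 6 ∧
      ∀ a ∈ O, ∀ b ∈ O, ∃ g ∈ X, (g : Equiv.Perm (Fin n)) a = b ∧
        ∀ z, z ∉ O → (g : Equiv.Perm (Fin n)) z = z :=
  hax_main n (by rcases hn with rfl | rfl <;> norm_num) π h2 h3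

end Cfsg.Agent.Lib.Helper14.Ha
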