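import Mathlib
import Cfsg.Agent.Lib.Helper81.OnDefs

/-! # On hive (S5989): ON-BR (bridges for `plusB`) and ON-SCAL -/

set_option autoImplicit false
set_option linter.unusedVariables false
set_option linter.unusedSectionVars false
set_option linter.unusedSimpArgs false

namespace Cfsg.Agent.Lib.Helper81.On

open Module Matrix
open Cfsg.Agent.Lib.Helper2.BG Cfsg.Agent.Lib.Helper99 Cfsg.Agent.Lib.Helper48.Ti

variable {F : Type*} [Field F]

local notation "Mat" d => Matrix (Fin d ⊕ Fin d) (Fin d ⊕ Fin d) F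

/-- explicit formula for `plusB` -/
theorem br_plusB_apply (d : ℕ) (u v : VP d F) :
    plusB d u v = ∑ i : Fin d, (u (Sum.inl i) * v (Sum.inr i) + u (Sum.inr i) * v (Sum.inl i)) := by
  unfold plusB Cfsg.Agent.Lib.Helper37.gramP
  rw [Matrix.toBilin'_apply']
  simp only [dotProduct, Fintype.sum_sum_type, Matrix.mulVec, Matrix.fromBlocks_apply₁₁,
    Matrix.fromBlocks_apply₁₂, Matrix.fromBlocks_apply₂₁, Matrix.fromBlocks_apply₂₂,
    Matrix.zero_apply, Matrix.one_apply, zero_mul, Finset.sum_const_zero, zero_add, add_zero,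
    ite_mul, one_mul, Finset.sum_ite_eq, Finset.mem_univ, if_true]
  rw [← Finset.sum_add_distrib]

/-- ON-BR (1) -/
theorem plusB_polar (d : ℕ) (u v : VP d F) :
    plusB d u v = QuadraticMap.polar (Cfsg.quadFormPlus d F) u v := by
  rw [br_plusB_apply]
  unfold QuadraticMap.polar Cfsg.quadFormPlus
  rw [← Finset.sum_sub_distrib, ← Finset.sum_sub_distrib]
  apply Finset.sum_congr rfl
  intro i _
  simp only [Pi.add_apply]
  ring

/-- ON-BR (2) -/
theorem plusB_symm (d : ℕ) (u v : VP d F) : plusB d u v = plusB d v u := by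
  rw [br_plusB_apply, br_plusB_apply]
  apply Finset.sum_congr rfl
  intro i _
  ring

/-- ON-BR (3) -/
theorem plusB_self (d : ℕ) (u : VP d F) : plusB d u u = 2 * Cfsg.quadFormPlus d F u := by
  rw [br_plusB_apply]
  unfold Cfsg.quadFormPlus
  rw [Finset.mul_sum]
  apply Finset.sum_congr rfl
  intro i _
  ring

/-- ON-BR (4) -/
theorem plusB_nd (d : ℕ) : Nd (plusB (F := F) d) ⊤ := by
  classical
  intro u _ hu
  funext a
  rcases a with i | i
  · have := hu (Pi.single (Sum.inr i) 1) Submodule.mem_top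
    rw [br_plusB_apply] at this
    simpa [Pi.single_apply, Finset.sum_ite_eq] using this
  · have := hu (Pi.single (Sum.inl i) 1) Submodule.mem_top
    rw [br_plusB_apply] at this
    simpa [Pi.single_apply, Finset.sum_ite_eq] using this

/-- ON-BR (5) -/
theorem nd_iff (d : ℕ) (W : Submodule F (VP d F)) :
    Cfsg.Geo.IsNondegenerateOn (QuadraticMap.polar (Cfsg.quadFormPlus d F)) W ↔
      Nd (plusB d) W := by
  constructor
  · intro h u hu hzero
    by_contra hne
    obtain ⟨-, ⟨x, hx, hxn⟩⟩ := h u hu hne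
    apply hxn
    rw [← plusB_polar]
    exact hzero x hx
  · intro h w hw hne
    have : ∃ x ∈ W, plusB d w x ≠ 0 := by
      by_contra hno
      push Not at hno
      exact hne (h w hw hno)
    obtain ⟨x, hx, hxn⟩ := this
    refine ⟨⟨x, hx, ?_⟩, ⟨x, hx, ?_⟩⟩
    · rw [← plusB_polar, plusB_symm]; exact hxn
    · rw [← plusB_polar]; exact hxn

/-- ON-BR (6) -/
theorem iso_iff (h2 : (2 : F) ≠ 0) (d : ℕ) (W W₀ : Submodule F (VP d F)) :
    Cfsg.Geo.AreIsometricFor (Cfsg.quadFormPlus d F) W W₀ ↔ SameType (plusB d) W W₀ := by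
  constructor
  · rintro ⟨e, he⟩
    refine ⟨e, fun u v => ?_⟩
    rw [plusB_polar, plusB_polar]
    unfold QuadraticMap.polar
    have h1 := he (u + v)
    rw [map_add] at h1
    rw [← Submodule.coe_add, h1, he u, he v, Submodule.coe_add]
  · rintro ⟨e, he⟩
    refine ⟨e, fun w => ?_⟩
    have h1 := he w w
    rw [plusB_self, plusB_self] at h1
    exact mul_left_cancel₀ h2 h1

/-- ON-BR (7) -/
theorem isom_of_mem (d : ℕ) (x : GL (Fin d ⊕ Fin d) F)
    (hx : x ∈ Cfsg.isometryGroup F (Cfsg.quadFormPlus d F)) :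
    Isom (plusB d) (Matrix.toLin' (x : Mat d)) := by
  have hQ : ∀ u : VP d F, Cfsg.quadFormPlus d F ((x : Mat d) *ᵥ u) = Cfsg.quadFormPlus d F u :=
    fun u => hx u 0
  intro u v
  rw [plusB_polar, plusB_polar, Matrix.toLin'_apply, Matrix.toLin'_apply]
  unfold QuadraticMap.polar
  rw [← Matrix.mulVec_add, hQ, hQ, hQ]

/-- ON-BR (8) -/
theorem finrank_VP (d : ℕ) : finrank F (VP d F) = 2 * d := by
  rw [Module.finrank_fintype_fun_eq_card, Fintype.card_sum, Fintype.card_fin]
  ring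

/-- ON-BR (9) -/
theorem mem_isom_of_mem_omega (d : ℕ) (x : GL (Fin d ⊕ Fin d) F)
    (hx : x ∈ Cfsg.Geo.omegaGL (Cfsg.quadFormPlus d F)) :
    x ∈ Cfsg.isometryGroup F (Cfsg.quadFormPlus d F) := by
  obtain ⟨g, -, rfl⟩ := hx
  exact g.2

/-- ON-SCAL -/
theorem scalar_pm_one (d : ℕ) (hd : 1 ≤ d) (y : GL (Fin d ⊕ Fin d) F)
    (hy : y ∈ Cfsg.isometryGroup F (Cfsg.quadFormPlus d F)) (z : F)
    (hz : (y : Mat d) = z • (1 : Mat d)) : z = 1 ∨ z = -1 := by
  classical
  set i₀ : Fin d := ⟨0, by omega⟩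
  set v : VP d F := Pi.single (Sum.inl i₀) 1 + Pi.single (Sum.inr i₀) 1 with hv
  have hQv : Cfsg.quadFormPlus d F v = 1 := by
    unfold Cfsg.quadFormPlus
    rw [Finset.sum_eq_single i₀]
    · simp [hv, Pi.single_apply]
    · intro b _ hb
      simp [hv, Pi.single_apply, hb]
    · intro h; exact absurd (Finset.mem_univ _) h
  have h1 : Cfsg.quadFormPlus d F ((y : Mat d) *ᵥ v) = Cfsg.quadFormPlus d F v := hy v 0
  rw [hz, Matrix.smul_mulVec, Matrix.one_mulVec] at h1
  have h3 : Cfsg.quadFormPlus d F (z • v) = z * z * Cfsg.quadFormPlus d F v := by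
    unfold Cfsg.quadFormPlus
    rw [Finset.mul_sum]
    apply Finset.sum_congr rfl
    intro i _
    simp only [Pi.smul_apply, smul_eq_mul]
    ring
  rw [h3, hQv, mul_one] at h1
  have : (z - 1) * (z + 1) = 0 := by linear_combination h1
  rcases mul_eq_zero.1 this with h | h
  · left; exact sub_eq_zero.1 h
  · right; exact eq_neg_of_add_eq_zero_left h

end Cfsg.Agent.Lib.Helper81.On
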