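import Mathlib
import Cfsg.Agent.Lib.Helper81.OnDefs
import Cfsg.Agent.Lib.Helper69.OnR2R
import Cfsg.Agent.Lib.Helper37.PlusAut

set_option autoImplicit false
set_option linter.unusedVariables false
set_option linter.unusedSectionVars false

namespace Cfsg.Agent.Lib.Helper81.On

open Polynomial Module
open Cfsg.Agent.Lib.Helper2.BG Cfsg.Agent.Lib.Helper99 Cfsg.Agent.Lib.Helper48.Ti
open Cfsg.Agent.Lib.Helper37
open Matrix

variable {F : Type*} [Field F]

local notation "Mat" d => Matrix (Fin d ⊕ Fin d) (Fin d ⊕ Fin d) F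

/-- the spinor-norm criterion for an isometry squaring to `-1` -/
theorem r2_mem_iff [Fintype F] (h2 : (2 : F) ≠ 0) (d : ℕ)
    (g : ↥(Cfsg.isometryGroup F (Cfsg.quadFormPlus d F)))
    (hgg : toMat (Cfsg.quadFormPlus d F) g * toMat (Cfsg.quadFormPlus d F) g = -1) :
    IsSquare ((-1 : F) ^ d) ∧ (g ∈ Cfsg.Omega F (Cfsg.quadFormPlus d F) ↔ IsSquare ((2 : F) ^ d)) := by
  have hG := plus_isGram h2 d
  obtain ⟨hdet, n, vs, t, hcard, hvs, hprod, hlen, ht, hQ⟩ :=
    refl_of_sq_neg_one hG (gramP_det_ne_zero d) g hgg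
  rw [gramP_det] at hdet
  refine ⟨hdet, ?_⟩
  have hn : n = d := by
    rw [plus_card_two_mul] at hcard
    omega
  subst hn
  rw [mem_omega_iff hG g vs hvs (by rw [← toMat_apply]; exact hprod), hlen, hQ]
  constructor
  · rintro ⟨-, s, hs⟩
    refine ⟨s / t, ?_⟩
    field_simp
    rw [hs]
    ring
  · rintro ⟨s, hs⟩
    refine ⟨even_two_mul n, s * t, ?_⟩
    rw [hs]
    ring

/-- ON-R2B -/
theorem sq_neg_one_not_mem [Fintype F] (h2 : (2 : F) ≠ 0) (d : ℕ) (hd : Odd d)
    (hq : Fintype.card F % 8 ≠ 1) (x : GL (Fin d ⊕ Fin d) F)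
    (hx : x ∈ Cfsg.Geo.omegaGL (Cfsg.quadFormPlus d F)) : (x : Mat d) * (x : Mat d) ≠ -1 := by
  intro hxx
  obtain ⟨g, hgΩ, rfl⟩ := hx
  have hgg : toMat (Cfsg.quadFormPlus d F) g * toMat (Cfsg.quadFormPlus d F) g = -1 := hxx
  obtain ⟨h1, h3⟩ := r2_mem_iff h2 d g hgg
  have h4 := h3.1 hgΩ
  rw [Odd.neg_one_pow hd, FiniteField.isSquare_neg_one_iff] at h1
  obtain ⟨k, rfl⟩ := hd
  have h5 : IsSquare (2 : F) := by
    obtain ⟨s, hs⟩ := h4
    refine ⟨s / 2 ^ k, ?_⟩
    have h2k : (2 : F) ^ k ≠ 0 := pow_ne_zero _ h2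
    field_simp
    linear_combination hs
  rw [FiniteField.isSquare_two_iff] at h5
  have hodd := FiniteField.odd_card_of_char_ne_two (ringChar_ne_two_of_two_ne_zero h2)
  omega


/-- a diagonal-block isometry squaring to `-1`, from a fixed-point-free involution `σ` of the
index set and signs `s` with `s i * s (σ i) = -1` -/
theorem r2a_core (d : ℕ) (σ : Fin d → Fin d) (hσ : ∀ i, σ (σ i) = i) (s : Fin d → F)
    (hs : ∀ i, s i * s (σ i) = -1) (hss : ∀ i, s i * s i = 1) :
    ∃ x : GL (Fin d ⊕ Fin d) F, x ∈ Cfsg.isometryGroup F (Cfsg.quadFormPlus d F) ∧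
      (x : Mat d) * (x : Mat d) = -1 := by
  classical
  set A : Matrix (Fin d) (Fin d) F := fun i j => if j = σ i then s i else 0 with hA
  have hAA : A * A = -1 := by
    ext i j
    rw [Matrix.mul_apply]
    simp only [hA]
    rw [Finset.sum_eq_single (σ i)]
    · simp only [if_true, hσ]
      by_cases hij : j = i
      · subst hij
        simp [hs]
      · simp [hij, Ne.symm hij]
    · intro b _ hb
      simp [hb]
    · intro h; exact absurd (Finset.mem_univ _) h
  set M : Mat d := Matrix.fromBlocks A 0 0 A with hM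
  have hMM : M * M = -1 := by
    rw [hM, Matrix.fromBlocks_multiply]
    simp only [Matrix.mul_zero, Matrix.zero_mul, add_zero, zero_add, hAA]
    rw [show (-1 : Mat d) = -(Matrix.fromBlocks 1 0 0 1) by rw [Matrix.fromBlocks_one],
      Matrix.fromBlocks_neg]
    simp
  have hAv : ∀ (a : Fin d → F) (i : Fin d), (A *ᵥ a) i = s i * a (σ i) := by
    intro a i
    rw [Matrix.mulVec, dotProduct]
    simp only [hA]
    rw [Finset.sum_eq_single (σ i)]
    · simp
    · intro b _ hb; simp [hb]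
    · intro h; exact absurd (Finset.mem_univ _) h
  refine ⟨⟨M, -M, by rw [Matrix.mul_neg, hMM, neg_neg], by rw [Matrix.neg_mul, hMM, neg_neg]⟩, ?_,
    hMM⟩
  intro u v
  show Cfsg.quadFormPlus d F (M *ᵥ u) = Cfsg.quadFormPlus d F u
  unfold Cfsg.quadFormPlus
  have h1 : ∀ i, (M *ᵥ u) (Sum.inl i) = s i * u (Sum.inl (σ i)) := by
    intro i
    rw [hM, Matrix.fromBlocks_mulVec]
    simp only [Sum.elim_inl, Matrix.zero_mulVec, add_zero, Pi.add_apply, Pi.zero_apply]
    exact hAv _ i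
  have h3 : ∀ i, (M *ᵥ u) (Sum.inr i) = s i * u (Sum.inr (σ i)) := by
    intro i
    rw [hM, Matrix.fromBlocks_mulVec]
    simp only [Sum.elim_inr, Matrix.zero_mulVec, zero_add, Pi.add_apply, Pi.zero_apply]
    exact hAv _ i
  simp only [h1, h3]
  have hbij : Function.Bijective σ :=
    Function.Involutive.bijective hσ
  rw [← Function.Bijective.sum_comp hbij (fun i => u (Sum.inl i) * u (Sum.inr i))]
  apply Finset.sum_congr rfl
  intro i _
  have := hss i
  linear_combination (u (Sum.inl (σ i)) * u (Sum.inr (σ i))) * this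

/-- ON-R2A -/
theorem exists_sq_neg_one_mem [Fintype F] (h2 : (2 : F) ≠ 0) (d : ℕ) (hd : 1 ≤ d)
    (h : Even d ∨ Fintype.card F % 8 = 1) :
    ∃ x : GL (Fin d ⊕ Fin d) F, x ∈ Cfsg.Geo.omegaGL (Cfsg.quadFormPlus d F) ∧
      (x : Mat d) * (x : Mat d) = -1 := by
  have key : ∀ x : GL (Fin d ⊕ Fin d) F, x ∈ Cfsg.isometryGroup F (Cfsg.quadFormPlus d F) →
      (x : Mat d) * (x : Mat d) = -1 → IsSquare ((2 : F) ^ d) →
      x ∈ Cfsg.Geo.omegaGL (Cfsg.quadFormPlus d F) := by
    intro x hx hxx hsq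
    have hgg : toMat (Cfsg.quadFormPlus d F) ⟨x, hx⟩ * toMat (Cfsg.quadFormPlus d F) ⟨x, hx⟩ = -1 :=
      hxx
    obtain ⟨-, h3⟩ := r2_mem_iff h2 d ⟨x, hx⟩ hgg
    exact ⟨⟨x, hx⟩, h3.2 hsq, rfl⟩
  rcases h with hde | hq8
  · obtain ⟨k, hk⟩ := hde
    have hsq : IsSquare ((2 : F) ^ d) := ⟨2 ^ k, by rw [hk, pow_add]⟩
    obtain ⟨x, hx, hxx⟩ := r2a_core (F := F) d Fin.rev Fin.rev_rev
      (fun i => if (i : ℕ) < k then 1 else -1)
      (by
        intro i
        have hi := i.2
        by_cases h1 : (i : ℕ) < k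
        · have h3 : ¬ ((Fin.rev i : Fin d) : ℕ) < k := by
            rw [Fin.val_rev]; omega
          rw [if_pos h1, if_neg h3]; simp
        · have h3 : ((Fin.rev i : Fin d) : ℕ) < k := by
            rw [Fin.val_rev]; omega
          rw [if_neg h1, if_pos h3]; simp)
      (by
        intro i
        by_cases h1 : (i : ℕ) < k <;> simp [h1])
    exact ⟨x, key x hx hxx hsq, hxx⟩
  · have hneg : IsSquare (-1 : F) := by
      rw [FiniteField.isSquare_neg_one_iff]; omega
    have htwo : IsSquare (2 : F) := by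
      rw [FiniteField.isSquare_two_iff]; omega
    obtain ⟨ι, hι⟩ := hneg
    -- `x = diag(ι, …, ι, -ι, …, -ι)`
    have hιι : ι * ι = -1 := hι.symm
    set D : Mat d := Matrix.diagonal (Sum.elim (fun _ => ι) (fun _ => -ι)) with hD
    have hDD : D * D = -1 := by
      rw [hD, Matrix.diagonal_mul_diagonal]
      have : (fun i : Fin d ⊕ Fin d => (Sum.elim (fun _ => ι) (fun _ => -ι) : Fin d ⊕ Fin d → F) i *
          (Sum.elim (fun _ => ι) (fun _ => -ι) : Fin d ⊕ Fin d → F) i) = fun _ => (-1 : F) := by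
        funext i
        rcases i with i | i
        · simp [hιι]
        · simp [hιι]
      rw [this]
      ext a b
      by_cases hab : a = b
      · subst hab; simp
      · simp [hab]
    have hx : (⟨D, -D, by rw [Matrix.mul_neg, hDD, neg_neg],
        by rw [Matrix.neg_mul, hDD, neg_neg]⟩ : GL (Fin d ⊕ Fin d) F) ∈
        Cfsg.isometryGroup F (Cfsg.quadFormPlus d F) := by
      intro u v
      show Cfsg.quadFormPlus d F (D *ᵥ u) = Cfsg.quadFormPlus d F u
      unfold Cfsg.quadFormPlus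
      apply Finset.sum_congr rfl
      intro i _
      rw [hD, Matrix.mulVec_diagonal, Matrix.mulVec_diagonal]
      simp only [Sum.elim_inl, Sum.elim_inr]
      linear_combination (-(u (Sum.inl i) * u (Sum.inr i))) * hιι
    exact ⟨_, key _ hx hDD (htwo.pow d), hDD⟩

end Cfsg.Agent.Lib.Helper81.On
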