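import Cfsg.Agent.Lib.Helper81.Irr
import Cfsg.Agent.Lib.Helper25.Ind
import Cfsg.Agent.Lib.Helper25.CharUtil
import Cfsg.Agent.Lib.Helper3.CharOps
import Cfsg.Agent.Lib.Helper3.Complete
import Cfsg.Agent.Lib.Helper3.Omega
import Cfsg.Agent.Lib.Helper3.ProperInduced
import Cfsg.Agent.Lib.Helper79.Basic

set_option autoImplicit false
set_option linter.unusedSectionVars false
set_option linter.style.haveILetI false

/-!
# A lemma of Feit and Thompson on abelian subgroups with few conjugates meeting centralizers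
-/

namespace Cfsg.Agent.Lib.Helper81

open Cfsg Cfsg.Agent.Lib.Helper25
open scoped ComplexConjugate

universe u

section OmegaFormula

variable {G : Type u} [Group G] [Fintype G]

/-- The central character formula: `∑ f(g) χ(g x) · χ(1) = (∑ f(g) χ(g)) · χ(x)` for a class
function `f` and an irreducible character `χ`. -/
theorem sum_mul_irr_mul {χ : G → ℂ} (hχ : IsIrrCharacter G χ) {f : G → ℂ}
    (hf : IsClassFunction G f) (x : G) :
    (∑ g : G, f g * χ (g * x)) * χ 1 = (∑ g : G, f g * χ g) * χ x := by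
  obtain ⟨n, ρ, hirr, rfl⟩ := hχ
  haveI := hirr
  obtain ⟨c, hc, hcn⟩ := Cfsg.Agent.Lib.Helper3.wsum_eq_smul_id_of_irreducible ρ hf
  have h1 : LinearMap.trace ℂ (Fin n → ℂ) (Cfsg.Agent.Lib.Helper3.wsum ρ f * ρ x) =
      ∑ g : G, f g * ρ.character (g * x) := by
    rw [Cfsg.Agent.Lib.Helper3.wsum, Finset.sum_mul, map_sum]
    refine Finset.sum_congr rfl fun g _ => ?_
    rw [smul_mul_assoc, map_smul, smul_eq_mul, ← map_mul]
    rfl
  have h2 : LinearMap.trace ℂ (Fin n → ℂ) (Cfsg.Agent.Lib.Helper3.wsum ρ f * ρ x) =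
      c * ρ.character x := by
    rw [hc, smul_mul_assoc, map_smul, smul_eq_mul]
    rfl
  have h3 : ρ.character 1 = (Module.finrank ℂ (Fin n → ℂ) : ℂ) := Representation.char_one ρ
  rw [← h1, h2, h3, ← hcn]
  ring

end OmegaFormula

section Average

variable {M : Type u} [Group M] [Fintype M]

open Classical in
/-- Average of the left translates of a function by the elements of a subgroup. -/
noncomputable def avgLeft (K : Subgroup M) (ψ : M → ℂ) : M → ℂ :=
  fun g => (Nat.card K : ℂ)⁻¹ * ∑ k : M, if k ∈ K then ψ (k * g) else 0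

open Classical in
theorem avgLeft_apply (K : Subgroup M) (ψ : M → ℂ) (g : M) :
    avgLeft K ψ g = (Nat.card K : ℂ)⁻¹ * ∑ k : M, if k ∈ K then ψ (k * g) else 0 := rfl

theorem avgLeft_smul (K : Subgroup M) (a : ℂ) (ψ : M → ℂ) :
    avgLeft K (a • ψ) = a • avgLeft K ψ := by
  classical
  funext g
  simp only [avgLeft_apply, Pi.smul_apply, smul_eq_mul]
  have h : ∀ k : M, (if k ∈ K then a * ψ (k * g) else 0) =
      a * (if k ∈ K then ψ (k * g) else 0) := by
    intro k
    split_ifs <;> simp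
  simp only [h]
  rw [← Finset.mul_sum]
  ring

theorem avgLeft_sum (K : Subgroup M) {ι : Type*} (s : Finset ι) (ψ : ι → M → ℂ) :
    avgLeft K (∑ i ∈ s, ψ i) = ∑ i ∈ s, avgLeft K (ψ i) := by
  classical
  funext g
  simp only [avgLeft_apply, Finset.sum_apply]
  rw [← Finset.mul_sum, Finset.sum_comm]
  congr 1
  refine Finset.sum_congr rfl fun k _ => ?_
  split_ifs
  · rfl
  · simp

open Classical in
theorem sum_ite_mem_mul_left (K : Subgroup M) (ψ : M → ℂ) {k₀ : M} (hk₀ : k₀ ∈ K) (g : M) :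
    (∑ k : M, if k ∈ K then ψ (k * (k₀ * g)) else 0) =
      ∑ k : M, if k ∈ K then ψ (k * g) else 0 := by
  refine Fintype.sum_equiv (Equiv.mulRight k₀) _ _ fun k => ?_
  simp only [Equiv.coe_mulRight]
  have h : k * k₀ ∈ K ↔ k ∈ K := Subgroup.mul_mem_cancel_right K hk₀
  simp only [h, mul_assoc]

theorem avgLeft_mul_left (K : Subgroup M) (ψ : M → ℂ) {k₀ : M} (hk₀ : k₀ ∈ K) (g : M) :
    avgLeft K ψ (k₀ * g) = avgLeft K ψ g := by
  classical
  rw [avgLeft_apply, avgLeft_apply, sum_ite_mem_mul_left K ψ hk₀]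

theorem avgLeft_avgLeft (K : Subgroup M) (ψ : M → ℂ) :
    avgLeft K (avgLeft K ψ) = avgLeft K ψ := by
  classical
  funext g
  rw [avgLeft_apply]
  have h1 : ∀ k : M, (if k ∈ K then avgLeft K ψ (k * g) else 0) =
      if k ∈ K then avgLeft K ψ g else 0 := by
    intro k
    split_ifs with hk
    · exact avgLeft_mul_left K ψ hk g
    · rfl
  simp only [h1]
  rw [← Finset.sum_filter, Finset.sum_const, nsmul_eq_mul]
  have h2 : (Finset.univ.filter fun k : M => k ∈ K).card = Nat.card K := by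
    rw [Nat.card_eq_fintype_card, Fintype.card_subtype]
  have h3 : (Nat.card K : ℂ) ≠ 0 := by exact_mod_cast Nat.card_pos.ne'
  rw [h2, ← mul_assoc, inv_mul_cancel₀ h3, one_mul]

/-- On an irreducible character, averaging over a normal subgroup is multiplication by `0` or
`1`. -/
theorem avgLeft_irr (K : Subgroup M) [hK : K.Normal] {η : M → ℂ} (hη : IsIrrCharacter M η) :
    avgLeft K η = 0 ∨ avgLeft K η = η := by
  classical
  have hη1 : η 1 ≠ 0 := irr_apply_one_ne_zero (⟨η, hη⟩ : IrrCharacter M)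
  have hf : IsClassFunction M (fun k : M => if k ∈ K then (1 : ℂ) else 0) := by
    intro g h
    have : h * g * h⁻¹ ∈ K ↔ g ∈ K := by
      constructor
      · intro hh
        have := hK.conj_mem _ hh h⁻¹
        simpa [mul_assoc] using this
      · intro hg
        exact hK.conj_mem _ hg h
    simp only [this]
  have key : ∀ x : M, avgLeft K η x * η 1 = avgLeft K η 1 * η x := by
    intro x
    have h := sum_mul_irr_mul hη hf x
    rw [avgLeft_apply, avgLeft_apply]
    have e1 : ∀ k : M, (if k ∈ K then η (k * x) else 0) =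
        (if k ∈ K then (1 : ℂ) else 0) * η (k * x) := by
      intro k
      split_ifs <;> simp
    have e2 : ∀ k : M, (if k ∈ K then η (k * 1) else 0) =
        (if k ∈ K then (1 : ℂ) else 0) * η k := by
      intro k
      split_ifs <;> simp
    simp only [e1, e2]
    rw [mul_assoc, mul_assoc, h]
  set ω := avgLeft K η 1 / η 1 with hω
  have h1 : avgLeft K η = ω • η := by
    funext x
    rw [Pi.smul_apply, smul_eq_mul, hω, div_mul_eq_mul_div, eq_div_iff hη1]
    exact key x
  have h2 := avgLeft_avgLeft K η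
  rw [h1, avgLeft_smul, h1] at h2
  have h3 := congrFun h2 1
  simp only [Pi.smul_apply, smul_eq_mul] at h3
  have h4 : ω * (ω - 1) = 0 := by
    have : (ω * (ω - 1)) * η 1 = 0 := by linear_combination h3
    exact (mul_eq_zero.mp this).resolve_right hη1
  rcases mul_eq_zero.mp h4 with h5 | h5
  · left
    rw [h1, h5, zero_smul]
  · right
    rw [h1, sub_eq_zero.mp h5, one_smul]

end Average

section Split

variable {M : Type u} [Group M] [Fintype M]

/-- Key inequality: if a character `ψ` of `M` is not invariant under left translation by the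
normal subgroup `K`, and agrees with its `K`-average outside `D`, then the square sum of `ψ`
over `D` exceeds that of the average by at least `|M|`. -/
theorem sum_normSq_ge_of_avgLeft_ne (K : Subgroup M) [hK : K.Normal] {ψ : M → ℂ}
    (hψ : IsCharacter M ψ) (hne : avgLeft K ψ ≠ ψ) (D : Finset M)
    (hD : ∀ g ∉ D, avgLeft K ψ g = ψ g) :
    (Fintype.card M : ℝ) + ∑ g ∈ D, Complex.normSq (avgLeft K ψ g) ≤
      ∑ g ∈ D, Complex.normSq (ψ g) := by
  classical
  have : Fintype (IrrCharacter M) := Fintype.ofFinite _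
  -- decomposition of `ψ`
  have hexp := Cfsg.Agent.Lib.Helper3.classFunction_eq_sum
    (Cfsg.Agent.Lib.Helper3.IsCharacter.isClassFunction hψ)
  have hb : ∀ η : IrrCharacter M, ∃ b : ℕ, classInner ψ (η : M → ℂ) = (b : ℂ) := fun η =>
    classInner_char_nat hψ (Cfsg.Agent.Lib.Helper3.IsIrrCharacter.isCharacter η.2)
  choose b hb using hb
  have hω : ∀ η : IrrCharacter M, ∃ ω : ℂ, (ω = 0 ∨ ω = 1) ∧
      avgLeft K (η : M → ℂ) = ω • (η : M → ℂ) := by
    intro η
    rcases avgLeft_irr K η.2 with h | h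
    · exact ⟨0, Or.inl rfl, by rw [h, zero_smul]⟩
    · exact ⟨1, Or.inr rfl, by rw [h, one_smul]⟩
  choose ω hω01 hω using hω
  have hψ1 : ψ = ∑ η : IrrCharacter M, (b η : ℂ) • (η : M → ℂ) := by
    conv_lhs => rw [hexp]
    exact Finset.sum_congr rfl fun η _ => by rw [hb]
  have hflat : avgLeft K ψ = ∑ η : IrrCharacter M, ((b η : ℂ) * ω η) • (η : M → ℂ) := by
    conv_lhs => rw [hψ1]
    rw [avgLeft_sum]
    exact Finset.sum_congr rfl fun η _ => by rw [avgLeft_smul, hω, smul_smul]
  set ψ' : M → ℂ := ψ - avgLeft K ψ with hψ'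
  have hprime : ψ' = ∑ η : IrrCharacter M, ((b η : ℂ) * (1 - ω η)) • (η : M → ℂ) := by
    rw [hψ', hflat]
    conv_lhs => rw [hψ1]
    rw [← Finset.sum_sub_distrib]
    exact Finset.sum_congr rfl fun η _ => by rw [← sub_smul]; ring_nf
  -- orthogonality of the two parts
  have horth : classInner (avgLeft K ψ) ψ' = 0 := by
    rw [hflat, hprime, Cfsg.Agent.Lib.Helper3.classInner_sum_sum]
    refine Finset.sum_eq_zero fun η _ => ?_
    rcases hω01 η with h | h <;> simp [h]
  -- the norm of the second part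
  have hnorm : (1 : ℝ) ≤ (classInner ψ' ψ').re := by
    have hex : ∃ η : IrrCharacter M, (b η : ℂ) * (1 - ω η) ≠ 0 := by
      by_contra hcon
      push Not at hcon
      apply hne
      have : ψ' = 0 := by
        rw [hprime]
        exact Finset.sum_eq_zero fun η _ => by rw [hcon, zero_smul]
      rw [hψ'] at this
      exact (sub_eq_zero.mp this).symm
    obtain ⟨η₀, hη₀⟩ := hex
    rw [hprime, Cfsg.Agent.Lib.Helper3.classInner_sum_sum, Complex.re_sum]
    have hterm : ∀ η : IrrCharacter M,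
        (0 : ℝ) ≤ (((b η : ℂ) * (1 - ω η)) * conj ((b η : ℂ) * (1 - ω η))).re := by
      intro η
      rw [Complex.mul_conj]
      exact_mod_cast Complex.normSq_nonneg _
    have h1 : (((b η₀ : ℂ) * (1 - ω η₀)) * conj ((b η₀ : ℂ) * (1 - ω η₀))).re ≤
        ∑ η : IrrCharacter M, (((b η : ℂ) * (1 - ω η)) * conj ((b η : ℂ) * (1 - ω η))).re :=
      Finset.single_le_sum (fun η _ => hterm η) (Finset.mem_univ η₀)
    refine le_trans ?_ h1
    have hω0 : ω η₀ = 0 := by
      rcases hω01 η₀ with h | h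
      · exact h
      · exfalso
        apply hη₀
        rw [h, sub_self, mul_zero]
    have hb0 : b η₀ ≠ 0 := by
      intro h
      apply hη₀
      rw [h]
      simp
    rw [hω0, sub_zero, mul_one, Complex.conj_natCast]
    have : (1 : ℝ) ≤ ((b η₀ : ℝ)) * (b η₀ : ℝ) := by
      have h1 : (1 : ℝ) ≤ (b η₀ : ℝ) := by exact_mod_cast Nat.one_le_iff_ne_zero.mpr hb0
      nlinarith
    calc (1 : ℝ) ≤ (b η₀ : ℝ) * (b η₀ : ℝ) := this
      _ = (((b η₀ : ℂ)) * (b η₀ : ℂ)).re := by
        simp [Complex.mul_re]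
  -- vanishing of the second part outside `D`
  have hvan : ∀ g ∉ D, ψ' g = 0 := by
    intro g hg
    rw [hψ', Pi.sub_apply, hD g hg, sub_self]
  -- sums
  have hM0 : (Nat.card M : ℂ) ≠ 0 := by exact_mod_cast Nat.card_pos.ne'
  have hs1 : ∑ g : M, avgLeft K ψ g * conj (ψ' g) = 0 := by
    rw [classInner_def] at horth
    exact (mul_eq_zero.mp horth).resolve_left (inv_ne_zero hM0)
  have hs2 : (Fintype.card M : ℝ) ≤ ∑ g : M, Complex.normSq (ψ' g) := by
    rw [classInner_def] at hnorm
    have h1 : (∑ g : M, ψ' g * conj (ψ' g)) =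
        ((∑ g : M, Complex.normSq (ψ' g) : ℝ) : ℂ) := by
      push_cast
      exact Finset.sum_congr rfl fun g _ => Complex.mul_conj _
    rw [h1, ← Complex.ofReal_natCast, ← Complex.ofReal_inv, ← Complex.ofReal_mul,
      Complex.ofReal_re, Nat.card_eq_fintype_card] at hnorm
    have hpos : (0 : ℝ) < (Fintype.card M : ℝ) := by exact_mod_cast Fintype.card_pos
    rw [inv_mul_eq_div, le_div_iff₀ hpos, one_mul] at hnorm
    exact hnorm
  have hpt : ∀ g : M, Complex.normSq (ψ g) = Complex.normSq (avgLeft K ψ g) +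
      Complex.normSq (ψ' g) + 2 * (avgLeft K ψ g * conj (ψ' g)).re := by
    intro g
    have : ψ g = avgLeft K ψ g + ψ' g := by
      rw [hψ', Pi.sub_apply]
      ring
    rw [this, Complex.normSq_add]
  have hD1 : ∑ g ∈ D, Complex.normSq (ψ' g) = ∑ g : M, Complex.normSq (ψ' g) :=
    Finset.sum_subset (Finset.subset_univ D) fun g _ hg => by rw [hvan g hg, map_zero]
  have hD2 : ∑ g ∈ D, (avgLeft K ψ g * conj (ψ' g)).re =
      ∑ g : M, (avgLeft K ψ g * conj (ψ' g)).re :=
    Finset.sum_subset (Finset.subset_univ D) fun g _ hg => by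
      rw [hvan g hg, map_zero, mul_zero, Complex.zero_re]
  have hs1' : ∑ g : M, (avgLeft K ψ g * conj (ψ' g)).re = 0 := by
    rw [← Complex.re_sum, hs1, Complex.zero_re]
  calc (Fintype.card M : ℝ) + ∑ g ∈ D, Complex.normSq (avgLeft K ψ g)
      ≤ ∑ g : M, Complex.normSq (ψ' g) + ∑ g ∈ D, Complex.normSq (avgLeft K ψ g) := by
        linarith
    _ = ∑ g ∈ D, Complex.normSq (ψ g) := by
        simp only [hpt]
        rw [Finset.sum_add_distrib, Finset.sum_add_distrib, ← Finset.mul_sum, hD1, hD2, hs1']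
        ring

end Split

section TICount

variable {G : Type u} [Group G] [Fintype G]

open Classical in
/-- Counting with a set `S` of non-central elements which is "TI with normalizer `N`". -/
theorem ti_count (N : Subgroup G) (S : Finset G) (F : G → ℝ) (hF0 : ∀ g, 0 ≤ F g)
    (hFc : ∀ g t : G, F (t * g * t⁻¹) = F g)
    (hcen : ∀ g ∈ S, g ∉ Subgroup.center G)
    (hTI : ∀ g ∈ S, ∀ t : G, t⁻¹ * g * t ∈ S → t ∈ N) :
    (Fintype.card G : ℝ) * ∑ g ∈ S, F g ≤
      (Nat.card N : ℝ) * ∑ g ∈ Finset.univ.filter (fun g : G => g ∉ Subgroup.center G), F g := by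
  have h1 : (Fintype.card G : ℝ) * ∑ g ∈ S, F g = ∑ _t : G, ∑ g ∈ S, F g := by
    rw [Finset.sum_const, Finset.card_univ, nsmul_eq_mul]
  have h2 : ∀ t : G, ∑ g ∈ S, F g = ∑ g' : G, if t⁻¹ * g' * t ∈ S then F g' else 0 := by
    intro t
    rw [← Finset.sum_filter]
    refine Finset.sum_bij (fun g _ => t * g * t⁻¹) ?_ ?_ ?_ ?_
    · intro g hg
      simp only [Finset.mem_filter, Finset.mem_univ, true_and]
      have : t⁻¹ * (t * g * t⁻¹) * t = g := by group
      rw [this]
      exact hg
    · intro a _ b _ hab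
      have hab' : t * (a * t⁻¹) = t * (b * t⁻¹) := by simpa [mul_assoc] using hab
      exact mul_right_cancel (mul_left_cancel hab')
    · intro g' hg'
      simp only [Finset.mem_filter, Finset.mem_univ, true_and] at hg'
      exact ⟨t⁻¹ * g' * t, hg', by group⟩
    · intro g _
      exact (hFc g t).symm
  have h3 : ∀ g' : G, (Finset.univ.filter fun t : G => t⁻¹ * g' * t ∈ S).card ≤
      if g' ∉ Subgroup.center G then Nat.card N else 0 := by
    intro g'
    by_cases hg' : g' ∈ Subgroup.center G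
    · rw [if_neg (not_not.mpr hg')]
      apply le_of_eq
      rw [Finset.card_eq_zero, Finset.filter_eq_empty_iff]
      intro t _ ht
      apply hcen _ ht
      have h := Subgroup.mem_center_iff.mp hg' t
      have : t⁻¹ * g' * t = g' := by rw [mul_assoc, ← h, inv_mul_cancel_left]
      rw [this]
      exact hg'
    · rw [if_pos hg']
      by_cases hemp : (Finset.univ.filter fun t : G => t⁻¹ * g' * t ∈ S) = ∅
      · rw [hemp]
        exact Nat.zero_le _
      · obtain ⟨t₁, ht₁⟩ := Finset.nonempty_iff_ne_empty.mpr hemp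
        simp only [Finset.mem_filter, Finset.mem_univ, true_and] at ht₁
        have hcard : Nat.card N = (Finset.univ.filter fun t : G => t ∈ N).card := by
          rw [Nat.card_eq_fintype_card, Fintype.card_subtype]
        rw [hcard]
        refine Finset.card_le_card_of_injOn (fun t => t₁⁻¹ * t) ?_ ?_
        · intro t ht
          simp only [Finset.coe_filter, Finset.mem_univ, true_and, Set.mem_ofPred_eq] at ht ⊢
          apply hTI _ ht₁
          have : (t₁⁻¹ * t)⁻¹ * (t₁⁻¹ * g' * t₁) * (t₁⁻¹ * t) = t⁻¹ * g' * t := by group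
          rw [this]
          exact ht
        · intro a _ b _ hab
          exact mul_left_cancel hab
  rw [h1, Finset.sum_congr rfl fun t _ => h2 t]
  rw [Finset.sum_comm, Finset.mul_sum, Finset.sum_filter]
  refine Finset.sum_le_sum fun g' _ => ?_
  rw [← Finset.sum_filter, Finset.sum_const, nsmul_eq_mul]
  have h4 := h3 g'
  by_cases hg' : g' ∉ Subgroup.center G
  · rw [if_pos hg'] at h4 ⊢
    have : ((Finset.univ.filter fun t : G => t⁻¹ * g' * t ∈ S).card : ℝ) ≤ (Nat.card N : ℝ) := by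
      exact_mod_cast h4
    exact mul_le_mul_of_nonneg_right this (hF0 g')
  · rw [if_neg hg'] at h4 ⊢
    have : (Finset.univ.filter fun t : G => t⁻¹ * g' * t ∈ S).card = 0 := Nat.le_zero.mp h4
    rw [this]
    simp

end TICount

section FT

variable {G : Type u} [Group G] [Fintype G]

open Classical in
/-- Sum over a subgroup as an indicator sum over the group. -/
theorem sum_subgroup_eq_sum_ite (N : Subgroup G) [Fintype N] (F : G → ℂ) :
    ∑ k : N, F (k : G) = ∑ g : G, if g ∈ N then F g else 0 := by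
  rw [← Finset.sum_filter]
  exact (Finset.sum_subtype (Finset.univ.filter fun g : G => g ∈ N)
    (fun g => by simp) F).symm

/-- Central elements: `χ(z x) χ(1) = χ(z) χ(x)`. -/
theorem irr_center_mul {χ : G → ℂ} (hχ : IsIrrCharacter G χ) {z : G}
    (hz : z ∈ Subgroup.center G) (x : G) : χ (z * x) * χ 1 = χ z * χ x := by
  classical
  have hf : IsClassFunction G (fun g : G => if g = z then (1 : ℂ) else 0) := by
    intro g h
    have : h * g * h⁻¹ = z ↔ g = z := by
      have hc := Subgroup.mem_center_iff.mp hz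
      constructor
      · intro hh
        have : g = h⁻¹ * z * h := by rw [← hh]; group
        rw [this, mul_assoc, ← hc h, inv_mul_cancel_left]
      · intro hg
        rw [hg, hc h, mul_inv_cancel_right]
    simp only [this]
  have h := sum_mul_irr_mul hχ hf x
  simpa [Finset.sum_ite_eq', ite_mul] using h

theorem irr_center_normSq {χ : G → ℂ} (hχ : IsIrrCharacter G χ) {z : G}
    (hz : z ∈ Subgroup.center G) : Complex.normSq (χ z) = Complex.normSq (χ 1) := by
  have h := irr_center_mul hχ hz z⁻¹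
  rw [mul_inv_cancel] at h
  obtain ⟨n, ρ, hirr, rfl⟩ := hχ
  rw [Cfsg.Agent.Lib.Helper3.character_inv] at h
  have h1 : ((Complex.normSq (ρ.character z) : ℝ) : ℂ) = ρ.character z * conj (ρ.character z) :=
    (Complex.mul_conj _).symm
  have h2 : ρ.character 1 = (Module.finrank ℂ (Fin n → ℂ) : ℂ) := Representation.char_one ρ
  have h3 : ((Complex.normSq (ρ.character 1) : ℝ) : ℂ) = ρ.character 1 * ρ.character 1 := by
    rw [← Complex.mul_conj, h2, Complex.conj_natCast]
  have : ((Complex.normSq (ρ.character z) : ℝ) : ℂ) = ((Complex.normSq (ρ.character 1) : ℝ) : ℂ) := by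
    rw [h1, h3, h]
  exact_mod_cast this

end FT

section FTMain

variable {G : Type u} [Group G] [Fintype G]

open Classical in
theorem sum_subgroup_eq_sum_ite_real (N : Subgroup G) [Fintype N] (F : G → ℝ) :
    ∑ k : N, F (k : G) = ∑ g : G, if g ∈ N then F g else 0 := by
  rw [← Finset.sum_filter]
  exact (Finset.sum_subtype (Finset.univ.filter fun g : G => g ∈ N)
    (fun g => by simp) F).symm

/-- If `g` normalizes `H` and no non-identity element of `H` commutes with `g`, then every
element of the coset `H g` is an `H`-conjugate of `g`. -/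
theorem exists_conj_eq_mul_of_fpf (H : Subgroup G) {g : G}
    (hg : g ∈ Subgroup.normalizer (H : Set G))
    (hfpf : ∀ x ∈ H, x * g = g * x → x = 1) (k : G) (hk : k ∈ H) :
    ∃ u ∈ H, u * g * u⁻¹ = k * g := by
  have hmem : ∀ u ∈ H, u * g * u⁻¹ * g⁻¹ ∈ H := by
    intro u hu
    have h1 : g * u⁻¹ * g⁻¹ ∈ H := (Subgroup.mem_normalizer_iff.mp hg u⁻¹).mp (H.inv_mem hu)
    have e : u * g * u⁻¹ * g⁻¹ = u * (g * u⁻¹ * g⁻¹) := by group
    rw [e]
    exact H.mul_mem hu h1
  let φ : ↥H → ↥H := fun u => ⟨(u : G) * g * (u : G)⁻¹ * g⁻¹, hmem u u.2⟩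
  have hinj : Function.Injective φ := by
    intro u v huv
    have h1 : (u : G) * g * (u : G)⁻¹ * g⁻¹ = v * g * (v : G)⁻¹ * g⁻¹ :=
      congrArg Subtype.val huv
    have h3 : (u : G) * g * (u : G)⁻¹ = v * g * (v : G)⁻¹ := mul_right_cancel h1
    have h2 : ((v : G)⁻¹ * u) * g = g * ((v : G)⁻¹ * u) := by
      calc ((v : G)⁻¹ * u) * g = (v : G)⁻¹ * (u * g * (u : G)⁻¹) * u := by group
        _ = (v : G)⁻¹ * (v * g * (v : G)⁻¹) * u := by rw [h3]
        _ = g * ((v : G)⁻¹ * u) := by group
    have h4 := hfpf _ (H.mul_mem (H.inv_mem v.2) u.2) h2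
    apply Subtype.ext
    have h5 : (v : G) * ((v : G)⁻¹ * u) = v * 1 := by rw [h4]
    rw [mul_inv_cancel_left, mul_one] at h5
    exact h5
  have hsurj := (Finite.injective_iff_surjective).mp hinj
  obtain ⟨u, hu⟩ := hsurj ⟨k, hk⟩
  refine ⟨u, u.2, ?_⟩
  have h1 : (u : G) * g * (u : G)⁻¹ * g⁻¹ = k := congrArg Subtype.val hu
  rw [← h1]
  group

end FTMain

section FTClaim

variable {G : Type u} [Group G] [Fintype G]

open Classical in
/-- **Feit–Thompson lemma**, first part, with the multiplicity of the principal character given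
as an indicator sum. -/
theorem ft_claim1 (H : Subgroup G) (hab : ∀ a ∈ H, ∀ b ∈ H, a * b = b * a)
    (hZ : H ⊓ Subgroup.center G = ⊥)
    (hone : ∀ g : G, g ∉ Subgroup.center G → ∀ a b : G,
      Subgroup.centralizer ({g} : Set G) ⊓ H.map (MulAut.conj a).toMonoidHom ≠ ⊥ →
      Subgroup.centralizer ({g} : Set G) ⊓ H.map (MulAut.conj b).toMonoidHom ≠ ⊥ →
      H.map (MulAut.conj a).toMonoidHom = H.map (MulAut.conj b).toMonoidHom)
    {χ : G → ℂ} (hχ : IsIrrCharacter G χ) (hker : ∃ h ∈ H, χ h ≠ χ 1) (c n : ℕ)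
    (hc : (Nat.card H : ℂ)⁻¹ * ∑ g : G, (if g ∈ H then χ g else 0) = (c : ℂ))
    (hn : χ 1 = (n : ℂ)) :
    Nat.card H * c ^ 2 < n ^ 2 := by
  obtain ⟨h₀, hh₀, hh₀χ⟩ := hker
  have hh₀1 : h₀ ≠ 1 := fun h => hh₀χ (h ▸ rfl)
  have hn0 : n ≠ 0 := by
    intro h
    have := irr_apply_one_ne_zero (⟨χ, hχ⟩ : IrrCharacter G)
    apply this
    show χ 1 = 0
    rw [hn, h, Nat.cast_zero]
  have hHN : H ≤ Subgroup.normalizer (H : Set G) := Subgroup.le_normalizer
  have hZN : Subgroup.center G ≤ Subgroup.normalizer (H : Set G) := by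
    intro z hz
    rw [Subgroup.mem_normalizer_iff]
    intro h
    have e : z * h * z⁻¹ = h := by
      rw [← Subgroup.mem_center_iff.mp hz h, mul_inv_cancel_right]
    rw [e]
  have hcf : IsClassFunction G χ := Cfsg.Agent.Lib.Helper3.IsCharacter.isClassFunction
    (Cfsg.Agent.Lib.Helper3.IsIrrCharacter.isCharacter hχ)
  let F : G → ℝ := fun g => Complex.normSq (χ g)
  let P : G → Prop := fun g => ∃ x ∈ H, x ≠ 1 ∧ x * g = g * x
  let S : Finset G := Finset.univ.filter fun g =>
    g ∈ Subgroup.normalizer (H : Set G) ∧ g ∉ Subgroup.center G ∧ P g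
  -- the TI property
  have hTI : ∀ g ∈ S, ∀ t : G, t⁻¹ * g * t ∈ S → t ∈ Subgroup.normalizer (H : Set G) := by
    intro g hg t ht
    simp only [S, Finset.mem_filter, Finset.mem_univ, true_and] at hg ht
    obtain ⟨-, hgZ, x, hxH, hx1, hxg⟩ := hg
    obtain ⟨-, -, y, hyH, hy1, hyg⟩ := ht
    have h1 : Subgroup.centralizer ({g} : Set G) ⊓ H.map (MulAut.conj (1 : G)).toMonoidHom ≠ ⊥ := by
      intro hbot
      have hx : x ∈ Subgroup.centralizer ({g} : Set G) ⊓
          H.map (MulAut.conj (1 : G)).toMonoidHom := by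
        refine ⟨Subgroup.mem_centralizer_singleton_iff.mpr hxg, x, hxH, ?_⟩
        simp
      rw [hbot] at hx
      exact hx1 (Subgroup.mem_bot.mp hx)
    have h2 : Subgroup.centralizer ({g} : Set G) ⊓ H.map (MulAut.conj t).toMonoidHom ≠ ⊥ := by
      intro hbot
      have hw : t * y * t⁻¹ ∈ Subgroup.centralizer ({g} : Set G) ⊓
          H.map (MulAut.conj t).toMonoidHom := by
        refine ⟨Subgroup.mem_centralizer_singleton_iff.mpr ?_, y, hyH, ?_⟩
        · have e1 : t * y * t⁻¹ * g = t * (y * (t⁻¹ * g * t)) * t⁻¹ := by group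
          have e2 : g * (t * y * t⁻¹) = t * ((t⁻¹ * g * t) * y) * t⁻¹ := by group
          rw [e1, e2, hyg]
        · simp [MulAut.conj_apply]
      rw [hbot] at hw
      have h3 : t * y * t⁻¹ = 1 := Subgroup.mem_bot.mp hw
      apply hy1
      have h4 : y = t⁻¹ * (t * y * t⁻¹) * t := by group
      rw [h4, h3]
      group
    have h3 := hone g hgZ 1 t h1 h2
    have h4 : H.map (MulAut.conj (1 : G)).toMonoidHom = H := by
      ext w
      simp
    rw [h4] at h3
    exact Subgroup.mem_normalizer_iff_map_conj_eq.mpr h3.symm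
  have hA := ti_count (Subgroup.normalizer (H : Set G)) S F (fun g => Complex.normSq_nonneg _)
    (fun g t => by simp only [F]; rw [hcf g t])
    (fun g hg => (Finset.mem_filter.mp hg).2.2.1) hTI
  -- the restriction to the normalizer
  have hKn : (H.subgroupOf (Subgroup.normalizer (H : Set G))).Normal :=
    Subgroup.normal_in_normalizer
  let ψ : ↥(Subgroup.normalizer (H : Set G)) → ℂ := fun g => χ g
  have hψ : IsCharacter ↥(Subgroup.normalizer (H : Set G)) ψ :=
    Cfsg.Agent.Lib.Helper3.IsCharacter.restrict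
      (Cfsg.Agent.Lib.Helper3.IsIrrCharacter.isCharacter hχ) _
  let D : Finset ↥(Subgroup.normalizer (H : Set G)) := Finset.univ.filter fun g => P (g : G)
  have hKcard : Nat.card (H.subgroupOf (Subgroup.normalizer (H : Set G))) = Nat.card H :=
    Nat.card_congr (Subgroup.subgroupOfEquivOfLe hHN).toEquiv
  have hH0 : (Nat.card H : ℂ) ≠ 0 := by exact_mod_cast Nat.card_pos.ne'
  have hD : ∀ g ∉ D, avgLeft (H.subgroupOf (Subgroup.normalizer (H : Set G))) ψ g = ψ g := by
    intro g hg
    have hfpf : ∀ x ∈ H, x * (g : G) = (g : G) * x → x = 1 := by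
      intro x hx hxg
      by_contra hx1
      apply hg
      simp only [D, Finset.mem_filter, Finset.mem_univ, true_and]
      exact ⟨x, hx, hx1, hxg⟩
    rw [avgLeft_apply]
    have h1 : ∀ k : ↥(Subgroup.normalizer (H : Set G)),
        (if k ∈ H.subgroupOf (Subgroup.normalizer (H : Set G)) then ψ (k * g) else 0) =
          if k ∈ H.subgroupOf (Subgroup.normalizer (H : Set G)) then ψ g else 0 := by
      intro k
      split_ifs with hk
      · obtain ⟨u, hu, hug⟩ := exists_conj_eq_mul_of_fpf H g.2 hfpf (k : G)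
          (Subgroup.mem_subgroupOf.mp hk)
        show χ ((k : G) * (g : G)) = χ (g : G)
        rw [← hug]
        exact hcf _ _
      · rfl
    rw [Finset.sum_congr rfl fun k _ => h1 k, ← Finset.sum_filter, Finset.sum_const,
      nsmul_eq_mul]
    have h2 : (Finset.univ.filter fun k : ↥(Subgroup.normalizer (H : Set G)) =>
        k ∈ H.subgroupOf (Subgroup.normalizer (H : Set G))).card = Nat.card H := by
      rw [← hKcard, Nat.card_eq_fintype_card, Fintype.card_subtype]
    rw [h2, hKcard, ← mul_assoc, inv_mul_cancel₀ hH0, one_mul]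
  have hne : avgLeft (H.subgroupOf (Subgroup.normalizer (H : Set G))) ψ ≠ ψ := by
    intro heq
    apply hh₀χ
    have h1 := avgLeft_mul_left (H.subgroupOf (Subgroup.normalizer (H : Set G))) ψ
      (k₀ := ⟨h₀, hHN hh₀⟩) (Subgroup.mem_subgroupOf.mpr hh₀) 1
    rw [heq, mul_one] at h1
    exact h1
  have hB := sum_normSq_ge_of_avgLeft_ne (H.subgroupOf (Subgroup.normalizer (H : Set G))) hψ hne D hD
  -- the value of the average on `H Z`
  have hPZ : ∀ h ∈ H, ∀ z ∈ Subgroup.center G, P (h * z) := by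
    intro h hh z hz
    refine ⟨h₀, hh₀, hh₀1, ?_⟩
    have hc' := Subgroup.mem_center_iff.mp hz
    rw [← mul_assoc, hab h₀ hh₀ h hh, mul_assoc, mul_assoc, hc' h₀]
  have havg : ∀ h (hh : h ∈ H) z (hz : z ∈ Subgroup.center G),
      Complex.normSq (avgLeft (H.subgroupOf (Subgroup.normalizer (H : Set G))) ψ
        ⟨h * z, Subgroup.mul_mem _ (hHN hh) (hZN hz)⟩) = (c : ℝ) ^ 2 := by
    intro h hh z hz
    have e1 : (⟨h * z, Subgroup.mul_mem _ (hHN hh) (hZN hz)⟩ :
        ↥(Subgroup.normalizer (H : Set G))) = ⟨h, hHN hh⟩ * ⟨z, hZN hz⟩ := rfl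
    rw [e1, avgLeft_mul_left _ _ (Subgroup.mem_subgroupOf.mpr hh)]
    have e2 : avgLeft (H.subgroupOf (Subgroup.normalizer (H : Set G))) ψ ⟨z, hZN hz⟩ * χ 1 =
        χ z * (c : ℂ) := by
      rw [avgLeft_apply, hKcard]
      have e3 : (∑ k : ↥(Subgroup.normalizer (H : Set G)),
          if k ∈ H.subgroupOf (Subgroup.normalizer (H : Set G)) then
            ψ (k * ⟨z, hZN hz⟩) else 0) =
          ∑ g : G, if g ∈ H then χ (g * z) else 0 := by
        have := sum_subgroup_eq_sum_ite (Subgroup.normalizer (H : Set G))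
          (fun g => if g ∈ H then χ (g * z) else 0)
        rw [show (∑ k : ↥(Subgroup.normalizer (H : Set G)),
          if k ∈ H.subgroupOf (Subgroup.normalizer (H : Set G)) then
            ψ (k * ⟨z, hZN hz⟩) else 0) = ∑ k : ↥(Subgroup.normalizer (H : Set G)),
              (fun g => if g ∈ H then χ (g * z) else 0) (k : G) from rfl, this]
        refine Finset.sum_congr rfl fun g _ => ?_
        by_cases hg : g ∈ H
        · rw [if_pos (hHN hg)]
        · rw [if_neg hg]
          simp
      rw [e3, mul_assoc, Finset.sum_mul]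
      have e4 : ∀ g : G, (if g ∈ H then χ (g * z) else 0) * χ 1 =
          χ z * (if g ∈ H then χ g else 0) := by
        intro g
        split_ifs
        · rw [Subgroup.mem_center_iff.mp hz g]
          exact irr_center_mul hχ hz g
        · simp
      rw [Finset.sum_congr rfl fun g _ => e4 g, ← Finset.mul_sum, mul_left_comm, hc]
    have e5 : Complex.normSq (avgLeft (H.subgroupOf (Subgroup.normalizer (H : Set G))) ψ
        ⟨z, hZN hz⟩) * Complex.normSq (χ 1) = Complex.normSq (χ z) * Complex.normSq (c : ℂ) := by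
      rw [← Complex.normSq_mul, ← Complex.normSq_mul, e2]
    rw [irr_center_normSq hχ hz] at e5
    have e6 : Complex.normSq (χ 1) ≠ 0 := by
      rw [hn, Complex.normSq_natCast]
      have : (n : ℝ) ≠ 0 := by exact_mod_cast hn0
      positivity
    have e7 : Complex.normSq ((c : ℂ)) = (c : ℝ) ^ 2 := by
      rw [Complex.normSq_natCast]
      ring
    rw [mul_comm] at e5
    rw [← e7]
    exact mul_left_cancel₀ e6 e5
  -- lower bound for the sum of the average
  have hlow : (Nat.card H : ℝ) * (Nat.card (Subgroup.center G) : ℝ) * (c : ℝ) ^ 2 ≤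
      ∑ g ∈ D, Complex.normSq (avgLeft (H.subgroupOf (Subgroup.normalizer (H : Set G))) ψ g) := by
    let ι : ↥H × ↥(Subgroup.center G) → ↥(Subgroup.normalizer (H : Set G)) := fun q =>
      ⟨(q.1 : G) * (q.2 : G), Subgroup.mul_mem _ (hHN q.1.2) (hZN q.2.2)⟩
    have hinj : Function.Injective ι := by
      rintro ⟨h, z⟩ ⟨h', z'⟩ hq
      have h1 : (h : G) * (z : G) = (h' : G) * (z' : G) := congrArg Subtype.val hq
      have h2 : (h' : G)⁻¹ * h = z' * (z : G)⁻¹ := by
        have : (h' : G)⁻¹ * (h * z) * (z : G)⁻¹ = (h' : G)⁻¹ * (h' * z') * (z : G)⁻¹ := by rw [h1]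
        simpa [mul_assoc] using this
      have h3 : (h' : G)⁻¹ * h ∈ H ⊓ Subgroup.center G :=
        ⟨H.mul_mem (H.inv_mem h'.2) h.2, h2 ▸ Subgroup.mul_mem _ z'.2 (Subgroup.inv_mem _ z.2)⟩
      rw [hZ, Subgroup.mem_bot] at h3
      have h4 : (h : G) = h' := by
        have := congrArg (fun w => (h' : G) * w) h3
        simpa using this
      have h5 : (z : G) = z' := by
        rw [h4] at h1
        exact mul_left_cancel h1
      exact Prod.ext (Subtype.ext h4) (Subtype.ext h5)
    have hsub : Finset.univ.image ι ⊆ D := by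
      intro g hg
      obtain ⟨q, -, rfl⟩ := Finset.mem_image.mp hg
      simp only [D, Finset.mem_filter, Finset.mem_univ, true_and]
      exact hPZ _ q.1.2 _ q.2.2
    calc (Nat.card H : ℝ) * (Nat.card (Subgroup.center G) : ℝ) * (c : ℝ) ^ 2
        = ∑ _q : ↥H × ↥(Subgroup.center G), (c : ℝ) ^ 2 := by
          rw [Finset.sum_const, Finset.card_univ, Fintype.card_prod, nsmul_eq_mul,
            Nat.card_eq_fintype_card, Nat.card_eq_fintype_card]
          push_cast
          ring
      _ = ∑ g ∈ Finset.univ.image ι, Complex.normSq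
            (avgLeft (H.subgroupOf (Subgroup.normalizer (H : Set G))) ψ g) := by
          rw [Finset.sum_image fun a _ b _ hab' => hinj hab']
          exact Finset.sum_congr rfl fun q _ => (havg _ q.1.2 _ q.2.2).symm
      _ ≤ _ := Finset.sum_le_sum_of_subset_of_nonneg hsub fun g _ _ => Complex.normSq_nonneg _
  -- the sums of `F`
  have hFG : ∑ g : G, F g = (Fintype.card G : ℝ) := by
    have h1 := Cfsg.Agent.Lib.Helper3.classInner_irr hχ hχ
    rw [if_pos rfl, classInner_def] at h1
    have h2 : (∑ g : G, χ g * conj (χ g)) = ((∑ g : G, F g : ℝ) : ℂ) := by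
      push_cast
      exact Finset.sum_congr rfl fun g _ => Complex.mul_conj _
    have hG0 : (Nat.card G : ℂ) ≠ 0 := by exact_mod_cast Nat.card_pos.ne'
    rw [h2, inv_mul_eq_iff_eq_mul₀ hG0, mul_one, Nat.card_eq_fintype_card] at h1
    exact_mod_cast h1
  have hF1 : Complex.normSq (χ 1) = (n : ℝ) ^ 2 := by
    rw [hn, Complex.normSq_natCast]
    ring
  have hFZ : ∑ g ∈ Finset.univ.filter (fun g : G => g ∈ Subgroup.center G), F g =
      (Nat.card (Subgroup.center G) : ℝ) * (n : ℝ) ^ 2 := by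
    rw [Finset.sum_congr rfl fun g hg => show F g = (n : ℝ) ^ 2 from by
      simp only [F]
      rw [irr_center_normSq hχ (Finset.mem_filter.mp hg).2, hF1]]
    rw [Finset.sum_const, nsmul_eq_mul, Nat.card_eq_fintype_card, Fintype.card_subtype]
  have hFnZ : ∑ g ∈ Finset.univ.filter (fun g : G => g ∉ Subgroup.center G), F g =
      (Fintype.card G : ℝ) - (Nat.card (Subgroup.center G) : ℝ) * (n : ℝ) ^ 2 := by
    rw [← hFG, ← hFZ, ← Finset.sum_filter_add_sum_filter_not Finset.univ
      (fun g : G => g ∈ Subgroup.center G) F]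
    ring
  have hFD : ∑ g ∈ D, Complex.normSq (ψ g) = ∑ g ∈ S, F g +
      (Nat.card (Subgroup.center G) : ℝ) * (n : ℝ) ^ 2 := by
    rw [← hFZ, Finset.sum_filter, Finset.sum_filter, Finset.sum_filter,
      sum_subgroup_eq_sum_ite_real (Subgroup.normalizer (H : Set G))
        (fun g => if P g then Complex.normSq (χ g) else 0), ← Finset.sum_add_distrib]
    refine Finset.sum_congr rfl fun g _ => ?_
    by_cases hgZ : g ∈ Subgroup.center G
    · have hP : P g := by
        have := hPZ 1 H.one_mem g hgZ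
        rwa [one_mul] at this
      rw [if_pos (hZN hgZ), if_pos hP, if_pos hgZ, if_neg (fun h => h.2.1 hgZ), zero_add]
    · rw [if_neg hgZ, add_zero]
      by_cases hgN : g ∈ Subgroup.normalizer (H : Set G)
      · rw [if_pos hgN]
        by_cases hP : P g
        · rw [if_pos hP, if_pos ⟨hgN, hgZ, hP⟩]
        · rw [if_neg hP, if_neg (fun h => hP h.2.2)]
      · rw [if_neg hgN, if_neg (fun h => hgN h.1)]
  -- final arithmetic
  rw [hFnZ] at hA
  rw [hFD] at hB
  have hNpos : (0 : ℝ) < (Nat.card ↥(Subgroup.normalizer (H : Set G)) : ℝ) := by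
    exact_mod_cast Nat.card_pos
  have hGpos : (0 : ℝ) < (Fintype.card G : ℝ) := by exact_mod_cast Fintype.card_pos
  have hZpos : (0 : ℝ) < (Nat.card (Subgroup.center G) : ℝ) := by exact_mod_cast Nat.card_pos
  have hnpos : (0 : ℝ) < (n : ℝ) ^ 2 := by
    have : (n : ℝ) ≠ 0 := by exact_mod_cast hn0
    positivity
  rw [← Nat.card_eq_fintype_card (α := ↥(Subgroup.normalizer (H : Set G)))] at hB
  have key : (Nat.card H : ℝ) * (c : ℝ) ^ 2 < (n : ℝ) ^ 2 := by
    set nG := (Fintype.card G : ℝ)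
    set nN := (Nat.card ↥(Subgroup.normalizer (H : Set G)) : ℝ)
    set nZ := (Nat.card (Subgroup.center G) : ℝ)
    set nH := (Nat.card H : ℝ)
    set X := ∑ g ∈ S, F g
    set cc := (c : ℝ) ^ 2
    set nn := (n : ℝ) ^ 2
    have h1 : nG * (nN + nH * nZ * cc - nZ * nn) ≤ nN * (nG - nZ * nn) := by
      have : nN + nH * nZ * cc - nZ * nn ≤ X := by linarith
      calc nG * (nN + nH * nZ * cc - nZ * nn) ≤ nG * X := mul_le_mul_of_nonneg_left this hGpos.le
        _ ≤ _ := hA
    have h2 : nG * nH * cc * nZ ≤ nn * (nG - nN) * nZ := by nlinarith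
    have h3 : nG * nH * cc ≤ nn * (nG - nN) := le_of_mul_le_mul_right h2 hZpos
    have h4 : nn * (nG - nN) < nn * nG := by nlinarith
    have h5 : nG * (nH * cc) < nG * nn := by nlinarith
    exact lt_of_mul_lt_mul_left h5 hGpos.le
  exact_mod_cast key

end FTClaim

section FTClaim2

variable {G : Type u} [Group G] [Fintype G]

/-- Irreducible characters of a commutative group have degree one. -/
theorem irr_apply_one_of_comm {A : Type u} [Group A] [Fintype A]
    (hA : ∀ a b : A, a * b = b * a) {θ : A → ℂ} (hθ : IsIrrCharacter A θ) : θ 1 = 1 := by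
  obtain ⟨n, τ, hτ, hτθ⟩ := id hθ
  refine Cfsg.Agent.Lib.Helper3.irr_constituent_linear_of_commute τ ?_ hθ ?_
  · intro x y
    rw [← map_mul, ← map_mul, hA]
  · rw [hτθ, Cfsg.Agent.Lib.Helper3.classInner_irr hθ hθ, if_pos rfl]
    exact one_ne_zero

/-- For a character `χ` of a finite commutative group, `[χ, χ] ≥ χ(1)`. -/
theorem classInner_self_ge_of_comm {A : Type u} [Group A] [Fintype A]
    (hA : ∀ a b : A, a * b = b * a) {ψ : A → ℂ} (hψ : IsCharacter A ψ) (n : ℕ)
    (hn : ψ 1 = (n : ℂ)) : ∃ k : ℕ, classInner ψ ψ = (k : ℂ) ∧ n ≤ k := by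
  classical
  have : Fintype (IrrCharacter A) := Fintype.ofFinite _
  have hexp := Cfsg.Agent.Lib.Helper3.classFunction_eq_sum
    (Cfsg.Agent.Lib.Helper3.IsCharacter.isClassFunction hψ)
  have ha : ∀ η : IrrCharacter A, ∃ a : ℕ, classInner ψ (η : A → ℂ) = (a : ℂ) := fun η =>
    classInner_char_nat hψ (Cfsg.Agent.Lib.Helper3.IsIrrCharacter.isCharacter η.2)
  choose a ha using ha
  have hψ1 : ψ = ∑ η : IrrCharacter A, (a η : ℂ) • (η : A → ℂ) := by
    conv_lhs => rw [hexp]
    exact Finset.sum_congr rfl fun η _ => by rw [ha]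
  refine ⟨∑ η : IrrCharacter A, a η ^ 2, ?_, ?_⟩
  · conv_lhs => rw [hψ1]
    rw [Cfsg.Agent.Lib.Helper3.classInner_sum_sum]
    push_cast
    refine Finset.sum_congr rfl fun η _ => ?_
    rw [Complex.conj_natCast]
    ring
  · have h1 : (n : ℂ) = ((∑ η : IrrCharacter A, a η : ℕ) : ℂ) := by
      rw [← hn]
      conv_lhs => rw [hψ1]
      rw [Finset.sum_apply]
      push_cast
      refine Finset.sum_congr rfl fun η _ => ?_
      rw [Pi.smul_apply, smul_eq_mul, irr_apply_one_of_comm hA η.2, mul_one]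
    have h2 : n = ∑ η : IrrCharacter A, a η := by exact_mod_cast h1
    rw [h2]
    refine Finset.sum_le_sum fun η _ => ?_
    nlinarith [Nat.zero_le (a η)]

end FTClaim2

section FTClaim2Main

variable {G : Type u} [Group G] [Fintype G]

open Classical in
/-- The multiplicity functional: the inner product of the restriction to `H` with the principal
character, as an indicator sum. -/
noncomputable def multOne (H : Subgroup G) (f : G → ℂ) : ℂ :=
  (Nat.card H : ℂ)⁻¹ * ∑ g : G, if g ∈ H then f g else 0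

open Classical in
theorem multOne_def (H : Subgroup G) (f : G → ℂ) :
    multOne H f = (Nat.card H : ℂ)⁻¹ * ∑ g : G, if g ∈ H then f g else 0 := rfl

theorem multOne_eq_classInner (H : Subgroup G) [Fintype H] (f : G → ℂ) :
    multOne H f = classInner (fun h : H => f h) (fun _ => 1) := by
  classical
  rw [multOne_def, classInner_def, ← sum_subgroup_eq_sum_ite]
  simp

theorem multOne_smul (H : Subgroup G) (a : ℂ) (f : G → ℂ) :
    multOne H (a • f) = a * multOne H f := by
  classical
  rw [multOne_def, multOne_def]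
  have h : ∀ g : G, (if g ∈ H then (a • f) g else 0) = a * (if g ∈ H then f g else 0) := by
    intro g
    split_ifs <;> simp
  rw [Finset.sum_congr rfl fun g _ => h g, ← Finset.mul_sum]
  ring

theorem multOne_sum (H : Subgroup G) {ι : Type*} (s : Finset ι) (f : ι → G → ℂ) :
    multOne H (∑ i ∈ s, f i) = ∑ i ∈ s, multOne H (f i) := by
  classical
  simp only [multOne_def, Finset.sum_apply]
  rw [← Finset.mul_sum, Finset.sum_comm]
  congr 1
  refine Finset.sum_congr rfl fun g _ => ?_
  split_ifs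
  · rfl
  · simp

theorem multOne_nat (H : Subgroup G) {ξ : G → ℂ} (hξ : IsCharacter G ξ) :
    ∃ c : ℕ, multOne H ξ = (c : ℂ) := by
  classical
  have : Fintype H := Fintype.ofFinite H
  rw [multOne_eq_classInner]
  exact classInner_char_nat (Cfsg.Agent.Lib.Helper3.IsCharacter.restrict hξ H)
    Cfsg.Agent.Lib.Helper3.IsCharacter.one

/-- **Feit–Thompson lemma**, second part, deduced from the first part for all non-principal
irreducible characters. -/
theorem ft_claim2 (H : Subgroup G) (hab : ∀ a ∈ H, ∀ b ∈ H, a * b = b * a)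
    {χ : G → ℂ} (hχ : IsIrrCharacter G χ) (n : ℕ) (hn : χ 1 = (n : ℂ)) (hn1 : n ≠ 1)
    (hyp : ∀ ξ : G → ℂ, IsIrrCharacter G ξ → ξ ≠ (fun _ => 1) → ∀ c d : ℕ,
      multOne H ξ = (c : ℂ) → ξ 1 = (d : ℂ) → Nat.card H * c ^ 2 < d ^ 2) :
    Nat.card H < (n + 1) ^ 2 := by
  classical
  have : Fintype (IrrCharacter G) := Fintype.ofFinite _
  have : Fintype H := Fintype.ofFinite H
  have hχc := Cfsg.Agent.Lib.Helper3.IsIrrCharacter.isCharacter hχ
  set Ψ : G → ℂ := χ * (fun g => conj (χ g)) with hΨdef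
  have hΨ : IsCharacter G Ψ :=
    Cfsg.Agent.Lib.Helper3.IsCharacter.mul hχc (Cfsg.Agent.Lib.Helper3.IsCharacter.conj hχc)
  have htriv : IsIrrCharacter G (fun _ => (1 : ℂ)) := by
    have := Cfsg.Agent.Lib.Helper79.isIrrCharacter_of_monoidHom (1 : G →* ℂˣ)
    simpa using this
  let triv : IrrCharacter G := ⟨fun _ => 1, htriv⟩
  -- the data attached to the irreducible characters
  have hN : ∀ ξ : IrrCharacter G, ∃ k : ℕ, classInner Ψ (ξ : G → ℂ) = (k : ℂ) := fun ξ =>
    classInner_char_nat hΨ (Cfsg.Agent.Lib.Helper3.IsIrrCharacter.isCharacter ξ.2)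
  choose nn hnn using hN
  have hDg : ∀ ξ : IrrCharacter G, ∃ d : ℕ, d ≠ 0 ∧ (ξ : G → ℂ) 1 = (d : ℂ) := fun ξ =>
    irr_apply_one ξ
  choose dd hdd0 hdd using hDg
  have hC : ∀ ξ : IrrCharacter G, ∃ c : ℕ, multOne H (ξ : G → ℂ) = (c : ℂ) := fun ξ =>
    multOne_nat H (Cfsg.Agent.Lib.Helper3.IsIrrCharacter.isCharacter ξ.2)
  choose cc hcc using hC
  have hexp := Cfsg.Agent.Lib.Helper3.classFunction_eq_sum
    (Cfsg.Agent.Lib.Helper3.IsCharacter.isClassFunction hΨ)
  have hΨ1 : Ψ = ∑ ξ : IrrCharacter G, (nn ξ : ℂ) • (ξ : G → ℂ) := by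
    conv_lhs => rw [hexp]
    exact Finset.sum_congr rfl fun ξ _ => by rw [hnn]
  -- degrees
  have hdeg : n ^ 2 = ∑ ξ : IrrCharacter G, nn ξ * dd ξ := by
    have h1 : ((n ^ 2 : ℕ) : ℂ) = ((∑ ξ : IrrCharacter G, nn ξ * dd ξ : ℕ) : ℂ) := by
      have h2 : Ψ 1 = (n : ℂ) ^ 2 := by
        rw [hΨdef, Pi.mul_apply, hn, Complex.conj_natCast]
        ring
      push_cast
      rw [← h2]
      conv_lhs => rw [hΨ1]
      rw [Finset.sum_apply]
      refine Finset.sum_congr rfl fun ξ _ => ?_
      rw [Pi.smul_apply, smul_eq_mul, hdd]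
    exact_mod_cast h1
  -- multiplicities of the principal character of `H`
  obtain ⟨k, hk, hnk⟩ := classInner_self_ge_of_comm (A := ↥H)
    (fun a b => Subtype.ext (hab a a.2 b b.2))
    (Cfsg.Agent.Lib.Helper3.IsCharacter.restrict hχc H) n hn
  have hmult : k = ∑ ξ : IrrCharacter G, nn ξ * cc ξ := by
    have h1 : ((k : ℕ) : ℂ) = ((∑ ξ : IrrCharacter G, nn ξ * cc ξ : ℕ) : ℂ) := by
      have h2 : multOne H Ψ = (k : ℂ) := by
        rw [multOne_eq_classInner, ← hk, classInner_def, classInner_def]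
        congr 1
        refine Finset.sum_congr rfl fun h _ => ?_
        simp [hΨdef]
      push_cast
      rw [← h2]
      conv_lhs => rw [hΨ1]
      rw [multOne_sum]
      refine Finset.sum_congr rfl fun ξ _ => ?_
      rw [multOne_smul, hcc]
    exact_mod_cast h1
  -- the principal character
  have hnt : nn triv = 1 := by
    have h1 : classInner Ψ (triv : G → ℂ) = 1 := by
      have h2 := Cfsg.Agent.Lib.Helper3.classInner_irr hχ hχ
      rw [if_pos rfl] at h2
      rw [← h2, classInner_def, classInner_def]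
      congr 1
      refine Finset.sum_congr rfl fun g _ => ?_
      simp [hΨdef, triv]
    rw [hnn] at h1
    exact_mod_cast h1
  have hdt : dd triv = 1 := by
    have h1 := hdd triv
    have h2 : (triv : G → ℂ) 1 = 1 := rfl
    rw [h2] at h1
    exact_mod_cast h1.symm
  have hct : cc triv = 1 := by
    have h1 := hcc triv
    have h2 : multOne H (triv : G → ℂ) = 1 := by
      rw [multOne_eq_classInner, classInner_def]
      have e : ∀ x : ↥H, (triv : G → ℂ) x * conj ((fun _ : ↥H => (1 : ℂ)) x) = 1 := by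
        intro x
        simp [triv]
      rw [Finset.sum_congr rfl fun x _ => e x, Finset.sum_const, Finset.card_univ,
        nsmul_eq_mul, mul_one, Nat.card_eq_fintype_card]
      have : (Fintype.card ↥H : ℂ) ≠ 0 := by exact_mod_cast Fintype.card_ne_zero
      exact inv_mul_cancel₀ this
    rw [h2] at h1
    exact_mod_cast h1.symm
  by_contra hcon
  push Not at hcon
  have hbound : ∀ ξ : IrrCharacter G, ξ ≠ triv → (n + 1) * cc ξ + 1 ≤ dd ξ := by
    intro ξ hξ
    have hne : (ξ : G → ℂ) ≠ fun _ => 1 := fun h => hξ (Subtype.ext h)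
    have h1 := hyp ξ ξ.2 hne (cc ξ) (dd ξ) (hcc ξ) (hdd ξ)
    have h2 : ((n + 1) * cc ξ) ^ 2 < dd ξ ^ 2 := by
      calc ((n + 1) * cc ξ) ^ 2 = (n + 1) ^ 2 * cc ξ ^ 2 := by ring
        _ ≤ Nat.card H * cc ξ ^ 2 := Nat.mul_le_mul_right _ hcon
        _ < dd ξ ^ 2 := h1
    have h3 : (n + 1) * cc ξ < dd ξ := lt_of_pow_lt_pow_left₀ 2 (Nat.zero_le _) h2
    omega
  have hs1 := Finset.add_sum_erase Finset.univ (fun ξ => nn ξ * dd ξ) (Finset.mem_univ triv)
  have hs2 := Finset.add_sum_erase Finset.univ (fun ξ => nn ξ * cc ξ) (Finset.mem_univ triv)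
  rw [← hs1] at hdeg
  rw [← hs2] at hmult
  simp only [hnt, hdt, hct, mul_one] at hdeg hmult
  have h4 : (n + 1) * (∑ ξ ∈ Finset.univ.erase triv, nn ξ * cc ξ) +
      ∑ ξ ∈ Finset.univ.erase triv, nn ξ ≤ ∑ ξ ∈ Finset.univ.erase triv, nn ξ * dd ξ := by
    rw [Finset.mul_sum, ← Finset.sum_add_distrib]
    refine Finset.sum_le_sum fun ξ hξ => ?_
    have h5 := hbound ξ (Finset.ne_of_mem_erase hξ)
    calc (n + 1) * (nn ξ * cc ξ) + nn ξ = nn ξ * ((n + 1) * cc ξ + 1) := by ring
      _ ≤ nn ξ * dd ξ := Nat.mul_le_mul_left _ h5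
  have hn0 : 1 ≤ n := by
    have h5 := irr_apply_one_ne_zero (⟨χ, hχ⟩ : IrrCharacter G)
    have h6 : n ≠ 0 := by
      intro h
      apply h5
      show χ 1 = 0
      rw [hn, h, Nat.cast_zero]
    omega
  set R := ∑ ξ ∈ Finset.univ.erase triv, nn ξ * cc ξ with hR
  set T := ∑ ξ ∈ Finset.univ.erase triv, nn ξ with hT
  set U := ∑ ξ ∈ Finset.univ.erase triv, nn ξ * dd ξ with hU
  have hT0 : T = 0 := by
    have e1 : (n : ℤ) ≤ 1 + R := by exact_mod_cast (hmult ▸ hnk)
    have e2 : (n : ℤ) ^ 2 = 1 + U := by exact_mod_cast hdeg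
    have e3 : ((n : ℤ) + 1) * R + T ≤ U := by exact_mod_cast h4
    have e4 : (1 : ℤ) ≤ n := by exact_mod_cast hn0
    have e5 : ((n : ℤ) + 1) * ((n : ℤ) - 1) ≤ ((n : ℤ) + 1) * R :=
      mul_le_mul_of_nonneg_left (by linarith) (by linarith)
    have e6 : (T : ℤ) ≤ 0 := by nlinarith
    have e7 : (0 : ℤ) ≤ T := by positivity
    exact_mod_cast le_antisymm e6 e7
  have hall : ∀ ξ ∈ Finset.univ.erase triv, nn ξ = 0 := Finset.sum_eq_zero_iff.mp hT0
  have hU0 : U = 0 := Finset.sum_eq_zero fun ξ hξ => by rw [hall ξ hξ, zero_mul]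
  rw [hU0, add_zero] at hdeg
  apply hn1
  rcases pow_eq_one_iff.mp hdeg with h | h
  · exact h
  · exact absurd h two_ne_zero

end FTClaim2Main

section FTFinal

variable {G : Type u} [Group G] [Fintype G]

/-- A non-principal irreducible character does not have a subgroup in its kernel whose normal
closure is the whole group. -/
theorem exists_ne_of_normalClosure_top (H : Subgroup G)
    (hnc : ∀ M : Subgroup G, M.Normal → H ≤ M → M = ⊤) {ξ : G → ℂ} (hξ : IsIrrCharacter G ξ)
    (hne : ξ ≠ fun _ => 1) : ∃ h ∈ H, ξ h ≠ ξ 1 := by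
  classical
  by_contra hcon
  push Not at hcon
  apply hne
  have htriv : IsIrrCharacter G (fun _ => (1 : ℂ)) := by
    have := Cfsg.Agent.Lib.Helper79.isIrrCharacter_of_monoidHom (1 : G →* ℂˣ)
    simpa using this
  obtain ⟨d, hd0, hd⟩ := irr_apply_one (⟨ξ, hξ⟩ : IrrCharacter G)
  have hconst : ∀ g : G, ξ g = ξ 1 := by
    obtain ⟨m, ρ, hirr, rfl⟩ := hξ
    have hle : H ≤ MonoidHom.ker ρ := fun h hh =>
      (Cfsg.Agent.Lib.Helper79.rep_mem_ker_iff ρ h).mpr (hcon h hh)
    have htop := hnc _ (MonoidHom.normal_ker ρ) hle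
    intro g
    exact (Cfsg.Agent.Lib.Helper79.rep_mem_ker_iff ρ g).mp (htop ▸ Subgroup.mem_top g)
  have h1 := Cfsg.Agent.Lib.Helper3.classInner_irr hξ htriv
  have h2 : classInner ξ (fun _ => (1 : ℂ)) = (d : ℂ) := by
    rw [classInner_def]
    have e : ∀ g : G, ξ g * conj ((fun _ : G => (1 : ℂ)) g) = (d : ℂ) := by
      intro g
      have hd' : ξ 1 = (d : ℂ) := hd
      simp [hconst g, hd']
    rw [Finset.sum_congr rfl fun g _ => e g, Finset.sum_const, Finset.card_univ, nsmul_eq_mul,
      Nat.card_eq_fintype_card, ← mul_assoc]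
    have : (Fintype.card G : ℂ) ≠ 0 := by exact_mod_cast Fintype.card_ne_zero
    rw [inv_mul_cancel₀ this, one_mul]
  rw [h2] at h1
  by_contra hne'
  rw [if_neg hne'] at h1
  exact hd0 (by exact_mod_cast h1)

end FTFinal

end Cfsg.Agent.Lib.Helper81
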