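import Cfsg.Agent.Lib.Helper3.Degree
import Cfsg.Agent.Lib.Helper3.Omega
import Cfsg.Agent.Lib.Helper3.CharOps
import Cfsg.Agent.Lib.Helper25.CharUtil
import Cfsg.Agent.Lib.Helper79.Basic

set_option autoImplicit false

/-!
# Generalized characters with integer coefficients; `p`-parts of inner products
-/

namespace Cfsg.Agent.Lib.Helper81

open Cfsg
open scoped ComplexConjugate

universe u

section

variable {G : Type u} [Group G]

/-- An integer combination of irreducible characters is a generalized character. -/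
theorem isGeneralizedCharacter_sum_int [Fintype (IrrCharacter G)] (c : IrrCharacter G → ℤ) :
    IsGeneralizedCharacter G (∑ ψ : IrrCharacter G, (c ψ : ℂ) • (ψ : G → ℂ)) := by
  refine ⟨∑ ψ : IrrCharacter G, (((c ψ).toNat : ℕ) : ℂ) • (ψ : G → ℂ),
    ∑ ψ : IrrCharacter G, (((-c ψ).toNat : ℕ) : ℂ) • (ψ : G → ℂ), ?_, ?_, ?_⟩
  · exact Cfsg.Agent.Lib.Helper3.IsCharacter.sum _ _ (fun ψ _ =>
      Cfsg.Agent.Lib.Helper3.IsCharacter.nsmul
        (Cfsg.Agent.Lib.Helper3.IsIrrCharacter.isCharacter ψ.2) _)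
  · exact Cfsg.Agent.Lib.Helper3.IsCharacter.sum _ _ (fun ψ _ =>
      Cfsg.Agent.Lib.Helper3.IsCharacter.nsmul
        (Cfsg.Agent.Lib.Helper3.IsIrrCharacter.isCharacter ψ.2) _)
  · rw [← Finset.sum_sub_distrib]
    refine Finset.sum_congr rfl fun ψ _ => ?_
    rw [← sub_smul]
    congr 1
    have h1 := Int.toNat_sub_toNat_neg (c ψ)
    have h2 : ((c ψ : ℤ) : ℂ) = (((c ψ).toNat : ℤ) : ℂ) - (((-c ψ).toNat : ℤ) : ℂ) := by
      rw [← Int.cast_sub, h1]
    rw [h2]
    push_cast
    rfl

/-- A class function all of whose inner products with irreducible characters are integers is a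
generalized character. -/
theorem isGeneralizedCharacter_of_classInner_int [Fintype G] {f : G → ℂ}
    (hf : IsClassFunction G f)
    (h : ∀ ψ : IrrCharacter G, ∃ z : ℤ, classInner f (ψ : G → ℂ) = (z : ℂ)) :
    IsGeneralizedCharacter G f := by
  classical
  have : Finite (IrrCharacter G) := Cfsg.Agent.Lib.Helper3.irrCharacter_finite
  have : Fintype (IrrCharacter G) := Fintype.ofFinite _
  choose c hc using h
  have h1 := Cfsg.Agent.Lib.Helper3.classFunction_eq_sum hf
  rw [h1]
  have h2 : ∑ χ : IrrCharacter G, classInner f (χ : G → ℂ) • (χ : G → ℂ) =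
      ∑ ψ : IrrCharacter G, (c ψ : ℂ) • (ψ : G → ℂ) :=
    Finset.sum_congr rfl fun ψ _ => by rw [hc ψ]
  rw [h2]
  exact isGeneralizedCharacter_sum_int c

/-- The sum of a generalized character over a subgroup is an integer multiple of the order of
the subgroup. -/
theorem sum_subgroup_genChar [Finite G] (S : Subgroup G) [Fintype S] {η : G → ℂ}
    (hη : IsGeneralizedCharacter G η) :
    ∃ k : ℤ, ∑ s : S, η (s : G) = (Nat.card S : ℂ) * (k : ℂ) := by
  have key : ∀ ψ : G → ℂ, IsCharacter G ψ →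
      ∃ d : ℕ, ∑ s : S, ψ (s : G) = (Nat.card S : ℂ) * (d : ℂ) := by
    intro ψ hψ
    obtain ⟨n, ρ, rfl⟩ := hψ
    let σ : Representation ℂ S (Fin n → ℂ) := ρ.comp S.subtype
    have hS0 : (Nat.card S : ℂ) ≠ 0 := by
      exact_mod_cast (Nat.card_pos (α := S)).ne'
    have : Invertible (Nat.card S : ℂ) := invertibleOfNonzero hS0
    have h := Representation.card_inv_mul_sum_char_eq_finrank σ
    refine ⟨Module.finrank ℂ (Representation.invariants σ), ?_⟩
    have h2 : ∑ s : S, σ.character s =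
        (Nat.card S : ℂ) * (Module.finrank ℂ (Representation.invariants σ) : ℂ) := by
      rw [← h, ← mul_assoc, mul_inv_cancel₀ hS0, one_mul]
    exact h2
  obtain ⟨α, β, hα, hβ, rfl⟩ := hη
  obtain ⟨d1, h1⟩ := key α hα
  obtain ⟨d2, h2⟩ := key β hβ
  refine ⟨(d1 : ℤ) - d2, ?_⟩
  simp only [Pi.sub_apply, Finset.sum_sub_distrib, h1, h2]
  push_cast
  ring

/-- The `p`-part of the degree of an irreducible character `χ` divides every (integer) inner
product of `p^a · χ · 1_{p-regular}` with a character. -/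
theorem pow_factorization_dvd_classInner [Fintype G] (p : ℕ) [hp : Fact p.Prime] {χ ψ : G → ℂ}
    (hχ : IsIrrCharacter G χ) (hψ : IsCharacter G ψ) (m : ℤ)
    (hm : classInner (fun x => if p ∣ orderOf x then (0 : ℂ) else
      ((p ^ (Nat.card G).factorization p : ℕ) : ℂ) * χ x) ψ = (m : ℂ)) :
    ((p ^ (charDegree χ).factorization p : ℕ) : ℤ) ∣ m := by
  classical
  obtain ⟨n, ρ, hρ, rfl⟩ := hχ
  rw [Cfsg.Agent.Lib.Helper79.charDegree_rep]
  have hV : Nontrivial (Fin n → ℂ) := ((Cfsg.Agent.Lib.Helper3.isIrreducible_iff ρ).mp hρ).1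
  have hfr : Module.finrank ℂ (Fin n → ℂ) = n := Module.finrank_fin_fun ℂ
  have hn0 : n ≠ 0 := by
    rw [← hfr]
    exact (Module.finrank_pos (R := ℂ) (M := Fin n → ℂ)).ne'
  have hnC : (n : ℂ) ≠ 0 := by exact_mod_cast hn0
  have hψcf : IsClassFunction G ψ := Cfsg.Agent.Lib.Helper3.IsCharacter.isClassFunction hψ
  have hχcf : IsClassFunction G ρ.character :=
    Cfsg.Agent.Lib.Helper3.IsCharacter.isClassFunction ⟨n, ρ, rfl⟩
  set F : G → ℂ := fun g =>
    (if p ∣ orderOf g then (0 : ℂ) else ρ.character g * conj (ψ g)) / (n : ℂ) with hF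
  have hFcf : IsClassFunction G F := by
    intro g h
    have h1 : orderOf (h * g * h⁻¹) = orderOf g :=
      orderOf_injective (MulAut.conj h).toMonoidHom (MulAut.conj h).injective g
    simp only [hF, h1, hχcf g h, hψcf g h]
  have hconj : ∀ g : G, IsIntegral ℤ (conj (ψ g)) := by
    intro g
    obtain ⟨k, σ, rfl⟩ := hψ
    rw [← Cfsg.Agent.Lib.Helper3.character_inv σ g]
    exact Cfsg.Agent.Lib.Helper3.isIntegral_character σ g⁻¹
  have hint : IsIntegral ℤ (∑ g : G, F g) := by
    apply Cfsg.Agent.Lib.Helper3.isIntegral_sum_of_class hFcf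
    intro g
    by_cases hg : p ∣ orderOf g
    · simp only [hF, if_pos hg, zero_div, mul_zero]
      exact isIntegral_zero
    · simp only [hF, if_neg hg]
      have h1 := Cfsg.Agent.Lib.Helper3.isIntegral_omega ρ g
      rw [hfr] at h1
      have h3 := h1.mul (hconj g)
      have heq : ((Subgroup.centralizer ({g} : Set G)).index : ℂ) *
          (ρ.character g * conj (ψ g) / (n : ℂ)) =
          ((Subgroup.centralizer ({g} : Set G)).index : ℂ) * ρ.character g / (n : ℂ) *
            conj (ψ g) := by ring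
      rw [heq]
      exact h3
  -- relate to the inner product
  set a := (Nat.card G).factorization p with ha
  set n' := Nat.card G / p ^ a with hn'
  have hcard : Nat.card G = p ^ a * n' := by
    rw [hn']
    exact (Nat.mul_div_cancel' (Nat.ordProj_dvd (Nat.card G) p)).symm
  have hcardC : (Nat.card G : ℂ) ≠ 0 := by exact_mod_cast Nat.card_pos.ne'
  have hpa : ((p ^ a : ℕ) : ℂ) ≠ 0 := by
    exact_mod_cast (pow_pos hp.out.pos a).ne'
  have hrel : (m : ℂ) * (n' : ℂ) = (n : ℂ) * ∑ g : G, F g := by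
    rw [← hm, Cfsg.Agent.Lib.Helper25.classInner_def]
    have h1 : ∀ g : G, (if p ∣ orderOf g then (0 : ℂ) else ((p ^ a : ℕ) : ℂ) * ρ.character g) *
        conj (ψ g) = ((p ^ a : ℕ) : ℂ) * ((n : ℂ) * F g) := by
      intro g
      by_cases hg : p ∣ orderOf g
      · simp only [hF, if_pos hg, zero_mul, zero_div, mul_zero]
      · simp only [hF, if_neg hg]
        field_simp
    rw [Finset.sum_congr rfl (fun g _ => h1 g), ← Finset.mul_sum, ← Finset.mul_sum, hcard]
    push_cast
    have hn'C : (n' : ℂ) ≠ 0 := by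
      intro h0
      apply hcardC
      rw [hcard]
      push_cast
      rw [h0, mul_zero]
    have hpa' : (p : ℂ) ^ a ≠ 0 := by
      have := hpa
      push_cast at this
      exact this
    field_simp
  -- the sum is a rational number, hence an integer
  have hsum : ∑ g : G, F g = (((m : ℚ) * (n' : ℚ) / (n : ℚ) : ℚ) : ℂ) := by
    push_cast
    rw [hrel]
    field_simp
  rw [hsum] at hint
  obtain ⟨z, hz⟩ := Cfsg.Agent.Lib.Helper3.int_of_isIntegral_ratCast hint
  have hnQ : (n : ℚ) ≠ 0 := by exact_mod_cast hn0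
  have h2 : (m : ℚ) * (n' : ℚ) = (z : ℚ) * (n : ℚ) := by
    rw [hz]
    field_simp
  have h3 : m * (n' : ℤ) = z * (n : ℤ) := by exact_mod_cast h2
  -- divisibility
  set b := n.factorization p with hb
  have hpb : ((p ^ b : ℕ) : ℤ) ∣ z * (n : ℤ) :=
    Dvd.dvd.mul_left (Int.natCast_dvd_natCast.mpr (Nat.ordProj_dvd n p)) z
  rw [← h3] at hpb
  have hcop : IsCoprime ((p ^ b : ℕ) : ℤ) (n' : ℤ) := by
    rw [Nat.isCoprime_iff_coprime]
    exact Nat.Coprime.pow_left b (Nat.coprime_ordCompl hp.out Nat.card_pos.ne')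
  exact hcop.dvd_of_dvd_mul_right hpb

end

end Cfsg.Agent.Lib.Helper81
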