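import Mathlib
import Cfsg.Prelude.Def_OddOrderLocal
import Cfsg.Agent.Lib.Helper32.BG142Defs
import Cfsg.Agent.Lib.Helper47.BG11e
import Cfsg.Agent.Lib.Helper63.BG13a

/-!
# BG 14.2 leaf G0 (for helper32, S1430)
-/

set_option autoImplicit false
set_option linter.style.haveILetI false
set_option linter.unusedSectionVars false
set_option linter.unusedVariables false

namespace Cfsg.Agent.Lib.Helper32.BG142

open Subgroup Cfsg

universe u

variable {G : Type u} [Group G] [Finite G]

/-- LEAF G0: a Hall `κ(M)`-subgroup lies in a complement of `M_σ`. -/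
theorem exists_compl_ge_kappa (hG : IsMinSimpleOddOrder G) {M K : Subgroup G} (hM : IsCoatom M)
    (hK : IsPiHallOf (kappa M) K M) : ∃ E : Subgroup G, IsComplIn E (sigmaCore M) M ∧ K ≤ E := by
  have hσ := Cfsg.Agent.Lib.Helper47.BG11.sigmaHallIn_of_coatom hG hM
  refine Cfsg.Agent.Lib.Helper63.BG13.exists_compl_ge hG hM.1 hσ hK.1 ?_
  by_contra hnc
  obtain ⟨p, hp, hpK, hpW⟩ := Nat.Prime.not_coprime_iff_dvd.mp hnc
  have h1 : p ∈ kappa M := hK.2.1 p hp hpK
  have h2 : p ∈ sigma M := hσ.2.1 p hp hpW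
  exact h1.2.2.1 h2

end Cfsg.Agent.Lib.Helper32.BG142
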