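import Mathlib
import Cfsg.Agent.Lib.Helper91.BG152Defs
import Cfsg.Agent.Lib.Helper21.BG152B0

/-!
# BG 15.2, abstract part: generic lemmas around B0 (the exact leaves `card_eq`, `Q_le_H` are
helper21's, `Cfsg.Agent.Lib.Helper21.BG152B0`) and a generic Sylow lemma
(`card_eq_exists_mem`): a normal subgroup of `M = H K` (coprime) not inside `H` meets `K`
in an element of prime order.
-/

set_option autoImplicit false
set_option linter.style.haveILetI false
set_option linter.unusedVariables false
set_option linter.unusedSectionVars false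

namespace Cfsg.Agent.Lib.Helper91.BG152

open Subgroup
open scoped Pointwise

universe u
variable {M : Type u} [Group M] [Finite M] {H K Q : Subgroup M} {q : ℕ}

/-- generic: `H` normal, `H ⊔ K = ⊤`, coprime orders. -/
theorem card_eq_generic [H.Normal] (hsup : H ⊔ K = ⊤)
    (hcop : (Nat.card H).Coprime (Nat.card K)) :
    H ⊓ K = ⊥ ∧ Nat.card M = Nat.card H * Nat.card K ∧ H.index = Nat.card K := by
  have hbot : H ⊓ K = ⊥ := (Subgroup.disjoint_of_coprime_natCard hcop).eq_bot
  have hidx : H.index = Nat.card K := by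
    have h1 : H.relIndex (H ⊔ K) = H.relIndex K := Subgroup.relIndex_sup_left K H
    rw [hsup, Subgroup.relIndex_top_right] at h1
    rw [h1, ← Subgroup.inf_relIndex_right, hbot, Subgroup.relIndex_bot_left]
  refine ⟨hbot, ?_, hidx⟩
  rw [← hidx, Subgroup.card_mul_index]

/-- an element whose order is prime to the index of the normal subgroup `H` lies in `H`. -/
theorem Q_le_H_mem_of_coprime [H.Normal] {x : M} (hx : (H.index).Coprime (orderOf x)) :
    x ∈ H := by
  obtain ⟨m, hm⟩ := exists_pow_eq_self_of_coprime hx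
  rw [← hm]
  exact Subgroup.pow_mem _ (Subgroup.pow_index_mem H x) m

/-- `q ∤ |K|`. -/
theorem h81_not_dvd_card_K (h : CfgB H K Q q) : ¬ q ∣ Nat.card K := by
  intro h2
  have h1 : q ∣ Nat.card H := Q_le_H_dvd h
  have := Nat.eq_one_of_dvd_coprimes h.cop h1 h2
  exact h.qp.one_lt.ne' this

/-- GENERIC (Sylow): `M = H K` with `H` normal, coprime orders; a normal subgroup `C` not inside
`H` contains an element of prime order of `K`. -/
theorem card_eq_exists_mem [H.Normal] (hcard : Nat.card M = Nat.card H * Nat.card K)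
    (hcop : (Nat.card H).Coprime (Nat.card K)) (C : Subgroup M) [C.Normal] (hC : ¬ C ≤ H) :
    ∃ k ∈ K, k ∈ C ∧ (orderOf k).Prime := by
  classical
  have hidx : H.index = Nat.card K := by
    have h1 := Subgroup.card_mul_index H
    rw [hcard] at h1
    exact Nat.eq_of_mul_eq_mul_left Nat.card_pos h1
  -- the image of `C` in `M ⧸ H`
  have hne : C.map (QuotientGroup.mk' H) ≠ ⊥ := by
    intro hb
    rw [Subgroup.map_eq_bot_iff, QuotientGroup.ker_mk'] at hb
    exact hC hb
  have hc1 : Nat.card (C.map (QuotientGroup.mk' H)) ≠ 1 := by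
    intro h1
    exact hne (Subgroup.card_eq_one.mp h1)
  obtain ⟨r, hr, hrdvd⟩ := Nat.exists_prime_and_dvd hc1
  have hrC : r ∣ Nat.card C := hrdvd.trans (Subgroup.card_map_dvd _ _)
  have hrK : r ∣ Nat.card K := by
    rw [← hidx]
    exact hrdvd.trans (Subgroup.card_subgroup_dvd_card _)
  have hrH : ¬ r ∣ Nat.card H := by
    intro h2
    exact hr.one_lt.ne' (Nat.eq_one_of_dvd_coprimes hcop h2 hrK)
  haveI : Fact r.Prime := ⟨hr⟩
  obtain ⟨y, hy⟩ := exists_prime_orderOf_dvd_card' (G := C) r hrC
  have hyo : orderOf (y : M) = r := by rw [Subgroup.orderOf_coe]; exact hy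
  -- a Sylow subgroup containing `y`
  have hpz : IsPGroup r (Subgroup.zpowers (y : M)) := by
    apply IsPGroup.of_card (n := 1)
    rw [Nat.card_zpowers, hyo, pow_one]
  obtain ⟨P, hP⟩ := hpz.exists_le_sylow
  -- a Sylow subgroup inside `K`
  obtain ⟨S⟩ := (Sylow.nonempty : Nonempty (Sylow r K))
  have hScard : Nat.card ((S : Subgroup K).map K.subtype) = r ^ (Nat.card M).factorization r := by
    rw [Subgroup.card_map_of_injective K.subtype_injective, Sylow.card_eq_multiplicity, hcard,
      Nat.factorization_mul Nat.card_pos.ne' Nat.card_pos.ne']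
    simp [Nat.factorization_eq_zero_of_not_dvd hrH]
  set S' : Sylow r M := Sylow.ofCard ((S : Subgroup K).map K.subtype) hScard with hS'
  obtain ⟨g, hg⟩ := MulAction.exists_smul_eq M P S'
  refine ⟨g * y * g⁻¹, ?_, ?_, ?_⟩
  · have h1 : (y : M) ∈ (P : Subgroup M) := hP (Subgroup.mem_zpowers _)
    have h2 : MulAut.conj g • (y : M) ∈ MulAut.conj g • (P : Subgroup M) :=
      Subgroup.smul_mem_pointwise_smul _ _ _ h1
    have h3 : (MulAut.conj g • (P : Subgroup M)) = ((g • P : Sylow r M) : Subgroup M) := rfl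
    rw [h3, hg, hS', Sylow.coe_ofCard] at h2
    obtain ⟨z, hz, hzy⟩ := Subgroup.mem_map.mp h2
    have h4 : g * y * g⁻¹ = K.subtype z := by
      rw [hzy]; rfl
    rw [h4]
    exact z.2
  · exact (inferInstance : C.Normal).conj_mem _ y.2 g
  · have h5 : orderOf (g * (y : M) * g⁻¹) = orderOf (y : M) := by
      have := MulEquiv.orderOf_eq (MulAut.conj g) (y : M)
      simpa [MulAut.conj_apply] using this
    rw [h5, hyo]
    exact hr

end Cfsg.Agent.Lib.Helper91.BG152
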