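import Mathlib
import Cfsg.Agent.Lib.Helper91.BG152Defs
import Cfsg.Agent.Lib.Helper22.Fitting
import Cfsg.Agent.Lib.Helper81.BG152B0

/-!
# BG 15.2, abstract part: leaves B6 (`centralizer_Q_le`) and B8 (`fitting_le_H`),
in the form "given the earlier leaf as a hypothesis" (B6 needs B3 `map_nilpotent`,
B8 needs B6).
-/

set_option autoImplicit false
set_option linter.style.haveILetI false
set_option linter.unusedVariables false
set_option linter.unusedSectionVars false

namespace Cfsg.Agent.Lib.Helper91.BG152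

open Subgroup
open scoped Pointwise

universe u
variable {M : Type u} [Group M] [Finite M] {H K Q : Subgroup M} {q : ℕ}

/-- B6 from B3. -/
theorem centralizer_Q_le_of [H.Normal] [Q.Normal] (h : CfgB H K Q q)
    (hB3 : Group.IsNilpotent ↥(H.map (QuotientGroup.mk' Q))) :
    centralizer (Q : Set M) ≤ H := by
  by_contra hC
  haveI : (centralizer (Q : Set M)).Normal := Subgroup.normal_centralizer
  obtain ⟨hbot, hcard, hidx⟩ := card_eq h
  obtain ⟨k, hkK, hkC, hko⟩ := card_eq_exists_mem hcard h.cop (centralizer (Q : Set M)) hC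
  have hk1 : k ≠ 1 := by
    rintro rfl
    rw [orderOf_one] at hko
    exact Nat.not_prime_one hko
  have hQH := Q_le_H h
  have hQk : Q ≤ H ⊓ centralizer ({k} : Set M) := by
    refine le_inf hQH ?_
    intro x hx
    rw [Subgroup.mem_centralizer_iff]
    intro z hz
    rw [Set.mem_singleton_iff] at hz
    subst hz
    exact ((Subgroup.mem_centralizer_iff.mp hkC) x hx).symm
  rw [h.pa k hkK hk1] at hQk
  have hKC : K ≤ centralizer (Q : Set M) := by
    rw [Subgroup.le_centralizer_iff]
    exact hQk.trans inf_le_right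
  have hHC : H ≤ centralizer (Q : Set M) := by
    have h1 : ⁅H, K⁆ ≤ centralizer (Q : Set M) :=
      (Subgroup.commutator_mono le_rfl hKC).trans (Subgroup.commutator_le_right _ _)
    rwa [h.comm] at h1
  apply h.nn
  haveI := hB3
  refine Subgroup.isNilpotent_of_ker_le_center ((QuotientGroup.mk' Q).subgroupMap H) ?_
  intro x hx
  rw [MonoidHom.mem_ker] at hx
  have hxQ : (x : M) ∈ Q := by
    have h2 := congrArg Subtype.val hx
    have h3 : (QuotientGroup.mk' Q) (x : M) = 1 := h2
    exact (QuotientGroup.eq_one_iff _).mp h3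
  rw [Subgroup.mem_center_iff]
  intro y
  apply Subtype.ext
  have h4 := (Subgroup.mem_centralizer_iff.mp (hHC y.2)) (x : M) hxQ
  exact h4.symm

/-- B8 from B6. -/
theorem fitting_le_H_of [H.Normal] [Q.Normal] (h : CfgB H K Q q)
    (hB6 : centralizer (Q : Set M) ≤ H) : Cfsg.fittingSubgroup M ≤ H := by
  by_contra hF
  haveI : (Cfsg.fittingSubgroup M).Normal := Cfsg.Agent.Lib.Helper22.fittingSubgroup_normal M
  obtain ⟨hbot, hcard, hidx⟩ := card_eq h
  obtain ⟨k, hkK, hkF, hko⟩ := card_eq_exists_mem hcard h.cop (Cfsg.fittingSubgroup M) hF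
  have hk1 : k ≠ 1 := by
    rintro rfl
    rw [orderOf_one] at hko
    exact Nat.not_prime_one hko
  haveI : Fact q.Prime := ⟨h.qp⟩
  haveI : Fact (orderOf k).Prime := ⟨hko⟩
  have hQF : Q ≤ Cfsg.fittingSubgroup M :=
    Cfsg.Agent.Lib.Helper22.le_fittingSubgroup inferInstance (IsPGroup.isNilpotent h.pQ)
  have hrK : orderOf k ∣ Nat.card K := Subgroup.orderOf_dvd_natCard K hkK
  have hrq : orderOf k ≠ q := fun e => h81_not_dvd_card_K h (e ▸ hrK)
  haveI hFn : Group.IsNilpotent (Cfsg.fittingSubgroup M) :=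
    Cfsg.Agent.Lib.Helper22.fittingSubgroup_isNilpotent
  have hpQ' : IsPGroup q (Q.subgroupOf (Cfsg.fittingSubgroup M)) := h.pQ.comap_subtype
  obtain ⟨P, hP⟩ := hpQ'.exists_le_sylow
  have hpk : IsPGroup (orderOf k)
      (Subgroup.zpowers (⟨k, hkF⟩ : Cfsg.fittingSubgroup M)) := by
    apply IsPGroup.of_card (n := 1)
    rw [Nat.card_zpowers, pow_one]
    exact Subgroup.orderOf_mk k hkF
  obtain ⟨R, hR⟩ := hpk.exists_le_sylow
  have hdis : Disjoint (P : Subgroup (Cfsg.fittingSubgroup M))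
      (R : Subgroup (Cfsg.fittingSubgroup M)) :=
    IsPGroup.disjoint_of_ne q (orderOf k) hrq.symm _ _ P.isPGroup' R.isPGroup'
  have hkC : k ∈ centralizer (Q : Set M) := by
    rw [Subgroup.mem_centralizer_iff]
    intro x hx
    have hxP : (⟨x, hQF hx⟩ : Cfsg.fittingSubgroup M) ∈ (P : Subgroup (Cfsg.fittingSubgroup M)) := by
      apply hP
      rw [Subgroup.mem_subgroupOf]
      exact hx
    have hc := Subgroup.commute_of_normal_of_disjoint _ _
      (inferInstance : (P : Subgroup (Cfsg.fittingSubgroup M)).Normal)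
      (inferInstance : (R : Subgroup (Cfsg.fittingSubgroup M)).Normal) hdis
      ⟨x, hQF hx⟩ ⟨k, hkF⟩ hxP (hR (Subgroup.mem_zpowers _))
    exact congrArg Subtype.val hc.eq
  have hkH : k ∈ H := hB6 hkC
  have hmem : k ∈ H ⊓ K := ⟨hkH, hkK⟩
  rw [hbot] at hmem
  exact hk1 (Subgroup.mem_bot.mp hmem)

end Cfsg.Agent.Lib.Helper91.BG152
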