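import Mathlib
import Cfsg.Agent.Lib.Helper91.BG152Defs
import Cfsg.Agent.Lib.Helper81.BG152B6a
import Cfsg.Agent.Lib.Helper62.BG152B3m

/-!
# BG 15.2, abstract part: leaves B6 (`centralizer_Q_le`) and B8 (`fitting_le_H`), exact names.
-/

set_option autoImplicit false

namespace Cfsg.Agent.Lib.Helper91.BG152

open Subgroup

universe u
variable {M : Type u} [Group M] [Finite M] {H K Q : Subgroup M} {q : ℕ}

/-- B6. `C_M(Q) ≤ H`. -/
theorem centralizer_Q_le [H.Normal] [Q.Normal] (h : CfgB H K Q q) :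
    centralizer (Q : Set M) ≤ H :=
  centralizer_Q_le_of h (map_nilpotent h)

/-- B8. `F(M) ≤ H`. -/
theorem fitting_le_H [H.Normal] [Q.Normal] (h : CfgB H K Q q) : Cfsg.fittingSubgroup M ≤ H :=
  fitting_le_H_of h (centralizer_Q_le h)

end Cfsg.Agent.Lib.Helper91.BG152
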