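import Cfsg.Agent.Lib.Helper81.AlgSpan
import Cfsg.Agent.Lib.Helper81.LocalRing
import Cfsg.Agent.Lib.Helper80.JointEigen

set_option autoImplicit false
set_option linter.unusedSectionVars false

/-!
# Character values modulo a maximal ideal above `p`: `p`-sections
-/

namespace Cfsg.Agent.Lib.Helper81

open Cfsg
open scoped ComplexConjugate

universe u

section

variable {p : ℕ} {M : Ideal AlgInt}

theorem charP_quotient_of_isPModular (hpM : IsPModular p M) : CharP (AlgInt ⧸ M) p :=
  ⟨fun x => by
    rw [← map_natCast (Ideal.Quotient.mk M), Ideal.Quotient.eq_zero_iff_mem, natCast_mem_iff hpM]⟩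

theorem memLocalIdeal_sub_one_of_pow_pow_eq_one (hpM : IsPModular p M) (z : ℂ) (k : ℕ)
    (hz : z ^ (p ^ k) = 1) : MemLocalIdeal M (z - 1) := by
  have hM : M.IsPrime := isPrime_of_isPModular hpM
  have hp : p.Prime := hpM.1
  have hint : IsIntegral ℤ z :=
    IsIntegral.of_pow (pow_pos hp.pos k) (by rw [hz]; exact isIntegral_one)
  let a : AlgInt := ⟨z, hint⟩
  have ha : a ^ (p ^ k) = 1 := Subtype.ext (by simpa using hz)
  have : Fact p.Prime := ⟨hp⟩
  have : CharP (AlgInt ⧸ M) p := charP_quotient_of_isPModular hpM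
  have h1 : (Ideal.Quotient.mk M) ((a - 1) ^ (p ^ k)) = 0 := by
    rw [map_pow, map_sub, map_one, sub_pow_char_pow, one_pow, ← map_pow, ha, map_one, sub_self]
  have h2 : (a - 1) ^ (p ^ k) ∈ M := Ideal.Quotient.eq_zero_iff_mem.mp h1
  have h3 : a - 1 ∈ M := hM.mem_of_pow_mem _ h2
  have := memLocalIdeal_of_mem hM h3
  simpa [a] using this

variable {G : Type u} [Group G] [Finite G]

/-- Multiplying by a commuting `p`-element does not change a character value modulo `M`. -/
theorem memLocalIdeal_char_mul_sub (hpM : IsPModular p M) {χ : G → ℂ} (hχ : IsCharacter G χ)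
    (a x : G) (hcomm : a * x = x * a) (ha : ∃ k : ℕ, orderOf a = p ^ k) :
    MemLocalIdeal M (χ (a * x) - χ x) := by
  have hM : M.IsPrime := isPrime_of_isPModular hpM
  obtain ⟨k, hk⟩ := ha
  obtain ⟨n, α, β, hα, hβ, hval⟩ :=
    Cfsg.Agent.Lib.Helper80.exists_joint_eigenvalues hχ a x hcomm
  have h1 := hval 1 1
  have h2 := hval 0 1
  simp only [pow_one, pow_zero, one_mul] at h1 h2
  rw [h1, h2, ← Finset.sum_sub_distrib]
  apply memLocalIdeal_sum hM
  intro i _
  have h3 : α i * β i - β i = (α i - 1) * β i := by ring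
  rw [h3]
  apply memLocalIdeal_mul_right hM
  · apply memLocalIdeal_sub_one_of_pow_pow_eq_one hpM _ k
    rw [← hk]
    exact hα i
  · have hint : IsIntegral ℤ (β i) :=
      IsIntegral.of_pow (orderOf_pos x) (by rw [hβ i]; exact isIntegral_one)
    exact memLocalRing_algInt hM ⟨β i, hint⟩

/-- Functions in the span of the irreducible characters over the algebraic integers respect
congruences modulo `M` between all irreducible characters. -/
theorem memLocalIdeal_sub_of_mem_algSpan (hM : M.IsPrime) {x y : G}
    (h : ∀ χ : IrrCharacter G, MemLocalIdeal M ((χ : G → ℂ) x - (χ : G → ℂ) y)) {f : G → ℂ}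
    (hf : f ∈ algSpan G) : MemLocalIdeal M (f x - f y) := by
  induction hf using Submodule.span_induction with
  | mem f hf =>
    obtain ⟨χ, rfl⟩ := hf
    exact h χ
  | zero =>
    simp only [Pi.zero_apply, sub_self]
    exact memLocalIdeal_zero hM
  | add f g _ _ hf hg =>
    have : (f + g) x - (f + g) y = (f x - f y) + (g x - g y) := by
      simp only [Pi.add_apply]
      ring
    rw [this]
    exact memLocalIdeal_add hM hf hg
  | smul a f _ hf =>
    have : (a • f) x - (a • f) y = (a : ℂ) * (f x - f y) := by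
      simp only [algInt_smul_apply]
      ring
    rw [this]
    exact memLocalIdeal_mul_left hM (memLocalRing_algInt hM a) hf

end

end Cfsg.Agent.Lib.Helper81
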