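import Cfsg.Agent.Lib.Helper81.QuasiElem
import Cfsg.Agent.Lib.Helper25.Ind
import Cfsg.Agent.Lib.Helper3.IndAlg
import Cfsg.Agent.S0147
import Cfsg.Agent.Lib.Helper24.Coprime
import Cfsg.Agent.Lib.Helper3.Induced
import Cfsg.Agent.Lib.Helper3.CharOps
import Cfsg.Agent.Lib.Helper15.IrrCrit
import Cfsg.Agent.Lib.Helper79.Basic
import Cfsg.Agent.Lib.Helper81.OneIrr

set_option autoImplicit false

/-!
# Brauer's induction theorem: the span of characters induced from linear characters of
elementary subgroups
-/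

namespace Cfsg.Agent.Lib.Helper81

open Cfsg Cfsg.Agent.Lib.Helper25

universe u

section Span

variable (G : Type u) [Group G] [Fintype G]

/-- Characters induced from linear characters of elementary subgroups. -/
def brauerGen : Set (G → ℂ) :=
  {f | ∃ (E : Subgroup G) (lam : E →* ℂˣ), (∃ p : ℕ, p.Prime ∧ IsElementary p E) ∧
    f = indFun E (fun e => ((lam e : ℂˣ) : ℂ))}

/-- The additive group generated by `brauerGen`. -/
def brauerSpan : AddSubgroup (G → ℂ) := AddSubgroup.closure (brauerGen G)

end Span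

section Trans

variable {G : Type u} [Group G] [Fintype G]

theorem indFun_congr_subgroup (E₁ E₂ : Subgroup G) (h : E₁ = E₂) (θ₁ : E₁ → ℂ) (θ₂ : E₂ → ℂ)
    (hθ : ∀ (x : G) (h₁ : x ∈ E₁) (h₂ : x ∈ E₂), θ₁ ⟨x, h₁⟩ = θ₂ ⟨x, h₂⟩) :
    indFun E₁ θ₁ = indFun E₂ θ₂ := by
  subst h
  congr
  funext x
  exact hθ x.1 x.2 x.2

/-- Transitivity of induction for a subgroup of a subgroup. -/
theorem indFun_indFun_map (K : Subgroup G) [Fintype K] (E : Subgroup K) (θ : E → ℂ) :
    indFun K (indFun E θ) = indFun (E.map K.subtype)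
      (fun x => θ ((E.equivMapOfInjective K.subtype K.subtype_injective).symm x)) := by
  have hle : E.map K.subtype ≤ K := Subgroup.map_subtype_le E
  rw [← Cfsg.Agent.S0147.result (E.map K.subtype) K hle]
  congr 1
  apply indFun_congr_subgroup
  · exact (Subgroup.comap_map_eq_self_of_injective K.subtype_injective E).symm
  · intro x h₁ h₂
    congr 1
    apply (E.equivMapOfInjective K.subtype K.subtype_injective).injective
    rw [MulEquiv.apply_symm_apply]
    rfl


theorem isElementary_of_mulEquiv {p : ℕ} {E F : Type*} [Group E] [Group F] (e : E ≃* F)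
    (h : IsElementary p E) : IsElementary p F := by
  obtain ⟨x, hx, hcop, k, hk⟩ := h
  refine ⟨e x, ?_, ?_, k, ?_⟩
  · rw [Subgroup.mem_center_iff] at hx ⊢
    intro g
    obtain ⟨g', rfl⟩ := e.surjective g
    rw [← map_mul, ← map_mul, hx g']
  · rw [MulEquiv.orderOf_eq]
    exact hcop
  · have : Subgroup.zpowers (e x) = (Subgroup.zpowers x).map e.toMonoidHom := by
      rw [MonoidHom.map_zpowers]
      rfl
    rw [this]
    have h2 := Subgroup.index_map_equiv (Subgroup.zpowers x) e
    rw [← hk, ← h2]
    rfl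

/-- Induction maps the Brauer span of a subgroup into the Brauer span of the group. -/
theorem indFun_mem_brauerSpan (K : Subgroup G) [Fintype K] (f : K → ℂ)
    (hf : f ∈ brauerSpan K) : indFun K f ∈ brauerSpan G := by
  induction hf using AddSubgroup.closure_induction with
  | mem f hf =>
    obtain ⟨E, lam, ⟨p, hp, hE⟩, rfl⟩ := hf
    apply AddSubgroup.subset_closure
    refine ⟨E.map K.subtype,
      lam.comp (E.equivMapOfInjective K.subtype K.subtype_injective).symm.toMonoidHom,
      ⟨p, hp, isElementary_of_mulEquiv (E.equivMapOfInjective K.subtype K.subtype_injective) hE⟩,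
      ?_⟩
    rw [indFun_indFun_map]
    rfl
  | zero =>
    rw [indFun_zero]
    exact AddSubgroup.zero_mem _
  | add a b _ _ iha ihb =>
    rw [indFun_add]
    exact AddSubgroup.add_mem _ iha ihb
  | neg a _ iha =>
    rw [indFun_neg]
    exact AddSubgroup.neg_mem _ iha

end Trans

section QE

variable {H : Type u} [Group H] [Finite H]

/-- In a `p`-quasi-elementary group `C P = ⊤` for a Sylow `p`-subgroup `P`. -/
theorem sup_sylow_eq_top {p : ℕ} [hp : Fact p.Prime] (C : Subgroup H) {k : ℕ}
    (hk : C.index = p ^ k) (P : Sylow p H) : C ⊔ (P : Subgroup H) = ⊤ := by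
  rw [← Subgroup.index_eq_one]
  have h1 : (C ⊔ (P : Subgroup H)).index ∣ p ^ k := by
    rw [← hk]
    exact Subgroup.index_dvd_of_le le_sup_left
  have h2 : (C ⊔ (P : Subgroup H)).index ∣ (P : Subgroup H).index :=
    Subgroup.index_dvd_of_le le_sup_right
  obtain ⟨j, _, hj⟩ := (Nat.dvd_prime_pow hp.out).1 h1
  rcases Nat.eq_zero_or_pos j with h0 | hpos
  · rw [hj, h0, pow_zero]
  · exfalso
    apply P.not_dvd_index
    rw [hj] at h2
    exact (dvd_pow_self p hpos.ne').trans h2

/-- The elementary subgroup `C_C(P) P` of a quasi-elementary group. -/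
def elemSub (C P : Subgroup H) : Subgroup H := (C ⊓ Subgroup.centralizer (P : Set H)) ⊔ P

theorem isElementary_elemSub {p : ℕ} [hp : Fact p.Prime] (C : Subgroup H) (hcyc : IsCyclic C)
    (hcop : (Nat.card C).Coprime p) (P : Subgroup H) (hP : IsPGroup p P) :
    IsElementary p ↥(elemSub C P) := by
  set Z : Subgroup H := C ⊓ Subgroup.centralizer (P : Set H) with hZ
  set E : Subgroup H := elemSub C P with hE
  have hZE : Z ≤ E := le_sup_left
  have hPE : P ≤ E := le_sup_right
  have hZC : Z ≤ C := inf_le_left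
  have : IsCyclic Z := Subgroup.isCyclic_of_le hZC
  obtain ⟨g, hg⟩ := IsCyclic.exists_generator (α := Z)
  -- `g` is central in `E`
  have hcent : E ≤ Subgroup.centralizer ({(g : H)} : Set H) := by
    apply sup_le
    · intro z hz
      rw [Subgroup.mem_centralizer_singleton_iff]
      have hz' := hg ⟨z, hz⟩
      obtain ⟨i, hi⟩ := Subgroup.mem_zpowers_iff.1 hz'
      have : z = (g : H) ^ i := by
        have := congrArg Subtype.val hi
        simpa using this.symm
      rw [this]
      exact ((Commute.refl (g : H)).zpow_right i).eq.symm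
    · intro q hq
      rw [Subgroup.mem_centralizer_singleton_iff]
      have hgc : (g : H) ∈ Subgroup.centralizer (P : Set H) := (Subgroup.mem_inf.1 g.2).2
      rw [Subgroup.mem_centralizer_iff] at hgc
      exact hgc q hq
  let x : E := ⟨g, hZE g.2⟩
  have hxcent : ∀ e : E, e * x = x * e := by
    intro e
    have := hcent e.2
    rw [Subgroup.mem_centralizer_singleton_iff] at this
    exact Subtype.ext this
  refine ⟨x, ?_, ?_, ?_⟩
  · rw [Subgroup.mem_center_iff]
    exact hxcent
  · have h1 : orderOf x = orderOf (g : H) := by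
      rw [← Subgroup.orderOf_coe]
    have h2 : orderOf (g : H) ∣ Nat.card C := by
      have : orderOf (⟨g, hZC g.2⟩ : C) ∣ Nat.card C := orderOf_dvd_natCard _
      rwa [← Subgroup.orderOf_coe] at this
    rw [h1]
    exact Nat.Coprime.coprime_dvd_left h2 hcop
  · -- the index
    have hzp : Subgroup.zpowers x = Z.subgroupOf E := by
      ext e
      rw [Subgroup.mem_zpowers_iff, Subgroup.mem_subgroupOf]
      constructor
      · rintro ⟨i, rfl⟩
        simp only [Subgroup.coe_zpow]
        exact Z.zpow_mem g.2 i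
      · intro he
        obtain ⟨i, hi⟩ := Subgroup.mem_zpowers_iff.1 (hg ⟨e, he⟩)
        refine ⟨i, ?_⟩
        apply Subtype.ext
        have := congrArg Subtype.val hi
        simpa using this
    rw [hzp]
    have hnorm : (Z.subgroupOf E).Normal := by
      refine ⟨fun n hn e => ?_⟩
      rw [← hzp] at hn ⊢
      obtain ⟨i, rfl⟩ := Subgroup.mem_zpowers_iff.1 hn
      have hc : e * x ^ i = x ^ i * e := by
        have : Commute e x := hxcent e
        exact (this.zpow_right i).eq
      rw [hc, mul_inv_cancel_right]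
      exact Subgroup.zpow_mem_zpowers x i
    have htop : Z.subgroupOf E ⊔ P.subgroupOf E = ⊤ := by
      rw [← Subgroup.subgroupOf_sup hZE hPE]
      exact Subgroup.subgroupOf_self E
    have h1 : (Z.subgroupOf E).index = (Z.subgroupOf E).relIndex (P.subgroupOf E) := by
      rw [← Subgroup.relIndex_top_right, ← htop, Subgroup.relIndex_sup_left]
    have h2 : (Z.subgroupOf E).relIndex (P.subgroupOf E) ∣ Nat.card (P.subgroupOf E) :=
      Subgroup.index_dvd_card _
    have h3 : Nat.card (P.subgroupOf E) = Nat.card P :=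
      Nat.card_congr (Subgroup.subgroupOfEquivOfLe hPE).toEquiv
    obtain ⟨n, hn⟩ := IsPGroup.iff_card.1 hP
    rw [h3, hn] at h2
    obtain ⟨j, _, hj⟩ := (Nat.dvd_prime_pow hp.out).1 h2
    exact ⟨j, by rw [h1, hj]⟩

/-- A linear character of `C P` that is trivial on `C_C(P) P` is trivial. -/
theorem hom_eq_one_of_elemSub {p : ℕ} [hp : Fact p.Prime] (C : Subgroup H) [hCn : C.Normal]
    (hcyc : IsCyclic C) (hcop : (Nat.card C).Coprime p) {k : ℕ} (hk : C.index = p ^ k)
    (P : Sylow p H) (lam : H →* ℂˣ) (h : ∀ e ∈ elemSub C (P : Subgroup H), lam e = 1) :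
    lam = 1 := by
  have hPK : (P : Subgroup H) ≤ lam.ker := fun q hq =>
    h q ((le_sup_right : (P : Subgroup H) ≤ elemSub C (P : Subgroup H)) hq)
  have hZK : C ⊓ Subgroup.centralizer ((P : Subgroup H) : Set H) ≤ lam.ker :=
    fun z hz => h z ((le_sup_left : _ ≤ elemSub C (P : Subgroup H)) hz)
  have hcomm : ⁅C, (P : Subgroup H)⁆ ≤ lam.ker := by
    rw [Subgroup.commutator_le]
    intro c _ q _
    rw [MonoidHom.mem_ker, commutatorElement_def, map_mul, map_mul, map_mul, map_inv, map_inv]
    rw [mul_comm (lam c) (lam q), mul_assoc, mul_assoc, mul_inv_cancel_left, mul_inv_cancel]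
  have hPN : (P : Subgroup H) ≤ Subgroup.normalizer (C : Set H) := by
    rw [Subgroup.normalizer_eq_top_iff.2 hCn]
    exact le_top
  have hcop' : (Nat.card (P : Subgroup H)).Coprime (Nat.card C) := by
    obtain ⟨n, hn⟩ := IsPGroup.iff_card.1 P.isPGroup'
    rw [hn]
    exact (Nat.Coprime.pow_right n hcop).symm
  have hsolv : Group.IsSolvable (P : Subgroup H) ∨ Group.IsSolvable C := by
    right
    have : ∀ a b : C, a * b = b * a := by
      intro a b
      exact IsCyclic.commGroup.mul_comm a b
    exact Group.isSolvable_of_comm this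
  have hdecomp := Cfsg.Agent.Lib.Helper24.commutator_sup_centralizer_eq (P : Subgroup H) C hPN
    hcop' hsolv
  have hCK : C ≤ lam.ker := by
    rw [← hdecomp]
    exact sup_le hcomm hZK
  have htop : lam.ker = ⊤ := by
    rw [← top_le_iff, ← sup_sylow_eq_top C hk P]
    exact sup_le hCK hPK
  ext x
  have : x ∈ lam.ker := by rw [htop]; exact Subgroup.mem_top x
  rw [MonoidHom.mem_ker] at this
  rw [this]
  rfl

end QE

section Main

open scoped ComplexConjugate

/-- The imprimitivity hypothesis: non-linear irreducible characters of quasi-elementary groups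
are induced from proper subgroups. -/
def ImprimHyp : Prop :=
  ∀ (H : Type u) [Group H] [Fintype H] (p : ℕ), p.Prime → IsQuasiElem p H →
    ∀ ψ : H → ℂ, IsIrrCharacter H ψ → ψ 1 ≠ 1 →
      ∃ K : Subgroup H, K ≠ ⊤ ∧ ∃ φ : K → ℂ, IsIrrCharacter K φ ∧ ψ = indFun K φ

theorem hom_mul_conj {H : Type u} [Group H] [Finite H] (lam : H →* ℂˣ) (h : H) :
    ((lam h : ℂˣ) : ℂ) * conj ((lam h : ℂˣ) : ℂ) = 1 := by
  have h1 : ((lam h : ℂˣ) : ℂ) ^ Nat.card H = 1 := by
    rw [← Units.val_pow_eq_pow_val, ← map_pow, pow_card_eq_one', map_one]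
    rfl
  have h2 : ‖((lam h : ℂˣ) : ℂ)‖ = 1 :=
    Complex.norm_eq_one_of_pow_eq_one h1 Nat.card_pos.ne'
  rw [Complex.mul_conj, Complex.normSq_eq_norm_sq, h2]
  simp

/-- The product of a linear character and an irreducible character is irreducible. -/
theorem isIrrCharacter_hom_mul {H : Type u} [Group H] [Fintype H] (lam : H →* ℂˣ) {χ : H → ℂ}
    (hχ : IsIrrCharacter H χ) : IsIrrCharacter H (fun h => ((lam h : ℂˣ) : ℂ) * χ h) := by
  have hchar : IsCharacter H (fun h => ((lam h : ℂˣ) : ℂ) * χ h) :=
    Cfsg.Agent.Lib.Helper3.IsCharacter.mul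
      (Cfsg.Agent.Lib.Helper3.IsIrrCharacter.isCharacter
        (Cfsg.Agent.Lib.Helper79.isIrrCharacter_of_monoidHom lam))
      (Cfsg.Agent.Lib.Helper3.IsIrrCharacter.isCharacter hχ)
  apply Cfsg.Agent.Lib.Helper15.isIrrCharacter_of_norm_one hchar
  have h1 := Cfsg.Agent.Lib.Helper3.classInner_irr hχ hχ
  rw [if_pos rfl] at h1
  rw [← h1, classInner_def, classInner_def]
  congr 1
  refine Finset.sum_congr rfl fun h _ => ?_
  rw [map_mul]
  calc ((lam h : ℂˣ) : ℂ) * χ h * (conj ((lam h : ℂˣ) : ℂ) * conj (χ h))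
      = (((lam h : ℂˣ) : ℂ) * conj ((lam h : ℂˣ) : ℂ)) * (χ h * conj (χ h)) := by ring
    _ = χ h * conj (χ h) := by rw [hom_mul_conj, one_mul]

/-- The linear step: in a quasi-elementary group whose non-linear irreducible characters lie in
the Brauer span, the linear characters do too. -/
theorem hom_mem_brauerSpan {H : Type u} [Group H] [Fintype H] {p : ℕ} (hp : p.Prime)
    (hqe : IsQuasiElem p H)
    (hnl : ∀ ψ : H → ℂ, IsIrrCharacter H ψ → ψ 1 ≠ 1 → ψ ∈ brauerSpan H) (lam : H →* ℂˣ) :
    (fun h => ((lam h : ℂˣ) : ℂ)) ∈ brauerSpan H := by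
  classical
  obtain ⟨C, hCn, hcyc, hcop, k, hk⟩ := hqe
  have : Fact p.Prime := ⟨hp⟩
  obtain ⟨P⟩ : Nonempty (Sylow p H) := inferInstance
  set E := elemSub C (P : Subgroup H) with hE
  have hEel : IsElementary p ↥E := isElementary_elemSub C hcyc hcop (P : Subgroup H) P.isPGroup'
  have : Fintype E := Fintype.ofFinite E
  set θ : H → ℂ := indFun E (fun _ => (1 : ℂ)) with hθdef
  have hθ : IsCharacter H θ :=
    Cfsg.Agent.Lib.Helper3.isCharacter_indFun E Cfsg.Agent.Lib.Helper3.IsCharacter.one
  have := finite_irrCharacter (G := H)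
  have : Fintype (IrrCharacter H) := Fintype.ofFinite _
  obtain ⟨m, hm, hdec⟩ := Cfsg.Agent.Lib.Helper15.exists_nat_decomp hθ
  -- inner products of `θ` with linear characters
  have hfrob : ∀ χ : IrrCharacter H, classInner θ (χ : H → ℂ) =
      classInner (fun _ : E => (1 : ℂ)) (fun e : E => (χ : H → ℂ) e) := by
    intro χ
    exact frobenius_reciprocity E _ _ (Cfsg.Agent.Lib.Helper3.IsCharacter.isClassFunction
      (Cfsg.Agent.Lib.Helper3.IsIrrCharacter.isCharacter χ.2))
  have hone : m (oneIrr H) = 1 := by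
    have h1 := hm (oneIrr H)
    rw [hfrob] at h1
    have h2 : classInner (fun _ : E => (1 : ℂ)) (fun e : E => ((oneIrr H : IrrCharacter H) : H → ℂ) e)
        = 1 := by
      have := Cfsg.Agent.Lib.Helper3.classInner_irr (isIrrCharacter_one (G := E))
        (isIrrCharacter_one (G := E))
      rw [if_pos rfl] at this
      exact this
    rw [h2] at h1
    exact_mod_cast h1.symm
  have hlin : ∀ χ : IrrCharacter H, (χ : H → ℂ) 1 = 1 → χ ≠ oneIrr H → m χ = 0 := by
    intro χ h1 hne
    obtain ⟨μ, hμ⟩ := Cfsg.Agent.Lib.Helper79.exists_monoidHom_of_isCharacter_of_one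
      (Cfsg.Agent.Lib.Helper3.IsIrrCharacter.isCharacter χ.2) h1
    have h2 := hm χ
    rw [hfrob] at h2
    have hirr : IsIrrCharacter E (fun e : E => (χ : H → ℂ) e) := by
      have := Cfsg.Agent.Lib.Helper79.isIrrCharacter_of_monoidHom (μ.comp E.subtype)
      have heq : (fun e : E => (χ : H → ℂ) e) =
          fun e : E => (((μ.comp E.subtype) e : ℂˣ) : ℂ) := by
        funext e
        rw [hμ]
        rfl
      rw [heq]
      exact this
    rw [Cfsg.Agent.Lib.Helper3.classInner_irr (isIrrCharacter_one (G := E)) hirr] at h2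
    by_cases heq : (fun _ : E => (1 : ℂ)) = fun e : E => (χ : H → ℂ) e
    · exfalso
      apply hne
      have hμ1 : μ = 1 := by
        apply hom_eq_one_of_elemSub C hcyc hcop hk P μ
        intro e he
        have := congrFun heq ⟨e, he⟩
        simp only at this
        rw [hμ] at this
        exact Units.ext this.symm
      apply Subtype.ext
      funext h
      rw [hμ, hμ1]
      rfl
    · rw [if_neg heq] at h2
      exact_mod_cast h2.symm
  -- push-pull
  set lamf : H → ℂ := fun h => ((lam h : ℂˣ) : ℂ) with hlamf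
  have hlamcf : IsClassFunction H lamf :=
    Cfsg.Agent.Lib.Helper3.IsCharacter.isClassFunction
      (Cfsg.Agent.Lib.Helper3.IsIrrCharacter.isCharacter
        (Cfsg.Agent.Lib.Helper79.isIrrCharacter_of_monoidHom lam))
  have hpp : indFun E (fun e : E => lamf e) = θ * lamf := by
    have := Cfsg.Agent.Lib.Helper3.indFun_mul_restrict E (fun _ => (1 : ℂ)) hlamcf
    rw [← this]
    congr 1
    funext e
    rw [one_mul]
  have hgen : indFun E (fun e : E => lamf e) ∈ brauerSpan H := by
    apply AddSubgroup.subset_closure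
    exact ⟨E, lam.comp E.subtype, ⟨p, hp, hEel⟩, rfl⟩
  -- expand
  have hexp : θ * lamf = ∑ χ : IrrCharacter H, (m χ : ℂ) • (fun h => lamf h * (χ : H → ℂ) h) := by
    conv_lhs => rw [hdec]
    rw [Finset.sum_mul]
    refine Finset.sum_congr rfl fun χ _ => ?_
    funext h
    simp only [Pi.mul_apply, Pi.smul_apply, smul_eq_mul]
    ring
  rw [← Finset.add_sum_erase Finset.univ _ (Finset.mem_univ (oneIrr H)), hone] at hexp
  have hsolve : lamf = indFun E (fun e : E => lamf e) -
      ∑ χ ∈ Finset.univ.erase (oneIrr H), (m χ : ℂ) • (fun h => lamf h * (χ : H → ℂ) h) := by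
    rw [hpp, hexp]
    funext h
    simp only [Pi.add_apply, Pi.sub_apply, Pi.smul_apply, smul_eq_mul, oneIrr_apply, Nat.cast_one,
      one_mul, mul_one]
    ring
  rw [hsolve]
  apply AddSubgroup.sub_mem _ hgen
  apply AddSubgroup.sum_mem
  intro χ hχ
  have hne : χ ≠ oneIrr H := (Finset.mem_erase.1 hχ).1
  by_cases h1 : (χ : H → ℂ) 1 = 1
  · rw [hlin χ h1 hne]
    simp only [Nat.cast_zero, zero_smul]
    exact AddSubgroup.zero_mem _
  · have hmem : (fun h => lamf h * (χ : H → ℂ) h) ∈ brauerSpan H := by
      apply hnl _ (isIrrCharacter_hom_mul lam χ.2)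
      simp only [map_one, Units.val_one, one_mul]
      exact h1
    rw [Nat.cast_smul_eq_nsmul]
    exact AddSubgroup.nsmul_mem _ hmem _


/-- Characters of quasi-elementary groups lie in the Brauer span (given the imprimitivity
hypothesis). -/
theorem qe_mem_brauerSpan (hA : ImprimHyp.{u}) : ∀ n : ℕ, ∀ (H : Type u) [Group H] [Fintype H],
    Nat.card H = n → ∀ p : ℕ, p.Prime → IsQuasiElem p H → ∀ ψ : H → ℂ, IsCharacter H ψ →
      ψ ∈ brauerSpan H := by
  intro n
  induction n using Nat.strong_induction_on with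
  | _ n ih =>
    intro H _ _ hcard p hp hqe ψ hψ
    classical
    -- non-linear irreducible characters
    have hnl : ∀ ψ : H → ℂ, IsIrrCharacter H ψ → ψ 1 ≠ 1 → ψ ∈ brauerSpan H := by
      intro ψ hψ h1
      obtain ⟨K, hK, φ, hφ, rfl⟩ := hA H p hp hqe ψ hψ h1
      have : Fintype K := Fintype.ofFinite K
      have hlt : Nat.card K < n := by
        rw [← hcard]
        apply lt_of_le_of_ne (Subgroup.card_le_card_group K)
        intro heq
        exact hK (Subgroup.eq_top_of_card_eq K heq)
      have hqeK : IsQuasiElem p ↥K := hqe.of_injective hp K.subtype K.subtype_injective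
      have := ih (Nat.card K) hlt ↥K rfl p hp hqeK φ
        (Cfsg.Agent.Lib.Helper3.IsIrrCharacter.isCharacter hφ)
      exact indFun_mem_brauerSpan K φ this
    -- irreducible characters
    have hirr : ∀ χ : IrrCharacter H, (χ : H → ℂ) ∈ brauerSpan H := by
      intro χ
      by_cases h1 : (χ : H → ℂ) 1 = 1
      · obtain ⟨μ, hμ⟩ := Cfsg.Agent.Lib.Helper79.exists_monoidHom_of_isCharacter_of_one
          (Cfsg.Agent.Lib.Helper3.IsIrrCharacter.isCharacter χ.2) h1
        have := hom_mem_brauerSpan hp hqe hnl μ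
        have heq : (χ : H → ℂ) = fun h => ((μ h : ℂˣ) : ℂ) := funext hμ
        rw [heq]
        exact this
      · exact hnl _ χ.2 h1
    have := finite_irrCharacter (G := H)
    have : Fintype (IrrCharacter H) := Fintype.ofFinite _
    obtain ⟨m, _, hdec⟩ := Cfsg.Agent.Lib.Helper15.exists_nat_decomp hψ
    rw [hdec]
    apply AddSubgroup.sum_mem
    intro χ _
    rw [Nat.cast_smul_eq_nsmul]
    exact AddSubgroup.nsmul_mem _ (hirr χ) _

/-- Brauer's induction theorem (given the imprimitivity hypothesis): every character lies in the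
additive group generated by the characters induced from linear characters of elementary
subgroups. -/
theorem mem_brauerSpan_of_isCharacter (hA : ImprimHyp.{u}) {G : Type u} [Group G] [Fintype G]
    (χ : G → ℂ) (hχ : IsCharacter G χ) : χ ∈ brauerSpan G := by
  classical
  have hχcf : IsClassFunction G χ := Cfsg.Agent.Lib.Helper3.IsCharacter.isClassFunction hχ
  have key : ∀ f : G → ℤ, f ∈ permSpan (fun H : Subgroup G => ∃ p : ℕ, p.Prime ∧ IsQuasiElem p H) →
      (fun g => (f g : ℂ) * χ g) ∈ brauerSpan G := by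
    intro f hf
    induction hf using AddSubgroup.closure_induction with
    | mem f hf =>
      obtain ⟨H, ⟨p, hp, hH⟩, rfl⟩ := hf
      have : Fintype H := Fintype.ofFinite H
      have h1 : (fun g => ((permFun H g : ℤ) : ℂ) * χ g) = indFun H (fun h : H => χ h) := by
        have h2 := Cfsg.Agent.Lib.Helper3.indFun_mul_restrict H (fun _ => (1 : ℂ)) hχcf
        have h3 : (fun h : H => (1 : ℂ) * χ h) = fun h : H => χ h := by
          funext h
          rw [one_mul]
        rw [h3] at h2
        rw [h2]
        funext g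
        rw [Pi.mul_apply, Cfsg.Agent.Lib.Helper15.indFun_one_eq_card_fixed, permFun_apply]
        push_cast
        rfl
      rw [h1]
      apply indFun_mem_brauerSpan
      exact qe_mem_brauerSpan hA (Nat.card H) ↥H rfl p hp hH _
        (Cfsg.Agent.Lib.Helper3.IsCharacter.restrict hχ H)
    | zero =>
      simp only [Pi.zero_apply, Int.cast_zero, zero_mul]
      exact AddSubgroup.zero_mem _
    | add a b _ _ iha ihb =>
      have : (fun g => ((a + b) g : ℂ) * χ g) =
          (fun g => (a g : ℂ) * χ g) + (fun g => (b g : ℂ) * χ g) := by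
        funext g
        simp only [Pi.add_apply, Int.cast_add, add_mul]
      rw [this]
      exact AddSubgroup.add_mem _ iha ihb
    | neg a _ iha =>
      have : (fun g => ((-a) g : ℂ) * χ g) = -(fun g => (a g : ℂ) * χ g) := by
        funext g
        simp only [Pi.neg_apply, Int.cast_neg, neg_mul]
      rw [this]
      exact AddSubgroup.neg_mem _ iha
  have := key 1 solomon
  simpa using this

end Main

end Cfsg.Agent.Lib.Helper81
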