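import Mathlib
import Cfsg.Agent.Lib.Helper81.OnDefs
import Cfsg.Agent.Lib.Helper8.SpBlkBasic

/-! # On hive (S5989): ON-NEG1 -/

set_option autoImplicit false
set_option linter.unusedVariables false
set_option linter.unusedSectionVars false

namespace Cfsg.Agent.Lib.Helper81.On

open Module
open Cfsg.Agent.Lib.Helper2.BG Cfsg.Agent.Lib.Helper99 Cfsg.Agent.Lib.Helper48.Ti

variable {F V : Type*} [Field F] [AddCommGroup V] [Module F V] [FiniteDimensional F V]
variable {B : V →ₗ[F] V →ₗ[F] F}

/-- ON-NEG1: an isometry with `f² = -1` has only even-dimensional invariant nondegenerate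
subspaces -/
theorem even_of_sq_neg_one (h2 : (2 : F) ≠ 0) (hB : ∀ u v, B u v = B v u)
    {f : Module.End F V} (hf : Isom B f) (hff : f * f = -1) {W : Submodule F V} (hWf : Inv f W)
    (hW : Nd B W) : Even (finrank F W) := by
  have hffv : ∀ v, f (f v) = -v := by
    intro v
    have := congrArg (fun g : Module.End F V => g v) hff
    simpa using this
  set ω : LinearMap.BilinForm F V := B.compl₂ f with hω
  have hωa : ∀ u v, ω u v = B u (f v) := fun u v => by rw [hω, LinearMap.compl₂_apply]
  have halt : ω.IsAlt := by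
    intro u
    rw [hωa]
    have h1 : B u (f u) = B (f u) (f (f u)) := (hf u (f u)).symm
    rw [hffv, map_neg, hB (f u) u] at h1
    have h3 : (2 : F) * B u (f u) = 0 := by linear_combination h1
    rcases mul_eq_zero.1 h3 with h | h
    · exact absurd h h2
    · exact h
  have hnd : Cfsg.Agent.Lib.Helper8.SpBlk.NonDeg ω W := by
    intro u hu h
    apply hW u hu
    intro v hv
    have hv' : -(f v) ∈ W := W.neg_mem (hWf v hv)
    have := h (-(f v)) hv'
    rw [hωa, map_neg, hffv, neg_neg] at this
    exact this
  exact Cfsg.Agent.Lib.Helper8.SpBlk.nonDeg_even halt hnd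

end Cfsg.Agent.Lib.Helper81.On
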