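import Mathlib
import Cfsg.Agent.Lib.Helper81.OnDefs
import Cfsg.Agent.Lib.Helper8.SpBlkDec
import Cfsg.Agent.Lib.Helper85.OnTOPcore
import Cfsg.Agent.Lib.Helper94.OnWITT
import Cfsg.Agent.Lib.Helper81.OnNOFIX

/-! # On hive (S5989): ON-TOP not_dvd_card_top = helper85 top_core + helper94 exists_isom_map + eq_one_of_small -/
set_option autoImplicit false
set_option linter.unusedVariables false

namespace Cfsg.Agent.Lib.Helper81.On

open Polynomial Module
open Cfsg.Agent.Lib.Helper2.BG Cfsg.Agent.Lib.Helper99 Cfsg.Agent.Lib.Helper48.Ti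
open Cfsg.Agent.Lib.Helper8.SpBlk (blk)

variable {F V : Type*} [Field F] [AddCommGroup V] [Module F V] [FiniteDimensional F V]
variable {B : V →ₗ[F] V →ₗ[F] F}
variable [Fintype F] {p : ℕ} [Fact p.Prime] [CharP F p] {r : ℕ} [Fact r.Prime]

theorem not_dvd_card_top (h2 : (2 : F) ≠ 0) (hB : ∀ u v, B u v = B v u) (hV : Nd B ⊤)
    (hr2 : r ≠ 2) (hrp : r ≠ p) {W₀ : Submodule F V} (hW₀ : Nd B W₀)
    (hc : finrank F V < blk F r) :
    ¬ r ∣ Nat.card {W : Submodule F V // Nd B W ∧ SameType B W W₀} :=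
  top_core (fun _ _ h => exists_isom_map h2 hB hV h)
    (fun f hf hfr => eq_one_of_small (p := p) h2 hB hV hr2 hrp hf hfr hc) hW₀

end Cfsg.Agent.Lib.Helper81.On
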