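import Mathlib
import Cfsg.Agent.Lib.Helper81.OnNOFIX
import Cfsg.Agent.Lib.Helper76.OnBASIC
import Cfsg.Agent.Lib.Helper76.OnCONG
import Cfsg.Agent.Lib.Helper31.OnCOPY
import Cfsg.Agent.Lib.Helper73.OnTRANS
import Cfsg.Agent.Lib.Helper81.OnTOP

set_option autoImplicit false
set_option linter.unusedVariables false
set_option linter.unusedSectionVars false

namespace Cfsg.Agent.Lib.Helper81.On

open Polynomial Module
open Cfsg.Agent.Lib.Helper2.BG Cfsg.Agent.Lib.Helper99 Cfsg.Agent.Lib.Helper48.Ti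
open Cfsg.Agent.Lib.Helper8.SpBlk (blk)

variable {F V : Type*} [Field F] [AddCommGroup V] [Module F V] [FiniteDimensional F V]
variable {B : V →ₗ[F] V →ₗ[F] F}
variable [Fintype F] {p : ℕ} [Fact p.Prime] [CharP F p] {r : ℕ} [Fact r.Prime]

/-- a small invariant nondegenerate subspace is fixed pointwise -/
theorem small_le_fix (h2 : (2 : F) ≠ 0) (hB : ∀ u v, B u v = B v u) (hr2 : r ≠ 2) (hrp : r ≠ p)
    {f : Module.End F V} (hf : Isom B f) (hfr : f ^ r = 1) {W : Submodule F V} (hWf : Inv f W)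
    (hW : Nd B W) (hlt : finrank F W < blk F r) : W ≤ LinearMap.ker (f - 1) := by
  obtain ⟨s, hs⟩ := nofix_finrank (p := p) h2 hB hr2 hrp hf hfr hWf hW
  have hs0 : s = 0 := by
    by_contra hne
    have : blk F r ≤ s * blk F r := Nat.le_mul_of_pos_left _ (Nat.pos_of_ne_zero hne)
    omega
  rw [hs0, zero_mul, add_zero] at hs
  have h1 : W ⊓ LinearMap.ker (f - 1) = W :=
    Submodule.eq_of_le_of_finrank_eq inf_le_left hs.symm
  rw [← h1]
  exact inf_le_right

theorem small_nd_restrict {Z : Submodule F V} (W : Submodule F V) (hWZ : W ≤ Z) (hW : Nd B W) :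
    Nd (B.domRestrict₁₂ Z Z) (W.comap Z.subtype) := by
  intro u hu h
  have hu' : (u : V) ∈ W := hu
  have : (u : V) = 0 := by
    apply hW (u : V) hu'
    intro v hv
    have := h ⟨v, hWZ hv⟩ (by simpa using hv)
    simpa [LinearMap.domRestrict₁₂_apply] using this
  exact Subtype.ext this

/-- ON-SMALL -/
theorem not_dvd_of_small (h2 : (2 : F) ≠ 0) (hB : ∀ u v, B u v = B v u) (hV : Nd B ⊤)
    (hr2 : r ≠ 2) (hrp : r ≠ p) {f : Module.End F V} (hf : Isom B f) (hfr : f ^ r = 1)
    {W₀ : Submodule F V} (hW₀ : Nd B W₀) (hmc : finrank F W₀ < blk F r)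
    (hmt : finrank F W₀ < finrank F (LinearMap.ker (f - 1)))
    (htc : finrank F (LinearMap.ker (f - 1)) < blk F r) :
    ¬ r ∣ Nat.card {W : Submodule F V // Nd B W ∧ SameType B W W₀} := by
  set C := LinearMap.ker (f - 1) with hCdef
  have hfix : ∀ v ∈ C, f v = v := by
    intro v hv
    rw [hCdef, LinearMap.mem_ker, LinearMap.sub_apply, Module.End.one_apply, sub_eq_zero] at hv
    exact hv
  -- `C` is nondegenerate
  have hC : Nd B C := by
    obtain ⟨M, -, -, -, -, h5, -⟩ := fix_split (p := p) hB hrp hf hfr hV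
      (fun v _ => Submodule.mem_top)
    rwa [top_inf_eq] at h5
  obtain ⟨W₁, hW₁C, hW₁nd, hW₁st⟩ := exists_copy h2 hB hC hW₀ hmt
  -- the fixed points are the copies inside `C`
  have hcard : Nat.card {W : Submodule F V // (Nd B W ∧ SameType B W W₀) ∧ Inv f W} =
      Nat.card {W : Submodule F V // W ≤ C ∧ Nd B W ∧ SameType B W W₁} := by
    apply Nat.card_congr
    apply Equiv.subtypeEquivRight
    intro W
    constructor
    · rintro ⟨⟨hnd, hst⟩, hinv⟩
      refine ⟨?_, hnd, hst.trans hW₁st.symm⟩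
      apply small_le_fix (p := p) h2 hB hr2 hrp hf hfr hinv hnd
      rw [hst.finrank_eq]
      exact hmc
    · rintro ⟨hle, hnd, hst⟩
      refine ⟨⟨hnd, hst.trans hW₁st⟩, ?_⟩
      intro v hv
      rw [hfix v (hle hv)]
      exact hv
  have hBC : ∀ u v : C, (B.domRestrict₁₂ C C) u v = (B.domRestrict₁₂ C C) v u := by
    intro u v
    simp only [LinearMap.domRestrict₁₂_apply]
    exact hB _ _
  have hCtop : Nd (B.domRestrict₁₂ C C) ⊤ := by
    have := small_nd_restrict (B := B) (Z := C) C le_rfl hC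
    have htop : (C.comap C.subtype) = ⊤ := by
      ext x; simp
    rwa [htop] at this
  have hnot := not_dvd_card_top (p := p) (B := B.domRestrict₁₂ C C) h2 hBC hCtop hr2 hrp
    (small_nd_restrict W₁ hW₁C hW₁nd) (by rw [hCdef] at htc ⊢; exact htc)
  rw [← card_fam_restrict C W₁ hW₁C, ← hcard] at hnot
  intro hdvd
  apply hnot
  have hcong := card_modEq_fixed (B := B) hf hfr W₀
  exact (Nat.modEq_zero_iff_dvd.1 (hcong.symm.trans (Nat.modEq_zero_iff_dvd.2 hdvd)))

end Cfsg.Agent.Lib.Helper81.On
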