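import Mathlib
import Cfsg.Agent.Lib.Helper81.OnDefs
import Cfsg.Agent.Lib.Helper81.OnBR
import Cfsg.Agent.Lib.Helper81.OnNEG1
import Cfsg.Agent.Lib.Helper81.OnNOFIX
import Cfsg.Agent.Lib.Helper81.OnSMALL
import Cfsg.Agent.Lib.Helper81.OnR2
import Cfsg.Agent.Lib.Helper76.OnBASIC
import Cfsg.Agent.Lib.Helper31.OnINV2
import Cfsg.Agent.Lib.Helper79.OnFIX
import Cfsg.Agent.Lib.Helper49.OnP
import Cfsg.Agent.Lib.Helper80.OnE
import Cfsg.Agent.Lib.Helper76.OnT1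
import Cfsg.Agent.Lib.Helper94.Un10

/-! # S5989 hive "On" (helper81): assembly of the leaves -/

set_option autoImplicit false
set_option linter.unusedVariables false
set_option linter.unusedSectionVars false
set_option linter.style.haveILetI false

namespace Cfsg.Agent.Lib.Helper81.On

open Polynomial Module
open Cfsg.Agent.Lib.Helper2.BG Cfsg.Agent.Lib.Helper99 Cfsg.Agent.Lib.Helper48.Ti
open Cfsg.Agent.Lib.Helper8.SpBlk (blk)

section asm

variable {F : Type*} [Field F]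

local notation "Mat" d => Matrix (Fin d ⊕ Fin d) (Fin d ⊕ Fin d) F

/-- invariance in the two languages -/
theorem asm_map_le_iff {V : Type*} [AddCommGroup V] [Module F V] (f : Module.End F V)
    (W : Submodule F V) : W.map f ≤ W ↔ Inv f W := by
  rw [Submodule.map_le_iff_le_comap]
  constructor
  · intro h v hv; exact h hv
  · intro h v hv; exact h v hv

/-- the concrete fixed-subspace statement in the abstract language -/
theorem asm_fixes_iff (h2 : (2 : F) ≠ 0) (d m : ℕ) (W₀ : Submodule F (VP d F))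
    (hW₀ : finrank F W₀ = m) (f : Module.End F (VP d F)) :
    (∃ W : Submodule F (Fin d ⊕ Fin d → F), (finrank F ↥W = m ∧
        Cfsg.Geo.IsNondegenerateOn (QuadraticMap.polar (Cfsg.quadFormPlus d F)) W ∧
        Cfsg.Geo.AreIsometricFor (Cfsg.quadFormPlus d F) W W₀) ∧ W.map f ≤ W) ↔
      Fixes (plusB d) f W₀ := by
  constructor
  · rintro ⟨W, ⟨-, hnd, hiso⟩, hinv⟩
    exact ⟨W, (nd_iff d W).1 hnd, (iso_iff h2 d W W₀).1 hiso, (asm_map_le_iff f W).1 hinv⟩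
  · rintro ⟨W, hnd, hst, hinv⟩
    exact ⟨W, ⟨by rw [hst.finrank_eq, hW₀], (nd_iff d W).2 hnd, (iso_iff h2 d W W₀).2 hst⟩,
      (asm_map_le_iff f W).2 hinv⟩

/-- the two families have the same cardinality -/
theorem asm_card_eq (h2 : (2 : F) ≠ 0) (d m : ℕ) (W₀ : Submodule F (VP d F))
    (hW₀ : finrank F W₀ = m) :
    Nat.card {W : Submodule F (Fin d ⊕ Fin d → F) // finrank F ↥W = m ∧
        Cfsg.Geo.IsNondegenerateOn (QuadraticMap.polar (Cfsg.quadFormPlus d F)) W ∧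
        Cfsg.Geo.AreIsometricFor (Cfsg.quadFormPlus d F) W W₀} =
      Nat.card {W : Submodule F (VP d F) // Nd (plusB d) W ∧ SameType (plusB d) W W₀} := by
  apply Nat.card_congr
  apply Equiv.subtypeEquivRight
  intro W
  constructor
  · rintro ⟨-, hnd, hiso⟩
    exact ⟨(nd_iff d W).1 hnd, (iso_iff h2 d W W₀).1 hiso⟩
  · rintro ⟨hnd, hst⟩
    exact ⟨by rw [hst.finrank_eq, hW₀], (nd_iff d W).2 hnd, (iso_iff h2 d W W₀).2 hst⟩

theorem asm_isom_neg {V : Type*} [AddCommGroup V] [Module F V] {B : V →ₗ[F] V →ₗ[F] F}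
    {f : Module.End F V} (hf : Isom B f) : Isom B (-f) := by
  intro u v
  simp only [LinearMap.neg_apply, map_neg, neg_neg]
  exact hf u v

theorem asm_inv_neg {V : Type*} [AddCommGroup V] [Module F V] (f : Module.End F V)
    (W : Submodule F V) : Inv (-f) W ↔ Inv f W := by
  constructor
  · intro h v hv
    have := h v hv
    rw [LinearMap.neg_apply] at this
    exact (Submodule.neg_mem_iff W).1 this
  · intro h v hv
    rw [LinearMap.neg_apply]
    exact (Submodule.neg_mem_iff W).2 (h v hv)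

theorem asm_fixes_neg {V : Type*} [AddCommGroup V] [Module F V] {B : V →ₗ[F] V →ₗ[F] F}
    (f : Module.End F V) (W₀ : Submodule F V) : Fixes B (-f) W₀ ↔ Fixes B f W₀ := by
  constructor
  · rintro ⟨W, h1, h2, h3⟩; exact ⟨W, h1, h2, (asm_inv_neg f W).1 h3⟩
  · rintro ⟨W, h1, h2, h3⟩; exact ⟨W, h1, h2, (asm_inv_neg f W).2 h3⟩

theorem asm_pow_mem {d : ℕ} (x : GL (Fin d ⊕ Fin d) F)
    (hx : x ∈ Cfsg.isometryGroup F (Cfsg.quadFormPlus d F)) (n : ℕ) :
    x ^ n ∈ Cfsg.isometryGroup F (Cfsg.quadFormPlus d F) :=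
  Subgroup.pow_mem _ hx n

theorem asm_toLin_pow {d : ℕ} (x : GL (Fin d ⊕ Fin d) F) (n : ℕ) :
    Matrix.toLin' ((x ^ n : GL (Fin d ⊕ Fin d) F) : Mat d) = (Matrix.toLin' (x : Mat d)) ^ n := by
  rw [Units.val_pow_eq_pow_val, Matrix.toLin'_pow]

/-- normalisation: an isometry with `x^r = ±1` (`r` odd) has the same invariant subspaces as an
isometry `g` with `g^r = 1` -/
theorem asm_normalize (d : ℕ) (hd : 1 ≤ d) {r : ℕ} (hr : Odd r) (x : GL (Fin d ⊕ Fin d) F)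
    (hx : x ∈ Cfsg.isometryGroup F (Cfsg.quadFormPlus d F)) (z : F)
    (hz : ((x ^ r : GL (Fin d ⊕ Fin d) F) : Mat d) = z • (1 : Mat d)) :
    ∃ g : Module.End F (VP d F), Isom (plusB d) g ∧ g ^ r = 1 ∧
      ∀ W₀, Fixes (plusB d) g W₀ ↔ Fixes (plusB d) (Matrix.toLin' (x : Mat d)) W₀ := by
  have hf := isom_of_mem d x hx
  have hpow : (Matrix.toLin' (x : Mat d)) ^ r = z • (1 : Module.End F (VP d F)) := by
    rw [← asm_toLin_pow, hz, map_smul, Matrix.toLin'_one]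
    rfl
  rcases scalar_pm_one d hd (x ^ r) (asm_pow_mem x hx r) z hz with rfl | rfl
  · exact ⟨_, hf, by rw [hpow, one_smul], fun _ => Iff.rfl⟩
  · set g : Module.End F (VP d F) := Matrix.toLin' (x : Mat d) with hg
    refine ⟨-g, asm_isom_neg hf, ?_, fun W₀ => asm_fixes_neg _ W₀⟩
    have h1 : (-g) ^ r = -(g ^ r) := Odd.neg_pow hr g
    rw [h1, hpow]
    ext v a
    simp


/-- a nonscalar witness: an isometry with `x^r = 1`, `r` odd, whose fixed space is not everything -/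
theorem asm_nonscalar (h2 : (2 : F) ≠ 0) (d : ℕ) (hd : 1 ≤ d) {r : ℕ} (hr : Odd r)
    (x : GL (Fin d ⊕ Fin d) F)
    (hx : x ∈ Cfsg.isometryGroup F (Cfsg.quadFormPlus d F)) (hxr : x ^ r = 1)
    (hfix : finrank F (LinearMap.ker (Matrix.toLin' (x : Mat d) - 1)) < 2 * d) :
    ∀ z : F, (x : Mat d) ≠ z • (1 : Mat d) := by
  intro z hz
  rcases scalar_pm_one d hd x hx z hz with rfl | rfl
  · rw [one_smul] at hz
    rw [hz, Matrix.toLin'_one] at hfix
    have : (LinearMap.id : VP d F →ₗ[F] VP d F) - 1 = 0 := by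
      ext v; simp
    rw [this, LinearMap.ker_zero, finrank_top, finrank_VP] at hfix
    omega
  · have h1 : ((x ^ r : GL (Fin d ⊕ Fin d) F) : Mat d) = 1 := by rw [hxr]; rfl
    rw [Units.val_pow_eq_pow_val, hz] at h1
    have h3 : ((-1 : F) • (1 : Mat d)) ^ r = (-1 : F) • (1 : Mat d) := by
      rw [_root_.smul_pow, one_pow, Odd.neg_one_pow hr]
    rw [h3] at h1
    have hd0 : (Sum.inl ⟨0, by omega⟩ : Fin d ⊕ Fin d) = Sum.inl ⟨0, by omega⟩ := rfl
    have := congrFun (congrFun h1 (Sum.inl ⟨0, by omega⟩)) (Sum.inl ⟨0, by omega⟩)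
    simp only [Matrix.smul_apply, Matrix.one_apply_eq, smul_eq_mul, mul_one] at this
    apply h2
    linear_combination -this

/-- the case `r = 2` -/
theorem asm_case_two [Fintype F] (h2 : (2 : F) ≠ 0) (d m : ℕ) (hd : 4 ≤ d) (hm : Odd m)
    (hmd : m < d) (W₀ : Submodule F (VP d F)) (hW₀m : finrank F W₀ = m)
    (hW₀ : Nd (plusB d) W₀) :
    (∀ x : GL (Fin d ⊕ Fin d) F, x ∈ Cfsg.Geo.omegaGL (Cfsg.quadFormPlus d F) →
      (∃ z : F, ((x ^ 2 : GL (Fin d ⊕ Fin d) F) : Mat d) = z • (1 : Mat d)) →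
      (∀ z : F, (x : Mat d) ≠ z • (1 : Mat d)) →
      Fixes (plusB d) (Matrix.toLin' (x : Mat d)) W₀) ↔
    (Odd d ∧ Fintype.card F % 8 ≠ 1) := by
  have hsymm : ∀ u v : VP d F, plusB d u v = plusB d v u := plusB_symm d
  constructor
  · intro H
    by_contra hcon
    have hcase : Even d ∨ Fintype.card F % 8 = 1 := by
      by_cases hde : Even d
      · exact Or.inl hde
      · right
        by_contra h8
        exact hcon ⟨Nat.not_even_iff_odd.1 hde, h8⟩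
    obtain ⟨x, hxΩ, hxx⟩ := exists_sq_neg_one_mem h2 d (by omega) hcase
    have hxiso := mem_isom_of_mem_omega d x hxΩ
    have hsq : ((x ^ 2 : GL (Fin d ⊕ Fin d) F) : Mat d) = (-1 : F) • (1 : Mat d) := by
      rw [Units.val_pow_eq_pow_val, pow_two, hxx]; simp
    have hns : ∀ z : F, (x : Mat d) ≠ z • (1 : Mat d) := by
      intro z hz
      have hzz : (z * z) • (1 : Mat d) = (-1 : F) • (1 : Mat d) := by
        rw [← hsq, Units.val_pow_eq_pow_val, pow_two, hz]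
        simp [smul_smul]
      have hz2 : z * z = -1 := by
        have := congrFun (congrFun hzz (Sum.inl ⟨0, by omega⟩)) (Sum.inl ⟨0, by omega⟩)
        simpa using this
      rcases scalar_pm_one d (by omega) x hxiso z hz with rfl | rfl
      · apply h2; linear_combination hz2
      · apply h2; linear_combination hz2
    obtain ⟨W, hWnd, hWst, hWinv⟩ := H x hxΩ ⟨-1, hsq⟩ hns
    have hff : (Matrix.toLin' (x : Mat d)) * (Matrix.toLin' (x : Mat d)) = -1 := by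
      rw [Module.End.mul_eq_comp, ← Matrix.toLin'_mul, hxx, map_neg, Matrix.toLin'_one]
      rfl
    have hev := even_of_sq_neg_one h2 hsymm (isom_of_mem d x hxiso) hff hWinv hWnd
    rw [hWst.finrank_eq, hW₀m] at hev
    exact (Nat.not_even_iff_odd.2 hm) hev
  · rintro ⟨hdo, hq8⟩ x hxΩ ⟨z, hz⟩ hns
    have hxiso := mem_isom_of_mem_omega d x hxΩ
    have hf := isom_of_mem d x hxiso
    rcases scalar_pm_one d (by omega) (x ^ 2) (asm_pow_mem x hxiso 2) z hz with rfl | rfl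
    · have hff : (Matrix.toLin' (x : Mat d)) * (Matrix.toLin' (x : Mat d)) = 1 := by
        rw [← pow_two, ← asm_toLin_pow, hz, one_smul, Matrix.toLin'_one]
        rfl
      exact invol_fix h2 hsymm (plusB_nd d) hf hff hW₀ (by rw [hW₀m, finrank_VP]; omega)
    · exfalso
      apply sq_neg_one_not_mem h2 d hdo hq8 x hxΩ
      rw [← pow_two, ← Units.val_pow_eq_pow_val, hz]
      simp

/-- the case `r = p` odd -/
theorem asm_case_p [Fintype F] (h2 : (2 : F) ≠ 0) {p : ℕ} [Fact p.Prime] [CharP F p]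
    (d m : ℕ) (hd : 4 ≤ d) (hm : Odd m) (W₀ : Submodule F (VP d F))
    (hW₀m : finrank F W₀ = m) :
    ¬ (∀ x : GL (Fin d ⊕ Fin d) F, x ∈ Cfsg.Geo.omegaGL (Cfsg.quadFormPlus d F) →
      (∃ z : F, ((x ^ p : GL (Fin d ⊕ Fin d) F) : Mat d) = z • (1 : Mat d)) →
      (∀ z : F, (x : Mat d) ≠ z • (1 : Mat d)) →
      Fixes (plusB d) (Matrix.toLin' (x : Mat d)) W₀) := by
  intro H
  obtain ⟨x, hxΩ, hxp, hns, hbad⟩ := exists_bad_unipotent (p := p) h2 d m hd hm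
  obtain ⟨W, hWnd, hWst, hWinv⟩ := H x hxΩ ⟨1, by rw [hxp, one_smul]⟩ hns
  apply hbad W ((nd_iff d W).2 hWnd) ((asm_map_le_iff _ W).2 hWinv)
  rw [hWst.finrank_eq, hW₀m]


section oddcase

variable [Fintype F] {p : ℕ} [Fact p.Prime] [CharP F p] {r : ℕ} [Fact r.Prime]

/-- from an element with minimal fixed space -/
theorem asm_fwd_core (h2 : (2 : F) ≠ 0) (hr2 : r ≠ 2) (hrp : r ≠ p) (d m : ℕ) (hd : 4 ≤ d)
    (hm : Odd m) (hmd : m < d) (W₀ : Submodule F (VP d F)) (hW₀m : finrank F W₀ = m)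
    (hW₀ : Nd (plusB d) W₀)
    (hrΩ : r ∣ Nat.card {W : Submodule F (VP d F) // Nd (plusB d) W ∧ SameType (plusB d) W W₀})
    (H : ∀ x : GL (Fin d ⊕ Fin d) F, x ∈ Cfsg.Geo.omegaGL (Cfsg.quadFormPlus d F) →
      (∃ z : F, ((x ^ r : GL (Fin d ⊕ Fin d) F) : Mat d) = z • (1 : Mat d)) →
      (∀ z : F, (x : Mat d) ≠ z • (1 : Mat d)) →
      Fixes (plusB d) (Matrix.toLin' (x : Mat d)) W₀)
    (hc : blk F r ≤ 2 * d)
    (hside : Odd (orderOf ((Fintype.card F : ℕ) : ZMod r)) ∨ (2 * d) % blk F r ≠ 0 ∨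
      Even ((2 * d) / blk F r)) :
    blk F r ≤ m ∧ 0 < m % blk F r ∧ m % blk F r < (2 * d) % blk F r := by
  have hsymm : ∀ u v : VP d F, plusB d u v = plusB d v u := plusB_symm d
  have hrodd : Odd r := (Fact.out : r.Prime).odd_of_ne_two hr2
  have hcpos : 0 < blk F r := Cfsg.Agent.Lib.Helper8.SpBlk.blk_pos (F := F) (p := p) hrp
  have hceven : Even (blk F r) := Cfsg.Agent.Lib.Helper8.SpBlk.blk_even
  obtain ⟨x, hxΩ, hxr, hfix⟩ := exists_max_elt h2 hr2 hrp d (by omega) hc hside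
  have hxiso := mem_isom_of_mem_omega d x hxΩ
  have hf := isom_of_mem d x hxiso
  have hlt : (2 * d) % blk F r < blk F r := Nat.mod_lt _ hcpos
  have hns := asm_nonscalar h2 d (by omega) hrodd x hxiso hxr (by rw [hfix]; omega)
  have hfr : (Matrix.toLin' (x : Mat d)) ^ r = 1 := by
    rw [← asm_toLin_pow, hxr]
    simp
    rfl
  obtain ⟨W, hWnd, hWst, hWinv⟩ := H x hxΩ ⟨1, by rw [hxr, one_smul]; rfl⟩ hns
  have hWm : finrank F W = m := by rw [hWst.finrank_eq, hW₀m]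
  have hte : Even ((2 * d) % blk F r) := by
    obtain ⟨k, hk⟩ := hceven
    rw [Nat.even_iff]
    have : (2 * d) % (k + k) % 2 = (2 * d) % 2 := by
      rw [← two_mul]
      exact Nat.mod_mul_right_mod _ _ _
    rw [hk, this]
    omega
  have h1 := odd_nofix h2 hsymm hr2 hrp hf hfr (by rw [hfix]; exact hlt) (by rw [hfix]; exact hte)
    hWinv hWnd (by rw [hWm]; exact hm)
  rw [hWm, hfix] at h1
  refine ⟨?_, h1.1, h1.2⟩
  by_contra hlt'
  push Not at hlt'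
  apply not_dvd_of_small h2 hsymm (plusB_nd d) hr2 hrp hf hfr hW₀ (by rw [hW₀m]; exact hlt')
    (by rw [hW₀m, hfix]; rw [Nat.mod_eq_of_lt hlt'] at h1; exact h1.2) (by rw [hfix]; exact hlt)
  exact hrΩ

/-- the case `r ≠ 2`, `r ≠ p` -/
theorem asm_case_odd (h2 : (2 : F) ≠ 0) (hr2 : r ≠ 2) (hrp : r ≠ p) (d m : ℕ) (hd : 4 ≤ d)
    (hm : Odd m) (hmd : m < d) (W₀ : Submodule F (VP d F)) (hW₀m : finrank F W₀ = m)
    (hW₀ : Nd (plusB d) W₀)
    (hrΩ : r ∣ Nat.card {W : Submodule F (VP d F) // Nd (plusB d) W ∧ SameType (plusB d) W W₀}) :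
    (∀ x : GL (Fin d ⊕ Fin d) F, x ∈ Cfsg.Geo.omegaGL (Cfsg.quadFormPlus d F) →
      (∃ z : F, ((x ^ r : GL (Fin d ⊕ Fin d) F) : Mat d) = z • (1 : Mat d)) →
      (∀ z : F, (x : Mat d) ≠ z • (1 : Mat d)) →
      Fixes (plusB d) (Matrix.toLin' (x : Mat d)) W₀) ↔
    ((Odd (orderOf ((Fintype.card F : ℕ) : ZMod r)) ∧ blk F r ≤ m ∧ 0 < m % blk F r ∧
        m % blk F r < (2 * d) % blk F r) ∨
     (Even (orderOf ((Fintype.card F : ℕ) : ZMod r)) ∧
       (((2 * d) % blk F r = 0 ∧ Odd ((2 * d) / blk F r)) ∨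
        (blk F r ≤ m ∧ 0 < m % blk F r ∧ m % blk F r < (2 * d) % blk F r)))) := by
  have hsymm : ∀ u v : VP d F, plusB d u v = plusB d v u := plusB_symm d
  have hrodd : Odd r := (Fact.out : r.Prime).odd_of_ne_two hr2
  have hcpos : 0 < blk F r := Cfsg.Agent.Lib.Helper8.SpBlk.blk_pos (F := F) (p := p) hrp
  constructor
  · intro H
    -- `blk ≤ 2d`
    have hc : blk F r ≤ 2 * d := by
      by_contra hlt
      push Not at hlt
      have hiso1 : Isom (plusB (F := F) d) 1 := fun u v => rfl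
      have hker : LinearMap.ker ((1 : Module.End F (VP d F)) - 1) = ⊤ := by
        rw [sub_self, LinearMap.ker_zero]
      apply not_dvd_of_small h2 hsymm (plusB_nd d) hr2 hrp hiso1 (one_pow r) hW₀
        (by rw [hW₀m]; omega) (by rw [hW₀m, hker, finrank_top, finrank_VP]; omega)
        (by rw [hker, finrank_top, finrank_VP]; exact hlt)
      exact hrΩ
    rcases Nat.even_or_odd (orderOf ((Fintype.card F : ℕ) : ZMod r)) with hev | hod
    · right
      refine ⟨hev, ?_⟩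
      by_cases he : (2 * d) % blk F r = 0
      · left
        refine ⟨he, ?_⟩
        by_contra hno
        rw [Nat.not_odd_iff_even] at hno
        have := asm_fwd_core h2 hr2 hrp d m hd hm hmd W₀ hW₀m hW₀ hrΩ H hc (Or.inr (Or.inr hno))
        omega
      · right
        exact asm_fwd_core h2 hr2 hrp d m hd hm hmd W₀ hW₀m hW₀ hrΩ H hc (Or.inr (Or.inl he))
    · left
      exact ⟨hod, asm_fwd_core h2 hr2 hrp d m hd hm hmd W₀ hW₀m hW₀ hrΩ H hc (Or.inl hod)⟩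
  · intro hcond x hxΩ ⟨z, hz⟩ hns
    have hxiso := mem_isom_of_mem_omega d x hxΩ
    obtain ⟨g, hg, hgr, hgfix⟩ := asm_normalize d (by omega) hrodd x hxiso z hz
    rw [← hgfix W₀]
    obtain ⟨s, hs⟩ := mod_le_fix h2 hsymm (plusB_nd d) hr2 hrp hg hgr
    rw [finrank_VP] at hs
    have hmodle : (2 * d) % blk F r ≤ finrank F (LinearMap.ker (g - 1)) := by
      rw [hs, Nat.add_mul_mod_self_right]
      exact Nat.mod_le _ _
    apply odd_fix h2 hsymm (plusB_nd d) hr2 hrp hg hgr hW₀ (by rw [hW₀m]; exact hm)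
      (by rw [hW₀m, finrank_VP]; omega)
    rw [hW₀m]
    rcases hcond with ⟨-, -, -, h3⟩ | ⟨hev, ⟨he, hodd⟩ | ⟨-, -, h3⟩⟩
    · omega
    · have := fix_ge_of_plus h2 hr2 hrp d (by omega) hev he hodd hg hgr
      have := Nat.mod_lt m hcpos
      omega
    · omega

end oddcase

/-- **S5989**, assembled -/
theorem main [Fintype F] {p : ℕ} [Fact p.Prime] [CharP F p] {q : ℕ}
    (hq : Fintype.card F = q)
    (hodd : Odd q) (d m : ℕ) (hd : 4 ≤ d) (hm : Odd m) (hmd : m < d)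
    (W₀ : Submodule F (Fin d ⊕ Fin d → F)) (hW₀ : Module.finrank F ↥W₀ = m ∧ Cfsg.Geo.IsNondegenerateOn (QuadraticMap.polar (Cfsg.quadFormPlus d F)) W₀)
    (r : ℕ) [Fact r.Prime]
    (hrΩ : r ∣ Nat.card {W : Submodule F (Fin d ⊕ Fin d → F) // Module.finrank F ↥W = m ∧ Cfsg.Geo.IsNondegenerateOn (QuadraticMap.polar (Cfsg.quadFormPlus d F)) W ∧ Cfsg.Geo.AreIsometricFor (Cfsg.quadFormPlus d F) W W₀})
    (i c : ℕ) (hi : i = orderOf (q : ZMod r)) (hc : c = if Even i then i else 2 * i) :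
    (∀ x : GL (Fin d ⊕ Fin d) F, x ∈ Cfsg.Geo.omegaGL (Cfsg.quadFormPlus d F) →
      (∃ z : F, ((x ^ r : GL (Fin d ⊕ Fin d) F) : Matrix (Fin d ⊕ Fin d) (Fin d ⊕ Fin d) F) = z • (1 : Matrix (Fin d ⊕ Fin d) (Fin d ⊕ Fin d) F)) →
      (∀ z : F, (x : Matrix (Fin d ⊕ Fin d) (Fin d ⊕ Fin d) F) ≠ z • (1 : Matrix (Fin d ⊕ Fin d) (Fin d ⊕ Fin d) F)) →
      ∃ W : Submodule F (Fin d ⊕ Fin d → F), (Module.finrank F ↥W = m ∧ Cfsg.Geo.IsNondegenerateOn (QuadraticMap.polar (Cfsg.quadFormPlus d F)) W ∧ Cfsg.Geo.AreIsometricFor (Cfsg.quadFormPlus d F) W W₀) ∧ W.map (Matrix.toLin' (x : Matrix (Fin d ⊕ Fin d) (Fin d ⊕ Fin d) F)) ≤ W) ↔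
    ((r = 2 ∧ Odd d ∧ q % 8 ≠ 1) ∨
     (r ≠ p ∧ 2 < r ∧ Odd i ∧ c ≤ m ∧ 0 < m % c ∧ m % c < (2 * d) % c) ∨
     (r ≠ p ∧ 2 < r ∧ Even i ∧ (((2 * d) % c = 0 ∧ Odd ((2 * d) / i)) ∨ (i ≤ m ∧ 0 < m % c ∧ m % c < (2 * d) % c)))) := by
  classical
  have h2 : (2 : F) ≠ 0 := Cfsg.Agent.Lib.Helper94.Un.two_ne_zero_of_odd_card hq hodd
  have hW₀nd : Nd (plusB d) W₀ := (nd_iff d W₀).1 hW₀.2
  have hrΩ' : r ∣ Nat.card {W : Submodule F (VP d F) // Nd (plusB d) W ∧ SameType (plusB d) W W₀} := by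
    rw [← asm_card_eq h2 d m W₀ hW₀.1]
    exact hrΩ
  have hr : r.Prime := Fact.out
  have hLHS : (∀ x : GL (Fin d ⊕ Fin d) F, x ∈ Cfsg.Geo.omegaGL (Cfsg.quadFormPlus d F) →
      (∃ z : F, ((x ^ r : GL (Fin d ⊕ Fin d) F) : Matrix (Fin d ⊕ Fin d) (Fin d ⊕ Fin d) F) = z • (1 : Matrix (Fin d ⊕ Fin d) (Fin d ⊕ Fin d) F)) →
      (∀ z : F, (x : Matrix (Fin d ⊕ Fin d) (Fin d ⊕ Fin d) F) ≠ z • (1 : Matrix (Fin d ⊕ Fin d) (Fin d ⊕ Fin d) F)) →
      ∃ W : Submodule F (Fin d ⊕ Fin d → F), (Module.finrank F ↥W = m ∧ Cfsg.Geo.IsNondegenerateOn (QuadraticMap.polar (Cfsg.quadFormPlus d F)) W ∧ Cfsg.Geo.AreIsometricFor (Cfsg.quadFormPlus d F) W W₀) ∧ W.map (Matrix.toLin' (x : Matrix (Fin d ⊕ Fin d) (Fin d ⊕ Fin d) F)) ≤ W) ↔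
      (∀ x : GL (Fin d ⊕ Fin d) F, x ∈ Cfsg.Geo.omegaGL (Cfsg.quadFormPlus d F) →
      (∃ z : F, ((x ^ r : GL (Fin d ⊕ Fin d) F) : Mat d) = z • (1 : Mat d)) →
      (∀ z : F, (x : Mat d) ≠ z • (1 : Mat d)) →
      Fixes (plusB d) (Matrix.toLin' (x : Mat d)) W₀) := by
    constructor
    · intro H x hx hz hns
      exact (asm_fixes_iff h2 d m W₀ hW₀.1 _).1 (H x hx hz hns)
    · intro H x hx hz hns
      exact (asm_fixes_iff h2 d m W₀ hW₀.1 _).2 (H x hx hz hns)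
  rw [hLHS]
  have hcblk : c = blk F r := by
    subst hi hc
    unfold Cfsg.Agent.Lib.Helper8.SpBlk.blk
    rw [hq]
  have hiq : i = orderOf ((Fintype.card F : ℕ) : ZMod r) := by rw [hi, hq]
  by_cases hr2 : r = 2
  · subst hr2
    rw [asm_case_two h2 d m hd hm hmd W₀ hW₀.1 hW₀nd, hq]
    constructor
    · intro h; exact Or.inl ⟨rfl, h⟩
    · rintro (⟨-, h⟩ | ⟨-, h, -⟩ | ⟨-, h, -⟩)
      · exact h
      · omega
      · omega
  · have h2r : 2 < r := lt_of_le_of_ne hr.two_le (Ne.symm hr2)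
    by_cases hrp : r = p
    · subst hrp
      constructor
      · intro H
        exact absurd H (asm_case_p h2 d m hd hm W₀ hW₀.1)
      · rintro (⟨h, -⟩ | ⟨h, -⟩ | ⟨h, -⟩)
        · exact absurd h hr2
        · exact absurd rfl h
        · exact absurd rfl h
    · rw [asm_case_odd h2 hr2 hrp d m hd hm hmd W₀ hW₀.1 hW₀nd hrΩ', ← hcblk, ← hiq]
      have hci : Even i → c = i := by
        intro he; rw [hc, if_pos he]
      constructor
      · rintro (⟨ho, h⟩ | ⟨he, h⟩)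
        · exact Or.inr (Or.inl ⟨hrp, h2r, ho, h⟩)
        · refine Or.inr (Or.inr ⟨hrp, h2r, he, ?_⟩)
          rcases h with ⟨h1, h3⟩ | ⟨h1, h3⟩
          · left; rw [← hci he]; exact ⟨h1, h3⟩
          · right; rw [← hci he]; exact ⟨h1, h3⟩
      · rintro (⟨h, -⟩ | ⟨-, -, ho, h⟩ | ⟨-, -, he, h⟩)
        · exact absurd h hr2
        · exact Or.inl ⟨ho, h⟩
        · refine Or.inr ⟨he, ?_⟩
          rcases h with ⟨h1, h3⟩ | ⟨h1, h3⟩
          · left; rw [← hci he] at h3; exact ⟨h1, h3⟩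
          · right; rw [← hci he] at h1; exact ⟨h1, h3⟩

end asm

end Cfsg.Agent.Lib.Helper81.On
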