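import Cfsg.Agent.Lib.Helper81.ClassTable
import Cfsg.Agent.Lib.Helper79.Basic
import Cfsg.Agent.Lib.Helper3.Eigen

set_option autoImplicit false

namespace Cfsg.Agent.Lib.Helper81

open Cfsg
open scoped ComplexConjugate

universe u
variable {G : Type u} [Group G]

/-- Entrywise complex conjugate of a representation on a coordinate space. -/
noncomputable def conjRep {n : ℕ} (ρ : Representation ℂ G (Fin n → ℂ)) :
    Representation ℂ G (Fin n → ℂ) where
  toFun g := Matrix.toLin' ((LinearMap.toMatrix' (ρ g)).map (starRingEnd ℂ))
  map_one' := by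
    rw [map_one]
    have : LinearMap.toMatrix' (1 : (Fin n → ℂ) →ₗ[ℂ] (Fin n → ℂ)) = 1 := LinearMap.toMatrix'_one
    rw [this, Matrix.map_one _ (map_zero _) (map_one _)]
    exact Matrix.toLin'_one
  map_mul' a b := by
    rw [map_mul]
    have : LinearMap.toMatrix' (ρ a * ρ b) = LinearMap.toMatrix' (ρ a) * LinearMap.toMatrix' (ρ b) :=
      LinearMap.toMatrix'_mul _ _
    rw [this, Matrix.map_mul, Matrix.toLin'_mul]
    rfl

theorem conjRep_apply {n : ℕ} (ρ : Representation ℂ G (Fin n → ℂ)) (g : G) (v : Fin n → ℂ) :
    conjRep ρ g v = fun i => conj (ρ g (fun j => conj (v j)) i) := by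
  ext i
  change (Matrix.toLin' ((LinearMap.toMatrix' (ρ g)).map (starRingEnd ℂ))) v i = _
  rw [Matrix.toLin'_apply]
  have h2 : ρ g (fun j => conj (v j)) = (LinearMap.toMatrix' (ρ g)).mulVec (fun j => conj (v j)) := by
    rw [← Matrix.toLin'_apply, Matrix.toLin'_toMatrix']
  rw [h2]
  simp only [Matrix.mulVec, dotProduct, Matrix.map_apply, map_sum, map_mul, Complex.conj_conj]

theorem conjRep_character {n : ℕ} (ρ : Representation ℂ G (Fin n → ℂ)) (g : G) :
    (conjRep ρ).character g = conj (ρ.character g) := by
  change LinearMap.trace ℂ _ (Matrix.toLin' ((LinearMap.toMatrix' (ρ g)).map (starRingEnd ℂ))) = _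
  rw [Matrix.trace_toLin'_eq]
  have : ρ.character g = (LinearMap.toMatrix' (ρ g)).trace := by
    rw [Representation.character, ← Matrix.trace_toLin'_eq, Matrix.toLin'_toMatrix']
  rw [this]
  simp only [Matrix.trace, Matrix.diag_apply, Matrix.map_apply, map_sum]

theorem conjRep_isIrreducible {n : ℕ} (ρ : Representation ℂ G (Fin n → ℂ))
    (hρ : ρ.IsIrreducible) : (conjRep ρ).IsIrreducible := by
  have hn : n ≠ 0 := dim_ne_zero_of_isIrreducible ρ hρ
  have hne : Nontrivial (Fin n → ℂ) := by
    have : Nonempty (Fin n) := ⟨⟨0, Nat.pos_of_ne_zero hn⟩⟩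
    infer_instance
  refine { exists_pair_ne := ⟨⊥, ⊤, ?_⟩, eq_bot_or_eq_top := ?_ }
  · intro h
    have h1 : (⊥ : Subrepresentation (conjRep ρ)).toSubmodule =
        (⊤ : Subrepresentation (conjRep ρ)).toSubmodule := by
      rw [h]
    exact bot_ne_top h1
  · intro W
    -- the conjugate subspace is a subrepresentation of ρ
    let W' : Subrepresentation ρ :=
      { toSubmodule :=
          { carrier := {v | (fun j => conj (v j)) ∈ W.toSubmodule}
            add_mem' := by
              intro a b ha hb
              simp only [Set.mem_ofPred_eq, Pi.add_apply, map_add] at ha hb ⊢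
              exact W.toSubmodule.add_mem ha hb
            zero_mem' := by
              simp only [Set.mem_ofPred_eq, Pi.zero_apply, map_zero]
              exact W.toSubmodule.zero_mem
            smul_mem' := by
              intro c v hv
              simp only [Set.mem_ofPred_eq, Pi.smul_apply, smul_eq_mul, map_mul] at hv ⊢
              exact W.toSubmodule.smul_mem (conj c) hv }
        apply_mem_toSubmodule := by
          intro g v hv
          simp only [Submodule.mem_mk, AddSubmonoid.mem_mk, AddSubsemigroup.mem_mk,
            Set.mem_ofPred_eq] at hv ⊢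
          have := W.apply_mem_toSubmodule g hv
          rw [conjRep_apply] at this
          simpa only [Complex.conj_conj] using this }
    have hmem : ∀ v, v ∈ W'.toSubmodule ↔ (fun j => conj (v j)) ∈ W.toSubmodule := fun v => Iff.rfl
    rcases hρ.eq_bot_or_eq_top W' with h0 | h1
    · left
      apply Subrepresentation.toSubmodule_injective
      change W.toSubmodule = ⊥
      rw [eq_bot_iff]
      intro v hv
      have hv' : (fun j => conj (v j)) ∈ W'.toSubmodule := by
        rw [hmem]
        simpa only [Complex.conj_conj] using hv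
      rw [h0] at hv'
      have hz : (fun j => conj (v j)) = 0 := hv'
      rw [Submodule.mem_bot]
      ext j
      have := congrFun hz j
      simpa using this
    · right
      apply Subrepresentation.toSubmodule_injective
      change W.toSubmodule = ⊤
      rw [eq_top_iff]
      intro v _
      have hv' : (fun j => conj (v j)) ∈ W'.toSubmodule := by
        rw [h1]
        trivial
      rw [hmem] at hv'
      simpa only [Complex.conj_conj] using hv'

theorem isIrrCharacter_conj {χ : G → ℂ} (h : IsIrrCharacter G χ) :
    IsIrrCharacter G (fun g => conj (χ g)) := by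
  obtain ⟨n, ρ, hρ, rfl⟩ := h
  exact ⟨n, conjRep ρ, conjRep_isIrreducible ρ hρ, funext (conjRep_character ρ)⟩


/-- Complex conjugation as a permutation of the irreducible characters. -/
noncomputable def irrConj (G : Type u) [Group G] : Equiv.Perm (IrrCharacter G) where
  toFun χ := ⟨fun g => conj ((χ : G → ℂ) g), isIrrCharacter_conj χ.2⟩
  invFun χ := ⟨fun g => conj ((χ : G → ℂ) g), isIrrCharacter_conj χ.2⟩
  left_inv χ := by
    apply Subtype.ext
    funext g
    simp only [Complex.conj_conj]
  right_inv χ := by
    apply Subtype.ext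
    funext g
    simp only [Complex.conj_conj]

theorem irrConj_apply (χ : IrrCharacter G) (g : G) :
    ((irrConj G χ : IrrCharacter G) : G → ℂ) g = conj ((χ : G → ℂ) g) := rfl

theorem irrConj_eq_self_iff (χ : IrrCharacter G) :
    irrConj G χ = χ ↔ ∀ g : G, ((χ : G → ℂ) g).im = 0 := by
  constructor
  · intro h g
    have := congrFun (congrArg Subtype.val h) g
    rw [irrConj_apply] at this
    exact Complex.conj_eq_iff_im.1 this
  · intro h
    apply Subtype.ext
    funext g
    rw [irrConj_apply]
    exact Complex.conj_eq_iff_im.2 (h g)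

/-- Twisting by an automorphism as a permutation of the irreducible characters. -/
noncomputable def irrTwist (α : G ≃* G) : Equiv.Perm (IrrCharacter G) where
  toFun χ := ⟨fun g => (χ : G → ℂ) (α.symm g),
    Cfsg.Agent.Lib.Helper79.isIrrCharacter_comp_surjective χ.2 α.symm.toMonoidHom
      α.symm.surjective⟩
  invFun χ := ⟨fun g => (χ : G → ℂ) (α g),
    Cfsg.Agent.Lib.Helper79.isIrrCharacter_comp_surjective χ.2 α.toMonoidHom α.surjective⟩
  left_inv χ := by
    apply Subtype.ext
    funext g
    simp
  right_inv χ := by
    apply Subtype.ext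
    funext g
    simp

theorem irrTwist_apply (α : G ≃* G) (χ : IrrCharacter G) (g : G) :
    ((irrTwist α χ : IrrCharacter G) : G → ℂ) g = (χ : G → ℂ) (α.symm g) := rfl

theorem irrTwist_eq_self_iff (α : G ≃* G) (χ : IrrCharacter G) :
    irrTwist α χ = χ ↔ (χ : G → ℂ) ∘ α = (χ : G → ℂ) := by
  constructor
  · intro h
    funext g
    have := congrFun (congrArg Subtype.val h) (α g)
    rw [irrTwist_apply, MulEquiv.symm_apply_apply] at this
    exact this.symm
  · intro h
    apply Subtype.ext
    funext g
    rw [irrTwist_apply]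
    have := congrFun h (α.symm g)
    simp only [Function.comp_apply, MulEquiv.apply_symm_apply] at this
    exact this.symm

/-- The permutation of the conjugacy classes induced by an automorphism. -/
noncomputable def classMap (α : G ≃* G) : Equiv.Perm (ConjClasses G) where
  toFun := ConjClasses.map α.toMonoidHom
  invFun := ConjClasses.map α.symm.toMonoidHom
  left_inv C := by
    obtain ⟨g, rfl⟩ := ConjClasses.exists_rep C
    change ConjClasses.mk (α.symm (α g)) = ConjClasses.mk g
    rw [MulEquiv.symm_apply_apply]
  right_inv C := by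
    obtain ⟨g, rfl⟩ := ConjClasses.exists_rep C
    change ConjClasses.mk (α (α.symm g)) = ConjClasses.mk g
    rw [MulEquiv.apply_symm_apply]

theorem classMap_mk (α : G ≃* G) (g : G) :
    classMap α (ConjClasses.mk g) = ConjClasses.mk (α g) := rfl

theorem isConj_inv_inv {a b : G} (hab : IsConj a b) : IsConj a⁻¹ b⁻¹ := by
  obtain ⟨c, hc⟩ := isConj_iff.1 hab
  exact isConj_iff.2 ⟨c, by rw [← hc]; group⟩

/-- Inversion on conjugacy classes. -/
noncomputable def classInvFun (G : Type u) [Group G] : ConjClasses G → ConjClasses G :=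
  Quotient.map (sa := IsConj.setoid G) (sb := IsConj.setoid G) (fun g => g⁻¹)
    (fun _ _ hab => isConj_inv_inv hab)

theorem classInvFun_mk (g : G) : classInvFun G (ConjClasses.mk g) = ConjClasses.mk g⁻¹ := rfl

/-- Inversion as a permutation of the conjugacy classes. -/
noncomputable def classInv (G : Type u) [Group G] : Equiv.Perm (ConjClasses G) where
  toFun := classInvFun G
  invFun := classInvFun G
  left_inv C := by
    obtain ⟨g, rfl⟩ := ConjClasses.exists_rep C
    rw [classInvFun_mk, classInvFun_mk, inv_inv]
  right_inv C := by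
    obtain ⟨g, rfl⟩ := ConjClasses.exists_rep C
    rw [classInvFun_mk, classInvFun_mk, inv_inv]

theorem classInv_mk (g : G) : classInv G (ConjClasses.mk g) = ConjClasses.mk g⁻¹ := rfl

theorem classInv_eq_self_iff (C : ConjClasses G) :
    classInv G C = C ↔ ∀ g : G, ConjClasses.mk g = C → IsConj g g⁻¹ := by
  constructor
  · rintro h g rfl
    rw [classInv_mk, ConjClasses.mk_eq_mk_iff_isConj] at h
    exact h.symm
  · intro h
    obtain ⟨g, rfl⟩ := ConjClasses.exists_rep C
    rw [classInv_mk, ConjClasses.mk_eq_mk_iff_isConj]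
    exact (h g rfl).symm

theorem irr_inv_eq_conj [Finite G] (χ : IrrCharacter G) (g : G) :
    (χ : G → ℂ) g⁻¹ = conj ((χ : G → ℂ) g) := by
  obtain ⟨_, n, ρ, hρ, rfl⟩ := χ
  exact Cfsg.Agent.Lib.Helper3.character_inv ρ g

end Cfsg.Agent.Lib.Helper81
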