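import Mathlib
import Cfsg.Agent.Lib.Helper4.DihedralSylow
import Cfsg.Agent.Lib.Helper3.Ortho

/-!
# Groups in which the centralizer of an involution is dihedral of order eight: group theory
-/

set_option autoImplicit false
set_option linter.unusedSectionVars false
set_option linter.unusedVariables false
set_option linter.style.haveILetI false

namespace Cfsg.Agent.Lib.Helper81.DE

open DihedralGroup Subgroup

section decide
set_option maxRecDepth 100000

theorem d8_central_cases : ∀ d : DihedralGroup 4,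
    (∀ d' : DihedralGroup 4, d' * d = d * d') → d = 1 ∨ d = r 2 := by
  decide

theorem d8_comm_r_cases : ∀ d : DihedralGroup 4, d * r 1 = r 1 * d → ∃ j : ZMod 4, d = r j := by
  decide

theorem d8_invert_cases : ∀ d : DihedralGroup 4, d * r 1 * d⁻¹ = r 3 → ∃ j : ZMod 4, d = sr j := by
  decide

theorem d8_r_one_inv : (r 1 : DihedralGroup 4)⁻¹ = r 3 := by decide

theorem d8_sr_conj : (sr 0 : DihedralGroup 4) * r 1 * (sr 0)⁻¹ = (r 1)⁻¹ := by decide

theorem d8_r_eq_pow : ∀ j : ZMod 4, (r j : DihedralGroup 4) = (r 1) ^ j.val := by decide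

end decide

variable {G : Type*} [Group G]

/-- The hypotheses: `ι` embeds the dihedral group of order eight onto the centralizer of the
involution `t`. -/
structure Setup (ι : DihedralGroup 4 →* G) (t : G) : Prop where
  inj : Function.Injective ι
  cent : centralizer ({t} : Set G) = ι.range
  ord : orderOf t = 2

namespace Setup

variable {ι : DihedralGroup 4 →* G} {t : G}

theorem t_ne_one (h : Setup ι t) : t ≠ 1 := by
  intro h1
  have := h.ord
  rw [h1, orderOf_one] at this
  omega

theorem t_mul_self (h : Setup ι t) : t * t = 1 := by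
  have := pow_orderOf_eq_one t
  rw [h.ord, pow_two] at this
  exact this

theorem t_inv (h : Setup ι t) : t⁻¹ = t := inv_eq_of_mul_eq_one_left h.t_mul_self

theorem t_mem (h : Setup ι t) : t ∈ ι.range := by
  rw [← h.cent, mem_centralizer_singleton_iff]

theorem t_eq (h : Setup ι t) : t = ι (r 2) := by
  obtain ⟨d, hd⟩ := h.t_mem
  have hcen : ∀ d' : DihedralGroup 4, d' * d = d * d' := by
    intro d'
    apply h.inj
    have h1 : ι d' ∈ centralizer ({t} : Set G) := by rw [h.cent]; exact ⟨d', rfl⟩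
    rw [mem_centralizer_singleton_iff] at h1
    rw [map_mul, map_mul, hd]
    exact h1
  rcases d8_central_cases d hcen with rfl | rfl
  · rw [map_one] at hd
    exact absurd hd.symm h.t_ne_one
  · exact hd.symm

theorem mem_range_of_conj_fix (h : Setup ι t) (g : G) (hg : g * t * g⁻¹ = t) : g ∈ ι.range := by
  rw [← h.cent, mem_centralizer_singleton_iff]
  calc g * t = g * t * g⁻¹ * g := by group
    _ = t * g := by rw [hg]

theorem normalizer_le (h : Setup ι t) : normalizer (ι.range : Set G) ≤ ι.range := by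
  intro g hg
  rw [mem_normalizer_iff] at hg
  apply h.mem_range_of_conj_fix
  have hc : g * t * g⁻¹ ∈ ι.range := (hg t).mp h.t_mem
  obtain ⟨d, hd⟩ := hc
  have hcen : ∀ d' : DihedralGroup 4, d' * d = d * d' := by
    intro d'
    apply h.inj
    rw [map_mul, map_mul, hd]
    have h1 : g⁻¹ * ι d' * g ∈ ι.range := by
      apply (hg (g⁻¹ * ι d' * g)).mpr
      have : g * (g⁻¹ * ι d' * g) * g⁻¹ = ι d' := by group
      rw [this]
      exact ⟨d', rfl⟩
    rw [← h.cent, mem_centralizer_singleton_iff] at h1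
    calc ι d' * (g * t * g⁻¹) = g * (g⁻¹ * ι d' * g * t) * g⁻¹ := by group
      _ = g * (t * (g⁻¹ * ι d' * g)) * g⁻¹ := by rw [h1]
      _ = g * t * g⁻¹ * ι d' := by group
  rcases d8_central_cases d hcen with rfl | rfl
  · exfalso
    rw [map_one] at hd
    apply h.t_ne_one
    calc t = g⁻¹ * (g * t * g⁻¹) * g := by group
      _ = 1 := by rw [← hd]; group
  · rw [← hd, ← h.t_eq]

theorem card_range (h : Setup ι t) : Nat.card ι.range = 2 ^ 3 := by
  rw [← Nat.card_congr (MonoidHom.ofInjective h.inj).toEquiv, DihedralGroup.nat_card]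
  norm_num

theorem exists_sylow [Finite G] (h : Setup ι t) :
    ∃ P : Sylow 2 G, (P : Subgroup G) = ι.range := by
  haveI : Fact (Nat.Prime 2) := ⟨Nat.prime_two⟩
  have hcard := h.card_range
  have hmod := Sylow.card_quotient_normalizer_modEq_card_quotient (p := 2) hcard
  have hN : Subgroup.comap (normalizer (ι.range : Set G)).subtype ι.range = ⊤ :=
    Subgroup.subgroupOf_eq_top.mpr h.normalizer_le
  rw [hN] at hmod
  have h1 : Nat.card (↥(normalizer (ι.range : Set G)) ⧸
      (⊤ : Subgroup ↥(normalizer (ι.range : Set G)))) = 1 := by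
    rw [← Subgroup.index_eq_card, Subgroup.index_top]
  rw [h1, ← Subgroup.index_eq_card] at hmod
  have hodd : ¬ 2 ∣ ι.range.index := by
    intro hdvd
    have h0 := Nat.modEq_zero_iff_dvd.mpr hdvd
    have h2 := hmod.trans h0
    simp [Nat.ModEq] at h2
  have hp : IsPGroup 2 ι.range := IsPGroup.of_card hcard
  exact ⟨hp.toSylow hodd, IsPGroup.toSylow_coe hp hodd⟩

end Setup

theorem no_index_two (hperf : commutator G = ⊤) (M : Subgroup G) [M.Normal] : M.index ≠ 2 := by
  intro h2
  have hcard : Nat.card (G ⧸ M) = 2 := by rw [← Subgroup.index_eq_card]; exact h2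
  haveI : Fact (Nat.Prime 2) := ⟨Nat.prime_two⟩
  haveI : IsCyclic (G ⧸ M) := isCyclic_of_prime_card hcard
  letI : CommGroup (G ⧸ M) := IsCyclic.commGroup
  have h3 := Abelianization.commutator_subset_ker (QuotientGroup.mk' M)
  rw [QuotientGroup.ker_mk', hperf] at h3
  have h4 : M = ⊤ := top_le_iff.mp h3
  rw [h4, Subgroup.index_top] at h2
  omega

namespace Setup

variable {ι : DihedralGroup 4 →* G} {t : G}

theorem zc_eq (h : Setup ι t) : ι (Cfsg.Agent.Lib.Helper4.DF.zc 4) = t := by
  rw [h.t_eq]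
  rfl

theorem all_conj [Finite G] (h : Setup ι t) (hperf : commutator G = ⊤) (u : G)
    (hu : orderOf u = 2) : IsConj t u := by
  obtain ⟨P, hP⟩ := h.exists_sylow
  have hz := h.zc_eq
  have hfuse : ∀ i : ZMod 4, IsConj t (ι (sr i)) := by
    intro i
    by_contra hF
    rw [← hz] at hF
    obtain ⟨M, hM, hMi⟩ :=
      Cfsg.Agent.Lib.Helper4.DS.exists_index_two ι P hP h.inj (by norm_num) i hF
    haveI := hM
    exact no_index_two hperf M hMi
  rcases Cfsg.Agent.Lib.Helper4.DS.invol_rep ι P hP h.inj (by norm_num) u hu with h1 | h1 | h1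
  · rw [hz] at h1; exact h1.symm
  · exact (hfuse 0).trans h1.symm
  · rw [r_mul_sr] at h1; exact (hfuse _).trans h1.symm

theorem orderOf_sig (h : Setup ι t) : orderOf (ι (r 1)) = 4 := by
  rw [orderOf_injective ι h.inj, orderOf_r_one]

theorem sig_sq (h : Setup ι t) : ι (r 1) * ι (r 1) = t := by
  rw [← map_mul, r_mul_r, h.t_eq]
  norm_num

theorem sig_conj_inv (h : Setup ι t) : IsConj (ι (r 1)) (ι (r 1))⁻¹ :=
  isConj_iff.mpr ⟨ι (sr 0), by rw [← map_inv, ← map_inv, ← map_mul, ← map_mul, d8_sr_conj]⟩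

theorem centralizer_sig (h : Setup ι t) :
    centralizer ({ι (r 1)} : Set G) = zpowers (ι (r 1)) := by
  ext g
  constructor
  · intro hg
    rw [mem_centralizer_singleton_iff] at hg
    have hgt : g * t * g⁻¹ = t := by
      rw [← h.sig_sq]
      calc g * (ι (r 1) * ι (r 1)) * g⁻¹ = (g * ι (r 1)) * ι (r 1) * g⁻¹ := by group
        _ = (ι (r 1) * g) * ι (r 1) * g⁻¹ := by rw [hg]
        _ = ι (r 1) * (g * ι (r 1)) * g⁻¹ := by group
        _ = ι (r 1) * (ι (r 1) * g) * g⁻¹ := by rw [hg]
        _ = ι (r 1) * ι (r 1) := by group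
    obtain ⟨d, rfl⟩ := h.mem_range_of_conj_fix g hgt
    have hd : d * r 1 = r 1 * d := h.inj (by rw [map_mul, map_mul]; exact hg)
    obtain ⟨j, rfl⟩ := d8_comm_r_cases d hd
    refine ⟨(j.val : ℤ), ?_⟩
    show ι (r 1) ^ (j.val : ℤ) = ι (r j)
    rw [zpow_natCast, ← map_pow, ← d8_r_eq_pow]
  · intro hg
    obtain ⟨k, rfl⟩ := hg
    rw [mem_centralizer_singleton_iff]
    exact ((Commute.refl (ι (r 1))).zpow_left k).eq

theorem card_centralizer_sig (h : Setup ι t) :
    Nat.card (centralizer ({ι (r 1)} : Set G)) = 4 := by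
  rw [h.centralizer_sig, Nat.card_zpowers, h.orderOf_sig]

theorem sig_not_conj_t (h : Setup ι t) : ¬ IsConj (ι (r 1)) t := by
  intro hc
  obtain ⟨g, hg⟩ := isConj_iff.mp hc
  have h1 : orderOf (g * ι (r 1) * g⁻¹) = 4 := by
    rw [← MulAut.conj_apply, MulEquiv.orderOf_eq]; exact h.orderOf_sig
  rw [hg, h.ord] at h1
  omega

theorem sig_not_conj_one (h : Setup ι t) : ¬ IsConj (ι (r 1)) 1 := by
  intro hc
  obtain ⟨g, hg⟩ := isConj_iff.mp hc
  have h1 : orderOf (g * ι (r 1) * g⁻¹) = 4 := by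
    rw [← MulAut.conj_apply, MulEquiv.orderOf_eq]; exact h.orderOf_sig
  rw [hg, orderOf_one] at h1
  omega

theorem card_pairs [Finite G] (h : Setup ι t) (hall : ∀ u : G, orderOf u = 2 → IsConj t u) :
    Nat.card {p : G × G // IsConj t p.1 ∧ IsConj t p.2 ∧ p.1 * p.2 = ι (r 1)} = 4 := by
  have hsr : ∀ i : ZMod 4, IsConj t (ι (sr i)) := fun i =>
    hall _ (by rw [orderOf_injective ι h.inj, orderOf_sr])
  have hord : ∀ u : G, IsConj t u → u * u = 1 := by
    intro u hu
    obtain ⟨g, hg⟩ := isConj_iff.mp hu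
    rw [← hg]
    calc g * t * g⁻¹ * (g * t * g⁻¹) = g * (t * t) * g⁻¹ := by group
      _ = 1 := by rw [h.t_mul_self]; group
  let f : ZMod 4 → {p : G × G // IsConj t p.1 ∧ IsConj t p.2 ∧ p.1 * p.2 = ι (r 1)} :=
    fun i => ⟨(ι (sr i), ι (sr (i + 1))), hsr i, hsr (i + 1), by
      show ι (sr i) * ι (sr (i + 1)) = ι (r 1)
      rw [← map_mul, sr_mul_sr]
      congr 2
      ring⟩
  have hf : Function.Bijective f := by
    constructor
    · intro i j hij
      have h1 : ι (sr i) = ι (sr j) := congrArg (fun p => p.1.1) hij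
      exact sr.inj (h.inj h1)
    · rintro ⟨⟨u, v⟩, hu, hv, huv⟩
      have hu2 : u * u = 1 := hord u hu
      have hv2 : v * v = 1 := hord v hv
      have huinv : u⁻¹ = u := inv_eq_of_mul_eq_one_left hu2
      have hvinv : v⁻¹ = v := inv_eq_of_mul_eq_one_left hv2
      simp only at huv
      have hinv : u * ι (r 1) * u⁻¹ = (ι (r 1))⁻¹ := by
        rw [← huv, mul_inv_rev, huinv, hvinv]
        calc u * (u * v) * u = (u * u) * v * u := by group
          _ = v * u := by rw [hu2, one_mul]
      have hut : u * t * u⁻¹ = t := by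
        rw [← h.sig_sq]
        calc u * (ι (r 1) * ι (r 1)) * u⁻¹
            = (u * ι (r 1) * u⁻¹) * (u * ι (r 1) * u⁻¹) := by group
          _ = (ι (r 1) * ι (r 1))⁻¹ := by rw [hinv]; group
          _ = ι (r 1) * ι (r 1) := by rw [h.sig_sq, h.t_inv]
      obtain ⟨d, rfl⟩ := h.mem_range_of_conj_fix u hut
      have hd : d * r 1 * d⁻¹ = r 3 := h.inj (by
        rw [map_mul, map_mul, map_inv, hinv, ← map_inv, d8_r_one_inv])
      obtain ⟨j, rfl⟩ := d8_invert_cases d hd
      refine ⟨j, ?_⟩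
      apply Subtype.ext
      apply Prod.ext
      · rfl
      · show ι (sr (j + 1)) = v
        have hv' : v = (ι (sr j))⁻¹ * ι (r 1) := by rw [← huv]; group
        rw [hv', ← map_inv, ← map_mul, inv_sr, sr_mul_r]
  rw [← Nat.card_congr (Equiv.ofBijective f hf)]
  simp

theorem card_eq [Finite G] (h : Setup ι t) :
    ∃ m : ℕ, Odd m ∧ Nat.card G = 8 * m ∧ Nat.card {x : G // IsConj t x} = m := by
  haveI : Fact (Nat.Prime 2) := ⟨Nat.prime_two⟩
  obtain ⟨P, hP⟩ := h.exists_sylow
  refine ⟨ι.range.index, ?_, ?_, ?_⟩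
  · have := P.not_dvd_index
    rw [hP] at this
    exact Nat.odd_iff.mpr (by omega)
  · rw [← ι.range.card_mul_index, h.card_range]
    norm_num
  · rw [← h.cent, Cfsg.Agent.Lib.Helper3.index_centralizer_eq_ncard, ← Nat.card_coe_set_eq]
    apply Nat.card_congr
    exact Equiv.subtypeEquivRight (fun x => isConj_comm)

end Setup

end Cfsg.Agent.Lib.Helper81.DE
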