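import Mathlib
import Cfsg.Agent.Lib.Helper81.DihEightGroup
import Cfsg.Agent.Lib.Helper17.InvertTools
import Cfsg.Agent.Lib.Helper25.FrobInvol

/-!
# Groups in which the centralizer of an involution is dihedral of order eight: simplicity
-/

set_option autoImplicit false
set_option linter.unusedSectionVars false
set_option linter.unusedVariables false
set_option linter.style.haveILetI false

namespace Cfsg.Agent.Lib.Helper81.DE

open DihedralGroup Subgroup
open scoped commutatorElement

variable {G : Type*} [Group G]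

namespace Setup

variable {ι : DihedralGroup 4 →* G} {t : G}

theorem all_conj' [Finite G] (h : Setup ι t)
    (hno : ∀ M : Subgroup G, M.Normal → M.index ≠ 2) (u : G)
    (hu : orderOf u = 2) : IsConj t u := by
  obtain ⟨P, hP⟩ := h.exists_sylow
  have hz := h.zc_eq
  have hfuse : ∀ i : ZMod 4, IsConj t (ι (sr i)) := by
    intro i
    by_contra hF
    rw [← hz] at hF
    obtain ⟨M, hM, hMi⟩ :=
      Cfsg.Agent.Lib.Helper4.DS.exists_index_two ι P hP h.inj (by norm_num) i hF
    exact hno M hM hMi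
  rcases Cfsg.Agent.Lib.Helper4.DS.invol_rep ι P hP h.inj (by norm_num) u hu with h1 | h1 | h1
  · rw [hz] at h1; exact h1.symm
  · exact (hfuse 0).trans h1.symm
  · rw [r_mul_sr] at h1; exact (hfuse _).trans h1.symm

/-- A normal subgroup containing `t` contains the centralizer of `t`, when all involutions are
conjugate. -/
theorem range_le_of_t_mem (h : Setup ι t) (hall : ∀ u : G, orderOf u = 2 → IsConj t u)
    (N : Subgroup G) [hN : N.Normal] (ht : t ∈ N) : ι.range ≤ N := by
  have hsr : ∀ i : ZMod 4, ι (sr i) ∈ N := by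
    intro i
    have hc := hall (ι (sr i)) (by rw [orderOf_injective ι h.inj, orderOf_sr])
    obtain ⟨g, hg⟩ := isConj_iff.mp hc
    rw [← hg]
    exact hN.conj_mem t ht g
  rintro _ ⟨d, rfl⟩
  rcases Cfsg.Agent.Lib.Helper4.DF.elt_prod_invol d with ⟨i, rfl⟩ | ⟨i, rfl⟩
  · exact hsr i
  · rw [map_mul]
    exact N.mul_mem (hsr 0) (hsr i)

/-- Frattini argument: a normal subgroup containing the centralizer of `t` is everything. -/
theorem eq_top_of_range_le [Finite G] (h : Setup ι t) (N : Subgroup G) [hN : N.Normal]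
    (hle : ι.range ≤ N) : N = ⊤ := by
  haveI : Fact (Nat.Prime 2) := ⟨Nat.prime_two⟩
  obtain ⟨P, hP⟩ := h.exists_sylow
  have hPN : (P : Subgroup G) ≤ N := hP ▸ hle
  have hfr := Sylow.normalizer_sup_eq_top (P.subtype hPN)
  have hmap : ((P.subtype hPN : Sylow 2 N) : Subgroup N).map N.subtype = ι.range := by
    rw [Sylow.coe_subtype, Subgroup.subgroupOf_map_subtype, hP]
    exact inf_eq_left.mpr hle
  rw [hmap] at hfr
  have h1 : normalizer (ι.range : Set G) ≤ N := le_trans h.normalizer_le hle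
  rw [sup_eq_right.mpr h1] at hfr
  exact hfr

/-- The group is perfect when all involutions are conjugate. -/
theorem perfect [Finite G] (h : Setup ι t) (hall : ∀ u : G, orderOf u = 2 → IsConj t u) :
    commutator G = ⊤ := by
  haveI : (commutator G).Normal := by
    rw [_root_.commutator_def]
    infer_instance
  apply h.eq_top_of_range_le (commutator G)
  -- every reflection lies in the commutator subgroup
  have hsr : ∀ i : ZMod 4, ι (sr i) ∈ commutator G := by
    intro i
    -- `sr i = t * sr (i + 2)` and `sr (i + 2)` is a conjugate of `t`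
    have hc := hall (ι (sr (i + 2))) (by rw [orderOf_injective ι h.inj, orderOf_sr])
    obtain ⟨g, hg⟩ := isConj_iff.mp hc
    have h1 : ι (sr i) = t⁻¹ * (g * t * g⁻¹) := by
      rw [hg, h.t_inv, h.t_eq, ← map_mul, r_mul_sr]
      congr 2
      ring
    rw [h1]
    have h2 : t⁻¹ * (g * t * g⁻¹) = ⁅t⁻¹, g⁆ := by
      rw [commutatorElement_def]
      group
    rw [h2, _root_.commutator_def]
    exact Subgroup.commutator_mem_commutator (Subgroup.mem_top _) (Subgroup.mem_top _)
  rintro _ ⟨d, rfl⟩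
  rcases Cfsg.Agent.Lib.Helper4.DF.elt_prod_invol d with ⟨i, rfl⟩ | ⟨i, rfl⟩
  · exact hsr i
  · rw [map_mul]
    exact (commutator G).mul_mem (hsr 0) (hsr i)

/-- Elements of odd order commuting with an involution are trivial. -/
theorem eq_one_of_commute [Finite G] (h : Setup ι t) (u : G) (hu : IsConj t u) (n : G)
    (k : ℕ) (hk : Odd k) (hnk : n ^ k = 1) (hcomm : u * n = n * u) : n = 1 := by
  obtain ⟨g, hg⟩ := isConj_iff.mp hu
  have h1 : g⁻¹ * n * g ∈ ι.range := by
    apply h.mem_range_of_conj_fix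
    have h2 : g * t * g⁻¹ * n = n * (g * t * g⁻¹) := by rw [hg]; exact hcomm
    calc g⁻¹ * n * g * t * (g⁻¹ * n * g)⁻¹ = g⁻¹ * (n * (g * t * g⁻¹)) * n⁻¹ * g := by group
      _ = g⁻¹ * (g * t * g⁻¹ * n) * n⁻¹ * g := by rw [h2]
      _ = t := by group
  have h8 : (g⁻¹ * n * g) ^ 8 = 1 := by
    have hc : Nat.card ι.range = 8 := by rw [h.card_range]; norm_num
    have h3 : (⟨g⁻¹ * n * g, h1⟩ : ι.range) ^ 8 = 1 := by
      rw [← hc]
      exact pow_card_eq_one'
    have := congrArg Subtype.val h3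
    simpa using this
  have hn8 : n ^ 8 = 1 := by
    have h3 : (g⁻¹ * n * g) ^ 8 = g⁻¹ * n ^ 8 * g := by
      have := conj_pow (a := g⁻¹) (b := n) (i := 8)
      rw [inv_inv] at this
      exact this
    rw [h3] at h8
    calc n ^ 8 = g * (g⁻¹ * n ^ 8 * g) * g⁻¹ := by group
      _ = 1 := by rw [h8]; group
  have hd1 : orderOf n ∣ 8 := orderOf_dvd_of_pow_eq_one hn8
  have hd2 : orderOf n ∣ k := orderOf_dvd_of_pow_eq_one hnk
  have hd3 : orderOf n ∣ Nat.gcd 8 k := Nat.dvd_gcd hd1 hd2
  have hg1 : Nat.gcd 8 k = 1 := by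
    have : Nat.Coprime (2 ^ 3) k := Nat.Coprime.pow_left 3 (Nat.coprime_two_left.mpr hk)
    simpa using this
  rw [hg1, Nat.dvd_one] at hd3
  exact orderOf_eq_one_iff.mp hd3

/-- A normal subgroup of odd order is trivial, when all involutions are conjugate. -/
theorem odd_normal_eq_bot [Finite G] (h : Setup ι t)
    (hall : ∀ u : G, orderOf u = 2 → IsConj t u) (N : Subgroup G) [hN : N.Normal]
    (hodd : Odd (Nat.card N)) : N = ⊥ := by
  have hpow : ∀ n ∈ N, n ^ Nat.card N = 1 := by
    intro n hn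
    have h3 : (⟨n, hn⟩ : N) ^ Nat.card N = 1 := pow_card_eq_one'
    have := congrArg Subtype.val h3
    simpa only [SubgroupClass.coe_pow, OneMemClass.coe_one] using this
  -- every involution inverts `N`
  have hinv : ∀ u : G, orderOf u = 2 → ∀ n ∈ N, u * n * u⁻¹ = n⁻¹ := by
    intro u hu
    have hu2 : u * u = 1 := by
      have := pow_orderOf_eq_one u
      rw [hu, pow_two] at this
      exact this
    have hfpf : ∀ n ∈ N, u * n = n * u → n = 1 := fun n hn hc =>
      h.eq_one_of_commute u (hall u hu) n (Nat.card N) hodd (hpow n hn) hc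
    have hnorm : ∀ n ∈ N, u * n * u⁻¹ ∈ N := fun n hn => hN.conj_mem n hn u
    have hab := Cfsg.Agent.Lib.Helper25.abelian_of_fpf_involution N u hu2 hnorm hfpf
    have huN : u ∈ normalizer (N : Set G) := by
      rw [normalizer_eq_top]
      exact mem_top u
    exact Cfsg.Agent.Lib.Helper17.inverts_of_fpf N hab u huN hu2
      (fun x hx hc => hfpf x hx hc.symm)
  have ho1 : orderOf (ι (sr 0)) = 2 := by rw [orderOf_injective ι h.inj, orderOf_sr]
  have ho2 : orderOf (ι (sr 2)) = 2 := by rw [orderOf_injective ι h.inj, orderOf_sr]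
  have hprod : t = ι (sr 0) * ι (sr 2) := by
    rw [h.t_eq, ← map_mul, sr_mul_sr]
    norm_num
  rw [eq_bot_iff]
  intro n hn
  rw [mem_bot]
  have h1 := hinv t h.ord n hn
  have h2 := hinv (ι (sr 2)) ho2 n hn
  have h3 := hinv (ι (sr 0)) ho1 n⁻¹ (N.inv_mem hn)
  rw [inv_inv] at h3
  have h4 : t * n * t⁻¹ = n := by
    rw [hprod]
    calc ι (sr 0) * ι (sr 2) * n * (ι (sr 0) * ι (sr 2))⁻¹
        = ι (sr 0) * (ι (sr 2) * n * (ι (sr 2))⁻¹) * (ι (sr 0))⁻¹ := by group
      _ = n := by rw [h2, h3]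
  have h5 : n⁻¹ = n := by rw [← h1, h4]
  have h6 : n ^ 2 = 1 := by
    rw [pow_two]
    calc n * n = n⁻¹ * n := by rw [h5]
      _ = 1 := inv_mul_cancel n
  have hd1 : orderOf n ∣ 2 := orderOf_dvd_of_pow_eq_one h6
  have hd2 : orderOf n ∣ Nat.card N := orderOf_dvd_of_pow_eq_one (hpow n hn)
  have hd3 : orderOf n ∣ Nat.gcd 2 (Nat.card N) := Nat.dvd_gcd hd1 hd2
  rw [Nat.coprime_two_left.mpr hodd, Nat.dvd_one] at hd3
  exact orderOf_eq_one_iff.mp hd3

theorem isSimpleGroup [Finite G] (h : Setup ι t)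
    (hall : ∀ u : G, orderOf u = 2 → IsConj t u) : IsSimpleGroup G := by
  haveI : Nontrivial G := ⟨⟨t, 1, h.t_ne_one⟩⟩
  refine ⟨fun N hN => ?_⟩
  haveI := hN
  rcases Nat.even_or_odd (Nat.card N) with heven | hodd
  · right
    haveI : Fact (Nat.Prime 2) := ⟨Nat.prime_two⟩
    obtain ⟨u, hu⟩ := exists_prime_orderOf_dvd_card' (G := N) 2 heven.two_dvd
    have hu' : orderOf (u : G) = 2 := by rw [Subgroup.orderOf_coe]; exact hu
    have hc := hall (u : G) hu'
    obtain ⟨g, hg⟩ := isConj_iff.mp hc.symm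
    have ht : t ∈ N := by
      rw [← hg]
      exact hN.conj_mem (u : G) u.2 g
    exact h.eq_top_of_range_le N (h.range_le_of_t_mem hall N ht)
  · left
    exact h.odd_normal_eq_bot hall N hodd

end Setup

end Cfsg.Agent.Lib.Helper81.DE
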