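import Mathlib
import Cfsg.Agent.Lib.Helper39.SchurBoundB
import Cfsg.Agent.Lib.Helper3.CharBasic
import Cfsg.Agent.Lib.Helper3.Ortho
import Cfsg.Agent.Lib.Helper79.Basic
import Cfsg.Agent.Lib.Helper81.OneIrr
import Cfsg.Agent.Lib.Helper81.DihEightGroup
import Cfsg.Agent.S0840
import Cfsg.Agent.Lib.Helper80.IrrApi

/-!
# Groups in which the centralizer of an involution is dihedral of order eight: characters
-/

set_option autoImplicit false
set_option linter.unusedSectionVars false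
set_option linter.unusedVariables false
set_option linter.style.haveILetI false

universe u

namespace Cfsg.Agent.Lib.Helper81.DE

open Cfsg DihedralGroup
open scoped ComplexConjugate

theorem fourth_root_cases (z : ℂ) (h : z ^ 4 = 1) :
    z = 1 ∨ z = -1 ∨ z = Complex.I ∨ z = -Complex.I := by
  have h1 : (z - 1) * ((z + 1) * ((z - Complex.I) * (z + Complex.I))) = 0 := by
    linear_combination h - (z ^ 2 - 1) * Complex.I_sq
  rcases mul_eq_zero.mp h1 with h2 | h2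
  · left; linear_combination h2
  rcases mul_eq_zero.mp h2 with h3 | h3
  · right; left; linear_combination h3
  rcases mul_eq_zero.mp h3 with h4 | h4
  · right; right; left; linear_combination h4
  · right; right; right; linear_combination h4

/-- Integer coordinates of a fourth root of unity. -/
theorem fourth_root_coords (z : ℂ) (h : z ^ 4 = 1) :
    ∃ r s : ℤ, z = (r : ℂ) + (s : ℂ) * Complex.I ∧ z ^ 2 = ((r * r - s * s : ℤ) : ℂ) ∧
      z ^ 3 = (r : ℂ) - (s : ℂ) * Complex.I ∧ 2 ∣ r * r - s * s - r - s ∧ 2 ∣ 1 - r - s := by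
  rcases fourth_root_cases z h with rfl | rfl | rfl | rfl
  · exact ⟨1, 0, by norm_num, by norm_num, by norm_num, by norm_num, by norm_num⟩
  · exact ⟨-1, 0, by norm_num, by norm_num, by norm_num, by norm_num, by norm_num⟩
  · refine ⟨0, 1, by norm_num, by norm_num [Complex.I_sq], ?_, by norm_num, by norm_num⟩
    rw [pow_succ, Complex.I_sq]; norm_num
  · refine ⟨0, -1, by norm_num, by norm_num [Complex.I_sq], ?_, by norm_num, by norm_num⟩
    rw [pow_succ, neg_sq, Complex.I_sq]; norm_num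

/-- The arithmetic of a sum of fourth roots of unity equal to the sum of their cubes. -/
theorem eigen_parity {n : ℕ} (α : Fin n → ℂ) (h4 : ∀ i, α i ^ 4 = 1)
    (hreal : ∑ i, α i ^ 3 = ∑ i, α i) :
    ∃ δ τ : ℤ, ∑ i, α i = (δ : ℂ) ∧ ∑ i, α i ^ 2 = (τ : ℂ) ∧ 2 ∣ τ - δ ∧ 2 ∣ (n : ℤ) - δ := by
  choose r s h1 h2 h3 hpar hpar' using fun i => fourth_root_coords (α i) (h4 i)
  have hs : ∑ i, s i = 0 := by
    have e1 : ∑ i, α i = ((∑ i, r i : ℤ) : ℂ) + ((∑ i, s i : ℤ) : ℂ) * Complex.I := by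
      push_cast
      rw [Finset.sum_mul, ← Finset.sum_add_distrib]
      exact Finset.sum_congr rfl fun i _ => h1 i
    have e3 : ∑ i, α i ^ 3 = ((∑ i, r i : ℤ) : ℂ) - ((∑ i, s i : ℤ) : ℂ) * Complex.I := by
      push_cast
      rw [Finset.sum_mul, ← Finset.sum_sub_distrib]
      exact Finset.sum_congr rfl fun i _ => h3 i
    rw [e1, e3] at hreal
    have h5 : ((∑ i, s i : ℤ) : ℂ) * Complex.I = 0 := by linear_combination (-1 / 2 : ℂ) * hreal
    rcases mul_eq_zero.mp h5 with h6 | h6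
    · exact_mod_cast h6
    · exact absurd h6 Complex.I_ne_zero
  refine ⟨∑ i, r i, ∑ i, (r i * r i - s i * s i), ?_, ?_, ?_, ?_⟩
  · have e1 : ∑ i, α i = ((∑ i, r i : ℤ) : ℂ) + ((∑ i, s i : ℤ) : ℂ) * Complex.I := by
      push_cast
      rw [Finset.sum_mul, ← Finset.sum_add_distrib]
      exact Finset.sum_congr rfl fun i _ => h1 i
    rw [e1, hs]
    simp
  · push_cast
    refine Finset.sum_congr rfl fun i _ => ?_
    rw [h2 i]
    push_cast
    ring
  · have e : ∑ i, (r i * r i - s i * s i) - ∑ i, r i =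
        ∑ i, (r i * r i - s i * s i - r i - s i) + ∑ i, s i := by
      simp only [Finset.sum_sub_distrib]
      ring
    rw [e, hs, add_zero]
    exact Finset.dvd_sum fun i _ => hpar i
  · have e : (n : ℤ) - ∑ i, r i = ∑ i, (1 - r i - s i) + ∑ i, s i := by
      simp only [Finset.sum_sub_distrib, Finset.sum_const, Finset.card_univ, Fintype.card_fin,
        nsmul_eq_mul, mul_one]
      ring
    rw [e, hs, add_zero]
    exact Finset.dvd_sum fun i _ => hpar' i

variable {G : Type u} [Group G]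

/-- The values of a character at an element `u` of order `4` conjugate to its inverse, at its
square and at the identity. -/
theorem char_four_values [Finite G] {χ : G → ℂ} (hχ : IsCharacter G χ) (u : G)
    (hu : orderOf u = 4) (hconj : IsConj u u⁻¹) :
    ∃ (δ τ : ℤ) (n : ℕ), χ u = (δ : ℂ) ∧ χ (u * u) = (τ : ℂ) ∧ χ 1 = (n : ℂ) ∧ 2 ∣ τ - δ ∧
      2 ∣ (n : ℤ) - δ := by
  obtain ⟨n, α, hα, hpow⟩ := Cfsg.Agent.Lib.Helper39.exists_eigenvalues hχ u
  rw [hu] at hα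
  have hcf := Cfsg.Agent.Lib.Helper3.IsCharacter.isClassFunction hχ
  have hinv : χ (u ^ 3) = χ u := by
    have h3 : u ^ 3 = u⁻¹ := by
      have h4 : u ^ 4 = 1 := by rw [← hu]; exact pow_orderOf_eq_one u
      have : u ^ 3 * u = 1 := by rw [← pow_succ]; exact h4
      exact eq_inv_of_mul_eq_one_left this
    rw [h3]
    obtain ⟨g, hg⟩ := isConj_iff.mp hconj
    rw [← hg]
    exact hcf u g
  have e0 := hpow 0
  have e1 := hpow 1
  have e2 := hpow 2
  have e3 := hpow 3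
  simp only [pow_one] at e1
  rw [hinv, e1] at e3
  obtain ⟨δ, τ, h1, h2, h3, h4⟩ := eigen_parity α hα e3.symm
  refine ⟨δ, τ, n, ?_, ?_, ?_, h3, h4⟩
  · rw [e1, h1]
  · rw [← sq, e2, h2]
  · rw [pow_zero] at e0
    rw [e0]
    simp

/-- Integers with `f a₀ = 1` and `∑ f² = 4`: exactly three further entries are `±1`. -/
theorem int_sum_sq_eq_four {α : Type*} [Fintype α] [DecidableEq α] (f : α → ℤ) (a₀ : α)
    (h0 : f a₀ = 1) (h : ∑ a, f a ^ 2 = 4) :
    ∃ a b c : α, a ≠ a₀ ∧ b ≠ a₀ ∧ c ≠ a₀ ∧ a ≠ b ∧ a ≠ c ∧ b ≠ c ∧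
      (f a = 1 ∨ f a = -1) ∧ (f b = 1 ∨ f b = -1) ∧ (f c = 1 ∨ f c = -1) ∧
      ∀ k, k ≠ a₀ → k ≠ a → k ≠ b → k ≠ c → f k = 0 := by
  set T : Finset α := (Finset.univ.erase a₀).filter (fun k => f k ≠ 0) with hT
  have hsum : ∑ k ∈ T, f k ^ 2 = 3 := by
    have h1 : ∑ a, f a ^ 2 = f a₀ ^ 2 + ∑ a ∈ Finset.univ.erase a₀, f a ^ 2 :=
      (Finset.add_sum_erase Finset.univ (fun a => f a ^ 2) (Finset.mem_univ a₀)).symm
    have h2 : ∑ k ∈ T, f k ^ 2 = ∑ a ∈ Finset.univ.erase a₀, f a ^ 2 := by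
      rw [hT]
      apply Finset.sum_filter_of_ne
      intro k _ hk hk0
      apply hk
      rw [hk0]
      norm_num
    rw [h2]
    rw [h1, h0] at h
    linarith
  have hmem : ∀ k ∈ T, f k = 1 ∨ f k = -1 := by
    intro k hk
    have hk0 : f k ≠ 0 := (Finset.mem_filter.mp hk).2
    have hle : f k ^ 2 ≤ 3 := by
      rw [← hsum]
      exact Finset.single_le_sum (f := fun k => f k ^ 2) (fun i _ => sq_nonneg (f i)) hk
    have h1 : f k ≤ 1 := by nlinarith
    have h2 : -1 ≤ f k := by nlinarith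
    omega
  have hcard : T.card = 3 := by
    have h1 : ∑ k ∈ T, f k ^ 2 = ∑ k ∈ T, (1 : ℤ) := by
      apply Finset.sum_congr rfl
      intro k hk
      rcases hmem k hk with h | h <;> rw [h] <;> norm_num
    rw [hsum] at h1
    simp at h1
    exact_mod_cast h1.symm
  obtain ⟨a, b, c, hab, hac, hbc, hTabc⟩ := Finset.card_eq_three.mp hcard
  have haT : a ∈ T := by rw [hTabc]; simp
  have hbT : b ∈ T := by rw [hTabc]; simp
  have hcT : c ∈ T := by rw [hTabc]; simp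
  have hne : ∀ k ∈ T, k ≠ a₀ := fun k hk => Finset.ne_of_mem_erase (Finset.mem_filter.mp hk).1
  refine ⟨a, b, c, hne a haT, hne b hbT, hne c hcT, hab, hac, hbc, hmem a haT, hmem b hbT,
    hmem c hcT, ?_⟩
  intro k hk0 hka hkb hkc
  by_contra hfk
  have hkT : k ∈ T := by
    rw [hT]
    exact Finset.mem_filter.mpr ⟨Finset.mem_erase.mpr ⟨hk0, Finset.mem_univ k⟩, hfk⟩
  rw [hTabc] at hkT
  simp at hkT
  rcases hkT with rfl | rfl | rfl
  · exact hka rfl
  · exact hkb rfl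
  · exact hkc rfl

theorem sum_eq_four {α M : Type*} [Fintype α] [DecidableEq α] [AddCommMonoid M] (F : α → M)
    (a₀ a b c : α) (ha : a ≠ a₀) (hb : b ≠ a₀) (hc : c ≠ a₀) (hab : a ≠ b) (hac : a ≠ c)
    (hbc : b ≠ c) (hF : ∀ k, k ≠ a₀ → k ≠ a → k ≠ b → k ≠ c → F k = 0) :
    ∑ k, F k = F a₀ + F a + F b + F c := by
  have hsub : ({a₀, a, b, c} : Finset α) ⊆ Finset.univ := Finset.subset_univ _
  rw [← Finset.sum_subset hsub]
  · rw [Finset.sum_insert, Finset.sum_insert, Finset.sum_insert, Finset.sum_singleton]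
    · simp only [add_assoc]
    · simp [hbc]
    · simp [hab, hac]
    · simp [ha.symm, hb.symm, hc.symm]
  · intro k _ hk
    simp only [Finset.mem_insert, Finset.mem_singleton, not_or] at hk
    exact hF k hk.1 hk.2.1 hk.2.2.1 hk.2.2.2

theorem four_le_sum {α : Type*} [Fintype α] [DecidableEq α] (F : α → ℤ)
    (a₀ a b c : α) (ha : a ≠ a₀) (hb : b ≠ a₀) (hc : c ≠ a₀) (hab : a ≠ b) (hac : a ≠ c)
    (hbc : b ≠ c) (hF : ∀ k, 0 ≤ F k) :
    F a₀ + F a + F b + F c ≤ ∑ k, F k := by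
  have h1 : ∑ k ∈ ({a₀, a, b, c} : Finset α), F k ≤ ∑ k, F k :=
    Finset.sum_le_univ_sum_of_nonneg hF
  rw [Finset.sum_insert, Finset.sum_insert, Finset.sum_insert, Finset.sum_singleton] at h1
  · linarith
  · simp [hbc]
  · simp [hab, hac]
  · simp [ha.symm, hb.symm, hc.symm]

/-- In a perfect group a nontrivial irreducible character is not linear. -/
theorem irr_one_ne_one_of_perfect (hperf : commutator G = ⊤) (χ : IrrCharacter G)
    (hχ : χ ≠ oneIrr G) : (χ : G → ℂ) 1 ≠ 1 := by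
  intro h1
  obtain ⟨φ, hφ⟩ := Cfsg.Agent.Lib.Helper79.exists_monoidHom_of_isCharacter_of_one
    (Cfsg.Agent.Lib.Helper3.IsIrrCharacter.isCharacter χ.2) h1
  apply hχ
  apply Subtype.ext
  funext g
  rw [oneIrr_apply, hφ g]
  have h2 := Abelianization.commutator_subset_ker φ
  rw [hperf] at h2
  have h3 : g ∈ φ.ker := h2 (Subgroup.mem_top g)
  rw [MonoidHom.mem_ker] at h3
  rw [h3]
  rfl

/-- The character-theoretic data of a perfect group with an involution whose centralizer is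
dihedral of order eight. -/
theorem char_data [Finite G] {ι : DihedralGroup 4 →* G} {t : G} (h : Setup ι t)
    (hperf : commutator G = ⊤) :
    ∃ (m n₁ n₂ n₃ : ℕ) (d₁ d₂ d₃ : ℤ), Odd m ∧ Nat.card G = 8 * m ∧
      (d₁ = 1 ∨ d₁ = -1) ∧ (d₂ = 1 ∨ d₂ = -1) ∧ (d₃ = 1 ∨ d₃ = -1) ∧
      3 ≤ n₁ ∧ 3 ≤ n₂ ∧ 3 ≤ n₃ ∧
      1 + d₁ * n₁ + d₂ * n₂ + d₃ * n₃ = 0 ∧
      (Nat.card G : ℤ) * (n₁ * n₂ * n₃ + d₁ * n₂ * n₃ + d₂ * n₁ * n₃ + d₃ * n₁ * n₂) =
        256 * (n₁ * n₂ * n₃) ∧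
      1 + n₁ ^ 2 + n₂ ^ 2 + n₃ ^ 2 ≤ Nat.card G := by
  classical
  letI : Fintype G := Fintype.ofFinite G
  letI : Fintype (IrrCharacter G) := Fintype.ofFinite _
  have hσt : ι (r 1) * ι (r 1) = t := h.sig_sq
  have hall : ∀ u : G, orderOf u = 2 → IsConj t u := h.all_conj hperf
  obtain ⟨m, hmodd, hcardG, hclass⟩ := h.card_eq
  have hval : ∀ χ : IrrCharacter G, ∃ (δ τ : ℤ) (n : ℕ), (χ : G → ℂ) (ι (r 1)) = (δ : ℂ) ∧
      (χ : G → ℂ) t = (τ : ℂ) ∧ (χ : G → ℂ) 1 = (n : ℂ) ∧ 2 ∣ τ - δ ∧ 2 ∣ (n : ℤ) - δ := by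
    intro χ
    have := char_four_values (Cfsg.Agent.Lib.Helper3.IsIrrCharacter.isCharacter χ.2) (ι (r 1))
      h.orderOf_sig h.sig_conj_inv
    rwa [hσt] at this
  choose δ τ n hδ hτ hn hpar1 hpar2 using hval
  -- the trivial character
  have hδ0 : δ (oneIrr G) = 1 := by
    have := hδ (oneIrr G)
    rw [oneIrr_apply] at this
    exact_mod_cast this.symm
  have hτ0 : τ (oneIrr G) = 1 := by
    have := hτ (oneIrr G)
    rw [oneIrr_apply] at this
    exact_mod_cast this.symm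
  have hn0 : n (oneIrr G) = 1 := by
    have := hn (oneIrr G)
    rw [oneIrr_apply] at this
    exact_mod_cast this.symm
  -- the orthogonality relations
  have hO1 : ∑ χ : IrrCharacter G, δ χ ^ 2 = 4 := by
    have h1 := Cfsg.Agent.Lib.Helper3.column_orthogonality (ι (r 1)) (ι (r 1))
    rw [if_pos (IsConj.refl _), h.card_centralizer_sig] at h1
    have h2 : ∀ χ : IrrCharacter G, (χ : G → ℂ) (ι (r 1)) * conj ((χ : G → ℂ) (ι (r 1))) =
        ((δ χ ^ 2 : ℤ) : ℂ) := by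
      intro χ
      rw [hδ χ, map_intCast]
      push_cast
      ring
    simp_rw [h2] at h1
    exact_mod_cast h1
  have hO2 : ∑ χ : IrrCharacter G, δ χ * (n χ : ℤ) = 0 := by
    have h1 := Cfsg.Agent.Lib.Helper3.column_orthogonality (ι (r 1)) (1 : G)
    rw [if_neg h.sig_not_conj_one] at h1
    have h2 : ∀ χ : IrrCharacter G, (χ : G → ℂ) (ι (r 1)) * conj ((χ : G → ℂ) 1) =
        ((δ χ * (n χ : ℤ) : ℤ) : ℂ) := by
      intro χ
      rw [hδ χ, hn χ, Complex.conj_natCast]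
      push_cast
      ring
    simp_rw [h2] at h1
    exact_mod_cast h1
  have hO3 : ∑ χ : IrrCharacter G, δ χ * τ χ = 0 := by
    have h1 := Cfsg.Agent.Lib.Helper3.column_orthogonality (ι (r 1)) t
    rw [if_neg h.sig_not_conj_t] at h1
    have h2 : ∀ χ : IrrCharacter G, (χ : G → ℂ) (ι (r 1)) * conj ((χ : G → ℂ) t) =
        ((δ χ * τ χ : ℤ) : ℂ) := by
      intro χ
      rw [hδ χ, hτ χ, map_intCast]
      push_cast
      ring
    simp_rw [h2] at h1
    exact_mod_cast h1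
  have hO4 : ∑ χ : IrrCharacter G, τ χ ^ 2 = 8 := by
    have h1 := Cfsg.Agent.Lib.Helper3.column_orthogonality t t
    rw [if_pos (IsConj.refl _), h.cent, h.card_range] at h1
    have h2 : ∀ χ : IrrCharacter G, (χ : G → ℂ) t * conj ((χ : G → ℂ) t) =
        ((τ χ ^ 2 : ℤ) : ℂ) := by
      intro χ
      rw [hτ χ, map_intCast]
      push_cast
      ring
    simp_rw [h2] at h1
    exact_mod_cast h1
  have hO5 : ∑ χ : IrrCharacter G, (n χ : ℤ) ^ 2 = (Nat.card G : ℤ) := by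
    have h1 := Cfsg.Agent.Lib.Helper3.sum_sq_degree (G := G)
    have h2 : ∀ χ : IrrCharacter G, (χ : G → ℂ) 1 ^ 2 = (((n χ : ℤ) ^ 2 : ℤ) : ℂ) := by
      intro χ
      rw [hn χ]
      push_cast
      ring
    simp_rw [h2] at h1
    exact_mod_cast h1
  have hO6 : (4 : ℂ) = (m : ℂ) * (m : ℂ) / ((8 * m : ℕ) : ℂ) *
      ∑ χ : IrrCharacter G, ((τ χ : ℂ) ^ 2 * (δ χ : ℂ) / (n χ : ℂ)) := by
    have h1 := Cfsg.Agent.S0840.result t t (ι (r 1))
    rw [h.card_pairs hall, hclass, hcardG, finsum_eq_sum_of_fintype] at h1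
    have h2 : ∀ χ : IrrCharacter G, (χ : G → ℂ) t * (χ : G → ℂ) t *
        conj ((χ : G → ℂ) (ι (r 1))) / (χ : G → ℂ) 1 =
        (τ χ : ℂ) ^ 2 * (δ χ : ℂ) / (n χ : ℂ) := by
      intro χ
      rw [hδ χ, hτ χ, hn χ, map_intCast]
      ring
    simp_rw [h2] at h1
    rw [← h1]
    norm_num
  -- the three exceptional characters
  obtain ⟨a, b, c, ha, hb, hc, hab, hac, hbc, hda, hdb, hdc, hrest⟩ :=
    int_sum_sq_eq_four δ (oneIrr G) hδ0 hO1
  have hE2 := sum_eq_four (fun χ => δ χ * (n χ : ℤ)) (oneIrr G) a b c ha hb hc hab hac hbc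
    (fun k h0 h1 h2 h3 => by
      show δ k * (n k : ℤ) = 0
      rw [hrest k h0 h1 h2 h3, zero_mul])
  have hE3 := sum_eq_four (fun χ => δ χ * τ χ) (oneIrr G) a b c ha hb hc hab hac hbc
    (fun k h0 h1 h2 h3 => by
      show δ k * τ k = 0
      rw [hrest k h0 h1 h2 h3, zero_mul])
  have hE6 := sum_eq_four (fun χ => (τ χ : ℂ) ^ 2 * (δ χ : ℂ) / (n χ : ℂ)) (oneIrr G) a b c
    ha hb hc hab hac hbc
    (fun k h0 h1 h2 h3 => by
      show (τ k : ℂ) ^ 2 * (δ k : ℂ) / (n k : ℂ) = 0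
      rw [hrest k h0 h1 h2 h3]
      simp)
  have hE4 := four_le_sum (fun χ => τ χ ^ 2) (oneIrr G) a b c ha hb hc hab hac hbc
    (fun k => sq_nonneg _)
  have hE5 := four_le_sum (fun χ => (n χ : ℤ) ^ 2) (oneIrr G) a b c ha hb hc hab hac hbc
    (fun k => sq_nonneg _)
  rw [hO2, hδ0, hn0] at hE2
  rw [hO3, hδ0, hτ0] at hE3
  rw [hO4, hτ0] at hE4
  rw [hO5, hn0] at hE5
  rw [hE6, hτ0, hδ0, hn0] at hO6
  push_cast at hE2 hE5
  simp only [Nat.cast_one, Int.cast_one, one_pow, one_mul, div_one] at hO6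
  -- values at the involution
  have hτsq : ∀ k : IrrCharacter G, (δ k = 1 ∨ δ k = -1) → τ k ^ 2 ≤ 7 → τ k ^ 2 = 1 := by
    intro k hk hle
    have hp := hpar1 k
    have h1 : τ k ≤ 2 := by nlinarith
    have h2 : -2 ≤ τ k := by nlinarith
    have h3 : τ k = 1 ∨ τ k = -1 := by
      rcases hk with hk | hk <;> rw [hk] at hp <;> omega
    rcases h3 with h3 | h3 <;> rw [h3] <;> norm_num
  have hτa : τ a ^ 2 = 1 := hτsq a hda (by nlinarith [sq_nonneg (τ b), sq_nonneg (τ c)])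
  have hτb : τ b ^ 2 = 1 := hτsq b hdb (by nlinarith [sq_nonneg (τ a), sq_nonneg (τ c)])
  have hτc : τ c ^ 2 = 1 := hτsq c hdc (by nlinarith [sq_nonneg (τ a), sq_nonneg (τ b)])
  -- degrees
  have hdeg : ∀ k : IrrCharacter G, k ≠ oneIrr G → (δ k = 1 ∨ δ k = -1) → 3 ≤ n k := by
    intro k hk hdk
    have h1 : n k ≠ 1 := by
      intro h1
      apply irr_one_ne_one_of_perfect hperf k hk
      rw [hn k, h1]
      norm_num
    have h2 : n k ≠ 0 := by
      intro h2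
      have := Cfsg.Agent.Lib.Helper80.irr_one_ne_zero k
      apply this
      rw [hn k, h2]
      norm_num
    have hp := hpar2 k
    rcases hdk with hdk | hdk <;> rw [hdk] at hp <;> omega
  refine ⟨m, n a, n b, n c, δ a, δ b, δ c, hmodd, hcardG, hda, hdb, hdc, hdeg a ha hda,
    hdeg b hb hdb, hdeg c hc hdc, ?_, ?_, ?_⟩
  · linarith
  · have hna : (n a : ℂ) ≠ 0 := by
      have := hdeg a ha hda
      have h3 : n a ≠ 0 := by omega
      exact_mod_cast h3
    have hnb : (n b : ℂ) ≠ 0 := by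
      have := hdeg b hb hdb
      have h3 : n b ≠ 0 := by omega
      exact_mod_cast h3
    have hnc : (n c : ℂ) ≠ 0 := by
      have := hdeg c hc hdc
      have h3 : n c ≠ 0 := by omega
      exact_mod_cast h3
    have hm0 : (m : ℂ) ≠ 0 := by
      have h3 : m ≠ 0 := by
        rintro rfl
        simp at hmodd
      exact_mod_cast h3
    have hτa' : (τ a : ℂ) ^ 2 = 1 := by exact_mod_cast hτa
    have hτb' : (τ b : ℂ) ^ 2 = 1 := by exact_mod_cast hτb
    have hτc' : (τ c : ℂ) ^ 2 = 1 := by exact_mod_cast hτc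
    rw [hτa', hτb', hτc'] at hO6
    have h8 : ((8 * m : ℕ) : ℂ) = 8 * (m : ℂ) := by push_cast; ring
    rw [h8] at hO6
    have key : ((8 * m : ℕ) : ℂ) * ((n a : ℂ) * n b * n c + (δ a : ℂ) * n b * n c +
        (δ b : ℂ) * n a * n c + (δ c : ℂ) * n a * n b) = 256 * ((n a : ℂ) * n b * n c) := by
      rw [h8]
      field_simp at hO6
      linear_combination (-8 : ℂ) * hO6
    rw [hcardG]
    exact_mod_cast key
  · have : (1 : ℤ) + (n a : ℤ) ^ 2 + (n b : ℤ) ^ 2 + (n c : ℤ) ^ 2 ≤ (Nat.card G : ℤ) := by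
      linarith
    exact_mod_cast this

end Cfsg.Agent.Lib.Helper81.DE
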