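import Mathlib

/-!
# Groups in which the centralizer of an involution is a four-group: arithmetic
-/

set_option autoImplicit false
set_option linter.unusedVariables false

namespace Cfsg.Agent.Lib.Helper81.DE

/-- One negative sign: `c = a + b + 1`. -/
theorem karith_C (N a b : ℤ) (ha : 1 ≤ a) (hb : 1 ≤ b) (ha2 : a % 2 = 1) (hb2 : b % 2 = 1)
    (hmul : N * (a * b * (a + b + 1) + b * (a + b + 1) + a * (a + b + 1) - a * b) =
      32 * (a * b * (a + b + 1)))
    (hsq : 1 + a ^ 2 + b ^ 2 + (a + b + 1) ^ 2 ≤ N) : N = 12 := by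
  have habc : 0 < a * b * (a + b + 1) := by positivity
  have hK : a * b * (a + b + 1) <
      a * b * (a + b + 1) + b * (a + b + 1) + a * (a + b + 1) - a * b := by nlinarith
  have hNlt : N < 32 := by
    by_contra hcon
    push Not at hcon
    have h1 : 32 * (a * b * (a + b + 1) + b * (a + b + 1) + a * (a + b + 1) - a * b) ≤
        N * (a * b * (a + b + 1) + b * (a + b + 1) + a * (a + b + 1) - a * b) :=
      mul_le_mul_of_nonneg_right hcon (by linarith)
    linarith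
  have ha' : a ≤ 3 := by nlinarith
  have hb' : b ≤ 3 := by nlinarith
  interval_cases a <;> interval_cases b <;> omega

/-- Two negative signs: `a = b + c - 1`. -/
theorem karith_B (N b c : ℤ) (hb : 1 ≤ b) (hc : 1 ≤ c) (hb2 : b % 2 = 1) (hc2 : c % 2 = 1)
    (hmul : N * ((b + c - 1) * b * c + b * c - (b + c - 1) * c - (b + c - 1) * b) =
      32 * ((b + c - 1) * b * c))
    (hsq : 1 + (b + c - 1) ^ 2 + b ^ 2 + c ^ 2 ≤ N) :
    N = 60 ∧ 3 ≤ b + c - 1 ∧ 3 ≤ b ∧ 3 ≤ c := by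
  have hb1 : b ≠ 1 := by
    rintro rfl
    have h0 : 32 * (c * c) = 0 := by linear_combination -hmul
    have : 0 < c * c := by positivity
    linarith
  have hc1 : c ≠ 1 := by
    rintro rfl
    have h0 : 32 * (b * b) = 0 := by linear_combination -hmul
    have : 0 < b * b := by positivity
    linarith
  have hb3 : 3 ≤ b := by omega
  have hc3 : 3 ≤ c := by omega
  have hpos : 0 < (b + c - 1) * b * c := by
    have : 0 < b + c - 1 := by linarith
    positivity
  have h1 : 0 ≤ (b + c - 1) * c * (b - 3) := by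
    have : 0 ≤ b + c - 1 := by linarith
    have : 0 ≤ b - 3 := by linarith
    positivity
  have h2 : 0 ≤ (b + c - 1) * b * (c - 3) := by
    have : 0 ≤ b + c - 1 := by linarith
    have : 0 ≤ c - 3 := by linarith
    positivity
  have h3 : 0 < b * c := by positivity
  have hK : (b + c - 1) * b * c <
      3 * ((b + c - 1) * b * c + b * c - (b + c - 1) * c - (b + c - 1) * b) := by
    nlinarith
  have hNlt : N < 96 := by
    by_contra hcon
    push Not at hcon
    have h4 : 96 * ((b + c - 1) * b * c + b * c - (b + c - 1) * c - (b + c - 1) * b) ≤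
        N * ((b + c - 1) * b * c + b * c - (b + c - 1) * c - (b + c - 1) * b) :=
      mul_le_mul_of_nonneg_right hcon (by linarith)
    linarith
  have hb' : b ≤ 7 := by nlinarith
  have hc' : c ≤ 7 := by nlinarith
  interval_cases b <;> interval_cases c <;> omega

theorem karith (N n₁ n₂ n₃ : ℕ) (d₁ d₂ d₃ : ℤ)
    (hd₁ : d₁ = 1 ∨ d₁ = -1) (hd₂ : d₂ = 1 ∨ d₂ = -1) (hd₃ : d₃ = 1 ∨ d₃ = -1)
    (h₁ : n₁ % 2 = 1) (h₂ : n₂ % 2 = 1) (h₃ : n₃ % 2 = 1)
    (hlin : 1 + d₁ * n₁ + d₂ * n₂ + d₃ * n₃ = 0)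
    (hmul : (N : ℤ) * (n₁ * n₂ * n₃ + d₁ * n₂ * n₃ + d₂ * n₁ * n₃ + d₃ * n₁ * n₂) =
      32 * (n₁ * n₂ * n₃))
    (hsq : 1 + n₁ ^ 2 + n₂ ^ 2 + n₃ ^ 2 ≤ N) :
    N = 12 ∨ (N = 60 ∧ 3 ≤ n₁ ∧ 3 ≤ n₂ ∧ 3 ≤ n₃) := by
  have h₁' : (1 : ℤ) ≤ n₁ := by omega
  have h₂' : (1 : ℤ) ≤ n₂ := by omega
  have h₃' : (1 : ℤ) ≤ n₃ := by omega
  have h₁'' : (n₁ : ℤ) % 2 = 1 := by omega
  have h₂'' : (n₂ : ℤ) % 2 = 1 := by omega
  have h₃'' : (n₃ : ℤ) % 2 = 1 := by omega
  have hsq' : (1 : ℤ) + (n₁ : ℤ) ^ 2 + (n₂ : ℤ) ^ 2 + (n₃ : ℤ) ^ 2 ≤ N := by exact_mod_cast hsq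
  rcases hd₁ with rfl | rfl <;> rcases hd₂ with rfl | rfl <;> rcases hd₃ with rfl | rfl
  · exfalso; linarith
  · -- (+,+,-)
    have hc : (n₃ : ℤ) = n₁ + n₂ + 1 := by linarith
    rw [hc] at hmul hsq'
    left
    have := karith_C N n₁ n₂ h₁' h₂' h₁'' h₂'' (by linear_combination hmul) (by linarith)
    exact_mod_cast this
  · -- (+,-,+)
    have hc : (n₂ : ℤ) = n₁ + n₃ + 1 := by linarith
    rw [hc] at hmul hsq'
    left
    have := karith_C N n₁ n₃ h₁' h₃' h₁'' h₃'' (by linear_combination hmul) (by linarith)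
    exact_mod_cast this
  · -- (+,-,-)
    have hc : (n₁ : ℤ) = n₂ + n₃ - 1 := by linarith
    rw [hc] at hmul hsq'
    right
    obtain ⟨hN, ha, hb, hc'⟩ :=
      karith_B N n₂ n₃ h₂' h₃' h₂'' h₃'' (by linear_combination hmul) (by linarith)
    refine ⟨by exact_mod_cast hN, ?_, by exact_mod_cast hb, by exact_mod_cast hc'⟩
    omega
  · -- (-,+,+)
    have hc : (n₁ : ℤ) = n₂ + n₃ + 1 := by linarith
    rw [hc] at hmul hsq'
    left
    have := karith_C N n₂ n₃ h₂' h₃' h₂'' h₃'' (by linear_combination hmul) (by linarith)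
    exact_mod_cast this
  · -- (-,+,-)
    have hc : (n₂ : ℤ) = n₁ + n₃ - 1 := by linarith
    rw [hc] at hmul hsq'
    right
    obtain ⟨hN, ha, hb, hc'⟩ :=
      karith_B N n₁ n₃ h₁' h₃' h₁'' h₃'' (by linear_combination hmul) (by linarith)
    refine ⟨by exact_mod_cast hN, by exact_mod_cast hb, ?_, by exact_mod_cast hc'⟩
    omega
  · -- (-,-,+)
    have hc : (n₃ : ℤ) = n₁ + n₂ - 1 := by linarith
    rw [hc] at hmul hsq'
    right
    obtain ⟨hN, ha, hb, hc'⟩ :=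
      karith_B N n₁ n₂ h₁' h₂' h₁'' h₂'' (by linear_combination hmul) (by linarith)
    refine ⟨by exact_mod_cast hN, by exact_mod_cast hb, by exact_mod_cast hc', ?_⟩
    omega
  · exfalso; linarith

end Cfsg.Agent.Lib.Helper81.DE
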