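import Mathlib
import Cfsg.Agent.Lib.Helper39.SchurBoundB
import Cfsg.Agent.Lib.Helper3.CharBasic
import Cfsg.Agent.Lib.Helper3.Ortho
import Cfsg.Agent.Lib.Helper81.OneIrr
import Cfsg.Agent.Lib.Helper81.DihEightChar
import Cfsg.Agent.Lib.Helper81.KleinArith
import Cfsg.Agent.S0840

/-!
# Groups in which the centralizer of an involution is a four-group: characters
-/

set_option autoImplicit false
set_option linter.unusedSectionVars false
set_option linter.unusedVariables false
set_option linter.style.haveILetI false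

universe u

namespace Cfsg.Agent.Lib.Helper81.DE

open Cfsg Subgroup
open scoped ComplexConjugate

variable {K : Type u} [Group K]

/-- The hypotheses: the centralizer of the involution `z` is a four-group and all involutions
are conjugate. -/
structure KSetup (z : K) : Prop where
  ord : orderOf z = 2
  card : Nat.card (centralizer ({z} : Set K)) = 4
  sq : ∀ v ∈ centralizer ({z} : Set K), v * v = 1
  allconj : ∀ u : K, orderOf u = 2 → IsConj z u

namespace KSetup

variable {z : K}

theorem z_ne_one (h : KSetup z) : z ≠ 1 := by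
  intro h1
  have := h.ord
  rw [h1, orderOf_one] at this
  omega

theorem z_mul_self (h : KSetup z) : z * z = 1 := by
  have := pow_orderOf_eq_one z
  rw [h.ord, pow_two] at this
  exact this

theorem z_inv (h : KSetup z) : z⁻¹ = z := inv_eq_of_mul_eq_one_left h.z_mul_self

theorem orderOf_of_sq (h : KSetup z) (a : K) (ha : a * a = 1) (ha1 : a ≠ 1) : orderOf a = 2 :=
  orderOf_eq_prime (by rw [pow_two]; exact ha) ha1

theorem sq_of_conj (h : KSetup z) (u : K) (hu : IsConj z u) : u * u = 1 := by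
  obtain ⟨g, hg⟩ := isConj_iff.mp hu
  rw [← hg]
  calc g * z * g⁻¹ * (g * z * g⁻¹) = g * (z * z) * g⁻¹ := by group
    _ = 1 := by rw [h.z_mul_self]; group

theorem ne_one_of_conj (h : KSetup z) (u : K) (hu : IsConj z u) : u ≠ 1 := by
  rintro rfl
  exact h.z_ne_one (isConj_one_left.mp hu)

theorem card_pairs [Finite K] (h : KSetup z) :
    Nat.card {p : K × K // IsConj z p.1 ∧ IsConj z p.2 ∧ p.1 * p.2 = z} = 2 := by
  classical
  have hzC : z ∈ centralizer ({z} : Set K) := by rw [mem_centralizer_singleton_iff]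
  let z' : centralizer ({z} : Set K) := ⟨z, hzC⟩
  have hz'1 : (1 : centralizer ({z} : Set K)) ≠ z' := by
    intro h1
    apply h.z_ne_one
    exact (congrArg Subtype.val h1).symm
  -- the set of admissible first components
  have hT : Nat.card {a : centralizer ({z} : Set K) // a ∉ ({1, z'} : Set _)} = 2 := by
    have h1 : Nat.card {a : centralizer ({z} : Set K) // a ∉ ({1, z'} : Set _)} =
        (({1, z'} : Set (centralizer ({z} : Set K)))ᶜ).ncard := by
      rw [← Nat.card_coe_set_eq]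
      rfl
    rw [h1, Set.ncard_compl, h.card, Set.ncard_pair hz'1]
  rw [← hT]
  symm
  have hcomm : ∀ a : centralizer ({z} : Set K), (a : K) * z = z * (a : K) := fun a =>
    mem_centralizer_singleton_iff.mp a.2
  let f : {a : centralizer ({z} : Set K) // a ∉ ({1, z'} : Set _)} →
      {p : K × K // IsConj z p.1 ∧ IsConj z p.2 ∧ p.1 * p.2 = z} := fun a =>
    ⟨((a.1 : K), (a.1 : K) * z), by
      have ha1 : (a.1 : K) ≠ 1 := by
        intro h1
        apply a.2
        left
        exact Subtype.ext h1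
      have haz : (a.1 : K) ≠ z := by
        intro h1
        apply a.2
        right
        exact Subtype.ext h1
      have hasq : (a.1 : K) * (a.1 : K) = 1 := h.sq _ a.1.2
      refine ⟨h.allconj _ (h.orderOf_of_sq _ hasq ha1), h.allconj _ (h.orderOf_of_sq _ ?_ ?_), ?_⟩
      · calc (a.1 : K) * z * ((a.1 : K) * z) = (a.1 : K) * (z * (a.1 : K)) * z := by group
          _ = (a.1 : K) * ((a.1 : K) * z) * z := by rw [hcomm]
          _ = ((a.1 : K) * (a.1 : K)) * (z * z) := by group
          _ = 1 := by rw [hasq, h.z_mul_self, one_mul]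
      · intro h1
        apply haz
        have : (a.1 : K) = z⁻¹ := eq_inv_of_mul_eq_one_left h1
        rw [this, h.z_inv]
      · show (a.1 : K) * ((a.1 : K) * z) = z
        rw [← mul_assoc, hasq, one_mul]⟩
  apply Nat.card_congr
  refine Equiv.ofBijective f ⟨?_, ?_⟩
  · intro a b hab
    have h1 : (a.1 : K) = (b.1 : K) := congrArg (fun p => p.1.1) hab
    exact Subtype.ext (Subtype.ext h1)
  · rintro ⟨⟨u, v⟩, hu, hv, huv⟩
    simp only at hu hv huv
    have hu2 := h.sq_of_conj u hu
    have hv2 := h.sq_of_conj v hv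
    have huinv : u⁻¹ = u := inv_eq_of_mul_eq_one_left hu2
    have hvinv : v⁻¹ = v := inv_eq_of_mul_eq_one_left hv2
    have huvu : u * v * u = v := by
      have h1 : u * v * (u * v) = 1 := by rw [huv]; exact h.z_mul_self
      calc u * v * u = u * v * u * (v * v) := by rw [hv2, mul_one]
        _ = (u * v * (u * v)) * v := by group
        _ = v := by rw [h1, one_mul]
    have huC : u ∈ centralizer ({z} : Set K) := by
      rw [mem_centralizer_singleton_iff, ← huv]
      calc u * (u * v) = (u * u) * v := by group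
        _ = v := by rw [hu2, one_mul]
        _ = u * v * u := huvu.symm
    have hv' : v = u * z := by
      rw [← huv]
      calc v = (u * u) * v := by rw [hu2, one_mul]
        _ = u * (u * v) := by group
    have hmem : (⟨u, huC⟩ : centralizer ({z} : Set K)) ∉ ({1, z'} : Set _) := by
      rintro (h1 | h1)
      · exact h.ne_one_of_conj u hu (congrArg Subtype.val h1)
      · have huz : u = z := congrArg Subtype.val h1
        apply h.ne_one_of_conj v hv
        rw [hv', huz, h.z_mul_self]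
    refine ⟨⟨⟨u, huC⟩, hmem⟩, ?_⟩
    apply Subtype.ext
    apply Prod.ext
    · rfl
    · exact hv'.symm

theorem card_eq [Finite K] (h : KSetup z) :
    Nat.card K = 4 * Nat.card {x : K // IsConj z x} := by
  have h1 : Nat.card {x : K // IsConj z x} = (centralizer ({z} : Set K)).index := by
    rw [Cfsg.Agent.Lib.Helper3.index_centralizer_eq_ncard, ← Nat.card_coe_set_eq]
    apply Nat.card_congr
    exact Equiv.subtypeEquivRight (fun x => isConj_comm)
  rw [h1, ← h.card, Subgroup.card_mul_index]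

end KSetup

/-- The values of a character at an involution and at the identity. -/
theorem char_two_values [Finite K] {χ : K → ℂ} (hχ : IsCharacter K χ) (u : K)
    (hu : orderOf u = 2) :
    ∃ (δ : ℤ) (n : ℕ), χ u = (δ : ℂ) ∧ χ 1 = (n : ℂ) ∧ 2 ∣ (n : ℤ) - δ := by
  obtain ⟨n, α, hα, hpow⟩ := Cfsg.Agent.Lib.Helper39.exists_eigenvalues hχ u
  rw [hu] at hα
  have hcoord : ∀ i, ∃ r : ℤ, α i = (r : ℂ) ∧ 2 ∣ 1 - r := by
    intro i
    have h1 : (α i - 1) * (α i + 1) = 0 := by linear_combination hα i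
    rcases mul_eq_zero.mp h1 with h2 | h2
    · exact ⟨1, by push_cast; linear_combination h2, by norm_num⟩
    · exact ⟨-1, by push_cast; linear_combination h2, by norm_num⟩
  choose r hr hpar using hcoord
  have e0 := hpow 0
  have e1 := hpow 1
  simp only [pow_one, pow_zero] at e0 e1
  refine ⟨∑ i, r i, n, ?_, ?_, ?_⟩
  · rw [e1]
    push_cast
    exact Finset.sum_congr rfl fun i _ => hr i
  · rw [e0]
    simp
  · have e : (n : ℤ) - ∑ i, r i = ∑ i, (1 - r i) := by
      simp only [Finset.sum_sub_distrib, Finset.sum_const, Finset.card_univ, Fintype.card_fin,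
        nsmul_eq_mul, mul_one]
    rw [e]
    exact Finset.dvd_sum fun i _ => hpar i

/-- The character-theoretic data of a group in which the centralizer of an involution is a
four-group and all involutions are conjugate. -/
theorem klein_data [Finite K] {z : K} (h : KSetup z) :
    Nat.card K = 12 ∨ (Nat.card K = 60 ∧ ∀ χ : IrrCharacter K, χ ≠ oneIrr K →
      (χ : K → ℂ) z ≠ 0 → (((χ : K → ℂ) z = 1 ∨ (χ : K → ℂ) z = -1) ∧
        ∃ n : ℕ, 3 ≤ n ∧ (χ : K → ℂ) 1 = (n : ℂ))) := by
  classical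
  letI : Fintype K := Fintype.ofFinite K
  letI : Fintype (IrrCharacter K) := Fintype.ofFinite _
  have hcardK := h.card_eq
  set m := Nat.card {x : K // IsConj z x} with hm
  have hval : ∀ χ : IrrCharacter K, ∃ (δ : ℤ) (n : ℕ), (χ : K → ℂ) z = (δ : ℂ) ∧
      (χ : K → ℂ) 1 = (n : ℂ) ∧ 2 ∣ (n : ℤ) - δ := fun χ =>
    char_two_values (Cfsg.Agent.Lib.Helper3.IsIrrCharacter.isCharacter χ.2) z h.ord
  choose δ n hδ hn hpar using hval
  have hδ0 : δ (oneIrr K) = 1 := by
    have := hδ (oneIrr K)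
    rw [oneIrr_apply] at this
    exact_mod_cast this.symm
  have hn0 : n (oneIrr K) = 1 := by
    have := hn (oneIrr K)
    rw [oneIrr_apply] at this
    exact_mod_cast this.symm
  have hO1 : ∑ χ : IrrCharacter K, δ χ ^ 2 = 4 := by
    have h1 := Cfsg.Agent.Lib.Helper3.column_orthogonality z z
    rw [if_pos (IsConj.refl _), h.card] at h1
    have h2 : ∀ χ : IrrCharacter K, (χ : K → ℂ) z * conj ((χ : K → ℂ) z) =
        ((δ χ ^ 2 : ℤ) : ℂ) := by
      intro χ
      rw [hδ χ, map_intCast]
      push_cast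
      ring
    simp_rw [h2] at h1
    exact_mod_cast h1
  have hz1 : ¬ IsConj z (1 : K) := fun hc => h.z_ne_one (isConj_one_left.mp hc)
  have hO2 : ∑ χ : IrrCharacter K, δ χ * (n χ : ℤ) = 0 := by
    have h1 := Cfsg.Agent.Lib.Helper3.column_orthogonality z (1 : K)
    rw [if_neg hz1] at h1
    have h2 : ∀ χ : IrrCharacter K, (χ : K → ℂ) z * conj ((χ : K → ℂ) 1) =
        ((δ χ * (n χ : ℤ) : ℤ) : ℂ) := by
      intro χ
      rw [hδ χ, hn χ, Complex.conj_natCast]
      push_cast
      ring
    simp_rw [h2] at h1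
    exact_mod_cast h1
  have hO5 : ∑ χ : IrrCharacter K, (n χ : ℤ) ^ 2 = (Nat.card K : ℤ) := by
    have h1 := Cfsg.Agent.Lib.Helper3.sum_sq_degree (G := K)
    have h2 : ∀ χ : IrrCharacter K, (χ : K → ℂ) 1 ^ 2 = (((n χ : ℤ) ^ 2 : ℤ) : ℂ) := by
      intro χ
      rw [hn χ]
      push_cast
      ring
    simp_rw [h2] at h1
    exact_mod_cast h1
  have hO6 : (2 : ℂ) = (m : ℂ) * (m : ℂ) / ((4 * m : ℕ) : ℂ) *
      ∑ χ : IrrCharacter K, ((δ χ : ℂ) ^ 3 / (n χ : ℂ)) := by
    have h1 := Cfsg.Agent.S0840.result z z z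
    rw [h.card_pairs, ← hm, hcardK, finsum_eq_sum_of_fintype] at h1
    have h2 : ∀ χ : IrrCharacter K, (χ : K → ℂ) z * (χ : K → ℂ) z *
        conj ((χ : K → ℂ) z) / (χ : K → ℂ) 1 = (δ χ : ℂ) ^ 3 / (n χ : ℂ) := by
      intro χ
      rw [hδ χ, hn χ, map_intCast]
      ring
    simp_rw [h2] at h1
    rw [← h1]
    norm_num
  obtain ⟨a, b, c, ha, hb, hc, hab, hac, hbc, hda, hdb, hdc, hrest⟩ :=
    int_sum_sq_eq_four δ (oneIrr K) hδ0 hO1
  have hE2 := sum_eq_four (fun χ => δ χ * (n χ : ℤ)) (oneIrr K) a b c ha hb hc hab hac hbc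
    (fun k h0 h1 h2 h3 => by
      show δ k * (n k : ℤ) = 0
      rw [hrest k h0 h1 h2 h3, zero_mul])
  have hE6 := sum_eq_four (fun χ => (δ χ : ℂ) ^ 3 / (n χ : ℂ)) (oneIrr K) a b c
    ha hb hc hab hac hbc
    (fun k h0 h1 h2 h3 => by
      show (δ k : ℂ) ^ 3 / (n k : ℂ) = 0
      rw [hrest k h0 h1 h2 h3]
      simp)
  have hE5 := four_le_sum (fun χ => (n χ : ℤ) ^ 2) (oneIrr K) a b c ha hb hc hab hac hbc
    (fun k => sq_nonneg _)
  rw [hO2, hδ0, hn0] at hE2
  rw [hO5, hn0] at hE5
  rw [hE6, hδ0, hn0] at hO6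
  push_cast at hE2 hE5
  simp only [Nat.cast_one, Int.cast_one, one_pow, div_one] at hO6
  have hcube : ∀ k : IrrCharacter K, (δ k = 1 ∨ δ k = -1) → (δ k : ℂ) ^ 3 = (δ k : ℂ) := by
    intro k hk
    rcases hk with hk | hk <;> rw [hk] <;> norm_num
  rw [hcube a hda, hcube b hdb, hcube c hdc] at hO6
  have hodd : ∀ k : IrrCharacter K, (δ k = 1 ∨ δ k = -1) → n k % 2 = 1 := by
    intro k hk
    have hp := hpar k
    rcases hk with hk | hk <;> rw [hk] at hp <;> omega
  have hnpos : ∀ k : IrrCharacter K, (δ k = 1 ∨ δ k = -1) → (n k : ℂ) ≠ 0 := by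
    intro k hk
    have := hodd k hk
    have h3 : n k ≠ 0 := by omega
    exact_mod_cast h3
  have hm0 : (m : ℂ) ≠ 0 := by
    have h3 : m ≠ 0 := by
      intro h0
      rw [h0, mul_zero] at hcardK
      have : 0 < Nat.card K := Nat.card_pos
      omega
    exact_mod_cast h3
  have hmul : (Nat.card K : ℤ) * ((n a : ℤ) * n b * n c + δ a * n b * n c + δ b * n a * n c +
      δ c * n a * n b) = 32 * ((n a : ℤ) * n b * n c) := by
    have hna := hnpos a hda
    have hnb := hnpos b hdb
    have hnc := hnpos c hdc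
    have h4 : ((4 * m : ℕ) : ℂ) = 4 * (m : ℂ) := by push_cast; ring
    rw [h4] at hO6
    have key : ((4 * m : ℕ) : ℂ) * ((n a : ℂ) * n b * n c + (δ a : ℂ) * n b * n c +
        (δ b : ℂ) * n a * n c + (δ c : ℂ) * n a * n b) = 32 * ((n a : ℂ) * n b * n c) := by
      rw [h4]
      field_simp at hO6
      linear_combination (-4 : ℂ) * hO6
    rw [hcardK]
    exact_mod_cast key
  have hsq : 1 + n a ^ 2 + n b ^ 2 + n c ^ 2 ≤ Nat.card K := by
    have : (1 : ℤ) + (n a : ℤ) ^ 2 + (n b : ℤ) ^ 2 + (n c : ℤ) ^ 2 ≤ (Nat.card K : ℤ) := by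
      linarith
    exact_mod_cast this
  rcases karith (Nat.card K) (n a) (n b) (n c) (δ a) (δ b) (δ c) hda hdb hdc (hodd a hda)
    (hodd b hdb) (hodd c hdc) (by linarith) hmul hsq with h12 | ⟨h60, h3a, h3b, h3c⟩
  · left; exact h12
  · right
    refine ⟨h60, ?_⟩
    intro χ hχ1 hχz
    have hδχ : δ χ ≠ 0 := by
      intro h0
      apply hχz
      rw [hδ χ, h0]
      norm_num
    have hmem : χ = a ∨ χ = b ∨ χ = c := by
      by_contra hcon
      push Not at hcon
      exact hδχ (hrest χ hχ1 hcon.1 hcon.2.1 hcon.2.2)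
    have hout : ∀ k : IrrCharacter K, (δ k = 1 ∨ δ k = -1) → 3 ≤ n k →
        (((k : K → ℂ) z = 1 ∨ (k : K → ℂ) z = -1) ∧
          ∃ n' : ℕ, 3 ≤ n' ∧ (k : K → ℂ) 1 = (n' : ℂ)) := by
      intro k hk h3
      refine ⟨?_, n k, h3, hn k⟩
      rcases hk with hk | hk
      · left; rw [hδ k, hk]; norm_num
      · right; rw [hδ k, hk]; norm_num
    rcases hmem with rfl | rfl | rfl
    · exact hout _ hda h3a
    · exact hout _ hdb h3b
    · exact hout _ hdc h3c

end Cfsg.Agent.Lib.Helper81.DE
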