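import Mathlib
import Cfsg.Agent.Lib.Helper81.KleinChar
import Cfsg.Agent.Lib.Helper79.KGV2
import Cfsg.Agent.Lib.Helper80.IrrApi
import Cfsg.Agent.Lib.Helper17.InvertTools
import Cfsg.Agent.Lib.Helper25.FrobInvol

/-!
# Groups in which the centralizer of an involution is a four-group: simplicity in order 60
-/

set_option autoImplicit false
set_option linter.unusedSectionVars false
set_option linter.unusedVariables false
set_option linter.style.haveILetI false

universe u

namespace Cfsg.Agent.Lib.Helper81.DE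

open Cfsg Subgroup
open scoped ComplexConjugate

variable {K : Type u} [Group K]

/-- A nontrivial finite group has a nontrivial irreducible character. -/
theorem exists_irr_ne_one (Q : Type u) [Group Q] [Finite Q] [Nontrivial Q] :
    ∃ ψ : IrrCharacter Q, ψ ≠ oneIrr Q := by
  have h1 : 1 < Nat.card (ConjClasses Q) := by
    rw [Finite.one_lt_card_iff_nontrivial]
    obtain ⟨q, hq⟩ := exists_ne (1 : Q)
    refine ⟨⟨ConjClasses.mk q, ConjClasses.mk 1, ?_⟩⟩
    intro h
    rw [ConjClasses.mk_eq_mk_iff_isConj] at h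
    exact hq (isConj_one_left.mp h)
  rw [← Cfsg.Agent.Lib.Helper3.card_irrCharacter, Finite.one_lt_card_iff_nontrivial] at h1
  exact exists_ne (oneIrr Q)

namespace KSetup

variable {z : K}

/-- Elements of odd order commuting with an involution are trivial. -/
theorem eq_one_of_commute [Finite K] (h : KSetup z) (u : K) (hu : IsConj z u) (n : K)
    (k : ℕ) (hk : Odd k) (hnk : n ^ k = 1) (hcomm : u * n = n * u) : n = 1 := by
  obtain ⟨g, hg⟩ := isConj_iff.mp hu
  have h1 : g⁻¹ * n * g ∈ centralizer ({z} : Set K) := by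
    rw [mem_centralizer_singleton_iff]
    have h2 : g * z * g⁻¹ * n = n * (g * z * g⁻¹) := by rw [hg]; exact hcomm
    calc g⁻¹ * n * g * z = g⁻¹ * (n * (g * z * g⁻¹)) * g := by group
      _ = g⁻¹ * (g * z * g⁻¹ * n) * g := by rw [h2]
      _ = z * (g⁻¹ * n * g) := by group
  have h4 : (g⁻¹ * n * g) ^ 4 = 1 := by
    have h3 : (⟨g⁻¹ * n * g, h1⟩ : centralizer ({z} : Set K)) ^ 4 = 1 := by
      rw [← h.card]
      exact pow_card_eq_one'
    have := congrArg Subtype.val h3
    simpa only [SubgroupClass.coe_pow, OneMemClass.coe_one] using this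
  have hn4 : n ^ 4 = 1 := by
    have h3 : (g⁻¹ * n * g) ^ 4 = g⁻¹ * n ^ 4 * g := by
      have := conj_pow (a := g⁻¹) (b := n) (i := 4)
      rw [inv_inv] at this
      exact this
    rw [h3] at h4
    calc n ^ 4 = g * (g⁻¹ * n ^ 4 * g) * g⁻¹ := by group
      _ = 1 := by rw [h4]; group
  have hd1 : orderOf n ∣ 4 := orderOf_dvd_of_pow_eq_one hn4
  have hd2 : orderOf n ∣ k := orderOf_dvd_of_pow_eq_one hnk
  have hd3 : orderOf n ∣ Nat.gcd 4 k := Nat.dvd_gcd hd1 hd2
  have hg1 : Nat.gcd 4 k = 1 := by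
    have : Nat.Coprime (2 ^ 2) k := Nat.Coprime.pow_left 2 (Nat.coprime_two_left.mpr hk)
    simpa using this
  rw [hg1, Nat.dvd_one] at hd3
  exact orderOf_eq_one_iff.mp hd3

/-- There is an element of the centralizer of `z` other than `1` and `z`. -/
theorem exists_third (h : KSetup z) :
    ∃ a : K, a * z = z * a ∧ a * a = 1 ∧ a ≠ 1 ∧ a ≠ z := by
  have hzC : z ∈ centralizer ({z} : Set K) := by rw [mem_centralizer_singleton_iff]
  haveI : Finite (centralizer ({z} : Set K)) :=
    Nat.finite_of_card_ne_zero (by rw [h.card]; norm_num)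
  by_contra hcon
  push Not at hcon
  have hsub : ∀ a : centralizer ({z} : Set K), a ∈ ({1, ⟨z, hzC⟩} : Set _) := by
    intro a
    by_contra ha
    have h1 : (a : K) ≠ 1 := fun h1 => ha (Or.inl (Subtype.ext h1))
    have h2 := hcon (a : K) (mem_centralizer_singleton_iff.mp a.2) (h.sq _ a.2) h1
    exact ha (Or.inr (Subtype.ext h2))
  have h1 : Nat.card (centralizer ({z} : Set K)) ≤
      (({1, ⟨z, hzC⟩} : Set (centralizer ({z} : Set K)))).ncard := by
    rw [← Set.ncard_univ]
    apply Set.ncard_le_ncard (fun a _ => hsub a) (Set.toFinite _)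
  have h2 := Set.ncard_insert_le (1 : centralizer ({z} : Set K)) {⟨z, hzC⟩}
  rw [Set.ncard_singleton] at h2
  rw [h.card] at h1
  omega

/-- A normal subgroup of odd order is trivial. -/
theorem odd_normal_eq_bot [Finite K] (h : KSetup z) (N : Subgroup K) [hN : N.Normal]
    (hodd : Odd (Nat.card N)) : N = ⊥ := by
  have hpow : ∀ n ∈ N, n ^ Nat.card N = 1 := by
    intro n hn
    have h3 : (⟨n, hn⟩ : N) ^ Nat.card N = 1 := pow_card_eq_one'
    have := congrArg Subtype.val h3
    simpa only [SubgroupClass.coe_pow, OneMemClass.coe_one] using this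
  have hinv : ∀ u : K, orderOf u = 2 → ∀ n ∈ N, u * n * u⁻¹ = n⁻¹ := by
    intro u hu
    have hu2 : u * u = 1 := by
      have := pow_orderOf_eq_one u
      rw [hu, pow_two] at this
      exact this
    have hfpf : ∀ n ∈ N, u * n = n * u → n = 1 := fun n hn hc =>
      h.eq_one_of_commute u (h.allconj u hu) n (Nat.card N) hodd (hpow n hn) hc
    have hnorm : ∀ n ∈ N, u * n * u⁻¹ ∈ N := fun n hn => hN.conj_mem n hn u
    have hab := Cfsg.Agent.Lib.Helper25.abelian_of_fpf_involution N u hu2 hnorm hfpf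
    have huN : u ∈ normalizer (N : Set K) := by
      rw [normalizer_eq_top]
      exact mem_top u
    exact Cfsg.Agent.Lib.Helper17.inverts_of_fpf N hab u huN hu2
      (fun x hx hc => hfpf x hx hc.symm)
  obtain ⟨a, hac, ha2, ha1, haz⟩ := h.exists_third
  have hoa : orderOf a = 2 := h.orderOf_of_sq a ha2 ha1
  have hza2 : z * a * (z * a) = 1 := by
    calc z * a * (z * a) = z * (a * z) * a := by group
      _ = z * (z * a) * a := by rw [hac]
      _ = (z * z) * (a * a) := by group
      _ = 1 := by rw [h.z_mul_self, ha2, one_mul]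
  have hza1 : z * a ≠ 1 := by
    intro h1
    apply haz
    have : a = z⁻¹ := eq_inv_of_mul_eq_one_right h1
    rw [this, h.z_inv]
  have hoza : orderOf (z * a) = 2 := h.orderOf_of_sq _ hza2 hza1
  rw [eq_bot_iff]
  intro n hn
  rw [mem_bot]
  have h1 := hinv (z * a) hoza n hn
  have h2 := hinv a hoa n hn
  have h3 := hinv z h.ord n⁻¹ (N.inv_mem hn)
  rw [inv_inv] at h3
  have h4 : z * a * n * (z * a)⁻¹ = n := by
    calc z * a * n * (z * a)⁻¹ = z * (a * n * a⁻¹) * z⁻¹ := by group
      _ = n := by rw [h2, h3]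
  have h5 : n⁻¹ = n := by rw [← h1, h4]
  have h6 : n ^ 2 = 1 := by
    rw [pow_two]
    calc n * n = n⁻¹ * n := by rw [h5]
      _ = 1 := inv_mul_cancel n
  have hd1 : orderOf n ∣ 2 := orderOf_dvd_of_pow_eq_one h6
  have hd2 : orderOf n ∣ Nat.card N := orderOf_dvd_of_pow_eq_one (hpow n hn)
  have hd3 : orderOf n ∣ Nat.gcd 2 (Nat.card N) := Nat.dvd_gcd hd1 hd2
  rw [Nat.coprime_two_left.mpr hodd, Nat.dvd_one] at hd3
  exact orderOf_eq_one_iff.mp hd3

/-- A normal subgroup of even order contains `z`. -/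
theorem z_mem_of_even [Finite K] (h : KSetup z) (N : Subgroup K) [hN : N.Normal]
    (heven : Even (Nat.card N)) : z ∈ N := by
  haveI : Fact (Nat.Prime 2) := ⟨Nat.prime_two⟩
  obtain ⟨u, hu⟩ := exists_prime_orderOf_dvd_card' (G := N) 2 heven.two_dvd
  have hu' : orderOf (u : K) = 2 := by rw [Subgroup.orderOf_coe]; exact hu
  have hc := h.allconj (u : K) hu'
  obtain ⟨g, hg⟩ := isConj_iff.mp hc.symm
  rw [← hg]
  exact hN.conj_mem (u : K) u.2 g

theorem isSimpleGroup [Finite K] (h : KSetup z)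
    (hdata : ∀ χ : IrrCharacter K, χ ≠ oneIrr K → (χ : K → ℂ) z ≠ 0 →
      (((χ : K → ℂ) z = 1 ∨ (χ : K → ℂ) z = -1) ∧
        ∃ n : ℕ, 3 ≤ n ∧ (χ : K → ℂ) 1 = (n : ℂ))) : IsSimpleGroup K := by
  haveI : Nontrivial K := ⟨⟨z, 1, h.z_ne_one⟩⟩
  refine ⟨fun N hN => ?_⟩
  haveI := hN
  rcases Nat.even_or_odd (Nat.card N) with heven | hodd
  · right
    have hzN := h.z_mem_of_even N heven
    by_contra hne
    haveI : Nontrivial (K ⧸ N) := by
      rw [← Finite.one_lt_card_iff_nontrivial, ← Subgroup.index_eq_card]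
      have h1 : N.index ≠ 1 := fun h1 => hne (Subgroup.index_eq_one.mp h1)
      have h0 : N.index ≠ 0 := Subgroup.index_ne_zero_of_finite
      omega
    obtain ⟨ψ, hψ⟩ := exists_irr_ne_one (K ⧸ N)
    have hχ1 : Cfsg.Agent.Lib.Helper79.inflIrr N ψ ≠ oneIrr K := by
      intro heq
      apply hψ
      apply Cfsg.Agent.Lib.Helper79.inflIrr_injective N
      rw [heq]
      apply Subtype.ext
      funext x
      rw [oneIrr_apply, Cfsg.Agent.Lib.Helper79.inflIrr_apply, oneIrr_apply]
    have hz1 : ((Cfsg.Agent.Lib.Helper79.inflIrr N ψ : IrrCharacter K) : K → ℂ) z =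
        ((Cfsg.Agent.Lib.Helper79.inflIrr N ψ : IrrCharacter K) : K → ℂ) 1 := by
      have hmk : ((z : K) : K ⧸ N) = ((1 : K) : K ⧸ N) := by
        rw [QuotientGroup.mk_one]
        exact (QuotientGroup.eq_one_iff z).mpr hzN
      rw [Cfsg.Agent.Lib.Helper79.inflIrr_apply, Cfsg.Agent.Lib.Helper79.inflIrr_apply, hmk]
    have hne0 := Cfsg.Agent.Lib.Helper80.irr_one_ne_zero (Cfsg.Agent.Lib.Helper79.inflIrr N ψ)
    obtain ⟨hpm, n, hn3, hn⟩ := hdata _ hχ1 (by rw [hz1]; exact hne0)
    rw [hz1, hn] at hpm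
    rcases hpm with h1 | h1
    · have : n = 1 := by exact_mod_cast h1
      omega
    · have h2 : ((n : ℤ) : ℂ) = ((-1 : ℤ) : ℂ) := by push_cast; exact h1
      have h3 : (n : ℤ) = -1 := by exact_mod_cast h2
      omega
  · left
    exact h.odd_normal_eq_bot N hodd

end KSetup

end Cfsg.Agent.Lib.Helper81.DE
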