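import Mathlib

/-!
# Recognition of the symmetric group from a core-free subgroup
-/

set_option autoImplicit false
set_option linter.unusedSectionVars false
set_option linter.unusedVariables false
set_option linter.style.haveILetI false

namespace Cfsg.Agent.Lib.Helper81.DE

open Subgroup

variable {G : Type*} [Group G]

/-- The coset action on a core-free subgroup of index `m` embeds the group in the symmetric
group of degree `m`. -/
theorem exists_injective_perm_of_core_free [Finite G] (H : Subgroup G) (m : ℕ)
    (hidx : H.index = m) (hcore : H.normalCore = ⊥) :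
    ∃ φ : G →* Equiv.Perm (Fin m), Function.Injective φ := by
  have hker : (MulAction.toPermHom G (G ⧸ H)).ker = ⊥ := by
    rw [← Subgroup.normalCore_eq_ker]
    exact hcore
  have hinj : Function.Injective (MulAction.toPermHom G (G ⧸ H)) :=
    (MonoidHom.ker_eq_bot_iff _).mp hker
  have hcard : Nat.card (G ⧸ H) = m := by rw [← Subgroup.index_eq_card]; exact hidx
  have e : (G ⧸ H) ≃ Fin m := Finite.equivFinOfCardEq hcard
  refine ⟨e.permCongrHom.toMonoidHom.comp (MulAction.toPermHom G (G ⧸ H)), ?_⟩
  intro a b hab
  apply hinj
  exact e.permCongrHom.injective hab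

/-- A group of order `m!` with a core-free subgroup of index `m` is the symmetric group. -/
theorem perm_of_core_free [Finite G] (H : Subgroup G) (m : ℕ)
    (hidx : H.index = m) (hcore : H.normalCore = ⊥) (hcard : Nat.card G = m.factorial) :
    Nonempty (G ≃* Equiv.Perm (Fin m)) := by
  obtain ⟨φ, hφ⟩ := exists_injective_perm_of_core_free H m hidx hcore
  have hc : Nat.card (Equiv.Perm (Fin m)) = m.factorial := by
    rw [Nat.card_eq_fintype_card, Fintype.card_perm, Fintype.card_fin]
  have hbij : Function.Bijective φ :=
    hφ.bijective_of_nat_card_le (by rw [hc, hcard])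
  exact ⟨MulEquiv.ofBijective φ hbij⟩

end Cfsg.Agent.Lib.Helper81.DE
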