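import Mathlib
import Cfsg.Agent.Lib.Helper81.DihEightSimple
import Cfsg.Agent.Lib.Helper81.KleinSimple
import Cfsg.Agent.Lib.Helper81.PermCore
import Cfsg.Agent.Lib.Helper17.SylowTools
import Cfsg.Agent.Lib.Helper20.SylowFusion
import Cfsg.Agent.S0111

/-!
# Centralizer of an involution dihedral of order eight: one class of reflections fused
-/

set_option autoImplicit false
set_option linter.unusedSectionVars false
set_option linter.unusedVariables false
set_option linter.style.haveILetI false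

namespace Cfsg.Agent.Lib.Helper81.DE

open DihedralGroup Subgroup

section decide
set_option maxRecDepth 100000

theorem d8_eight_cases : ∀ i₀ : ZMod 4, ∀ d : DihedralGroup 4,
    d = 1 ∨ d = r 2 ∨ d = sr i₀ ∨ d = sr (i₀ + 2) ∨ d = r 1 ∨ d = r 3 ∨ d = sr (i₀ + 1) ∨
      d = sr (i₀ + 3) := by
  decide

theorem d8_four_card : ∀ i₀ : ZMod 4,
    ({1, r 2, sr i₀, sr (i₀ + 2)} : Finset (DihedralGroup 4)).card = 4 := by
  decide

theorem d8_four_sq : ∀ i₀ : ZMod 4, ∀ d ∈ ({1, r 2, sr i₀, sr (i₀ + 2)} : Finset (DihedralGroup 4)),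
    d * d = 1 := by
  decide

theorem d8_four_comm : ∀ i₀ : ZMod 4,
    ∀ d ∈ ({1, r 2, sr i₀, sr (i₀ + 2)} : Finset (DihedralGroup 4)),
    ∀ d' ∈ ({1, r 2, sr i₀, sr (i₀ + 2)} : Finset (DihedralGroup 4)), d * d' = d' * d := by
  decide

theorem d8_conj_sr : ∀ i : ZMod 4, (r 1 : DihedralGroup 4) * sr i * (r 1)⁻¹ = sr (i + 2) := by
  decide

theorem d8_sr_mul_next : ∀ i : ZMod 4, (sr i : DihedralGroup 4) * sr (i + 1) = r 1 := by
  decide

theorem d8_r2_mul_sr : ∀ i : ZMod 4, (r 2 : DihedralGroup 4) * sr i = sr (i + 2) := by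
  decide

theorem d8_sr_mul_sr2 : ∀ i : ZMod 4, (sr i : DihedralGroup 4) * sr (i + 2) = r 2 := by
  decide

theorem d8_r1_inv : (r 1 : DihedralGroup 4)⁻¹ = r 3 := by decide

theorem d8_add : ∀ i : ZMod 4, i + 1 + 2 = i + 3 ∧ i + 2 + 2 = i ∧ i + 3 + 2 = i + 1 := by decide

end decide

variable {G : Type*} [Group G]

namespace Setup

variable {ι : DihedralGroup 4 →* G} {t : G}

theorem sr_conj (h : Setup ι t) (i : ZMod 4) : IsConj (ι (sr i)) (ι (sr (i + 2))) :=
  isConj_iff.mpr ⟨ι (r 1), by rw [← map_inv, ← map_mul, ← map_mul, d8_conj_sr]⟩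

/-- A normal subgroup of even order contains `t`. -/
theorem t_mem_of_even [Finite G] (h : Setup ι t) (N : Subgroup G) [hN : N.Normal]
    (heven : Even (Nat.card N)) : t ∈ N := by
  haveI : Fact (Nat.Prime 2) := ⟨Nat.prime_two⟩
  obtain ⟨P, hP⟩ := h.exists_sylow
  obtain ⟨u, hu⟩ := exists_prime_orderOf_dvd_card' (G := N) 2 heven.two_dvd
  have hu' : orderOf (u : G) = 2 := by rw [Subgroup.orderOf_coe]; exact hu
  have hconj : ∀ x : G, IsConj (u : G) x → x ∈ N := by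
    intro x hx
    obtain ⟨g, hg⟩ := isConj_iff.mp hx
    rw [← hg]
    exact hN.conj_mem (u : G) u.2 g
  have hsr : ∀ i : ZMod 4, ι (sr i) ∈ N → t ∈ N := by
    intro i hi
    have h2 : ι (sr (i + 2)) ∈ N := by
      obtain ⟨g, hg⟩ := isConj_iff.mp (h.sr_conj i)
      rw [← hg]
      exact hN.conj_mem _ hi g
    have h3 := N.mul_mem hi h2
    rwa [← map_mul, d8_sr_mul_sr2, ← h.t_eq] at h3
  rcases Cfsg.Agent.Lib.Helper4.DS.invol_rep ι P hP h.inj (by norm_num) (u : G) hu' with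
    h1 | h1 | h1
  · rw [h.zc_eq] at h1
    exact hconj t h1
  · exact hsr 0 (hconj _ h1)
  · rw [r_mul_sr] at h1
    exact hsr _ (hconj _ h1)

/-- A normal subgroup of odd order is trivial, when `t` is conjugate to `sr i₀`. -/
theorem odd_normal_eq_bot' [Finite G] (h : Setup ι t) (i₀ : ZMod 4)
    (hF : IsConj t (ι (sr i₀))) (N : Subgroup G) [hN : N.Normal]
    (hodd : Odd (Nat.card N)) : N = ⊥ := by
  have hF2 : IsConj t (ι (sr (i₀ + 2))) := hF.trans (h.sr_conj i₀)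
  have hpow : ∀ n ∈ N, n ^ Nat.card N = 1 := by
    intro n hn
    have h3 : (⟨n, hn⟩ : N) ^ Nat.card N = 1 := pow_card_eq_one'
    have := congrArg Subtype.val h3
    simpa only [SubgroupClass.coe_pow, OneMemClass.coe_one] using this
  have hinv : ∀ u : G, IsConj t u → ∀ n ∈ N, u * n * u⁻¹ = n⁻¹ := by
    intro u hu
    have hu2 : u * u = 1 := by
      obtain ⟨g, hg⟩ := isConj_iff.mp hu
      rw [← hg]
      calc g * t * g⁻¹ * (g * t * g⁻¹) = g * (t * t) * g⁻¹ := by group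
        _ = 1 := by rw [h.t_mul_self]; group
    have hfpf : ∀ n ∈ N, u * n = n * u → n = 1 := fun n hn hc =>
      h.eq_one_of_commute u hu n (Nat.card N) hodd (hpow n hn) hc
    have hnorm : ∀ n ∈ N, u * n * u⁻¹ ∈ N := fun n hn => hN.conj_mem n hn u
    have hab := Cfsg.Agent.Lib.Helper25.abelian_of_fpf_involution N u hu2 hnorm hfpf
    have huN : u ∈ normalizer (N : Set G) := by
      rw [normalizer_eq_top]
      exact mem_top u
    exact Cfsg.Agent.Lib.Helper17.inverts_of_fpf N hab u huN hu2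
      (fun x hx hc => hfpf x hx hc.symm)
  have hprod : t = ι (sr i₀) * ι (sr (i₀ + 2)) := by
    rw [h.t_eq, ← map_mul, d8_sr_mul_sr2]
  rw [eq_bot_iff]
  intro n hn
  rw [mem_bot]
  have h1 := hinv t (IsConj.refl t) n hn
  have h2 := hinv (ι (sr (i₀ + 2))) hF2 n hn
  have h3 := hinv (ι (sr i₀)) hF n⁻¹ (N.inv_mem hn)
  rw [inv_inv] at h3
  have h4 : t * n * t⁻¹ = n := by
    rw [hprod]
    calc ι (sr i₀) * ι (sr (i₀ + 2)) * n * (ι (sr i₀) * ι (sr (i₀ + 2)))⁻¹
        = ι (sr i₀) * (ι (sr (i₀ + 2)) * n * (ι (sr (i₀ + 2)))⁻¹) * (ι (sr i₀))⁻¹ := by group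
      _ = n := by rw [h2, h3]
  have h5 : n⁻¹ = n := by rw [← h1, h4]
  have h6 : n ^ 2 = 1 := by
    rw [pow_two]
    calc n * n = n⁻¹ * n := by rw [h5]
      _ = 1 := inv_mul_cancel n
  have hd1 : orderOf n ∣ 2 := orderOf_dvd_of_pow_eq_one h6
  have hd2 : orderOf n ∣ Nat.card N := orderOf_dvd_of_pow_eq_one (hpow n hn)
  have hd3 : orderOf n ∣ Nat.gcd 2 (Nat.card N) := Nat.dvd_gcd hd1 hd2
  rw [Nat.coprime_two_left.mpr hodd, Nat.dvd_one] at hd3
  exact orderOf_eq_one_iff.mp hd3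

/-- Thompson transfer: a normal subgroup of index two avoiding the unfused reflection. -/
theorem exists_index_two_avoiding [Finite G] (h : Setup ι t) (i₁ : ZMod 4)
    (hnF : ¬ IsConj t (ι (sr i₁))) :
    ∃ K : Subgroup G, K.Normal ∧ K.index = 2 ∧ ι (sr i₁) ∉ K := by
  obtain ⟨P, hP⟩ := h.exists_sylow
  have hle : Cfsg.Agent.Lib.Helper4.DS.rotX ι ≤ (P : Subgroup G) :=
    hP ▸ Cfsg.Agent.Lib.Helper4.DS.rotX_le ι
  have hri : (Cfsg.Agent.Lib.Helper4.DS.rotX ι).relIndex (P : Subgroup G) = 2 := by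
    rw [hP]; exact Cfsg.Agent.Lib.Helper4.DS.relIndex_rotX ι h.inj
  have hu : orderOf (ι (sr i₁)) = 2 := by rw [orderOf_injective ι h.inj]; exact orderOf_sr i₁
  have huP : ι (sr i₁) ∈ (P : Subgroup G) := by rw [hP]; exact ⟨_, rfl⟩
  rcases Cfsg.Agent.S0111.result P (Cfsg.Agent.Lib.Helper4.DS.rotX ι) hle hri (ι (sr i₁)) hu huP
    (Cfsg.Agent.Lib.Helper4.DS.b_not_mem_rotX ι h.inj i₁) with ⟨M, hM, hMi, hMu⟩ | ⟨g, hg⟩
  · exact ⟨M, hM, hMi, hMu⟩
  · exfalso
    have ho : orderOf (g * ι (sr i₁) * g⁻¹) = 2 := by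
      rw [← MulAut.conj_apply, MulEquiv.orderOf_eq]; exact hu
    have := Cfsg.Agent.Lib.Helper4.DS.invol_rotX ι h.inj (by norm_num) _ hg ho
    rw [h.zc_eq] at this
    apply hnF
    rw [← this]
    exact isConj_iff.mpr ⟨g⁻¹, by group⟩

end Setup

/-- The setting of the case where exactly one class of reflections is fused to `t`: a normal
subgroup `K` of index two avoiding the unfused reflections. -/
structure BSetup (ι : DihedralGroup 4 →* G) (t : G) (i₀ : ZMod 4) (K : Subgroup G) : Prop where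
  setup : Setup ι t
  fuse : IsConj t (ι (sr i₀))
  normal : K.Normal
  index : K.index = 2
  avoid : ι (sr (i₀ + 1)) ∉ K

namespace BSetup

variable {ι : DihedralGroup 4 →* G} {t : G} {i₀ : ZMod 4} {K : Subgroup G}

theorem conj_mem_iff (h : BSetup ι t i₀ K) {x y : G} (hxy : IsConj x y) : x ∈ K ↔ y ∈ K := by
  haveI := h.normal
  obtain ⟨g, hg⟩ := isConj_iff.mp hxy
  constructor
  · intro hx
    rw [← hg]
    exact h.normal.conj_mem x hx g
  · intro hy
    have : x = g⁻¹ * y * g⁻¹⁻¹ := by rw [← hg]; group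
    rw [this]
    exact h.normal.conj_mem y hy g⁻¹

theorem sr3_not_mem (h : BSetup ι t i₀ K) : ι (sr (i₀ + 3)) ∉ K := by
  intro hm
  apply h.avoid
  have := h.setup.sr_conj (i₀ + 1)
  rw [(d8_add i₀).1] at this
  exact (h.conj_mem_iff this).mpr hm

theorem fuse2 (h : BSetup ι t i₀ K) : IsConj t (ι (sr (i₀ + 2))) :=
  h.fuse.trans (h.setup.sr_conj i₀)

theorem t_mem (h : BSetup ι t i₀ K) : t ∈ K := by
  by_contra ht
  have h1 : ι (sr i₀) ∉ K := fun hm => ht ((h.conj_mem_iff h.fuse).mpr hm)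
  have h2 := Cfsg.Agent.Lib.Helper20.mul_mem_of_index_two h.index ht h1
  rw [h.setup.t_eq, ← map_mul, d8_r2_mul_sr] at h2
  exact h1 ((h.conj_mem_iff (h.setup.sr_conj i₀)).mpr h2)

theorem sr_mem (h : BSetup ι t i₀ K) : ι (sr i₀) ∈ K := (h.conj_mem_iff h.fuse).mp h.t_mem

theorem sr2_mem (h : BSetup ι t i₀ K) : ι (sr (i₀ + 2)) ∈ K :=
  (h.conj_mem_iff h.fuse2).mp h.t_mem

theorem r1_not_mem (h : BSetup ι t i₀ K) : ι (r 1) ∉ K := by
  intro hm
  apply h.avoid
  have h1 : ι (sr (i₀ + 1)) = (ι (sr i₀))⁻¹ * ι (r 1) := by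
    rw [← d8_sr_mul_next i₀, map_mul]
    group
  rw [h1]
  exact K.mul_mem (K.inv_mem h.sr_mem) hm

theorem r3_not_mem (h : BSetup ι t i₀ K) : ι (r 3) ∉ K := by
  intro hm
  apply h.r1_not_mem
  have h1 : ι (r 1) = (ι (r 3))⁻¹ := by
    rw [← map_inv, ← d8_r1_inv, inv_inv]
  rw [h1]
  exact K.inv_mem hm

theorem mem_iff (h : BSetup ι t i₀ K) (d : DihedralGroup 4) :
    ι d ∈ K ↔ d ∈ ({1, r 2, sr i₀, sr (i₀ + 2)} : Finset (DihedralGroup 4)) := by
  simp only [Finset.mem_insert, Finset.mem_singleton]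
  constructor
  · intro hd
    rcases d8_eight_cases i₀ d with rfl | rfl | rfl | rfl | rfl | rfl | rfl | rfl
    · exact Or.inl rfl
    · exact Or.inr (Or.inl rfl)
    · exact Or.inr (Or.inr (Or.inl rfl))
    · exact Or.inr (Or.inr (Or.inr rfl))
    · exact absurd hd h.r1_not_mem
    · exact absurd hd h.r3_not_mem
    · exact absurd hd h.avoid
    · exact absurd hd h.sr3_not_mem
  · rintro (rfl | rfl | rfl | rfl)
    · rw [map_one]; exact K.one_mem
    · rw [← h.setup.t_eq]; exact h.t_mem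
    · exact h.sr_mem
    · exact h.sr2_mem

theorem card_inf [Finite G] (h : BSetup ι t i₀ K) : Nat.card (K ⊓ ι.range : Subgroup G) = 4 := by
  classical
  have h4 : Nat.card {d // d ∈ ({1, r 2, sr i₀, sr (i₀ + 2)} : Finset (DihedralGroup 4))} = 4 := by
    rw [Nat.card_eq_fintype_card, Fintype.card_coe]
    exact d8_four_card i₀
  refine Eq.trans (Nat.card_congr ?_) h4
  refine Equiv.ofBijective
    (fun d : {d // d ∈ ({1, r 2, sr i₀, sr (i₀ + 2)} : Finset (DihedralGroup 4))} =>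
      (⟨ι d.1, ⟨(h.mem_iff d.1).mpr d.2, ⟨d.1, rfl⟩⟩⟩ : (K ⊓ ι.range : Subgroup G))) ⟨?_, ?_⟩
    |>.symm
  · intro a b hab
    have : ι a.1 = ι b.1 := congrArg Subtype.val hab
    exact Subtype.ext (h.setup.inj this)
  · rintro ⟨g, hgK, ⟨d, rfl⟩⟩
    exact ⟨⟨d, (h.mem_iff d).mp hgK⟩, rfl⟩

theorem card_G [Finite G] (h : BSetup ι t i₀ K) : Nat.card G = 2 * Nat.card K := by
  rw [← K.card_mul_index, h.index, mul_comm]

/-- The subgroup `K` satisfies the four-group hypotheses. -/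
theorem ksetup [Finite G] (h : BSetup ι t i₀ K) : KSetup (⟨t, h.t_mem⟩ : K) := by
  have hmemC : ∀ k : K, k ∈ centralizer ({(⟨t, h.t_mem⟩ : K)} : Set K) ↔
      (k : G) ∈ (K ⊓ ι.range : Subgroup G) := by
    intro k
    rw [mem_centralizer_singleton_iff, Subgroup.mem_inf, ← h.setup.cent,
      mem_centralizer_singleton_iff]
    constructor
    · intro hk
      exact ⟨k.2, congrArg Subtype.val hk⟩
    · intro hk
      exact Subtype.ext hk.2
  refine ⟨?_, ?_, ?_, ?_⟩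
  · rw [← Subgroup.orderOf_coe]
    exact h.setup.ord
  · rw [← h.card_inf]
    apply Nat.card_congr
    refine ⟨fun k => ⟨(k.1 : G), (hmemC k.1).mp k.2⟩,
      fun g => ⟨⟨g.1, g.2.1⟩, (hmemC _).mpr g.2⟩, ?_, ?_⟩
    · intro k; rfl
    · intro g; rfl
  · intro v hv
    obtain ⟨hvK, ⟨d, hd⟩⟩ := (hmemC v).mp hv
    have hdm : d ∈ ({1, r 2, sr i₀, sr (i₀ + 2)} : Finset (DihedralGroup 4)) := by
      rw [← h.mem_iff, hd]
      exact hvK
    apply Subtype.ext
    show (v : G) * (v : G) = 1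
    rw [← hd, ← map_mul, d8_four_sq i₀ d hdm, map_one]
  · intro u hu
    haveI := h.normal
    have hu' : orderOf (u : G) = 2 := by rw [Subgroup.orderOf_coe]; exact hu
    obtain ⟨P, hP⟩ := h.setup.exists_sylow
    have hsr : ∀ i : ZMod 4, IsConj (u : G) (ι (sr i)) → IsConj (u : G) t := by
      intro i hi
      have hiK : ι (sr i) ∈ K := (h.conj_mem_iff hi).mp u.2
      have := (h.mem_iff (sr i)).mp hiK
      simp only [Finset.mem_insert, Finset.mem_singleton] at this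
      rcases this with h1 | h1 | h1 | h1
      · cases h1
      · cases h1
      · rw [h1] at hi; exact hi.trans h.fuse.symm
      · rw [h1] at hi; exact hi.trans h.fuse2.symm
    have hconj : IsConj t (u : G) := by
      rcases Cfsg.Agent.Lib.Helper4.DS.invol_rep ι P hP h.setup.inj (by norm_num) (u : G) hu'
        with h1 | h1 | h1
      · rw [h.setup.zc_eq] at h1; exact h1.symm
      · exact (hsr 0 h1).symm
      · rw [r_mul_sr] at h1; exact (hsr _ h1).symm
    obtain ⟨g, hg⟩ := isConj_iff.mp hconj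
    by_cases hgK : g ∈ K
    · exact isConj_iff.mpr ⟨⟨g, hgK⟩, Subtype.ext hg⟩
    · have hk : g * ι (sr (i₀ + 1)) ∈ K :=
        Cfsg.Agent.Lib.Helper20.mul_mem_of_index_two h.index hgK h.avoid
      refine isConj_iff.mpr ⟨⟨g * ι (sr (i₀ + 1)), hk⟩, Subtype.ext ?_⟩
      show g * ι (sr (i₀ + 1)) * t * (g * ι (sr (i₀ + 1)))⁻¹ = (u : G)
      have hc : ι (sr (i₀ + 1)) * t = t * ι (sr (i₀ + 1)) := by
        have : ι (sr (i₀ + 1)) ∈ centralizer ({t} : Set G) := by
          rw [h.setup.cent]; exact ⟨_, rfl⟩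
        exact mem_centralizer_singleton_iff.mp this
      calc g * ι (sr (i₀ + 1)) * t * (g * ι (sr (i₀ + 1)))⁻¹
          = g * (ι (sr (i₀ + 1)) * t) * (ι (sr (i₀ + 1)))⁻¹ * g⁻¹ := by group
        _ = g * (t * ι (sr (i₀ + 1))) * (ι (sr (i₀ + 1)))⁻¹ * g⁻¹ := by rw [hc]
        _ = g * t * g⁻¹ := by group
        _ = (u : G) := hg

end BSetup

end Cfsg.Agent.Lib.Helper81.DE
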