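import Mathlib
import Cfsg.Agent.Lib.Helper81.DihEightCaseB

/-!
# Centralizer of an involution dihedral of order eight: one class of reflections fused, II
-/

set_option autoImplicit false
set_option linter.unusedSectionVars false
set_option linter.unusedVariables false
set_option linter.style.haveILetI false

universe u

namespace Cfsg.Agent.Lib.Helper81.DE

open DihedralGroup Subgroup

variable {G : Type u} [Group G]

namespace BSetup

variable {ι : DihedralGroup 4 →* G} {t : G} {i₀ : ZMod 4} {K : Subgroup G}

/-- A normal subgroup of even order contains `K ⊓ ι.range`. -/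
theorem inf_le_of_even [Finite G] (h : BSetup ι t i₀ K) (N : Subgroup G) [hN : N.Normal]
    (heven : Even (Nat.card N)) : K ⊓ ι.range ≤ N := by
  have ht : t ∈ N := h.setup.t_mem_of_even N heven
  have hconj : ∀ x : G, IsConj t x → x ∈ N := by
    intro x hx
    obtain ⟨g, hg⟩ := isConj_iff.mp hx
    rw [← hg]
    exact hN.conj_mem t ht g
  rintro g ⟨hgK, ⟨d, rfl⟩⟩
  have := (h.mem_iff d).mp hgK
  simp only [Finset.mem_insert, Finset.mem_singleton] at this
  rcases this with rfl | rfl | rfl | rfl
  · rw [map_one]; exact N.one_mem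
  · rw [← h.setup.t_eq]; exact ht
  · exact hconj _ h.fuse
  · exact hconj _ h.fuse2

/-- A normal subgroup whose order is not divisible by four is trivial. -/
theorem normal_eq_bot_of_not_four_dvd [Finite G] (h : BSetup ι t i₀ K) (N : Subgroup G)
    [hN : N.Normal] (h4 : ¬ 4 ∣ Nat.card N) : N = ⊥ := by
  rcases Nat.even_or_odd (Nat.card N) with heven | hodd
  · exfalso
    apply h4
    rw [← h.card_inf]
    exact Subgroup.card_dvd_of_le (h.inf_le_of_even N heven)
  · exact h.setup.odd_normal_eq_bot' i₀ h.fuse N hodd

theorem card_range_index [Finite G] (h : BSetup ι t i₀ K) :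
    Nat.card G = 8 * ι.range.index := by
  rw [← ι.range.card_mul_index, h.setup.card_range]
  norm_num

/-- The case `|K| = 12`. -/
theorem perm_four [Finite G] (h : BSetup ι t i₀ K) (h12 : Nat.card K = 12) :
    Nonempty (G ≃* Equiv.Perm (Fin 4)) := by
  have hG : Nat.card G = 24 := by rw [h.card_G, h12]
  haveI : Fact (Nat.Prime 3) := ⟨by norm_num⟩
  let P : Sylow 3 G := default
  obtain ⟨n, hn⟩ := IsPGroup.iff_card.mp P.2
  have hmul := (P : Subgroup G).card_mul_index
  rw [hG] at hmul
  have hnd := P.not_dvd_index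
  have hP3 : Nat.card (P : Subgroup G) = 3 ∧ (P : Subgroup G).index = 8 := by
    rcases n with _ | _ | n
    · exfalso
      rw [pow_zero] at hn
      rw [hn, one_mul] at hmul
      apply hnd
      rw [hmul]
      norm_num
    · rw [zero_add, pow_one] at hn
      rw [hn] at hmul
      exact ⟨hn, by omega⟩
    · exfalso
      have h9 : 9 ∣ Nat.card (P : Subgroup G) := by
        rw [hn, pow_succ, pow_succ]
        exact ⟨3 ^ n, by ring⟩
      have h24 : 9 ∣ 24 := by
        rw [← hmul]
        exact Dvd.dvd.mul_right h9 _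
      omega
  have h1 := card_sylow_modEq_one 3 G
  have h2 := P.card_dvd_index
  rw [hP3.2] at h2
  have hn3 : Nat.card (Sylow 3 G) = 1 ∨ Nat.card (Sylow 3 G) = 4 := by
    have hle : Nat.card (Sylow 3 G) ≤ 8 := Nat.le_of_dvd (by norm_num) h2
    have hpos : 0 < Nat.card (Sylow 3 G) := Nat.card_pos
    unfold Nat.ModEq at h1
    interval_cases (Nat.card (Sylow 3 G)) <;> omega
  have hidx : (normalizer ((P : Subgroup G) : Set G)).index = 4 := by
    rcases hn3 with h3 | h3
    · exfalso
      rw [P.card_eq_index_normalizer] at h3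
      have htop : normalizer ((P : Subgroup G) : Set G) = ⊤ := Subgroup.index_eq_one.mp h3
      haveI : (P : Subgroup G).Normal := Subgroup.normalizer_eq_top_iff.mp htop
      have hbot := h.normal_eq_bot_of_not_four_dvd (P : Subgroup G) (by rw [hP3.1]; norm_num)
      have := hP3.1
      rw [hbot, Subgroup.card_bot] at this
      omega
    · have := P.card_eq_index_normalizer
      rw [h3] at this
      exact this.symm
  have hH6 : Nat.card (normalizer ((P : Subgroup G) : Set G)) = 6 := by
    have := (normalizer ((P : Subgroup G) : Set G)).card_mul_index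
    rw [hidx, hG] at this
    omega
  have hcore : (normalizer ((P : Subgroup G) : Set G)).normalCore = ⊥ := by
    apply h.normal_eq_bot_of_not_four_dvd
    intro h4
    have hd : Nat.card (normalizer ((P : Subgroup G) : Set G)).normalCore ∣ 6 := by
      rw [← hH6]
      exact Subgroup.card_dvd_of_le (Subgroup.normalCore_le _)
    have : 4 ∣ 6 := h4.trans hd
    omega
  exact perm_of_core_free _ 4 hidx hcore (by rw [hG]; decide)

/-- The case `|K| = 60`. -/
theorem perm_five [Finite G] (h : BSetup ι t i₀ K) (h60 : Nat.card K = 60)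
    (hsimple : IsSimpleGroup K) : Nonempty (G ≃* Equiv.Perm (Fin 5)) := by
  haveI := hsimple
  haveI := h.normal
  have hG : Nat.card G = 120 := by rw [h.card_G, h60]
  have hV4 := h.card_inf
  -- the normalizer of `V = K ⊓ ι.range`
  have hSH : ι.range ≤ normalizer ((K ⊓ ι.range : Subgroup G) : Set G) := by
    intro s hs
    rw [mem_normalizer_iff]
    intro g
    constructor
    · rintro ⟨hgK, hgS⟩
      exact ⟨h.normal.conj_mem g hgK s, ι.range.mul_mem (ι.range.mul_mem hs hgS) (ι.range.inv_mem hs)⟩
    · rintro ⟨hgK, hgS⟩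
      have e : g = s⁻¹ * (s * g * s⁻¹) * s⁻¹⁻¹ := by group
      rw [e]
      exact ⟨h.normal.conj_mem _ hgK s⁻¹,
        ι.range.mul_mem (ι.range.mul_mem (ι.range.inv_mem hs) hgS)
          (ι.range.inv_mem (ι.range.inv_mem hs))⟩
  have hidx15 : ι.range.index = 15 := by
    have := h.card_range_index
    rw [hG] at this
    omega
  have hdvd : (normalizer ((K ⊓ ι.range : Subgroup G) : Set G)).index ∣ 15 := by
    rw [← hidx15]
    exact Subgroup.index_dvd_of_le hSH
  -- the four-group as a subgroup of `K`
  have hV'card : Nat.card ((K ⊓ ι.range : Subgroup G).subgroupOf K) = 4 := by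
    rw [Nat.card_congr (Subgroup.subgroupOfEquivOfLe (inf_le_left : K ⊓ ι.range ≤ K)).toEquiv]
    exact hV4
  have hV'bot : (K ⊓ ι.range : Subgroup G).subgroupOf K ≠ ⊥ := by
    intro hb
    rw [hb, Subgroup.card_bot] at hV'card
    omega
  have hV'top : (K ⊓ ι.range : Subgroup G).subgroupOf K ≠ ⊤ := by
    intro hb
    rw [hb, Subgroup.card_top, h60] at hV'card
    omega
  -- core-freeness
  have hcore : (normalizer ((K ⊓ ι.range : Subgroup G) : Set G)).normalCore = ⊥ := by
    by_contra hne
    have h4 : 4 ∣ Nat.card (normalizer ((K ⊓ ι.range : Subgroup G) : Set G)).normalCore := by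
      by_contra h4
      exact hne (h.normal_eq_bot_of_not_four_dvd _ h4)
    have heven : Even (Nat.card (normalizer ((K ⊓ ι.range : Subgroup G) : Set G)).normalCore) :=
      even_iff_two_dvd.mpr (Dvd.dvd.trans (by norm_num : 2 ∣ 4) h4)
    have htN := h.setup.t_mem_of_even _ heven
    have hN' : ((normalizer ((K ⊓ ι.range : Subgroup G) : Set G)).normalCore.subgroupOf K).Normal :=
      Subgroup.normal_subgroupOf
    rcases hN'.eq_bot_or_eq_top with hb | htop
    · have : (⟨t, h.t_mem⟩ : K) ∈
          (normalizer ((K ⊓ ι.range : Subgroup G) : Set G)).normalCore.subgroupOf K :=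
        Subgroup.mem_subgroupOf.mpr htN
      rw [hb, Subgroup.mem_bot] at this
      exact h.setup.t_ne_one (congrArg Subtype.val this)
    · have hKN : K ≤ (normalizer ((K ⊓ ι.range : Subgroup G) : Set G)).normalCore :=
        Subgroup.subgroupOf_eq_top.mp htop
      have hKH : K ≤ normalizer ((K ⊓ ι.range : Subgroup G) : Set G) :=
        hKN.trans (Subgroup.normalCore_le _)
      have hVn : ((K ⊓ ι.range : Subgroup G).subgroupOf K).Normal := by
        refine ⟨fun v hv k => ?_⟩
        rw [Subgroup.mem_subgroupOf] at hv ⊢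
        have := (mem_normalizer_iff.mp (hKH k.2) (v : G)).mp hv
        simpa using this
      rcases hVn.eq_bot_or_eq_top with hb | htop'
      · exact hV'bot hb
      · exact hV'top htop'
  -- the index is `5`
  obtain ⟨φ, hφ⟩ := exists_injective_perm_of_core_free
    (normalizer ((K ⊓ ι.range : Subgroup G) : Set G)) _ rfl hcore
  have hdvdfact : 120 ∣ ((normalizer ((K ⊓ ι.range : Subgroup G) : Set G)).index).factorial := by
    have := Subgroup.card_dvd_of_injective φ hφ
    rwa [hG, Nat.card_eq_fintype_card, Fintype.card_perm, Fintype.card_fin] at this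
  have hne15 : (normalizer ((K ⊓ ι.range : Subgroup G) : Set G)).index ≠ 15 := by
    intro h15
    have hH8 : Nat.card (normalizer ((K ⊓ ι.range : Subgroup G) : Set G)) = 8 := by
      have := (normalizer ((K ⊓ ι.range : Subgroup G) : Set G)).card_mul_index
      rw [h15, hG] at this
      omega
    have hHeq : ι.range = normalizer ((K ⊓ ι.range : Subgroup G) : Set G) :=
      Subgroup.eq_of_le_of_card_ge hSH (by rw [hH8, h.setup.card_range]; norm_num)
    haveI : Fact (Nat.Prime 2) := ⟨Nat.prime_two⟩
    have hp : IsPGroup 2 ((K ⊓ ι.range : Subgroup G).subgroupOf K) :=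
      IsPGroup.of_card (n := 2) (by rw [hV'card]; norm_num)
    have hodd : ¬ 2 ∣ ((K ⊓ ι.range : Subgroup G).subgroupOf K).index := by
      have := ((K ⊓ ι.range : Subgroup G).subgroupOf K).card_mul_index
      rw [hV'card, h60] at this
      omega
    have hB := Cfsg.Agent.Lib.Helper17.not_normalizer_le_centralizer_of_simple
      (hp.toSylow hodd) (by rw [IsPGroup.toSylow_coe]; exact hV'bot)
      (by rw [IsPGroup.toSylow_coe]; exact hV'top)
    rw [IsPGroup.toSylow_coe] at hB
    apply hB
    intro k hk
    -- `k` normalizes `V` in `G`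
    have hkH : (k : G) ∈ normalizer ((K ⊓ ι.range : Subgroup G) : Set G) := by
      rw [mem_normalizer_iff] at hk ⊢
      intro g
      constructor
      · intro hg
        have := (hk ⟨g, hg.1⟩).mp (Subgroup.mem_subgroupOf.mpr hg)
        rw [Subgroup.mem_subgroupOf] at this
        simpa using this
      · intro hg
        have hgK : g ∈ K := by
          have e : g = (k : G)⁻¹ * ((k : G) * g * (k : G)⁻¹) * (k : G) := by group
          rw [e]
          exact K.mul_mem (K.mul_mem (K.inv_mem k.2) hg.1) k.2
        have := (hk ⟨g, hgK⟩).mpr (by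
          rw [Subgroup.mem_subgroupOf]
          simpa using hg)
        exact Subgroup.mem_subgroupOf.mp this
    have hkV : (k : G) ∈ (K ⊓ ι.range : Subgroup G) := ⟨k.2, by rw [hHeq]; exact hkH⟩
    rw [mem_centralizer_iff]
    intro v hv
    have hv' : (v : G) ∈ (K ⊓ ι.range : Subgroup G) := Subgroup.mem_subgroupOf.mp hv
    obtain ⟨d, hd⟩ := hkV.2
    obtain ⟨d', hd'⟩ := hv'.2
    have hdm : d ∈ ({1, r 2, sr i₀, sr (i₀ + 2)} : Finset (DihedralGroup 4)) := by
      rw [← h.mem_iff, hd]; exact k.2
    have hdm' : d' ∈ ({1, r 2, sr i₀, sr (i₀ + 2)} : Finset (DihedralGroup 4)) := by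
      rw [← h.mem_iff, hd']; exact v.2
    apply Subtype.ext
    show (v : G) * (k : G) = (k : G) * (v : G)
    rw [← hd, ← hd', ← map_mul, ← map_mul, d8_four_comm i₀ d' hdm' d hdm]
  have hidx5 : (normalizer ((K ⊓ ι.range : Subgroup G) : Set G)).index = 5 := by
    have hle : (normalizer ((K ⊓ ι.range : Subgroup G) : Set G)).index ≤ 15 :=
      Nat.le_of_dvd (by norm_num) hdvd
    have hpos : 0 < (normalizer ((K ⊓ ι.range : Subgroup G) : Set G)).index :=
      Nat.pos_of_ne_zero Subgroup.index_ne_zero_of_finite
    generalize (normalizer ((K ⊓ ι.range : Subgroup G) : Set G)).index = n at *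
    interval_cases n <;> simp_all (config := { decide := true })
  exact perm_of_core_free _ 5 hidx5 hcore (by rw [hG]; decide)

/-- Classification when exactly one class of reflections is fused. -/
theorem classify [Finite G] (h : BSetup ι t i₀ K) :
    Nonempty (G ≃* Equiv.Perm (Fin 4)) ∨ Nonempty (G ≃* Equiv.Perm (Fin 5)) := by
  rcases klein_data h.ksetup with h12 | ⟨h60, hdata⟩
  · exact Or.inl (h.perm_four h12)
  · exact Or.inr (h.perm_five h60 (h.ksetup.isSimpleGroup hdata))

end BSetup

end Cfsg.Agent.Lib.Helper81.DE
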