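import Mathlib

/-!
# Groups in which the centralizer of an involution is dihedral of order eight: arithmetic
-/

set_option autoImplicit false
set_option linter.unusedVariables false

namespace Cfsg.Agent.Lib.Helper81.DE

/-- One negative sign: `c = a + b + 1`. -/
theorem arith_C (N m a b : ℤ) (ha : 3 ≤ a) (hb : 3 ≤ b) (hN : N = 8 * m) (hm : m % 2 = 1)
    (hmul : N * (a * b * (a + b + 1) + b * (a + b + 1) + a * (a + b + 1) - a * b) =
      256 * (a * b * (a + b + 1)))
    (hsq : 1 + a ^ 2 + b ^ 2 + (a + b + 1) ^ 2 ≤ N) : N = 168 ∨ N = 360 := by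
  have habc : 0 < a * b * (a + b + 1) := by positivity
  have hK : a * b * (a + b + 1) <
      a * b * (a + b + 1) + b * (a + b + 1) + a * (a + b + 1) - a * b := by nlinarith
  have hNlt : N < 256 := by
    by_contra hcon
    push Not at hcon
    have h1 : 256 * (a * b * (a + b + 1) + b * (a + b + 1) + a * (a + b + 1) - a * b) ≤
        N * (a * b * (a + b + 1) + b * (a + b + 1) + a * (a + b + 1) - a * b) :=
      mul_le_mul_of_nonneg_right hcon (by linarith)
    linarith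
  have ha' : a ≤ 11 := by nlinarith
  have hb' : b ≤ 11 := by nlinarith
  interval_cases a <;> interval_cases b <;> omega

/-- Two negative signs: `a = b + c - 1`. -/
theorem arith_B (N m b c : ℤ) (hb : 3 ≤ b) (hc : 3 ≤ c) (hN : N = 8 * m) (hm : m % 2 = 1)
    (hmul : N * ((b + c - 1) * b * c + b * c - (b + c - 1) * c - (b + c - 1) * b) =
      256 * ((b + c - 1) * b * c))
    (hsq : 1 + (b + c - 1) ^ 2 + b ^ 2 + c ^ 2 ≤ N) : N = 168 ∨ N = 360 := by
  have hpos : 0 < (b + c - 1) * b * c := by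
    have : 0 < b + c - 1 := by linarith
    positivity
  have h1 : 0 ≤ (b + c - 1) * c * (b - 3) := by
    have : 0 ≤ b + c - 1 := by linarith
    have : 0 ≤ b - 3 := by linarith
    positivity
  have h2 : 0 ≤ (b + c - 1) * b * (c - 3) := by
    have : 0 ≤ b + c - 1 := by linarith
    have : 0 ≤ c - 3 := by linarith
    positivity
  have h3 : 0 < b * c := by positivity
  have hK : (b + c - 1) * b * c <
      3 * ((b + c - 1) * b * c + b * c - (b + c - 1) * c - (b + c - 1) * b) := by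
    nlinarith
  have hNlt : N < 768 := by
    by_contra hcon
    push Not at hcon
    have h4 : 768 * ((b + c - 1) * b * c + b * c - (b + c - 1) * c - (b + c - 1) * b) ≤
        N * ((b + c - 1) * b * c + b * c - (b + c - 1) * c - (b + c - 1) * b) :=
      mul_le_mul_of_nonneg_right hcon (by linarith)
    linarith
  have hb' : b ≤ 25 := by nlinarith
  have hc' : c ≤ 25 := by nlinarith
  interval_cases b <;> interval_cases c <;> omega

theorem arith (N m n₁ n₂ n₃ : ℕ) (d₁ d₂ d₃ : ℤ) (hm : Odd m) (hN : N = 8 * m)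
    (hd₁ : d₁ = 1 ∨ d₁ = -1) (hd₂ : d₂ = 1 ∨ d₂ = -1) (hd₃ : d₃ = 1 ∨ d₃ = -1)
    (h₁ : 3 ≤ n₁) (h₂ : 3 ≤ n₂) (h₃ : 3 ≤ n₃)
    (hlin : 1 + d₁ * n₁ + d₂ * n₂ + d₃ * n₃ = 0)
    (hmul : (N : ℤ) * (n₁ * n₂ * n₃ + d₁ * n₂ * n₃ + d₂ * n₁ * n₃ + d₃ * n₁ * n₂) =
      256 * (n₁ * n₂ * n₃))
    (hsq : 1 + n₁ ^ 2 + n₂ ^ 2 + n₃ ^ 2 ≤ N) : N = 168 ∨ N = 360 := by
  have hN' : (N : ℤ) = 8 * (m : ℤ) := by exact_mod_cast hN
  have hm' : (m : ℤ) % 2 = 1 := by
    obtain ⟨k, hk⟩ := hm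
    omega
  have h₁' : (3 : ℤ) ≤ n₁ := by exact_mod_cast h₁
  have h₂' : (3 : ℤ) ≤ n₂ := by exact_mod_cast h₂
  have h₃' : (3 : ℤ) ≤ n₃ := by exact_mod_cast h₃
  have hsq' : (1 : ℤ) + (n₁ : ℤ) ^ 2 + (n₂ : ℤ) ^ 2 + (n₃ : ℤ) ^ 2 ≤ N := by exact_mod_cast hsq
  have key : (N : ℤ) = 168 ∨ (N : ℤ) = 360 := by
    rcases hd₁ with rfl | rfl <;> rcases hd₂ with rfl | rfl <;> rcases hd₃ with rfl | rfl
    · exfalso; linarith
    · -- (+,+,-)
      have hc : (n₃ : ℤ) = n₁ + n₂ + 1 := by linarith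
      rw [hc] at hmul hsq'
      exact arith_C N m n₁ n₂ h₁' h₂' hN' hm' (by linear_combination hmul) (by linarith)
    · -- (+,-,+)
      have hc : (n₂ : ℤ) = n₁ + n₃ + 1 := by linarith
      rw [hc] at hmul hsq'
      exact arith_C N m n₁ n₃ h₁' h₃' hN' hm' (by linear_combination hmul) (by linarith)
    · -- (+,-,-)
      have hc : (n₁ : ℤ) = n₂ + n₃ - 1 := by linarith
      rw [hc] at hmul hsq'
      exact arith_B N m n₂ n₃ h₂' h₃' hN' hm' (by linear_combination hmul) (by linarith)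
    · -- (-,+,+)
      have hc : (n₁ : ℤ) = n₂ + n₃ + 1 := by linarith
      rw [hc] at hmul hsq'
      exact arith_C N m n₂ n₃ h₂' h₃' hN' hm' (by linear_combination hmul) (by linarith)
    · -- (-,+,-)
      have hc : (n₂ : ℤ) = n₁ + n₃ - 1 := by linarith
      rw [hc] at hmul hsq'
      exact arith_B N m n₁ n₃ h₁' h₃' hN' hm' (by linear_combination hmul) (by linarith)
    · -- (-,-,+)
      have hc : (n₃ : ℤ) = n₁ + n₂ - 1 := by linarith
      rw [hc] at hmul hsq'
      exact arith_B N m n₁ n₂ h₁' h₂' hN' hm' (by linear_combination hmul) (by linarith)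
    · exfalso; linarith
  rcases key with h | h
  · left; exact_mod_cast h
  · right; exact_mod_cast h

end Cfsg.Agent.Lib.Helper81.DE
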