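import Mathlib
import Cfsg.Agent.Lib.Helper81.DihEightCaseB2
import Cfsg.Agent.Lib.Helper5.PSLSimple
import Cfsg.Agent.Lib.Helper5.GLCard
import Cfsg.Agent.Lib.Helper26.Fano
import Cfsg.Agent.S0071
import Cfsg.Agent.S0495
import Cfsg.Agent.S0497
import Cfsg.Agent.S0848

/-!
# Centralizer of an involution dihedral of order eight: no fusion, and full fusion
-/

set_option autoImplicit false
set_option linter.unusedSectionVars false
set_option linter.unusedVariables false
set_option linter.style.haveILetI false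

universe u

namespace Cfsg.Agent.Lib.Helper81.DE

open DihedralGroup Subgroup

section SL3

open Matrix

/-- The centre of `SL₃(2)` is trivial. -/
theorem center_SL3_two :
    Subgroup.center (Matrix.SpecialLinearGroup (Fin 3) (ZMod 2)) = ⊥ := by
  rw [eq_bot_iff]
  intro A hA
  rw [Matrix.SpecialLinearGroup.mem_center_iff] at hA
  obtain ⟨r, hr, hA⟩ := hA
  rw [Subgroup.mem_bot]
  have hr1 : r = 1 := by
    have key : ∀ r : ZMod 2, r ^ Fintype.card (Fin 3) = 1 → r = 1 := by decide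
    exact key r hr
  apply Subtype.ext
  rw [← hA, hr1]
  simp

theorem card_SL3_two : Nat.card (Matrix.SpecialLinearGroup (Fin 3) (ZMod 2)) = 168 := by
  have h := Cfsg.Agent.Lib.Helper5.card_GL_eq_card_SL_mul (n := Fin 3) (F := ZMod 2)
  rw [Cfsg.Agent.Lib.Helper26.Fano.card_GL, ZMod.card] at h
  omega

/-- `SL₃(2)` is isomorphic to `PSL₃(2)`. -/
theorem SL3_two_equiv_PSL : Nonempty (Matrix.SpecialLinearGroup (Fin 3) (ZMod 2) ≃*
    Matrix.ProjectiveSpecialLinearGroup (Fin 3) (ZMod 2)) :=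
  ⟨(QuotientGroup.quotientBot (G := Matrix.SpecialLinearGroup (Fin 3) (ZMod 2))).symm.trans
    (QuotientGroup.quotientMulEquivOfEq center_SL3_two.symm)⟩

/-- A simple group of order `168` is isomorphic to `SL₃(2)`. -/
theorem equiv_SL3_two_of_card {G : Type u} [Group G] [Finite G] [IsSimpleGroup G]
    (h : Nat.card G = 168) : Nonempty (G ≃* Matrix.SpecialLinearGroup (Fin 3) (ZMod 2)) := by
  haveI : Fact (Nat.Prime 7) := ⟨by norm_num⟩
  haveI : Fact (Nat.Prime 2) := ⟨by norm_num⟩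
  obtain ⟨e1⟩ := Cfsg.Agent.S0495.result (G := G) (F := ZMod 7) h (ZMod.card 7)
  obtain ⟨e0⟩ := SL3_two_equiv_PSL
  haveI : IsSimpleGroup (Matrix.ProjectiveSpecialLinearGroup (Fin 3) (ZMod 2)) :=
    Cfsg.Agent.Lib.Helper5.PSL_isSimpleGroup_of_three_le (by simp)
  haveI : IsSimpleGroup (Matrix.SpecialLinearGroup (Fin 3) (ZMod 2)) :=
    e0.isSimpleGroup
  obtain ⟨e2⟩ := Cfsg.Agent.S0495.result (G := Matrix.SpecialLinearGroup (Fin 3) (ZMod 2))
    (F := ZMod 7) card_SL3_two (ZMod.card 7)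
  exact ⟨e1.trans e2.symm⟩

end SL3

variable {G : Type u} [Group G]

namespace Setup

variable {ι : DihedralGroup 4 →* G} {t : G}

/-- No fusion: the group has a normal `2`-complement. -/
theorem caseA [Finite G] (h : Setup ι t) (hF0 : ¬ IsConj t (ι (sr 0)))
    (hF1 : ¬ IsConj t (ι (sr 1))) :
    centralizer ({t} : Set G) ⊔ Cfsg.oddCore G = ⊤ := by
  haveI : Fact (Nat.Prime 2) := ⟨Nat.prime_two⟩
  obtain ⟨P, hP⟩ := h.exists_sylow
  have hF3 : ¬ IsConj t (ι (r 1 * sr 0)) := by
    intro hc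
    apply hF1
    have h3 : (r 1 * sr 0 : DihedralGroup 4) = sr 3 := by decide
    rw [h3] at hc
    have := h.sr_conj 3
    have h4 : (3 + 2 : ZMod 4) = 1 := by decide
    rw [h4] at this
    exact hc.trans this
  have hfrob := Cfsg.Agent.Lib.Helper4.DS.frobenius_cond ι P hP h.inj (by decide : Even 4)
    (by norm_num) (by rw [h.zc_eq]; exact hF0) (by rw [h.zc_eq]; exact hF3)
  obtain ⟨N, hN, hcompl⟩ := (Cfsg.Agent.S0071.result P).mpr hfrob
  have hcard : (P : Subgroup G).index = Nat.card N := hcompl.index_eq_card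
  have hcop : (Nat.card N).Coprime 2 := by
    rw [← hcard]
    exact (Nat.Prime.coprime_iff_not_dvd Nat.prime_two).mpr P.not_dvd_index |>.symm
  have hle : N ≤ Cfsg.oddCore G := le_sSup ⟨hN, hcop⟩
  rw [h.cent, ← hP, eq_top_iff, ← hcompl.sup_eq_top, sup_comm]
  exact sup_le_sup_left hle _

/-- Full fusion: all involutions are conjugate. -/
theorem all_conj_of_fused [Finite G] (h : Setup ι t) (hF0 : IsConj t (ι (sr 0)))
    (hF1 : IsConj t (ι (sr 1))) (u : G) (hu : orderOf u = 2) : IsConj t u := by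
  obtain ⟨P, hP⟩ := h.exists_sylow
  rcases Cfsg.Agent.Lib.Helper4.DS.invol_rep ι P hP h.inj (by norm_num) u hu with h1 | h1 | h1
  · rw [h.zc_eq] at h1
    exact h1.symm
  · exact hF0.trans h1.symm
  · have h3 : (r 1 * sr 0 : DihedralGroup 4) = sr 3 := by decide
    rw [h3] at h1
    have := h.sr_conj 1
    have h4 : (1 + 2 : ZMod 4) = 3 := by decide
    rw [h4] at this
    exact (hF1.trans this).trans h1.symm

/-- Full fusion: the group is `SL₃(2)` or `A₆`. -/
theorem caseC [Finite G] (h : Setup ι t) (hF0 : IsConj t (ι (sr 0)))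
    (hF1 : IsConj t (ι (sr 1))) (e : centralizer ({t} : Set G) ≃* DihedralGroup 4) :
    Nonempty (G ≃* Matrix.SpecialLinearGroup (Fin 3) (ZMod 2)) ∨
      Nonempty (G ≃* ↥(alternatingGroup (Fin 6))) := by
  have hall := h.all_conj_of_fused hF0 hF1
  have hperf := h.perfect hall
  haveI := h.isSimpleGroup hall
  rcases Cfsg.Agent.S0848.result hperf t h.ord e with h168 | h360
  · exact Or.inl (equiv_SL3_two_of_card h168)
  · exact Or.inr (Cfsg.Agent.S0497.result h360)

/-- Exactly one class of reflections fused. -/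
theorem caseB [Finite G] (h : Setup ι t) (i₀ : ZMod 4) (hF : IsConj t (ι (sr i₀)))
    (hnF : ¬ IsConj t (ι (sr (i₀ + 1)))) :
    Nonempty (G ≃* Equiv.Perm (Fin 4)) ∨ Nonempty (G ≃* Equiv.Perm (Fin 5)) := by
  obtain ⟨K, hK, hidx, havoid⟩ := h.exists_index_two_avoiding (i₀ + 1) hnF
  exact BSetup.classify ⟨h, hF, hK, hidx, havoid⟩

/-- The classification. -/
theorem classify [Finite G] (h : Setup ι t) (e : centralizer ({t} : Set G) ≃* DihedralGroup 4) :
    centralizer ({t} : Set G) ⊔ Cfsg.oddCore G = ⊤ ∨ Nonempty (G ≃* Equiv.Perm (Fin 4)) ∨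
      Nonempty (G ≃* Equiv.Perm (Fin 5)) ∨
      Nonempty (G ≃* Matrix.SpecialLinearGroup (Fin 3) (ZMod 2)) ∨
      Nonempty (G ≃* ↥(alternatingGroup (Fin 6))) := by
  by_cases hF0 : IsConj t (ι (sr 0))
  · by_cases hF1 : IsConj t (ι (sr 1))
    · rcases h.caseC hF0 hF1 e with h1 | h1
      · exact Or.inr (Or.inr (Or.inr (Or.inl h1)))
      · exact Or.inr (Or.inr (Or.inr (Or.inr h1)))
    · rcases h.caseB 0 hF0 (by rw [zero_add]; exact hF1) with h1 | h1
      · exact Or.inr (Or.inl h1)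
      · exact Or.inr (Or.inr (Or.inl h1))
  · by_cases hF1 : IsConj t (ι (sr 1))
    · have hnF2 : ¬ IsConj t (ι (sr (1 + 1))) := by
        intro hc
        apply hF0
        have := h.sr_conj (1 + 1)
        have h4 : ((1 : ZMod 4) + 1 + 2) = 0 := by decide
        rw [h4] at this
        exact hc.trans this
      rcases h.caseB 1 hF1 hnF2 with h1 | h1
      · exact Or.inr (Or.inl h1)
      · exact Or.inr (Or.inr (Or.inl h1))
    · exact Or.inl (h.caseA hF0 hF1)

end Setup

end Cfsg.Agent.Lib.Helper81.DE
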