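import Mathlib
import Cfsg.Agent.Lib.Helper66.Frobenius

/-!
# Numbers of elements of each order: basic facts
-/

set_option autoImplicit false
set_option linter.unusedSectionVars false
set_option linter.unusedVariables false
set_option linter.style.haveILetI false

universe u

namespace Cfsg.Agent.Lib.Helper81.Nse

open Finset

/-- The number of elements of order `k`. -/
noncomputable def cnt (G : Type*) [Group G] (k : ℕ) : ℕ := Nat.card {g : G // orderOf g = k}

variable {G : Type u} [Group G]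

theorem cnt_eq_card_filter [Fintype G] [DecidableEq G] (k : ℕ) :
    cnt G k = (Finset.univ.filter (fun x : G => orderOf x = k)).card := by
  unfold cnt
  rw [Nat.card_eq_fintype_card, Fintype.card_subtype]

theorem cnt_ne_zero_iff [Finite G] (k : ℕ) : cnt G k ≠ 0 ↔ ∃ g : G, orderOf g = k := by
  unfold cnt
  rw [Nat.card_ne_zero]
  constructor
  · rintro ⟨⟨g, hg⟩, -⟩
    exact ⟨g, hg⟩
  · rintro ⟨g, hg⟩
    exact ⟨⟨⟨g, hg⟩⟩, inferInstance⟩

theorem cnt_one [Finite G] : cnt G 1 = 1 := by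
  unfold cnt
  rw [Nat.card_eq_one_iff_unique]
  refine ⟨⟨?_⟩, ⟨⟨1, orderOf_one⟩⟩⟩
  rintro ⟨a, ha⟩ ⟨b, hb⟩
  apply Subtype.ext
  show a = b
  rw [orderOf_eq_one_iff.mp ha, orderOf_eq_one_iff.mp hb]

theorem cnt_zero [Finite G] : cnt G 0 = 0 := by
  by_contra h
  obtain ⟨g, hg⟩ := (cnt_ne_zero_iff 0).mp h
  exact (orderOf_pos g).ne' hg

/-- The spectrum is closed under divisors. -/
theorem cnt_ne_zero_of_dvd [Finite G] {k d : ℕ} (hk : cnt G k ≠ 0) (hd : d ∣ k) : cnt G d ≠ 0 := by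
  obtain ⟨g, hg⟩ := (cnt_ne_zero_iff k).mp hk
  obtain ⟨e, he⟩ := hd
  rw [cnt_ne_zero_iff]
  refine ⟨g ^ e, ?_⟩
  have hk0 : 0 < k := hg ▸ orderOf_pos g
  have he0 : e ≠ 0 := by
    rintro rfl
    rw [mul_zero] at he
    omega
  rw [orderOf_pow' g he0, hg, he, Nat.gcd_mul_left_left]
  exact Nat.mul_div_cancel _ (Nat.pos_of_ne_zero he0)

theorem dvd_card_of_cnt_ne_zero [Finite G] {k : ℕ} (hk : cnt G k ≠ 0) : k ∣ Nat.card G := by
  obtain ⟨g, hg⟩ := (cnt_ne_zero_iff k).mp hk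
  rw [← hg]
  exact orderOf_dvd_natCard g

/-- Cauchy. -/
theorem cnt_prime_ne_zero [Finite G] {p : ℕ} (hp : p.Prime) (hdvd : p ∣ Nat.card G) :
    cnt G p ≠ 0 := by
  haveI : Fact p.Prime := ⟨hp⟩
  obtain ⟨g, hg⟩ := exists_prime_orderOf_dvd_card' (G := G) p hdvd
  exact (cnt_ne_zero_iff p).mpr ⟨g, hg⟩

/-- The number of solutions of `x ^ n = 1` as a sum. -/
theorem sum_cnt_divisors [Finite G] {n : ℕ} (hn : n ≠ 0) :
    ∑ d ∈ Nat.divisors n, cnt G d = Cfsg.Agent.Lib.Helper66.cnt G n := by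
  classical
  haveI := Fintype.ofFinite G
  have h := sum_card_orderOf_eq_card_pow_eq_one (G := G) hn
  unfold Cfsg.Agent.Lib.Helper66.cnt
  rw [Nat.card_eq_fintype_card, Fintype.card_subtype, ← h]
  apply Finset.sum_congr rfl
  intro d _
  exact cnt_eq_card_filter d

/-- Frobenius. -/
theorem frob [Finite G] {n : ℕ} (hn : n ∣ Nat.card G) : n ∣ ∑ d ∈ Nat.divisors n, cnt G d := by
  have hn0 : n ≠ 0 := by
    rintro rfl
    rw [zero_dvd_iff] at hn
    exact Nat.card_pos.ne' hn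
  rw [sum_cnt_divisors hn0]
  exact Cfsg.Agent.Lib.Helper66.frobenius_main (Nat.card G) G rfl n hn

theorem card_eq_sum [Finite G] : Nat.card G = ∑ d ∈ Nat.divisors (Nat.card G), cnt G d := by
  rw [sum_cnt_divisors Nat.card_pos.ne', Cfsg.Agent.Lib.Helper66.cnt_card]

/-- The number of elements of order `k` is divisible by `φ(k)`. -/
theorem totient_dvd_cnt [Finite G] (k : ℕ) : Nat.totient k ∣ cnt G k := by
  classical
  haveI := Fintype.ofFinite G
  -- fibre over the cyclic subgroup generated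
  have hfib : ∀ g₀ : G, orderOf g₀ = k →
      Nat.card {g : G // orderOf g = k ∧ Subgroup.zpowers g = Subgroup.zpowers g₀} =
        Nat.totient k := by
    intro g₀ hg₀
    have hcard : Fintype.card (Subgroup.zpowers g₀) = k := by
      rw [← Nat.card_eq_fintype_card, Nat.card_zpowers, hg₀]
    have h1 := IsCyclic.card_orderOf_eq_totient (α := Subgroup.zpowers g₀) (d := k)
      (by rw [hcard])
    rw [← h1, ← Fintype.card_subtype, ← Nat.card_eq_fintype_card]
    apply Nat.card_congr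
    refine ⟨fun g => ⟨⟨g.1, ?_⟩, ?_⟩, fun a => ⟨a.1.1, ?_, ?_⟩, ?_, ?_⟩
    · have := Subgroup.mem_zpowers g.1
      rw [g.2.2] at this
      exact this
    · show orderOf (⟨g.1, _⟩ : Subgroup.zpowers g₀) = k
      rw [← Subgroup.orderOf_coe]
      exact g.2.1
    · have := a.2
      rw [← Subgroup.orderOf_coe] at this
      exact this
    · have ho : orderOf (a.1 : G) = k := by
        have := a.2
        rw [← Subgroup.orderOf_coe] at this
        exact this
      apply Subgroup.eq_of_le_of_card_ge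
      · rw [Subgroup.zpowers_le]
        exact a.1.2
      · rw [Nat.card_zpowers, Nat.card_zpowers, ho, hg₀]
    · intro g
      rfl
    · intro a
      rfl
  -- partition by the cyclic subgroup generated
  have hsum : cnt G k = ∑ C : Subgroup G,
      Nat.card {g : G // orderOf g = k ∧ Subgroup.zpowers g = C} := by
    unfold cnt
    rw [← Nat.card_sigma]
    apply Nat.card_congr
    exact ⟨fun g => ⟨Subgroup.zpowers g.1, ⟨g.1, g.2, rfl⟩⟩, fun s => ⟨s.2.1, s.2.2.1⟩,
      fun g => rfl, fun s => by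
        obtain ⟨C, g, hg, rfl⟩ := s
        rfl⟩
  rw [hsum]
  apply Finset.dvd_sum
  intro C _
  by_cases hC : ∃ g₀ : G, orderOf g₀ = k ∧ Subgroup.zpowers g₀ = C
  · obtain ⟨g₀, hg₀, rfl⟩ := hC
    rw [hfib g₀ hg₀]
  · have : IsEmpty {g : G // orderOf g = k ∧ Subgroup.zpowers g = C} := by
      constructor
      rintro ⟨g, hg, hgC⟩
      exact hC ⟨g, hg, hgC⟩
    rw [Nat.card_of_isEmpty]
    exact dvd_zero _

theorem cnt_even [Finite G] {k : ℕ} (hk : 3 ≤ k) : Even (cnt G k) := by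
  have h1 := Nat.totient_even hk
  exact (even_iff_two_dvd.mpr ((even_iff_two_dvd.mp h1).trans (totient_dvd_cnt k)))

/-- A set of values equal to the set of `cnt`-values: unpacking. -/
theorem mem_of_nse [Finite G] {S : Set ℕ}
    (h : ((fun m : ℕ => Nat.card {g : G // orderOf g = m}) '' Set.range (orderOf : G → ℕ)) = S)
    {k : ℕ} (hk : cnt G k ≠ 0) : cnt G k ∈ S := by
  obtain ⟨g, hg⟩ := (cnt_ne_zero_iff k).mp hk
  rw [← h]
  exact ⟨k, ⟨g, hg⟩, rfl⟩

theorem exists_of_nse [Finite G] {S : Set ℕ}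
    (h : ((fun m : ℕ => Nat.card {g : G // orderOf g = m}) '' Set.range (orderOf : G → ℕ)) = S)
    {v : ℕ} (hv : v ∈ S) : ∃ k, cnt G k ≠ 0 ∧ cnt G k = v := by
  rw [← h] at hv
  obtain ⟨k, ⟨g, hg⟩, hk⟩ := hv
  exact ⟨k, (cnt_ne_zero_iff k).mpr ⟨g, hg⟩, hk⟩

end Cfsg.Agent.Lib.Helper81.Nse
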