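import Mathlib
import Cfsg.Agent.Lib.Helper81.NseBasic

/-!
# Fixed-point-free conjugation and the number of elements of a given order
-/

set_option autoImplicit false
set_option linter.unusedSectionVars false
set_option linter.unusedVariables false
set_option linter.style.haveILetI false

universe u

namespace Cfsg.Agent.Lib.Helper81.Nse

variable {G : Type u} [Group G]

/-- If there are elements of prime order `p` but none of order `p * k` (`k` prime to `p`), then
`p` divides the number of elements of order `k`. -/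
theorem fpf_dvd [Finite G] {p k : ℕ} (hp : p.Prime) (hpk : Nat.Coprime p k) (hp0 : cnt G p ≠ 0)
    (h0 : cnt G (p * k) = 0) : p ∣ cnt G k := by
  haveI : Fact p.Prime := ⟨hp⟩
  obtain ⟨x, hx⟩ := (cnt_ne_zero_iff p).mp hp0
  letI inst : MulAction (Subgroup.zpowers x) {g : G // orderOf g = k} :=
    { smul := fun z g => ⟨(z : G) * g.1 * (z : G)⁻¹, by
        have := orderOf_injective (MulAut.conj (z : G)).toMonoidHom
          (MulAut.conj (z : G)).injective g.1
        simp only [MulEquiv.toMonoidHom_eq_coe, MonoidHom.coe_coe, MulAut.conj_apply] at this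
        exact this.trans g.2⟩
      one_smul := fun g => Subtype.ext (by
        change ((1 : Subgroup.zpowers x) : G) * g.1 * ((1 : Subgroup.zpowers x) : G)⁻¹ = g.1
        simp)
      mul_smul := fun a b g => Subtype.ext (by
        change ((a * b : Subgroup.zpowers x) : G) * g.1 * ((a * b : Subgroup.zpowers x) : G)⁻¹ =
          (a : G) * ((b : G) * g.1 * (b : G)⁻¹) * (a : G)⁻¹
        simp [mul_assoc]) }
  have hZ : IsPGroup p (Subgroup.zpowers x) :=
    IsPGroup.of_card (n := 1) (by rw [Nat.card_zpowers, hx, pow_one])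
  have hmod := hZ.card_modEq_card_fixedPoints {g : G // orderOf g = k}
  have hfix : IsEmpty (MulAction.fixedPoints (Subgroup.zpowers x) {g : G // orderOf g = k}) := by
    constructor
    rintro ⟨g, hg⟩
    have h1 := hg ⟨x, Subgroup.mem_zpowers x⟩
    have h2 : x * g.1 * x⁻¹ = g.1 := congrArg Subtype.val h1
    have hcomm : Commute x g.1 := by
      unfold Commute SemiconjBy
      calc x * g.1 = x * g.1 * x⁻¹ * x := by group
        _ = g.1 * x := by rw [h2]
    have hord := hcomm.orderOf_mul_eq_mul_orderOf_of_coprime (by rw [hx, g.2]; exact hpk)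
    rw [hx, g.2] at hord
    exact ((cnt_ne_zero_iff (p * k)).mpr ⟨x * g.1, hord⟩) h0
  have hz : Nat.card (MulAction.fixedPoints (Subgroup.zpowers x) {g : G // orderOf g = k}) = 0 :=
    Nat.card_of_isEmpty
  rw [hz] at hmod
  exact (Nat.modEq_zero_iff_dvd).mp hmod

/-- The conditions on a prime divisor of the order. -/
theorem prime_cond [Finite G] {p : ℕ} (hp : p.Prime) (hdvd : p ∣ Nat.card G) :
    cnt G p ≠ 0 ∧ (p - 1) ∣ cnt G p ∧ p ∣ 1 + cnt G p := by
  refine ⟨cnt_prime_ne_zero hp hdvd, ?_, ?_⟩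
  · have := totient_dvd_cnt (G := G) p
    rwa [Nat.totient_prime hp] at this
  · have := frob (G := G) hdvd
    rwa [hp.divisors, Finset.sum_pair hp.one_lt.ne, cnt_one] at this

/-- Bounding the prime powers which are orders of elements. -/
theorem pp_dvd [Finite G] {p E : ℕ} (hp : p.Prime) (vals : List ℕ)
    (hmem : ∀ k, cnt G k ≠ 0 → cnt G k ∈ vals) (hno : ∀ v ∈ vals, ¬ (p ^ E * (p - 1) ∣ v))
    (e : ℕ) (h : cnt G (p ^ e) ≠ 0) : p ^ e ∣ p ^ E := by
  apply Nat.pow_dvd_pow
  by_contra hlt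
  have hE : E + 1 ≤ e := by omega
  have h1 : cnt G (p ^ (E + 1)) ≠ 0 := cnt_ne_zero_of_dvd h (Nat.pow_dvd_pow p hE)
  have h2 := totient_dvd_cnt (G := G) (p ^ (E + 1))
  rw [Nat.totient_prime_pow_succ hp] at h2
  exact hno _ (hmem _ h1) h2

/-- Orders of elements divide `L` as soon as the prime power orders do. -/
theorem spectrum_dvd [Finite G] (L : ℕ)
    (hL : ∀ p e, p.Prime → cnt G (p ^ (e + 1)) ≠ 0 → p ^ (e + 1) ∣ L) :
    ∀ k, cnt G k ≠ 0 → k ∣ L := by
  intro k hk
  rw [Nat.dvd_iff_prime_pow_dvd_dvd]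
  intro p e hp hpe
  cases e with
  | zero => simp
  | succ e => exact hL p e hp (cnt_ne_zero_of_dvd hk hpe)

/-- The number of involutions is the odd value. -/
theorem cnt_two_of_odd [Finite G] {v : ℕ} (hex : ∃ k, cnt G k ≠ 0 ∧ cnt G k = v) (hodd : Odd v)
    (hv1 : v ≠ 1) : cnt G 2 = v := by
  obtain ⟨k, hk0, hkv⟩ := hex
  by_cases hk3 : 3 ≤ k
  · exfalso
    have := cnt_even (G := G) hk3
    rw [hkv] at this
    exact (Nat.not_even_iff_odd.mpr hodd) this
  · have : k = 0 ∨ k = 1 ∨ k = 2 := by omega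
    rcases this with rfl | rfl | rfl
    · exact absurd cnt_zero hk0
    · rw [cnt_one] at hkv
      exact absurd hkv.symm hv1
    · exact hkv

/-- `n ∣ L ^ n` when the primes dividing `n` divide `L`. -/
theorem dvd_pow_self_of_primes {n L : ℕ} (hn : n ≠ 0) (h : ∀ q, q.Prime → q ∣ n → q ∣ L) :
    n ∣ L ^ n := by
  rw [Nat.dvd_iff_prime_pow_dvd_dvd]
  intro q e hq hqe
  cases e with
  | zero => simp
  | succ e =>
    have h1 : q ∣ L := h q hq ((dvd_pow_self q (Nat.succ_ne_zero e)).trans hqe)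
    have h2 : q ^ (e + 1) ≤ n := Nat.le_of_dvd (Nat.pos_of_ne_zero hn) hqe
    have h3 : e + 1 < q ^ (e + 1) := Nat.lt_pow_self hq.one_lt
    exact (pow_dvd_pow_of_dvd h1 (e + 1)).trans (Nat.pow_dvd_pow L (by omega))

end Cfsg.Agent.Lib.Helper81.Nse
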