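import Mathlib
import Cfsg.Agent.Lib.Helper81.NseFpf

/-!
# Normal subgroups and the numbers of elements of each order
-/

set_option autoImplicit false
set_option linter.unusedSectionVars false
set_option linter.unusedVariables false
set_option linter.style.haveILetI false

universe u

namespace Cfsg.Agent.Lib.Helper81.Nse

variable {G : Type u} [Group G]

/-- An element whose order is prime to the index of a normal subgroup lies in it. -/
theorem mem_of_coprime_index [Finite G] (N : Subgroup G) [N.Normal] {g : G}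
    (h : Nat.Coprime (orderOf g) N.index) : g ∈ N := by
  rw [← QuotientGroup.eq_one_iff]
  have h1 : (QuotientGroup.mk g : G ⧸ N) ^ orderOf g = 1 := by
    rw [← QuotientGroup.mk_pow, pow_orderOf_eq_one]
    rfl
  have h2 : (QuotientGroup.mk g : G ⧸ N) ^ N.index = 1 := by
    rw [Subgroup.index_eq_card]
    exact pow_card_eq_one'
  have h3 := orderOf_dvd_of_pow_eq_one h1
  have h4 := orderOf_dvd_of_pow_eq_one h2
  have h5 : orderOf (QuotientGroup.mk g : G ⧸ N) = 1 :=
    Nat.eq_one_of_dvd_coprimes h h3 h4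
  exact orderOf_eq_one_iff.mp h5

/-- Counting the elements whose orders lie in a given set. -/
theorem sum_cnt_le_card [Finite G] (N : Subgroup G) (S : Finset ℕ)
    (h : ∀ g : G, orderOf g ∈ S → g ∈ N) : ∑ k ∈ S, cnt G k ≤ Nat.card N := by
  classical
  haveI := Fintype.ofFinite G
  have h1 : ∑ k ∈ S, cnt G k = (Finset.univ.filter (fun g : G => orderOf g ∈ S)).card := by
    rw [Finset.card_eq_sum_card_fiberwise (f := fun g : G => orderOf g) (t := S)]
    · apply Finset.sum_congr rfl
      intro k hk
      rw [cnt_eq_card_filter]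
      congr 1
      ext g
      simp only [Finset.mem_filter, Finset.mem_univ, true_and]
      constructor
      · intro hg
        exact ⟨by rw [hg]; exact hk, hg⟩
      · intro hg
        exact hg.2
    · intro g hg
      exact (Finset.mem_filter.mp hg).2
  rw [h1, Nat.card_eq_fintype_card, ← Finset.card_univ (α := N)]
  have : (Finset.univ.filter (fun g : G => orderOf g ∈ S)) ⊆
      (Finset.univ : Finset N).map ⟨Subtype.val, Subtype.val_injective⟩ := by
    intro g hg
    rw [Finset.mem_map]
    exact ⟨⟨g, h g (Finset.mem_filter.mp hg).2⟩, Finset.mem_univ _, rfl⟩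
  calc _ ≤ ((Finset.univ : Finset N).map ⟨Subtype.val, Subtype.val_injective⟩).card :=
        Finset.card_le_card this
    _ = _ := Finset.card_map _

/-- Elements of a subgroup of a given order are elements of the group of that order. -/
theorem cnt_subgroup_ne_zero [Finite G] (N : Subgroup G) {k : ℕ} (h : cnt N k ≠ 0) :
    cnt G k ≠ 0 := by
  obtain ⟨n, hn⟩ := (cnt_ne_zero_iff k).mp h
  exact (cnt_ne_zero_iff k).mpr ⟨n.1, by rw [Subgroup.orderOf_coe]; exact hn⟩

/-- The fixed-point-free action on the elements of given order of a normal subgroup. -/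
theorem fpf_dvd_normal [Finite G] (N : Subgroup G) [hN : N.Normal] {p k : ℕ} (hp : p.Prime)
    (hpk : Nat.Coprime p k) (hp0 : cnt G p ≠ 0) (h0 : cnt G (p * k) = 0) : p ∣ cnt N k := by
  haveI : Fact p.Prime := ⟨hp⟩
  obtain ⟨x, hx⟩ := (cnt_ne_zero_iff p).mp hp0
  letI inst : MulAction (Subgroup.zpowers x) {g : N // orderOf g = k} :=
    { smul := fun z g => ⟨⟨(z : G) * g.1.1 * (z : G)⁻¹, hN.conj_mem _ g.1.2 _⟩, by
        have := orderOf_injective (MulAut.conj (z : G)).toMonoidHom
          (MulAut.conj (z : G)).injective g.1.1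
        simp only [MulEquiv.toMonoidHom_eq_coe, MonoidHom.coe_coe, MulAut.conj_apply] at this
        rw [← Subgroup.orderOf_coe]
        exact this.trans ((Subgroup.orderOf_coe g.1).trans g.2)⟩
      one_smul := fun g => Subtype.ext (Subtype.ext (by
        change ((1 : Subgroup.zpowers x) : G) * g.1.1 * ((1 : Subgroup.zpowers x) : G)⁻¹ = g.1.1
        simp))
      mul_smul := fun a b g => Subtype.ext (Subtype.ext (by
        change ((a * b : Subgroup.zpowers x) : G) * g.1.1 * ((a * b : Subgroup.zpowers x) : G)⁻¹ =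
          (a : G) * ((b : G) * g.1.1 * (b : G)⁻¹) * (a : G)⁻¹
        simp [mul_assoc])) }
  have hZ : IsPGroup p (Subgroup.zpowers x) :=
    IsPGroup.of_card (n := 1) (by rw [Nat.card_zpowers, hx, pow_one])
  have hmod := hZ.card_modEq_card_fixedPoints {g : N // orderOf g = k}
  have hfix : IsEmpty (MulAction.fixedPoints (Subgroup.zpowers x) {g : N // orderOf g = k}) := by
    constructor
    rintro ⟨g, hg⟩
    have h1 := hg ⟨x, Subgroup.mem_zpowers x⟩
    have h2 : x * g.1.1 * x⁻¹ = g.1.1 := congrArg (fun t => t.1.1) h1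
    have hcomm : Commute x g.1.1 := by
      unfold Commute SemiconjBy
      calc x * g.1.1 = x * g.1.1 * x⁻¹ * x := by group
        _ = g.1.1 * x := by rw [h2]
    have hgk : orderOf g.1.1 = k := by rw [Subgroup.orderOf_coe]; exact g.2
    have hord := hcomm.orderOf_mul_eq_mul_orderOf_of_coprime (by rw [hx, hgk]; exact hpk)
    rw [hx, hgk] at hord
    exact ((cnt_ne_zero_iff (p * k)).mpr ⟨x * g.1.1, hord⟩) h0
  have hz : Nat.card (MulAction.fixedPoints (Subgroup.zpowers x) {g : N // orderOf g = k}) = 0 :=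
    Nat.card_of_isEmpty
  rw [hz] at hmod
  exact (Nat.modEq_zero_iff_dvd).mp hmod

/-- The order of a normal subgroup is `1` modulo `p` when `p` acts without fixed points. -/
theorem card_normal_mod [Finite G] (N : Subgroup G) [hN : N.Normal] {p : ℕ} (hp : p.Prime)
    (hp0 : cnt G p ≠ 0) (hpN : ¬ p ∣ Nat.card N)
    (h0 : ∀ k, k ≠ 1 → cnt G k ≠ 0 → cnt G (p * k) = 0) : Nat.card N % p = 1 := by
  have hsum := card_eq_sum (G := N)
  have hc0 : Nat.card N ≠ 0 := Nat.card_pos.ne'
  have h1 : (1 : ℕ) ∈ Nat.divisors (Nat.card N) := Nat.mem_divisors.mpr ⟨one_dvd _, hc0⟩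
  rw [← Finset.add_sum_erase _ _ h1, cnt_one] at hsum
  have hdvd : p ∣ ∑ k ∈ (Nat.divisors (Nat.card N)).erase 1, cnt N k := by
    apply Finset.dvd_sum
    intro k hk
    rw [Finset.mem_erase, Nat.mem_divisors] at hk
    by_cases hk0 : cnt N k = 0
    · rw [hk0]
      exact dvd_zero p
    · apply fpf_dvd_normal N hp _ hp0 (h0 k hk.1 (cnt_subgroup_ne_zero N hk0))
      rw [Nat.Prime.coprime_iff_not_dvd hp]
      intro hpk
      exact hpN (hpk.trans hk.2.1)
  obtain ⟨c, hc⟩ := hdvd
  rw [hsum, hc, Nat.add_mul_mod_self_left]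
  exact Nat.mod_eq_of_lt hp.one_lt

end Cfsg.Agent.Lib.Helper81.Nse
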