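import Cfsg.Agent.Lib.Helper81.Irr
import Cfsg.Agent.Lib.Helper25.IndNormal
import Cfsg.Agent.Lib.Helper15.IrrCrit
import Cfsg.Agent.Lib.Helper3.CharOps

set_option autoImplicit false

namespace Cfsg.Agent.Lib.Helper81

open Cfsg
open scoped ComplexConjugate

/-- The sum of the squares of the degrees of the irreducible characters is the group order
(in `ℕ`). -/
theorem sum_charDegree_sq {G : Type*} [Group G] [Finite G] [Fintype (IrrCharacter G)] :
    ∑ χ : IrrCharacter G, (charDegree (χ : G → ℂ)) ^ 2 = Nat.card G := by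
  have hsum := sum_irr_deg_mul_one (G := G)
  have : ((∑ χ : IrrCharacter G, (charDegree (χ : G → ℂ)) ^ 2 : ℕ) : ℂ) = (Nat.card G : ℂ) := by
    rw [← hsum]
    push_cast
    refine Finset.sum_congr rfl fun χ _ => ?_
    rw [irr_apply_one_eq_charDegree, pow_two]
  exact_mod_cast this

/-- An injective map of finite types preserving the total of a positive weight is surjective. -/
theorem surjective_of_sum_eq {A B : Type*} [Fintype A] [Fintype B] (P : A → B)
    (hP : Function.Injective P) (f : B → ℕ) (hf : ∀ b, 0 < f b)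
    (h : ∑ a, f (P a) = ∑ b, f b) : Function.Surjective P := by
  classical
  intro b
  by_contra hb
  have h1 : ∑ a, f (P a) = ∑ b ∈ Finset.univ.map ⟨P, hP⟩, f b := by
    rw [Finset.sum_map]
    rfl
  have h2 : ∑ b ∈ Finset.univ.map ⟨P, hP⟩, f b < ∑ b, f b := by
    apply Finset.sum_lt_sum_of_subset (Finset.subset_univ _) (Finset.mem_univ b) _ (hf b)
    · intro j _ _
      exact Nat.zero_le _
    · intro hmem
      rw [Finset.mem_map] at hmem
      obtain ⟨a, _, ha⟩ := hmem
      exact hb ⟨a, ha⟩
  omega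

section Prod

variable {G : Type*} [Group G] {H : Type*} [Group H]

/-- The inner product of two product functions on `G × H` factorises. -/
theorem classInner_prod [Fintype G] [Fintype H] (φ φ' : G → ℂ) (ψ ψ' : H → ℂ) :
    classInner (fun x : G × H => φ x.1 * ψ x.2) (fun x : G × H => φ' x.1 * ψ' x.2) =
      classInner φ φ' * classInner ψ ψ' := by
  unfold classInner
  rw [Fintype.sum_prod_type, Nat.card_prod]
  have : ∀ x : G, ∑ y : H, φ (x, y).1 * ψ (x, y).2 * conj (φ' (x, y).1 * ψ' (x, y).2) =
      (φ x * conj (φ' x)) * ∑ y : H, ψ y * conj (ψ' y) := by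
    intro x
    rw [Finset.mul_sum]
    refine Finset.sum_congr rfl fun y _ => ?_
    simp only [map_mul]
    ring
  simp only [this]
  rw [← Finset.sum_mul]
  push_cast
  rw [mul_inv]
  ring

theorem isCharacter_prod {φ : G → ℂ} {ψ : H → ℂ} (hφ : IsCharacter G φ) (hψ : IsCharacter H ψ) :
    IsCharacter (G × H) (fun x : G × H => φ x.1 * ψ x.2) := by
  have h1 : IsCharacter (G × H) (fun x : G × H => φ x.1) :=
    Cfsg.Agent.Lib.Helper25.IsCharacter.comp_hom (MonoidHom.fst G H) hφ
  have h2 : IsCharacter (G × H) (fun x : G × H => ψ x.2) :=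
    Cfsg.Agent.Lib.Helper25.IsCharacter.comp_hom (MonoidHom.snd G H) hψ
  exact Cfsg.Agent.Lib.Helper3.IsCharacter.mul h1 h2

theorem isIrrCharacter_prod [Finite G] [Finite H] {φ : G → ℂ} {ψ : H → ℂ}
    (hφ : IsIrrCharacter G φ) (hψ : IsIrrCharacter H ψ) :
    IsIrrCharacter (G × H) (fun x : G × H => φ x.1 * ψ x.2) := by
  classical
  have : Fintype G := Fintype.ofFinite G
  have : Fintype H := Fintype.ofFinite H
  apply Cfsg.Agent.Lib.Helper15.isIrrCharacter_of_norm_one
    (isCharacter_prod (Cfsg.Agent.Lib.Helper3.IsIrrCharacter.isCharacter hφ)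
      (Cfsg.Agent.Lib.Helper3.IsIrrCharacter.isCharacter hψ))
  rw [classInner_prod, Cfsg.Agent.Lib.Helper3.classInner_irr hφ hφ,
    Cfsg.Agent.Lib.Helper3.classInner_irr hψ hψ, if_pos rfl, if_pos rfl, mul_one]

/-- The product map on irreducible characters. -/
noncomputable def irrProd [Finite G] [Finite H] (a : IrrCharacter G × IrrCharacter H) :
    IrrCharacter (G × H) :=
  ⟨fun x : G × H => (a.1 : G → ℂ) x.1 * (a.2 : H → ℂ) x.2, isIrrCharacter_prod a.1.2 a.2.2⟩

theorem irrProd_apply [Finite G] [Finite H] (a : IrrCharacter G × IrrCharacter H) (x : G × H) :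
    ((irrProd a : IrrCharacter (G × H)) : G × H → ℂ) x = (a.1 : G → ℂ) x.1 * (a.2 : H → ℂ) x.2 :=
  rfl

theorem irrProd_injective [Finite G] [Finite H] :
    Function.Injective (irrProd : IrrCharacter G × IrrCharacter H → IrrCharacter (G × H)) := by
  classical
  have : Fintype G := Fintype.ofFinite G
  have : Fintype H := Fintype.ofFinite H
  intro a b hab
  have h1 : classInner ((irrProd a : IrrCharacter (G × H)) : G × H → ℂ)
      ((irrProd b : IrrCharacter (G × H)) : G × H → ℂ) = 1 := by
    rw [hab, Cfsg.Agent.Lib.Helper3.classInner_irr (irrProd b).2 (irrProd b).2, if_pos rfl]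
  have h2 : classInner ((irrProd a : IrrCharacter (G × H)) : G × H → ℂ)
      ((irrProd b : IrrCharacter (G × H)) : G × H → ℂ) =
      classInner (a.1 : G → ℂ) (b.1 : G → ℂ) * classInner (a.2 : H → ℂ) (b.2 : H → ℂ) :=
    classInner_prod _ _ _ _
  rw [h2, Cfsg.Agent.Lib.Helper3.classInner_irr a.1.2 b.1.2,
    Cfsg.Agent.Lib.Helper3.classInner_irr a.2.2 b.2.2] at h1
  by_cases h3 : (a.1 : G → ℂ) = (b.1 : G → ℂ)
  · by_cases h4 : (a.2 : H → ℂ) = (b.2 : H → ℂ)
    · exact Prod.ext (Subtype.ext h3) (Subtype.ext h4)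
    · rw [if_neg h4, mul_zero] at h1
      exact absurd h1 zero_ne_one
  · rw [if_neg h3, zero_mul] at h1
    exact absurd h1 zero_ne_one

theorem charDegree_irrProd [Finite G] [Finite H] (a : IrrCharacter G × IrrCharacter H) :
    charDegree ((irrProd a : IrrCharacter (G × H)) : G × H → ℂ) =
      charDegree (a.1 : G → ℂ) * charDegree (a.2 : H → ℂ) := by
  apply charDegree_eq_of_apply_one
  rw [irrProd_apply]
  push_cast
  rw [← irr_apply_one_eq_charDegree, ← irr_apply_one_eq_charDegree]
  rfl

theorem irrProd_surjective [Finite G] [Finite H] :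
    Function.Surjective (irrProd : IrrCharacter G × IrrCharacter H → IrrCharacter (G × H)) := by
  classical
  have := finite_irrCharacter (G := G)
  have := finite_irrCharacter (G := H)
  have := finite_irrCharacter (G := G × H)
  have : Fintype (IrrCharacter G) := Fintype.ofFinite _
  have : Fintype (IrrCharacter H) := Fintype.ofFinite _
  have : Fintype (IrrCharacter (G × H)) := Fintype.ofFinite _
  apply surjective_of_sum_eq irrProd irrProd_injective
    (fun θ => (charDegree (θ : G × H → ℂ)) ^ 2)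
  · intro θ
    exact pow_pos (Nat.pos_of_ne_zero (irr_charDegree_ne_zero θ)) 2
  · rw [sum_charDegree_sq, Fintype.sum_prod_type, Nat.card_prod, ← sum_charDegree_sq (G := G),
      ← sum_charDegree_sq (G := H), Finset.sum_mul_sum]
    refine Finset.sum_congr rfl fun φ _ => Finset.sum_congr rfl fun ψ _ => ?_
    rw [charDegree_irrProd, mul_pow]

/-- The irreducible characters of `G × H` are exactly the products of irreducible characters. -/
theorem isIrrCharacter_prod_iff [Finite G] [Finite H] (θ : G × H → ℂ) :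
    IsIrrCharacter (G × H) θ ↔ ∃ (φ : G → ℂ) (ψ : H → ℂ), IsIrrCharacter G φ ∧
      IsIrrCharacter H ψ ∧ θ = fun x => φ x.1 * ψ x.2 := by
  constructor
  · intro hθ
    obtain ⟨a, ha⟩ := irrProd_surjective ⟨θ, hθ⟩
    refine ⟨a.1, a.2, a.1.2, a.2.2, ?_⟩
    have := congrArg Subtype.val ha
    exact this.symm
  · rintro ⟨φ, ψ, hφ, hψ, rfl⟩
    exact isIrrCharacter_prod hφ hψ

end Prod

end Cfsg.Agent.Lib.Helper81
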