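import Mathlib
import Cfsg.Prelude.Def_GeometricClasses
import Cfsg.Agent.Lib.Helper81.EsDefs

/-!
# Es hive (S5877): the joint eigenspace dimensions `dd` (used by the leaves ES-R2c1..3)
-/

set_option autoImplicit false

namespace Cfsg.Agent.Lib.Helper81.Es

open scoped MatrixGroups

variable {F : Type*} [Field F] {n : ℕ}

/-- the joint eigenspace dimensions of the pair `b, g`:
`b = ζ^j` and `g = c ζ^i` on the `(j, i)` joint eigenspace -/
noncomputable def dd (r : ℕ) (g b : GL (Fin n) F) (c ζ : F) (j i : ZMod r) : ℕ :=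
  Module.finrank F ↥(eig b (ζ ^ j.val) ⊓ eig g (c * ζ ^ i.val))

end Cfsg.Agent.Lib.Helper81.Es
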