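import Mathlib

/-!
# AO-C: an orbit-counting inequality (for helper67, S4067)
-/

set_option autoImplicit false
set_option linter.style.haveILetI false
set_option linter.unusedVariables false
set_option linter.unusedSectionVars false

namespace Cfsg.Agent.Lib.Helper67.AO

/-- (AO-C, counting, abstract) If every point outside `Z` has an orbit of size `≥ p`, every point
of `D` has an orbit of size `≥ 2p`, `D` is disjoint from `Z` and `2(p-1)|Z| ≤ |D|`, then the number
of orbits is at most `|X|/p`. -/
theorem card_orbits_mul_le {A X : Type*} [Group A] [MulAction A X] [Finite X] (p : ℕ) (hp : 0 < p)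
    (Z D : Set X) (hZD : Disjoint Z D)
    (h1 : ∀ x, x ∉ Z → p ≤ Nat.card (MulAction.orbit A x))
    (h2 : ∀ x ∈ D, 2 * p ≤ Nat.card (MulAction.orbit A x))
    (hcard : 2 * (p - 1) * Nat.card Z ≤ Nat.card D) :
    Nat.card (MulAction.orbitRel.Quotient A X) * p ≤ Nat.card X := by
  classical
  haveI : Fintype X := Fintype.ofFinite X
  haveI : Fintype (MulAction.orbitRel.Quotient A X) := Fintype.ofFinite _
  let q : X → MulAction.orbitRel.Quotient A X := Quotient.mk''
  let Zf : Finset X := Finset.univ.filter (fun x => x ∈ Z)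
  let Df : Finset X := Finset.univ.filter (fun x => x ∈ D)
  let n : MulAction.orbitRel.Quotient A X → ℕ := fun ω => (Finset.univ.filter (fun x => q x = ω)).card
  let z : MulAction.orbitRel.Quotient A X → ℕ := fun ω => (Zf.filter (fun x => q x = ω)).card
  let d : MulAction.orbitRel.Quotient A X → ℕ := fun ω => (Df.filter (fun x => q x = ω)).card
  have hZc : Nat.card Z = Zf.card := by
    rw [Nat.card_eq_fintype_card, Fintype.card_subtype]
  have hDc : Nat.card D = Df.card := by
    rw [Nat.card_eq_fintype_card, Fintype.card_subtype]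
  have hnsum : ∑ ω, n ω = Fintype.card X := by
    rw [← Finset.card_univ (α := X)]
    exact (Finset.card_eq_sum_card_fiberwise (f := q) (s := Finset.univ) (t := Finset.univ)
      (fun x _ => Finset.mem_coe.mpr (Finset.mem_univ _))).symm
  have hzsum : ∑ ω, z ω = Zf.card :=
    (Finset.card_eq_sum_card_fiberwise (f := q) (s := Zf) (t := Finset.univ)
      (fun x _ => Finset.mem_coe.mpr (Finset.mem_univ _))).symm
  have hdsum : ∑ ω, d ω = Df.card :=
    (Finset.card_eq_sum_card_fiberwise (f := q) (s := Df) (t := Finset.univ)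
      (fun x _ => Finset.mem_coe.mpr (Finset.mem_univ _))).symm
  -- the orbit of a point of a fibre has the size of the fibre
  have horb : ∀ x : X, Nat.card (MulAction.orbit A x) = n (q x) := by
    intro x
    rw [Nat.card_eq_fintype_card, ← Set.toFinset_card]
    congr 1
    ext y
    simp only [Set.mem_toFinset, Finset.mem_filter, Finset.mem_univ, true_and]
    rw [← MulAction.orbitRel_apply]
    exact (Quotient.eq'' (s₁ := MulAction.orbitRel A X)).symm
  have hzd : ∀ ω, z ω + d ω ≤ n ω := by
    intro ω
    have hdis : Disjoint (Zf.filter (fun x => q x = ω)) (Df.filter (fun x => q x = ω)) := by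
      rw [Finset.disjoint_left]
      intro x hx hx'
      have hxZ : x ∈ Z := (Finset.mem_filter.mp (Finset.mem_filter.mp hx).1).2
      have hxD : x ∈ D := (Finset.mem_filter.mp (Finset.mem_filter.mp hx').1).2
      exact Set.disjoint_left.mp hZD hxZ hxD
    show (Zf.filter (fun x => q x = ω)).card + (Df.filter (fun x => q x = ω)).card ≤ _
    rw [← Finset.card_union_of_disjoint hdis]
    apply Finset.card_le_card
    intro x hx
    rcases Finset.mem_union.mp hx with h | h
    · exact Finset.mem_filter.mpr ⟨Finset.mem_univ _, (Finset.mem_filter.mp h).2⟩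
    · exact Finset.mem_filter.mpr ⟨Finset.mem_univ _, (Finset.mem_filter.mp h).2⟩
  have hkey : ∀ ω, 2 * p + d ω ≤ 2 * n ω + 2 * (p - 1) * z ω := by
    intro ω
    obtain ⟨x0, hx0⟩ : ∃ x0, q x0 = ω := Quotient.exists_rep ω
    have hzd' := hzd ω
    by_cases hD : ∃ x ∈ D, q x = ω
    · obtain ⟨x, hxD, hxω⟩ := hD
      have h3 := h2 x hxD
      rw [horb x, hxω] at h3
      have : 0 ≤ 2 * (p - 1) * z ω := Nat.zero_le _
      omega
    · have hd0 : d ω = 0 := by
        show (Df.filter (fun x => q x = ω)).card = 0
        rw [Finset.card_eq_zero, Finset.filter_eq_empty_iff]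
        intro x hx hxω
        exact hD ⟨x, (Finset.mem_filter.mp hx).2, hxω⟩
      by_cases hZ' : ∃ x, x ∉ Z ∧ q x = ω
      · obtain ⟨x, hxZ, hxω⟩ := hZ'
        have h3 := h1 x hxZ
        rw [horb x, hxω] at h3
        have : 0 ≤ 2 * (p - 1) * z ω := Nat.zero_le _
        omega
      · have hzn : z ω = n ω := by
          show (Zf.filter (fun x => q x = ω)).card = (Finset.univ.filter (fun x => q x = ω)).card
          congr 1
          ext x
          simp only [Finset.mem_filter, Finset.mem_univ, true_and, Zf]
          constructor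
          · exact fun h => h.2
          · intro h
            refine ⟨?_, h⟩
            by_contra hxZ
            exact hZ' ⟨x, hxZ, h⟩
        have hn1 : 1 ≤ n ω := by
          show 1 ≤ (Finset.univ.filter (fun x => q x = ω)).card
          exact Finset.card_pos.mpr ⟨x0, Finset.mem_filter.mpr ⟨Finset.mem_univ _, hx0⟩⟩
        have h4 : (p - 1) ≤ (p - 1) * n ω := Nat.le_mul_of_pos_right _ hn1
        rw [hzn, mul_assoc]
        omega
  have hsum : ∑ ω : MulAction.orbitRel.Quotient A X, (2 * p + d ω)
      ≤ ∑ ω : MulAction.orbitRel.Quotient A X, (2 * n ω + 2 * (p - 1) * z ω) :=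
    Finset.sum_le_sum (fun ω _ => hkey ω)
  have e1 : ∑ ω : MulAction.orbitRel.Quotient A X, (2 * p + d ω)
      = 2 * p * Fintype.card (MulAction.orbitRel.Quotient A X) + Df.card := by
    rw [Finset.sum_add_distrib, Finset.sum_const, Finset.card_univ, smul_eq_mul, hdsum]
    ring
  have e2 : ∑ ω : MulAction.orbitRel.Quotient A X, (2 * n ω + 2 * (p - 1) * z ω)
      = 2 * Fintype.card X + 2 * (p - 1) * Zf.card := by
    rw [Finset.sum_add_distrib, ← Finset.mul_sum, ← Finset.mul_sum, hnsum, hzsum]
  rw [e1, e2] at hsum
  rw [Nat.card_eq_fintype_card, Nat.card_eq_fintype_card]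
  rw [hZc, hDc] at hcard
  nlinarith [hsum, hcard]

end Cfsg.Agent.Lib.Helper67.AO
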