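import Cfsg.Agent.S0164
import Cfsg.Agent.Lib.Helper81.PDefect
import Cfsg.Agent.Lib.Helper80.Orthogonality
import Cfsg.Agent.Lib.Helper81.OneIrr

set_option autoImplicit false
set_option linter.unusedSectionVars false

/-!
# The Brauer–Suzuki theorem on Hall subgroups with a normal complement
-/

namespace Cfsg.Agent.Lib.Helper81

open Cfsg
open scoped ComplexConjugate

universe u

section Generic

theorem isElementary_of_surjective {p : ℕ} (hp : p.Prime) {E F : Type*} [Group E] [Group F]
    [Finite E] (f : E →* F) (hf : Function.Surjective f) (h : IsElementary p E) :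
    IsElementary p F := by
  obtain ⟨x, hx, hcop, k, hk⟩ := h
  have hidx : ∃ j : ℕ, (Subgroup.zpowers (f x)).index = p ^ j := by
    have h1 : Subgroup.zpowers (f x) = (Subgroup.zpowers x).map f := by
      rw [MonoidHom.map_zpowers]
    have h2 : ((Subgroup.zpowers x).map f).index ∣ (Subgroup.zpowers x).index :=
      Subgroup.index_map_dvd _ hf
    rw [hk, ← h1] at h2
    obtain ⟨j, _, hj⟩ := (Nat.dvd_prime_pow hp).1 h2
    exact ⟨j, hj⟩
  refine ⟨f x, ?_, ?_, hidx⟩
  · rw [Subgroup.mem_center_iff] at hx ⊢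
    intro g
    obtain ⟨g', rfl⟩ := hf g
    rw [← map_mul, ← map_mul, hx g']
  · exact Nat.Coprime.coprime_dvd_left (orderOf_map_dvd f x) hcop

theorem isElementary_of_isCyclic (p : ℕ) [hp : Fact p.Prime] {E : Type*} [Group E] [Finite E]
    [hE : IsCyclic E] : IsElementary p E := by
  obtain ⟨c, hc⟩ := hE.exists_generator
  have hord : orderOf c = Nat.card E := orderOf_eq_card_of_forall_mem_zpowers hc
  set M := Nat.card E with hM
  have hM0 : M ≠ 0 := Nat.card_pos.ne'
  set k := M.factorization p with hk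
  have hdvd : p ^ k ∣ M := Nat.ordProj_dvd M p
  have hcomm : ∀ a b : E, a * b = b * a := by
    intro a b
    obtain ⟨i, rfl⟩ := hc a
    obtain ⟨j, rfl⟩ := hc b
    exact (Commute.zpow_zpow_self c i j).eq
  have hox : orderOf (c ^ (p ^ k)) = M / p ^ k := by
    rw [orderOf_pow_of_dvd (pow_pos hp.out.pos k).ne' (hord ▸ hdvd), hord]
  refine ⟨c ^ (p ^ k), ?_, ?_, k, ?_⟩
  · rw [Subgroup.mem_center_iff]
    intro g
    exact hcomm _ _
  · rw [hox]
    exact (Nat.coprime_ordCompl hp.out hM0).symm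
  · have h1 := (Subgroup.zpowers (c ^ (p ^ k))).card_mul_index
    rw [Nat.card_zpowers, hox, ← hM] at h1
    have h2 : M / p ^ k * p ^ k = M := Nat.div_mul_cancel hdvd
    have h3 : 0 < M / p ^ k := Nat.div_pos (Nat.le_of_dvd (Nat.pos_of_ne_zero hM0) hdvd)
      (pow_pos hp.out.pos k)
    exact Nat.eq_of_mul_eq_mul_left h3 (h1.trans h2.symm)

/-- In a group whose centre has finite index `c`, the power map with exponent `i + c * j`
(`i ≤ 1`) is multiplicative. -/
theorem mul_pow_of_center_index {E : Type*} [Group E] [(Subgroup.center E).FiniteIndex]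
    (i j : ℕ) (hi : i ≤ 1) (a b : E) :
    (a * b) ^ (i + (Subgroup.center E).index * j) =
      a ^ (i + (Subgroup.center E).index * j) * b ^ (i + (Subgroup.center E).index * j) := by
  set c := (Subgroup.center E).index with hc
  have hν : ∀ e : E, e ^ c ∈ Subgroup.center E := by
    intro e
    have := (MonoidHom.transferCenterPow E e).2
    rwa [MonoidHom.transferCenterPow_apply] at this
  have hmul : (a * b) ^ c = a ^ c * b ^ c := by
    have h1 := map_mul (MonoidHom.transferCenterPow E) a b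
    have h2 : ((MonoidHom.transferCenterPow E (a * b) : Subgroup.center E) : E) =
        ((MonoidHom.transferCenterPow E a * MonoidHom.transferCenterPow E b :
          Subgroup.center E) : E) := congrArg Subtype.val h1
    rw [Subgroup.coe_mul, MonoidHom.transferCenterPow_apply, MonoidHom.transferCenterPow_apply,
      MonoidHom.transferCenterPow_apply] at h2
    exact h2
  have hcomm : Commute (a ^ c) (b ^ c) := (Subgroup.mem_center_iff.mp (hν a) (b ^ c)).symm
  have h1 : (a * b) ^ (c * j) = (a ^ c) ^ j * (b ^ c) ^ j := by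
    rw [pow_mul, hmul, hcomm.mul_pow]
  have hcen : ∀ g : E, Commute ((a ^ c) ^ j) g := by
    intro g
    have : (a ^ c) ^ j ∈ Subgroup.center E := Subgroup.pow_mem _ (hν a) j
    exact (Subgroup.mem_center_iff.mp this g).symm
  rw [pow_add, pow_add, pow_add, h1, pow_mul a, pow_mul b]
  interval_cases i
  · simp
  · simp only [pow_one]
    calc a * b * ((a ^ c) ^ j * (b ^ c) ^ j) = a * (b * (a ^ c) ^ j) * (b ^ c) ^ j := by group
      _ = a * ((a ^ c) ^ j * b) * (b ^ c) ^ j := by rw [(hcen b).eq]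
      _ = a * (a ^ c) ^ j * (b * (b ^ c) ^ j) := by group

/-- A finite group all of whose elements satisfy `a ^ m = 1` and whose order divides `m * n`
with `m`, `n` coprime has order dividing `m`. -/
theorem card_dvd_of_forall_pow_eq_one {A : Type*} [Group A] [Finite A] {m n : ℕ}
    (hmn : Nat.Coprime m n) (hcard : Nat.card A ∣ m * n) (hpow : ∀ a : A, a ^ m = 1) :
    Nat.card A ∣ m := by
  have hcop : Nat.Coprime (Nat.card A) n := by
    apply Nat.Coprime.symm
    apply Nat.coprime_of_dvd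
    intro r hr hrn hrA
    have : Fact r.Prime := ⟨hr⟩
    obtain ⟨a, ha⟩ := exists_prime_orderOf_dvd_card' r hrA
    have h1 : r ∣ m := by
      rw [← ha]
      exact orderOf_dvd_of_pow_eq_one (hpow a)
    have h2 : r ∣ Nat.gcd m n := Nat.dvd_gcd h1 hrn
    rw [hmn] at h2
    exact hr.one_lt.ne' (Nat.dvd_one.mp h2)
  exact hcop.dvd_of_dvd_mul_right hcard

end Generic

section BS

variable {G : Type u} [Group G] [Fintype G]

/-- The hypotheses of the Brauer–Suzuki theorem on Hall subgroups, together with an exponent `N`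
with `N ≡ 1` modulo `|H|` and `N ≡ 0` modulo `|G : H|`. -/
structure BSHyp (H : Subgroup G) (N : ℕ) : Prop where
  cop : Nat.Coprime (Nat.card H) H.index
  fus : ∀ x ∈ H, ∀ y ∈ H, IsConj x y → ∃ h ∈ H, h * x * h⁻¹ = y
  elem : ∀ (E : Subgroup G) (p : ℕ), p.Prime → IsElementary p E → Nat.card E ∣ Nat.card H →
    ∃ g : G, ∀ e ∈ E, g * e * g⁻¹ ∈ H
  one : ∃ j : ℕ, N = 1 + Nat.card H * j
  zero : H.index ∣ N

variable {H : Subgroup G} {N : ℕ}

theorem BSHyp.pow_of_mem (hyp : BSHyp H N) {h : G} (hh : h ∈ H) : h ^ N = h := by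
  obtain ⟨j, hj⟩ := hyp.one
  have h1 : h ^ Nat.card H = 1 := by
    have := pow_card_eq_one' (G := H) (x := ⟨h, hh⟩)
    exact congrArg Subtype.val this
  rw [hj, pow_add, pow_one, pow_mul, h1, one_pow, mul_one]

theorem BSHyp.pow_pow_card (hyp : BSHyp H N) (g : G) : (g ^ N) ^ Nat.card H = 1 := by
  obtain ⟨t, ht⟩ := hyp.zero
  rw [← pow_mul, ht, mul_comm _ (Nat.card H), ← mul_assoc, H.card_mul_index, pow_mul,
    pow_card_eq_one', one_pow]

theorem BSHyp.exists_rep (hyp : BSHyp H N) (g : G) : ∃ h : H, IsConj (h : G) (g ^ N) := by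
  have : Fact (Nat.Prime 2) := ⟨Nat.prime_two⟩
  have hel : IsElementary 2 (Subgroup.zpowers (g ^ N)) := isElementary_of_isCyclic 2
  have hcard : Nat.card (Subgroup.zpowers (g ^ N)) ∣ Nat.card H := by
    rw [Nat.card_zpowers]
    exact orderOf_dvd_of_pow_eq_one (hyp.pow_pow_card g)
  obtain ⟨x, hx⟩ := hyp.elem _ 2 Nat.prime_two hel hcard
  refine ⟨⟨x * g ^ N * x⁻¹, hx _ (Subgroup.mem_zpowers _)⟩, ?_⟩
  exact (isConj_iff.mpr ⟨x, rfl⟩).symm

/-- A representative in `H` of the class of the `π`-part `g ^ N`. -/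
noncomputable def BSHyp.rep (hyp : BSHyp H N) (g : G) : H := Classical.choose (hyp.exists_rep g)

theorem BSHyp.rep_spec (hyp : BSHyp H N) (g : G) : IsConj (hyp.rep g : G) (g ^ N) :=
  Classical.choose_spec (hyp.exists_rep g)

/-- The extension of a function on `H` to `G` through `π`-parts. -/
noncomputable def BSHyp.tilde (hyp : BSHyp H N) (θ : H → ℂ) : G → ℂ := fun g => θ (hyp.rep g)

theorem BSHyp.isConj_of_isConj (hyp : BSHyp H N) {x y : H} (h : IsConj (x : G) (y : G)) :
    IsConj x y := by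
  obtain ⟨k, hk, hkx⟩ := hyp.fus x x.2 y y.2 h
  rw [isConj_iff]
  exact ⟨⟨k, hk⟩, Subtype.ext hkx⟩

theorem BSHyp.tilde_eq (hyp : BSHyp H N) {θ : H → ℂ} (hθ : IsClassFunction H θ) (g : G) (h : H)
    (hc : IsConj (h : G) (g ^ N)) : hyp.tilde θ g = θ h := by
  have h1 : IsConj (hyp.rep g) h := hyp.isConj_of_isConj ((hyp.rep_spec g).trans hc.symm)
  obtain ⟨k, hk⟩ := isConj_iff.mp h1
  unfold BSHyp.tilde
  rw [← hk, hθ]

theorem BSHyp.isClassFunction_tilde (hyp : BSHyp H N) {θ : H → ℂ} (hθ : IsClassFunction H θ) :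
    IsClassFunction G (hyp.tilde θ) := by
  intro g x
  apply hyp.tilde_eq hθ
  have h1 : (x * g * x⁻¹) ^ N = x * g ^ N * x⁻¹ := conj_pow
  rw [h1]
  exact (hyp.rep_spec g).trans (isConj_iff.mpr ⟨x, rfl⟩)

theorem BSHyp.tilde_coe (hyp : BSHyp H N) {θ : H → ℂ} (hθ : IsClassFunction H θ) (h : H) :
    hyp.tilde θ (h : G) = θ h := by
  apply hyp.tilde_eq hθ
  rw [hyp.pow_of_mem h.2]

theorem BSHyp.isCharacter_tilde_restrict (hyp : BSHyp H N) {θ : H → ℂ} (hθ : IsCharacter H θ)
    (E : Subgroup G) (q : ℕ) (hq : q.Prime) (hE : IsElementary q E) :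
    IsCharacter E (fun e : E => hyp.tilde θ e) := by
  classical
  obtain ⟨x₀, hx₀c, hx₀q, k, hk⟩ := id hE
  set c := (Subgroup.center E).index with hc
  have hcq : c ∣ q ^ k := by
    rw [← hk]
    exact Subgroup.index_dvd_of_le ((Subgroup.zpowers_le).2 hx₀c)
  have hqG : q ^ k ∣ Nat.card H * H.index := by
    rw [H.card_mul_index, ← hk]
    exact ((Subgroup.zpowers x₀).index_dvd_card).trans (Subgroup.card_subgroup_dvd_card E)
  have hN : ∃ i j : ℕ, i ≤ 1 ∧ N = i + c * j := by
    by_cases hqm : q ∣ Nat.card H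
    · have hqi : ¬ q ∣ H.index := by
        intro h
        have h1 := Nat.dvd_gcd hqm h
        rw [hyp.cop] at h1
        exact hq.one_lt.ne' (Nat.dvd_one.mp h1)
      have h1 : Nat.Coprime (q ^ k) H.index :=
        Nat.Coprime.pow_left k ((Nat.Prime.coprime_iff_not_dvd hq).2 hqi)
      have h2 : q ^ k ∣ Nat.card H := h1.dvd_of_dvd_mul_right hqG
      obtain ⟨j, hj⟩ := hyp.one
      obtain ⟨t, ht⟩ := hcq.trans h2
      exact ⟨1, t * j, le_refl _, by rw [hj, ht, mul_assoc]⟩
    · have h1 : Nat.Coprime (q ^ k) (Nat.card H) :=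
        Nat.Coprime.pow_left k ((Nat.Prime.coprime_iff_not_dvd hq).2 hqm)
      have h2 : q ^ k ∣ H.index := h1.dvd_of_dvd_mul_left hqG
      obtain ⟨t, ht⟩ := (hcq.trans h2).trans hyp.zero
      exact ⟨0, t, zero_le_one, by rw [ht, zero_add]⟩
  obtain ⟨i, j, hi, hNij⟩ := hN
  have hmul : ∀ a b : E, (a * b) ^ N = a ^ N * b ^ N := by
    intro a b
    rw [hNij]
    exact mul_pow_of_center_index i j hi a b
  let φ : E →* G := E.subtype.comp (MonoidHom.mk' (fun e : E => e ^ N) hmul)
  have hφ : ∀ e : E, φ e = (e : G) ^ N := fun e => by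
    simp [φ]
  have hAel : IsElementary q φ.range :=
    isElementary_of_surjective hq φ.rangeRestrict φ.rangeRestrict_surjective hE
  have hAcard : Nat.card φ.range ∣ Nat.card H := by
    apply card_dvd_of_forall_pow_eq_one hyp.cop
    · rw [H.card_mul_index]
      exact Subgroup.card_subgroup_dvd_card _
    · rintro ⟨a, e, rfl⟩
      apply Subtype.ext
      rw [Subgroup.coe_pow, Subgroup.coe_one]
      change (φ e) ^ Nat.card H = 1
      rw [hφ]
      exact hyp.pow_pow_card _
  obtain ⟨g₀, hg₀⟩ := hyp.elem φ.range q hq hAel hAcard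
  let f : E →* H := ((MulAut.conj g₀).toMonoidHom.comp φ).codRestrict H
    (fun e => hg₀ _ ⟨e, rfl⟩)
  have hf : (fun e : E => hyp.tilde θ e) = fun e => θ (f e) := by
    funext e
    apply hyp.tilde_eq (Cfsg.Agent.Lib.Helper3.IsCharacter.isClassFunction hθ)
    have h1 : ((f e : H) : G) = g₀ * (e : G) ^ N * g₀⁻¹ := by
      change (MulAut.conj g₀) (φ e) = _
      rw [hφ, MulAut.conj_apply]
    rw [h1]
    exact (isConj_iff.mpr ⟨g₀, rfl⟩).symm
  rw [hf]
  exact Cfsg.Agent.Lib.Helper79.isCharacter_comp hθ f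

theorem BSHyp.isGeneralizedCharacter_tilde (hyp : BSHyp H N) {θ : H → ℂ}
    (hθ : IsCharacter H θ) : IsGeneralizedCharacter G (hyp.tilde θ) := by
  apply Cfsg.Agent.S0164.result
  · exact hyp.isClassFunction_tilde (Cfsg.Agent.Lib.Helper3.IsCharacter.isClassFunction hθ)
  · intro E q hq hE
    have h1 := hyp.isCharacter_tilde_restrict hθ E q hq hE
    exact ⟨_, 0, h1, Cfsg.Agent.Lib.Helper3.IsCharacter.zero, by simp⟩

end BS

section Count

variable {G : Type u} [Group G] [Fintype G] {H : Subgroup G} [Fintype H] {N : ℕ}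

theorem classInner_one_one : classInner (fun _ : G => (1 : ℂ)) (fun _ => 1) = 1 := by
  rw [Cfsg.Agent.Lib.Helper25.classInner_def]
  simp only [map_one, mul_one, Finset.sum_const, Finset.card_univ, nsmul_eq_mul]
  rw [← Nat.card_eq_fintype_card]
  have : (Nat.card G : ℂ) ≠ 0 := by exact_mod_cast Nat.card_pos.ne'
  field_simp

theorem irr_sum_eq [Fintype (IrrCharacter G)] (φ : IrrCharacter G) :
    ∑ x : G, (φ : G → ℂ) x = if φ = oneIrr G then (Nat.card G : ℂ) else 0 := by
  split_ifs with h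
  · subst h
    simp [oneIrr_apply, Nat.card_eq_fintype_card]
  · apply irr_sum_eq_zero_of_ne_one
    intro hh
    exact h (Subtype.ext hh)

theorem isIntegral_conj_irr [Finite G] (φ : IrrCharacter G) (x : G) :
    IsIntegral ℤ (conj ((φ : G → ℂ) x)) := by
  obtain ⟨_, k, σ, -, rfl⟩ := φ
  change IsIntegral ℤ (conj (σ.character x))
  rw [← Cfsg.Agent.Lib.Helper3.character_inv σ x]
  exact Cfsg.Agent.Lib.Helper3.isIntegral_character σ x⁻¹

/-- The extension through `π`-parts preserves the multiplicity of the trivial character, for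
irreducible characters. -/
theorem BSHyp.classInner_tilde_one_irr (hyp : BSHyp H N) (ψ : IrrCharacter H) :
    classInner (hyp.tilde (ψ : H → ℂ)) (fun _ => 1) = classInner (ψ : H → ℂ) (fun _ => 1) := by
  classical
  have : Finite (IrrCharacter H) := Cfsg.Agent.Lib.Helper3.irrCharacter_finite
  have : Fintype (IrrCharacter H) := Fintype.ofFinite _
  have hGC : (Nat.card G : ℂ) ≠ 0 := by exact_mod_cast Nat.card_pos.ne'
  have hHC : (Nat.card H : ℂ) ≠ 0 := by exact_mod_cast Nat.card_pos.ne'
  have hz : ∀ φ : IrrCharacter H, ∃ z : ℤ,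
      classInner (hyp.tilde (φ : H → ℂ)) (fun _ => (1 : ℂ)) = (z : ℂ) := fun φ =>
    Cfsg.Agent.Lib.Helper25.classInner_genChar_int
      (hyp.isGeneralizedCharacter_tilde (Cfsg.Agent.Lib.Helper3.IsIrrCharacter.isCharacter φ.2))
      ⟨_, 0, Cfsg.Agent.Lib.Helper3.IsCharacter.one, Cfsg.Agent.Lib.Helper3.IsCharacter.zero,
        by simp⟩
  choose z hz using hz
  have hz' : ∀ φ : IrrCharacter H,
      (z φ : ℂ) = (Nat.card G : ℂ)⁻¹ * ∑ g : G, (φ : H → ℂ) (hyp.rep g) := by
    intro φ
    rw [← hz φ, Cfsg.Agent.Lib.Helper25.classInner_def]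
    simp [BSHyp.tilde]
  set c : H → ℂ := fun x => ∑ φ : IrrCharacter H, (z φ : ℂ) * conj ((φ : H → ℂ) x) with hc
  -- (i) `c x` is a positive rational number
  have hci : ∀ x : H, ∃ T : ℕ, 1 ≤ T ∧ c x = (Nat.card G : ℂ)⁻¹ * (T : ℂ) := by
    intro x
    refine ⟨∑ g : G, if IsConj (hyp.rep g) x then
      Nat.card (Subgroup.centralizer ({hyp.rep g} : Set H)) else 0, ?_, ?_⟩
    · have hx : IsConj (hyp.rep (x : G)) x := by
        apply hyp.isConj_of_isConj
        have := hyp.rep_spec (x : G)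
        rwa [hyp.pow_of_mem x.2] at this
      calc 1 ≤ Nat.card (Subgroup.centralizer ({hyp.rep (x : G)} : Set H)) := Nat.card_pos
        _ = (if IsConj (hyp.rep (x : G)) x then
              Nat.card (Subgroup.centralizer ({hyp.rep (x : G)} : Set H)) else 0) := by
            rw [if_pos hx]
        _ ≤ _ := Finset.single_le_sum (f := fun g : G => if IsConj (hyp.rep g) x then
              Nat.card (Subgroup.centralizer ({hyp.rep g} : Set H)) else 0)
              (fun _ _ => Nat.zero_le _) (Finset.mem_univ (x : G))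
    · simp only [hc]
      calc ∑ φ : IrrCharacter H, (z φ : ℂ) * conj ((φ : H → ℂ) x)
          = ∑ φ : IrrCharacter H, ∑ g : G, (Nat.card G : ℂ)⁻¹ *
              ((φ : H → ℂ) (hyp.rep g) * conj ((φ : H → ℂ) x)) := by
            refine Finset.sum_congr rfl fun φ _ => ?_
            rw [hz' φ, mul_assoc, Finset.sum_mul, Finset.mul_sum]
        _ = ∑ g : G, (Nat.card G : ℂ)⁻¹ * ∑ φ : IrrCharacter H,
              ((φ : H → ℂ) (hyp.rep g) * conj ((φ : H → ℂ) x)) := by
            rw [Finset.sum_comm]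
            refine Finset.sum_congr rfl fun g _ => ?_
            rw [Finset.mul_sum]
        _ = ∑ g : G, (Nat.card G : ℂ)⁻¹ * (if IsConj (hyp.rep g) x then
              (Nat.card (Subgroup.centralizer ({hyp.rep g} : Set H)) : ℂ) else 0) := by
            refine Finset.sum_congr rfl fun g _ => ?_
            rw [Cfsg.Agent.Lib.Helper80.irr_column_orthogonality]
        _ = _ := by
            rw [← Finset.mul_sum]
            congr 1
            push_cast
            rfl
  -- (ii) `c x` is an algebraic integer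
  have hcint : ∀ x : H, IsIntegral ℤ (c x) := by
    intro x
    apply IsIntegral.sum
    intro φ _
    apply IsIntegral.mul
    · have : ((z φ : ℤ) : ℂ) = algebraMap ℤ ℂ (z φ) := by simp
      rw [this]
      exact isIntegral_algebraMap
    · exact isIntegral_conj_irr φ x
  -- (iii) `c x` is a positive integer
  have hcw : ∀ x : H, ∃ w : ℤ, 1 ≤ w ∧ c x = (w : ℂ) := by
    intro x
    obtain ⟨T, hT1, hT⟩ := hci x
    have h1 : c x = (((T : ℚ) / (Nat.card G : ℚ) : ℚ) : ℂ) := by
      rw [hT]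
      push_cast
      field_simp
    have h2 := hcint x
    rw [h1] at h2
    obtain ⟨w, hw⟩ := Cfsg.Agent.Lib.Helper3.int_of_isIntegral_ratCast h2
    refine ⟨w, ?_, ?_⟩
    · have h3 : (0 : ℚ) < (w : ℚ) := by
        rw [hw]
        have hT0 : (0 : ℚ) < (T : ℚ) := by exact_mod_cast hT1
        have hG0 : (0 : ℚ) < (Nat.card G : ℚ) := by exact_mod_cast Nat.card_pos
        exact div_pos hT0 hG0
      have h4 : 0 < w := by exact_mod_cast h3
      omega
    · rw [h1, ← hw]
      push_cast
      rfl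
  choose w hw1 hw using hcw
  -- (iv) the sum of the `c x`
  have hz1 : z (oneIrr H) = 1 := by
    have h1 := hz (oneIrr H)
    have h2 : hyp.tilde ((oneIrr H : IrrCharacter H) : H → ℂ) = fun _ => (1 : ℂ) := rfl
    rw [h2, classInner_one_one] at h1
    exact_mod_cast h1.symm
  have hsum : ∑ x : H, c x = (Nat.card H : ℂ) := by
    simp only [hc]
    rw [Finset.sum_comm]
    have h1 : ∀ φ : IrrCharacter H, ∑ x : H, (z φ : ℂ) * conj ((φ : H → ℂ) x) =
        if φ = oneIrr H then (Nat.card H : ℂ) else 0 := by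
      intro φ
      rw [← Finset.mul_sum, ← map_sum, irr_sum_eq]
      split_ifs with h
      · rw [h, hz1]
        simp
      · simp
    rw [Finset.sum_congr rfl (fun φ _ => h1 φ)]
    simp
  -- (v) all `w x = 1`
  have hwsum : ∑ x : H, (w x - 1) = 0 := by
    have h1 : ((∑ x : H, w x : ℤ) : ℂ) = (Nat.card H : ℂ) := by
      rw [← hsum]
      push_cast
      exact Finset.sum_congr rfl fun x _ => (hw x).symm
    have h2 : ∑ x : H, w x = (Nat.card H : ℤ) := by exact_mod_cast h1
    rw [Finset.sum_sub_distrib, h2]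
    simp [Nat.card_eq_fintype_card]
  have hw1' : ∀ x : H, w x = 1 := by
    intro x
    have h1 := (Finset.sum_eq_zero_iff_of_nonneg (fun x _ => by have := hw1 x; omega)).mp hwsum x
      (Finset.mem_univ x)
    omega
  have hc1 : ∀ x : H, c x = 1 := by
    intro x
    rw [hw x, hw1' x]
    simp
  -- (vi) conclusion
  have h6 : ∑ x : H, c x * (ψ : H → ℂ) x = (z ψ : ℂ) * (Nat.card H : ℂ) := by
    simp only [hc, Finset.sum_mul]
    rw [Finset.sum_comm]
    have h1 : ∀ φ : IrrCharacter H, ∑ x : H, (z φ : ℂ) * conj ((φ : H → ℂ) x) * (ψ : H → ℂ) x =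
        if ψ = φ then (z ψ : ℂ) * (Nat.card H : ℂ) else 0 := by
      intro φ
      have h2 := Cfsg.Agent.Lib.Helper80.irr_row_orthogonality ψ φ
      calc ∑ x : H, (z φ : ℂ) * conj ((φ : H → ℂ) x) * (ψ : H → ℂ) x
          = (z φ : ℂ) * ∑ x : H, (ψ : H → ℂ) x * conj ((φ : H → ℂ) x) := by
            rw [Finset.mul_sum]
            refine Finset.sum_congr rfl fun x _ => ?_
            ring
        _ = _ := by
            rw [h2]
            split_ifs with h
            · rw [h]
            · simp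
    rw [Finset.sum_congr rfl (fun φ _ => h1 φ)]
    simp
  rw [hz ψ, Cfsg.Agent.Lib.Helper25.classInner_def]
  have h7 : ∑ x : H, (ψ : H → ℂ) x * conj ((fun _ : H => (1 : ℂ)) x) =
      (z ψ : ℂ) * (Nat.card H : ℂ) := by
    rw [← h6]
    refine Finset.sum_congr rfl fun x _ => ?_
    rw [hc1 x]
    simp
  rw [h7]
  field_simp

end Count

section Isometry

variable {G : Type u} [Group G] [Fintype G] {H : Subgroup G} [Fintype H] {N : ℕ}

theorem BSHyp.classInner_tilde_one (hyp : BSHyp H N) {F : H → ℂ} (hF : IsClassFunction H F) :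
    classInner (hyp.tilde F) (fun _ => 1) = classInner F (fun _ => 1) := by
  classical
  have : Finite (IrrCharacter H) := Cfsg.Agent.Lib.Helper3.irrCharacter_finite
  have : Fintype (IrrCharacter H) := Fintype.ofFinite _
  have key : ∀ a : IrrCharacter H → ℂ,
      classInner (hyp.tilde (∑ χ : IrrCharacter H, a χ • (χ : H → ℂ))) (fun _ => 1) =
      classInner (∑ χ : IrrCharacter H, a χ • (χ : H → ℂ)) (fun _ => 1) := by
    intro a
    have h2 : hyp.tilde (∑ χ : IrrCharacter H, a χ • (χ : H → ℂ)) =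
        ∑ χ : IrrCharacter H, a χ • hyp.tilde (χ : H → ℂ) := by
      funext g
      simp only [BSHyp.tilde, Finset.sum_apply, Pi.smul_apply]
    rw [h2, Cfsg.Agent.Lib.Helper25.classInner_sum_left,
      Cfsg.Agent.Lib.Helper25.classInner_sum_left]
    refine Finset.sum_congr rfl fun χ _ => ?_
    rw [Cfsg.Agent.Lib.Helper25.classInner_smul_left,
      Cfsg.Agent.Lib.Helper25.classInner_smul_left, hyp.classInner_tilde_one_irr χ]
  have h1 := Cfsg.Agent.Lib.Helper3.classFunction_eq_sum hF
  rw [h1]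
  exact key _

theorem BSHyp.classInner_tilde_tilde (hyp : BSHyp H N) {F₁ F₂ : H → ℂ}
    (h1 : IsClassFunction H F₁) (h2 : IsClassFunction H F₂) :
    classInner (hyp.tilde F₁) (hyp.tilde F₂) = classInner F₁ F₂ := by
  have h3 : IsClassFunction H (fun x => F₁ x * conj (F₂ x)) := fun g h => by
    simp only [h1 g h, h2 g h]
  have h4 := hyp.classInner_tilde_one h3
  rw [Cfsg.Agent.Lib.Helper25.classInner_def, Cfsg.Agent.Lib.Helper25.classInner_def] at h4 ⊢
  simpa [BSHyp.tilde] using h4

end Isometry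

section NormOne

variable {G : Type u} [Group G] [Fintype G]

/-- A generalized character of norm one and positive degree is an irreducible character. -/
theorem isIrrCharacter_of_genChar_norm_one {η : G → ℂ} (hη : IsGeneralizedCharacter G η)
    (hnorm : classInner η η = 1) (hpos : 0 < (η 1).re) : IsIrrCharacter G η := by
  classical
  have : Finite (IrrCharacter G) := Cfsg.Agent.Lib.Helper3.irrCharacter_finite
  have : Fintype (IrrCharacter G) := Fintype.ofFinite _
  have hcf : IsClassFunction G η := by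
    obtain ⟨α, β, hα, hβ, rfl⟩ := hη
    exact Cfsg.Agent.Lib.Helper3.isClassFunction_sub
      (Cfsg.Agent.Lib.Helper3.IsCharacter.isClassFunction hα)
      (Cfsg.Agent.Lib.Helper3.IsCharacter.isClassFunction hβ)
  have hc : ∀ χ : IrrCharacter G, ∃ z : ℤ, classInner η (χ : G → ℂ) = (z : ℂ) := fun χ =>
    Cfsg.Agent.Lib.Helper25.classInner_genChar_int hη
      ⟨_, 0, Cfsg.Agent.Lib.Helper3.IsIrrCharacter.isCharacter χ.2,
        Cfsg.Agent.Lib.Helper3.IsCharacter.zero, by simp⟩
  choose c hc using hc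
  have hexp : η = ∑ χ : IrrCharacter G, (c χ : ℂ) • (χ : G → ℂ) := by
    have h1 := Cfsg.Agent.Lib.Helper3.classFunction_eq_sum hcf
    calc η = ∑ χ : IrrCharacter G, classInner η (χ : G → ℂ) • (χ : G → ℂ) := h1
      _ = _ := Finset.sum_congr rfl fun χ _ => by rw [hc χ]
  have hsq : ∑ χ : IrrCharacter G, (c χ) ^ 2 = 1 := by
    have h1 : classInner η η = ∑ χ : IrrCharacter G, (c χ : ℂ) * conj (c χ : ℂ) := by
      conv_lhs => rw [hexp]
      exact Cfsg.Agent.Lib.Helper3.classInner_sum_sum _ _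
    rw [hnorm] at h1
    have h2 : ((∑ χ : IrrCharacter G, (c χ) ^ 2 : ℤ) : ℂ) = 1 := by
      rw [h1]
      push_cast
      refine Finset.sum_congr rfl fun χ _ => ?_
      rw [map_intCast, sq]
    exact_mod_cast h2
  obtain ⟨χ₀, hχ₀⟩ : ∃ χ₀, c χ₀ ≠ 0 := by
    by_contra h
    push Not at h
    simp [h] at hsq
  have hsplit := Finset.add_sum_erase Finset.univ (fun χ => (c χ) ^ 2) (Finset.mem_univ χ₀)
  rw [hsq] at hsplit
  have h0 : 1 ≤ (c χ₀) ^ 2 := by
    have := sq_nonneg (c χ₀)
    have h1 : (c χ₀) ^ 2 ≠ 0 := pow_ne_zero 2 hχ₀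
    omega
  have hnn : 0 ≤ ∑ χ ∈ Finset.univ.erase χ₀, (c χ) ^ 2 :=
    Finset.sum_nonneg fun χ _ => sq_nonneg _
  have herase : ∑ χ ∈ Finset.univ.erase χ₀, (c χ) ^ 2 = 0 := by omega
  have hc0sq : (c χ₀) ^ 2 = 1 := by omega
  have hothers : ∀ χ, χ ≠ χ₀ → c χ = 0 := by
    intro χ hχ
    have h1 := (Finset.sum_eq_zero_iff_of_nonneg (fun χ _ => sq_nonneg (c χ))).mp herase χ
      (Finset.mem_erase.mpr ⟨hχ, Finset.mem_univ χ⟩)
    exact pow_eq_zero_iff (two_ne_zero) |>.mp h1
  have hη' : η = (c χ₀ : ℂ) • (χ₀ : G → ℂ) := by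
    rw [hexp]
    rw [Finset.sum_eq_single χ₀]
    · intro χ _ hχ
      rw [hothers χ hχ]
      simp
    · intro h
      exact absurd (Finset.mem_univ _) h
  have hc0 : c χ₀ = 1 ∨ c χ₀ = -1 := by
    have : (c χ₀ - 1) * (c χ₀ + 1) = 0 := by ring_nf; omega
    rcases mul_eq_zero.mp this with h | h
    · left; omega
    · right; omega
  obtain ⟨n, hn0, hn⟩ := irr_apply_one χ₀
  rcases hc0 with h | h
  · rw [hη', h]
    simp only [Int.cast_one, one_smul]
    exact χ₀.2
  · exfalso
    rw [hη', h] at hpos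
    simp only [Int.cast_neg, Int.cast_one, neg_smul, one_smul, Pi.neg_apply, hn,
      Complex.neg_re, Complex.natCast_re] at hpos
    have : (0 : ℝ) ≤ (n : ℝ) := Nat.cast_nonneg n
    linarith

end NormOne

section Final

variable {G : Type u} [Group G] [Fintype G] {H : Subgroup G} [Fintype H] {N : ℕ}

theorem BSHyp.exists_normal_complement (hyp : BSHyp H N) :
    ∃ K : Subgroup G, K.Normal ∧ K ⊔ H = ⊤ ∧ K ⊓ H = ⊥ := by
  classical
  have : Finite (IrrCharacter H) := Cfsg.Agent.Lib.Helper3.irrCharacter_finite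
  have : Fintype (IrrCharacter H) := Fintype.ofFinite _
  have hHC : (Nat.card H : ℂ) ≠ 0 := by exact_mod_cast Nat.card_pos.ne'
  have hGC : (Nat.card G : ℂ) ≠ 0 := by exact_mod_cast Nat.card_pos.ne'
  -- the extensions of the irreducible characters are irreducible
  have hirr : ∀ ψ : IrrCharacter H, IsIrrCharacter G (hyp.tilde (ψ : H → ℂ)) := by
    intro ψ
    have hψc := Cfsg.Agent.Lib.Helper3.IsIrrCharacter.isCharacter ψ.2
    have hψcf := Cfsg.Agent.Lib.Helper3.IsCharacter.isClassFunction hψc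
    apply isIrrCharacter_of_genChar_norm_one (hyp.isGeneralizedCharacter_tilde hψc)
    · rw [hyp.classInner_tilde_tilde hψcf hψcf]
      have h1 := Cfsg.Agent.Lib.Helper3.classInner_irr ψ.2 ψ.2
      rwa [if_pos rfl] at h1
    · have h1 : hyp.tilde (ψ : H → ℂ) (1 : G) = (ψ : H → ℂ) 1 := by
        have h2 := hyp.tilde_coe hψcf (1 : H)
        simpa using h2
      rw [h1]
      obtain ⟨n, hn0, hn⟩ := irr_apply_one ψ
      rw [hn]
      simp only [Complex.natCast_re, Nat.cast_pos]
      omega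
  -- the extension of the regular character
  set ρH : H → ℂ := fun x => ∑ ψ : IrrCharacter H, (ψ : H → ℂ) 1 * (ψ : H → ℂ) x with hρHdef
  have hρH : ∀ x : H, ρH x = if x = 1 then (Nat.card H : ℂ) else 0 := by
    intro x
    split_ifs with h
    · subst h
      exact sum_irr_deg_mul_one
    · exact sum_irr_deg_mul_of_ne_one h
  have hρHcf : IsClassFunction H ρH := by
    intro g h
    rw [hρH, hρH]
    have : h * g * h⁻¹ = 1 ↔ g = 1 := by
      constructor
      · intro hh
        have : g = h⁻¹ * (h * g * h⁻¹) * h := by group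
        rw [this, hh]
        group
      · intro hh
        rw [hh]
        group
    simp only [this]
  have hR : IsCharacter G (hyp.tilde ρH) := by
    have h1 : hyp.tilde ρH =
        ∑ ψ : IrrCharacter H, ((charDegree (ψ : H → ℂ) : ℕ) : ℂ) • hyp.tilde (ψ : H → ℂ) := by
      funext g
      simp only [BSHyp.tilde, hρHdef, Finset.sum_apply, Pi.smul_apply, smul_eq_mul]
      exact Finset.sum_congr rfl fun ψ _ => by rw [irr_apply_one_eq_charDegree]
    rw [h1]
    exact Cfsg.Agent.Lib.Helper3.IsCharacter.sum _ _ fun ψ _ =>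
      Cfsg.Agent.Lib.Helper3.IsCharacter.nsmul
        (Cfsg.Agent.Lib.Helper3.IsIrrCharacter.isCharacter (hirr ψ)) _
  have hRval : ∀ g : G, hyp.tilde ρH g = if g ^ N = 1 then (Nat.card H : ℂ) else 0 := by
    intro g
    have h1 : hyp.rep g = 1 ↔ g ^ N = 1 := by
      constructor
      · intro h
        have h2 := hyp.rep_spec g
        rw [h, Subgroup.coe_one] at h2
        exact isConj_one_right.mp h2
      · intro h
        have h2 := hyp.rep_spec g
        rw [h] at h2
        exact Subtype.ext (isConj_one_left.mp h2)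
    unfold BSHyp.tilde
    rw [hρH]
    simp only [h1]
  obtain ⟨n, ρ, hρ⟩ := hR
  have hmem : ∀ g : G, g ∈ MonoidHom.ker ρ ↔ g ^ N = 1 := by
    intro g
    rw [Cfsg.Agent.Lib.Helper79.rep_mem_ker_iff, hρ, hRval, hRval, one_pow, if_pos rfl]
    constructor
    · intro h
      by_contra hne
      rw [if_neg hne] at h
      exact hHC h.symm
    · intro h
      rw [if_pos h]
  have hdisj : MonoidHom.ker ρ ⊓ H = ⊥ := by
    rw [eq_bot_iff]
    intro g hg
    rw [Subgroup.mem_inf] at hg
    have h1 := (hmem g).mp hg.1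
    rw [hyp.pow_of_mem hg.2] at h1
    rw [Subgroup.mem_bot]
    exact h1
  have hcard : Nat.card (MonoidHom.ker ρ) * Nat.card H = Nat.card G := by
    have h1 := hyp.classInner_tilde_one hρHcf
    have h2 : classInner ρH (fun _ => (1 : ℂ)) = 1 := by
      rw [Cfsg.Agent.Lib.Helper25.classInner_def]
      simp only [hρH, map_one, mul_one, Finset.sum_ite_eq', Finset.mem_univ, if_true]
      field_simp
    rw [h2, Cfsg.Agent.Lib.Helper25.classInner_def] at h1
    have h3 : ∑ g : G, hyp.tilde ρH g * conj ((fun _ : G => (1 : ℂ)) g) =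
        (Nat.card (MonoidHom.ker ρ) : ℂ) * (Nat.card H : ℂ) := by
      simp only [hRval, map_one, mul_one]
      rw [← Finset.sum_filter, Finset.sum_const, nsmul_eq_mul]
      congr 1
      rw [Nat.card_eq_fintype_card, Fintype.card_subtype]
      congr 1
      exact_mod_cast congrArg Finset.card (Finset.filter_congr fun g _ => (hmem g).symm)
    rw [h3] at h1
    have h4 : (Nat.card (MonoidHom.ker ρ) : ℂ) * (Nat.card H : ℂ) = (Nat.card G : ℂ) := by
      field_simp at h1
      exact h1
    exact_mod_cast h4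
  refine ⟨MonoidHom.ker ρ, inferInstance, ?_, hdisj⟩
  exact (Subgroup.isComplement'_of_card_mul_and_disjoint hcard (disjoint_iff.mpr hdisj)).sup_eq_top

end Final

end Cfsg.Agent.Lib.Helper81
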