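import Cfsg.Agent.Lib.Helper81.OneIrr
import Cfsg.Agent.Lib.Helper80.Central
import Mathlib.Algebra.Group.ConjFinite

set_option autoImplicit false

namespace Cfsg.Agent.Lib.Helper81

open Cfsg

universe u
variable {G : Type u} [Group G]

theorem irr_sum_conj_mul [Fintype G] (χ : IrrCharacter G) (a b : G) :
    (χ : G → ℂ) 1 * ∑ x : G, (χ : G → ℂ) (a * (x * b * x⁻¹)) =
      (Nat.card G : ℂ) * ((χ : G → ℂ) a * (χ : G → ℂ) b) := by
  have h1 := irr_apply_one_ne_zero χ
  obtain ⟨_, n, ρ, hρ, rfl⟩ := χ
  have := hρ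
  have h := Cfsg.Agent.Lib.Helper80.sum_char_mul_conj ρ a b
  rw [h]
  have h2 : ρ.character 1 = (Module.finrank ℂ (Fin n → ℂ) : ℂ) := Representation.char_one ρ
  simp only at h1 ⊢
  rw [← h2]
  field_simp

/-- Raw column orthogonality. -/
theorem sum_irr_mul [Fintype G] [DecidableEq G] [Fintype (IrrCharacter G)] (a b : G) :
    ∑ χ : IrrCharacter G, (χ : G → ℂ) a * (χ : G → ℂ) b =
      ((Finset.univ.filter fun x : G => a * (x * b * x⁻¹) = 1).card : ℂ) := by
  have hG : (Nat.card G : ℂ) ≠ 0 := by exact_mod_cast Nat.card_pos.ne'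
  have key : (Nat.card G : ℂ) * ∑ χ : IrrCharacter G, (χ : G → ℂ) a * (χ : G → ℂ) b =
      (Nat.card G : ℂ) * ((Finset.univ.filter fun x : G => a * (x * b * x⁻¹) = 1).card : ℂ) := by
    rw [Finset.mul_sum]
    simp_rw [← irr_sum_conj_mul _ a b, Finset.mul_sum]
    rw [Finset.sum_comm]
    rw [Finset.card_filter, Nat.cast_sum, Finset.mul_sum]
    refine Finset.sum_congr rfl fun x _ => ?_
    by_cases hx : a * (x * b * x⁻¹) = 1
    · rw [hx, if_pos rfl, sum_irr_deg_mul_one]
      simp
    · rw [if_neg hx, sum_irr_deg_mul_of_ne_one hx]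
      simp
  exact mul_left_cancel₀ hG key

/-- Abstract Brauer permutation lemma for a table with a two-sided inverse. -/
theorem card_fixed_eq_of_table {X Y : Type*} [Fintype X] [Fintype Y] [DecidableEq X]
    [DecidableEq Y] (T : Matrix X Y ℂ) (S : Matrix Y X ℂ) (hTS : T * S = 1) (hST : S * T = 1)
    (σ : Equiv.Perm X) (τ : Equiv.Perm Y) (h : ∀ x y, T (σ x) (τ y) = T x y) :
    (Finset.univ.filter fun x => σ x = x).card = (Finset.univ.filter fun y => τ y = y).card := by
  let P : Matrix X X ℂ := Matrix.of fun x x' => if σ x' = x then 1 else 0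
  let Q : Matrix Y Y ℂ := Matrix.of fun y' y => if y' = τ y then 1 else 0
  have hPT : P * T = T * Q := by
    ext x y
    simp only [Matrix.mul_apply, P, Q, Matrix.of_apply]
    rw [Finset.sum_eq_single (σ.symm x), Finset.sum_eq_single (τ y)]
    · simp only [Equiv.apply_symm_apply, if_true, one_mul, mul_one]
      have := h (σ.symm x) y
      rw [Equiv.apply_symm_apply] at this
      exact this.symm
    · intro y' _ hy'
      rw [if_neg hy', mul_zero]
    · intro hh; exact absurd (Finset.mem_univ _) hh
    · intro x' _ hx'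
      have : σ x' ≠ x := fun hh => hx' (by rw [← hh, Equiv.symm_apply_apply])
      rw [if_neg this, zero_mul]
    · intro hh; exact absurd (Finset.mem_univ _) hh
  have htr : P.trace = Q.trace := by
    calc P.trace = (P * (T * S)).trace := by rw [hTS, Matrix.mul_one]
      _ = ((T * Q) * S).trace := by rw [← Matrix.mul_assoc, hPT]
      _ = (T * (Q * S)).trace := by rw [Matrix.mul_assoc]
      _ = ((Q * S) * T).trace := Matrix.trace_mul_comm _ _
      _ = (Q * (S * T)).trace := by rw [Matrix.mul_assoc]
      _ = Q.trace := by rw [hST, Matrix.mul_one]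
  have hP : P.trace = ((Finset.univ.filter fun x => σ x = x).card : ℂ) := by
    simp only [Matrix.trace, Matrix.diag_apply, P, Matrix.of_apply]
    rw [Finset.card_filter, Nat.cast_sum]
    refine Finset.sum_congr rfl fun x _ => ?_
    split_ifs <;> simp
  have hQ : Q.trace = ((Finset.univ.filter fun y => τ y = y).card : ℂ) := by
    simp only [Matrix.trace, Matrix.diag_apply, Q, Matrix.of_apply]
    rw [Finset.card_filter, Nat.cast_sum]
    refine Finset.sum_congr rfl fun y _ => ?_
    by_cases hy : τ y = y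
    · rw [if_pos hy.symm, if_pos hy]; simp
    · rw [if_neg (fun hh => hy hh.symm), if_neg hy]; simp
  rw [hP, hQ] at htr
  exact_mod_cast htr

/-- A representative of a conjugacy class. -/
noncomputable def classRep (C : ConjClasses G) : G := Classical.choose (ConjClasses.exists_rep C)

theorem mk_classRep (C : ConjClasses G) : ConjClasses.mk (classRep C) = C :=
  Classical.choose_spec (ConjClasses.exists_rep C)

/-- The value of an irreducible character on a conjugacy class. -/
noncomputable def irrAt (χ : IrrCharacter G) (C : ConjClasses G) : ℂ :=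
  (χ : G → ℂ) (classRep C)

theorem irr_eq_of_isConj (χ : IrrCharacter G) {g h : G} (hgh : IsConj g h) :
    (χ : G → ℂ) g = (χ : G → ℂ) h := by
  obtain ⟨c, hc⟩ := isConj_iff.1 hgh
  rw [← hc, irr_conj_apply]

theorem irrAt_mk (χ : IrrCharacter G) (g : G) : irrAt χ (ConjClasses.mk g) = (χ : G → ℂ) g := by
  unfold irrAt
  apply irr_eq_of_isConj
  rw [← ConjClasses.mk_eq_mk_iff_isConj, mk_classRep]

theorem irrAt_of_mk_eq (χ : IrrCharacter G) {g : G} {C : ConjClasses G}
    (h : ConjClasses.mk g = C) : irrAt χ C = (χ : G → ℂ) g := by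
  rw [← h, irrAt_mk]

/-- The character table, indexed by classes. -/
noncomputable def charTable (G : Type u) [Group G] : Matrix (IrrCharacter G) (ConjClasses G) ℂ :=
  Matrix.of fun χ C => irrAt χ C

/-- The inverse of the character table. -/
noncomputable def charTableInv (G : Type u) [Group G] [Fintype G] [DecidableEq (ConjClasses G)] :
    Matrix (ConjClasses G) (IrrCharacter G) ℂ :=
  Matrix.of fun C χ => (Nat.card G : ℂ)⁻¹ *
    ∑ g : G, if ConjClasses.mk g = C then (χ : G → ℂ) g⁻¹ else 0

theorem charTable_mul_inv [Fintype G] [DecidableEq (ConjClasses G)] [Fintype (ConjClasses G)]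
    [DecidableEq (IrrCharacter G)] :
    charTable G * charTableInv G = 1 := by
  have hG : (Nat.card G : ℂ) ≠ 0 := by exact_mod_cast Nat.card_pos.ne'
  ext χ ψ
  simp only [Matrix.mul_apply, charTable, charTableInv, Matrix.of_apply]
  have h1 : ∀ C : ConjClasses G, irrAt χ C * ((Nat.card G : ℂ)⁻¹ *
      ∑ g : G, if ConjClasses.mk g = C then (ψ : G → ℂ) g⁻¹ else 0) =
      (Nat.card G : ℂ)⁻¹ * ∑ g : G, if ConjClasses.mk g = C then
        (χ : G → ℂ) g * (ψ : G → ℂ) g⁻¹ else 0 := by
    intro C
    rw [mul_left_comm, Finset.mul_sum]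
    congr 1
    refine Finset.sum_congr rfl fun g _ => ?_
    split_ifs with hg
    · rw [irrAt_of_mk_eq χ hg]
    · rw [mul_zero]
  simp_rw [h1]
  rw [← Finset.mul_sum, Finset.sum_comm]
  simp only [Finset.sum_ite_eq, Finset.mem_univ, if_true]
  by_cases hχψ : χ = ψ
  · subst hχψ
    rw [irr_sum_mul_inv_self, Matrix.one_apply_eq, inv_mul_cancel₀ hG]
  · rw [irr_sum_mul_inv_of_ne χ ψ hχψ, Matrix.one_apply_ne hχψ, mul_zero]

theorem charTableInv_mul [Fintype G] [DecidableEq G] [DecidableEq (ConjClasses G)]
    [Fintype (IrrCharacter G)] :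
    charTableInv G * charTable G = 1 := by
  have hG : (Nat.card G : ℂ) ≠ 0 := by exact_mod_cast Nat.card_pos.ne'
  ext C C'
  simp only [Matrix.mul_apply, charTable, charTableInv, Matrix.of_apply]
  obtain ⟨g', rfl⟩ := ConjClasses.exists_rep C'
  simp_rw [irrAt_mk, mul_assoc, Finset.sum_mul]
  rw [← Finset.mul_sum, Finset.sum_comm]
  have h1 : ∀ g : G, ∑ χ : IrrCharacter G,
      (if ConjClasses.mk g = C then (χ : G → ℂ) g⁻¹ else 0) * (χ : G → ℂ) g' =
      if ConjClasses.mk g = C then
        ((Finset.univ.filter fun x : G => g⁻¹ * (x * g' * x⁻¹) = 1).card : ℂ) else 0 := by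
    intro g
    split_ifs with hg
    · exact sum_irr_mul g⁻¹ g'
    · simp
  simp_rw [h1]
  have h2 : ∀ g : G, (if ConjClasses.mk g = C then
        ((Finset.univ.filter fun x : G => g⁻¹ * (x * g' * x⁻¹) = 1).card : ℂ) else 0) =
      ∑ x : G, if ConjClasses.mk g = C ∧ x * g' * x⁻¹ = g then (1 : ℂ) else 0 := by
    intro g
    split_ifs with hg
    · rw [Finset.card_filter, Nat.cast_sum]
      refine Finset.sum_congr rfl fun x _ => ?_
      have : g⁻¹ * (x * g' * x⁻¹) = 1 ↔ x * g' * x⁻¹ = g := by
        rw [inv_mul_eq_one, eq_comm]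
      simp only [this, hg, true_and]
      split_ifs <;> simp
    · simp [hg]
  simp_rw [h2]
  rw [Finset.sum_comm]
  have h3 : ∀ x : G, (∑ g : G, if ConjClasses.mk g = C ∧ x * g' * x⁻¹ = g then (1 : ℂ) else 0) =
      if ConjClasses.mk g' = C then 1 else 0 := by
    intro x
    rw [Finset.sum_eq_single (x * g' * x⁻¹)]
    · have : ConjClasses.mk (x * g' * x⁻¹) = ConjClasses.mk g' := by
        rw [ConjClasses.mk_eq_mk_iff_isConj, isConj_comm, isConj_iff]
        exact ⟨x, rfl⟩
      simp only [this, and_true]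
    · intro g _ hg
      rw [if_neg]
      rintro ⟨_, h⟩
      exact hg h.symm
    · intro hh; exact absurd (Finset.mem_univ _) hh
  simp_rw [h3]
  by_cases hC : ConjClasses.mk g' = C
  · subst hC
    simp only [if_true, Finset.sum_const, Finset.card_univ, nsmul_eq_mul, mul_one,
      Matrix.one_apply_eq]
    rw [← Nat.card_eq_fintype_card, inv_mul_cancel₀ hG]
  · simp only [hC, if_false, Finset.sum_const_zero, mul_zero]
    rw [Matrix.one_apply_ne (fun h => hC h.symm)]


/-- Brauer's permutation lemma: permutations of the irreducible characters and of the conjugacy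
classes that are compatible with the character table have equally many fixed points. -/
theorem brauer_permutation [Finite G] (σ : Equiv.Perm (IrrCharacter G))
    (τ : Equiv.Perm (ConjClasses G)) (h : ∀ χ C, irrAt (σ χ) (τ C) = irrAt χ C) :
    Nat.card {χ : IrrCharacter G // σ χ = χ} = Nat.card {C : ConjClasses G // τ C = C} := by
  classical
  have : Fintype G := Fintype.ofFinite G
  have := finite_irrCharacter (G := G)
  have : Fintype (IrrCharacter G) := Fintype.ofFinite _
  have : Fintype (ConjClasses G) := Fintype.ofFinite _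
  have key := card_fixed_eq_of_table (charTable G) (charTableInv G) charTable_mul_inv
    charTableInv_mul σ τ (fun χ C => by simpa [charTable] using h χ C)
  rw [Nat.card_eq_fintype_card, Nat.card_eq_fintype_card, Fintype.card_subtype,
    Fintype.card_subtype]
  exact key

theorem card_irrCharacter_eq_card_conjClasses [Finite G] :
    Nat.card (IrrCharacter G) = Nat.card (ConjClasses G) := by
  have h := brauer_permutation (G := G) 1 1 (fun χ C => rfl)
  have e1 : {χ : IrrCharacter G // (1 : Equiv.Perm (IrrCharacter G)) χ = χ} ≃ IrrCharacter G :=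
    Equiv.subtypeUnivEquiv (fun χ => rfl)
  have e2 : {C : ConjClasses G // (1 : Equiv.Perm (ConjClasses G)) C = C} ≃ ConjClasses G :=
    Equiv.subtypeUnivEquiv (fun C => rfl)
  rw [Nat.card_congr e1, Nat.card_congr e2] at h
  exact h

end Cfsg.Agent.Lib.Helper81
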