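import Mathlib
import Cfsg.Agent.S0894
import Cfsg.Agent.Lib.Helper79.PG3
import Cfsg.Agent.Lib.Helper79.IW3
import Cfsg.Agent.Lib.Helper3.Ortho
import Cfsg.Agent.Lib.Helper80.Kernel

/-!
# AO-A: `k(G) ≤ |G| / p` when `|G'| ≥ p + 1` (for helper67, S4067)
-/

set_option autoImplicit false
set_option linter.style.haveILetI false
set_option linter.unusedVariables false
set_option linter.unusedSectionVars false

namespace Cfsg.Agent.Lib.Helper67.AO

open Cfsg

/-- (AO-A) If `|G'| ≥ p + 1`, `p` the least prime divisor of `|G|`, then `k(G) ≤ |G| / p`. -/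
theorem card_conjClasses_mul_le {G : Type*} [Group G] [Finite G]
    (hd : (Nat.card G).minFac + 1 ≤ Nat.card (commutator G)) :
    Nat.card (ConjClasses G) * (Nat.card G).minFac ≤ Nat.card G := by
  classical
  haveI : Finite (IrrCharacter G) := Cfsg.Agent.Lib.Helper3.irrCharacter_finite
  haveI : Fintype (IrrCharacter G) := Fintype.ofFinite _
  set p := (Nat.card G).minFac with hp
  have hppos : 0 < p := Nat.minFac_pos _
  have hsum := Cfsg.Agent.Lib.Helper79.sum_charDegree_sq (G := G)
  have hk : Nat.card (ConjClasses G) = Fintype.card (IrrCharacter G) := by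
    rw [← Cfsg.Agent.Lib.Helper3.card_irrCharacter, Nat.card_eq_fintype_card]
  -- linear characters
  let L : Finset (IrrCharacter G) := Finset.univ.filter (fun χ => charDegree (χ : G → ℂ) = 1)
  have hL : L.card = (commutator G).index := by
    rw [← Cfsg.Agent.S0894.card_linear, Nat.card_eq_fintype_card, Fintype.card_subtype]
    congr 1
    ext χ
    simp only [L, Finset.mem_filter, Finset.mem_univ, true_and]
    constructor
    · intro h
      rw [← Cfsg.Agent.Lib.Helper80.irr_charDegree_cast, h, Nat.cast_one]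
    · intro h
      have h2 := Cfsg.Agent.Lib.Helper80.irr_charDegree_cast χ
      rw [h] at h2
      exact_mod_cast h2
  have hdm : Nat.card (commutator G) * (commutator G).index = Nat.card G :=
    Subgroup.card_mul_index _
  -- the degree bound
  have hdeg : ∀ χ : IrrCharacter G, χ ∉ L → p ^ 2 ≤ charDegree (χ : G → ℂ) ^ 2 := by
    intro χ hχ
    have h1 : charDegree (χ : G → ℂ) ≠ 1 := fun h => hχ (Finset.mem_filter.mpr ⟨Finset.mem_univ _, h⟩)
    have h2 : 1 ≤ charDegree (χ : G → ℂ) := Cfsg.Agent.Lib.Helper79.IW.charDegree_irr_pos χ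
    have h3 : charDegree (χ : G → ℂ) ∣ Nat.card G := Cfsg.Agent.Lib.Helper79.IW.charDegree_dvd_card χ
    have h4 : p ≤ charDegree (χ : G → ℂ) := Nat.minFac_le_of_dvd (by omega) h3
    exact Nat.pow_le_pow_left h4 2
  have hsplit : ∑ χ : IrrCharacter G, charDegree (χ : G → ℂ) ^ 2
      = ∑ χ ∈ L, charDegree (χ : G → ℂ) ^ 2 + ∑ χ ∈ Finset.univ.filter (fun χ => χ ∉ L), charDegree (χ : G → ℂ) ^ 2 := by
    rw [← Finset.sum_filter_add_sum_filter_not Finset.univ (fun χ => χ ∈ L)]
    congr 1
    apply Finset.sum_congr _ (fun _ _ => rfl)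
    ext χ; simp
  have hs1 : ∑ χ ∈ L, charDegree (χ : G → ℂ) ^ 2 = L.card := by
    rw [Finset.card_eq_sum_ones]
    apply Finset.sum_congr rfl
    intro χ hχ
    rw [(Finset.mem_filter.mp hχ).2, one_pow]
  have hs2 : (Finset.univ.filter (fun χ : IrrCharacter G => χ ∉ L)).card * p ^ 2
      ≤ ∑ χ ∈ Finset.univ.filter (fun χ => χ ∉ L), charDegree (χ : G → ℂ) ^ 2 := by
    rw [← smul_eq_mul, ← Finset.sum_const]
    apply Finset.sum_le_sum
    intro χ hχ
    exact hdeg χ (Finset.mem_filter.mp hχ).2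
  have hcnt : L.card + (Finset.univ.filter (fun χ : IrrCharacter G => χ ∉ L)).card
      = Fintype.card (IrrCharacter G) := by
    rw [← Finset.card_univ (α := IrrCharacter G)]
    have := Finset.card_filter_add_card_filter_not (s := (Finset.univ : Finset (IrrCharacter G)))
      (fun χ => χ ∈ L)
    rw [← this]
    congr 2
    ext χ; simp
  rw [hk, ← hcnt]
  rw [hsplit, hs1] at hsum
  set m := L.card with hm
  set r := (Finset.univ.filter (fun χ : IrrCharacter G => χ ∉ L)).card with hr
  set n := Nat.card G with hn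
  set d := Nat.card (commutator G) with hdd
  rw [← hL] at hdm
  -- m + r * p^2 ≤ n, d * m = n, p + 1 ≤ d ⊢ (m + r) * p ≤ n
  have h5 : (p + 1) * m ≤ n := by
    rw [← hdm]; exact Nat.mul_le_mul_right m hd
  have h6 : m + r * p ^ 2 ≤ n := by
    rw [← hsum]; exact Nat.add_le_add_left hs2 m
  clear_value p m r n d
  obtain ⟨p', rfl⟩ : ∃ p', p = p' + 1 := ⟨p - 1, by omega⟩
  have h7 : p' * ((p' + 1 + 1) * m) ≤ p' * n := Nat.mul_le_mul_left p' h5
  by_contra hcon
  push Not at hcon
  have h8 : (p' + 1) * n < (p' + 1) * ((m + r) * (p' + 1)) := Nat.mul_lt_mul_of_pos_left hcon (by omega)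
  nlinarith [h6, h7, h8]

end Cfsg.Agent.Lib.Helper67.AO
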