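import Mathlib

/-!
# AO-B: a commutator subgroup of least prime order is central (for helper67, S4067)
-/

set_option autoImplicit false
set_option linter.style.haveILetI false
set_option linter.unusedVariables false
set_option linter.unusedSectionVars false

namespace Cfsg.Agent.Lib.Helper67.AO

/-- a normal subgroup whose order is the least prime divisor of `|G|` is central. -/
theorem h81_normal_le_center_of_card {G : Type*} [Group G] [Finite G] (N : Subgroup G) [N.Normal]
    (hc : Nat.card N = (Nat.card G).minFac) :
    N ≤ Subgroup.center G := by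
  classical
  by_cases h1 : Nat.card G = 1
  · rw [h1, Nat.minFac_one] at hc
    rw [Subgroup.eq_bot_of_card_eq _ hc]; exact bot_le
  have hp : (Nat.card G).minFac.Prime := Nat.minFac_prime h1
  haveI : Fact (Nat.card G).minFac.Prime := ⟨hp⟩
  haveI : IsCyclic N := isCyclic_of_prime_card hc
  let φ : G →* MulAut N := MulAut.conjNormal
  have hA : Nat.card (MulAut N) = (Nat.card G).minFac - 1 := by
    rw [IsCyclic.card_mulAut, hc, Nat.totient_prime hp]
  have hr1 : Nat.card φ.range ∣ Nat.card G := by
    rw [← Subgroup.index_ker]; exact Subgroup.index_dvd_card _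
  have hr2 : Nat.card φ.range ∣ (Nat.card G).minFac - 1 := hA ▸ Subgroup.card_subgroup_dvd_card _
  have hr : Nat.card φ.range = 1 := by
    by_contra hne
    have h2 : 2 ≤ Nat.card φ.range := by
      have := Nat.card_pos (α := φ.range); omega
    have h3 : (Nat.card G).minFac ≤ Nat.card φ.range := Nat.minFac_le_of_dvd h2 hr1
    have h4 : Nat.card φ.range ≤ (Nat.card G).minFac - 1 :=
      Nat.le_of_dvd (by have := hp.two_le; omega) hr2
    have := hp.two_le; omega
  have hbot : φ.range = ⊥ := Subgroup.eq_bot_of_card_eq _ hr
  intro x hx
  rw [Subgroup.mem_center_iff]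
  intro g
  have hg : φ g = 1 := by
    have : φ g ∈ φ.range := ⟨g, rfl⟩
    rw [hbot, Subgroup.mem_bot] at this
    exact this
  have h5 : ((φ g ⟨x, hx⟩ : N) : G) = x := by rw [hg]; rfl
  rw [MulAut.conjNormal_apply] at h5
  calc g * x = (g * x * g⁻¹) * g := by group
    _ = x * g := by rw [h5]

/-- (AO-B) a normal subgroup whose order is the least prime divisor of `|G|` is central
(here for the commutator subgroup). -/
theorem commutator_le_center_of_card {G : Type*} [Group G] [Finite G]
    (hc : Nat.card (commutator G) = (Nat.card G).minFac) :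
    commutator G ≤ Subgroup.center G :=
  h81_normal_le_center_of_card (commutator G) hc

end Cfsg.Agent.Lib.Helper67.AO
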