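import Cfsg.Agent.Lib.Helper81.Brauer
import Cfsg.Agent.Lib.Helper79.NilpM

set_option autoImplicit false
set_option linter.unusedSectionVars false
set_option linter.style.haveILetI false

/-!
# Non-linear irreducible characters of quasi-elementary groups are imprimitive
-/

namespace Cfsg.Agent.Lib.Helper81

open Cfsg Cfsg.Agent.Lib.Helper75 Cfsg.Agent.Lib.Helper79

universe u

theorem IsQuasiElem.of_surjective {p : ℕ} (hp : p.Prime) {H K : Type*} [Group H] [Group K]
    [Finite H] (h : IsQuasiElem p H) (f : H →* K) (hf : Function.Surjective f) :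
    IsQuasiElem p K := by
  obtain ⟨C, hCn, hCc, hCp, k, hk⟩ := h
  refine ⟨C.map f, hCn.map f hf, ?_, ?_, ?_⟩
  · exact isCyclic_of_surjective (f.subgroupMap C) (f.subgroupMap_surjective C)
  · have hdvd : Nat.card (C.map f) ∣ Nat.card C :=
      Subgroup.card_dvd_of_surjective (f.subgroupMap C) (f.subgroupMap_surjective C)
    exact Nat.Coprime.coprime_dvd_left hdvd hCp
  · have h1 : (C.map f).index ∣ C.index := Subgroup.index_map_dvd C hf
    rw [hk] at h1
    obtain ⟨j, _, hj⟩ := (Nat.dvd_prime_pow hp).1 h1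
    exact ⟨j, hj⟩

/-- A non-commutative quasi-elementary group has an abelian normal subgroup not contained in the
centre. -/
theorem IsQuasiElem.exists_normal_comm_not_le_center {p : ℕ} (hp : p.Prime) {H : Type*} [Group H]
    [Finite H] (h : IsQuasiElem p H) (hH : ¬ ∀ a b : H, a * b = b * a) :
    ∃ A : Subgroup H, A.Normal ∧ (∀ a ∈ A, ∀ b ∈ A, a * b = b * a) ∧
      ¬ A ≤ Subgroup.center H := by
  obtain ⟨C, hCn, hCc, hCp, k, hk⟩ := h
  by_cases hCZ : C ≤ Subgroup.center H
  · haveI : Fact p.Prime := ⟨hp⟩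
    haveI := hCn
    have hpg : IsPGroup p (H ⧸ C) := IsPGroup.of_card (n := k) (by rw [← hk]; rfl)
    haveI : Group.IsNilpotent (H ⧸ C) := hpg.isNilpotent
    haveI : Group.IsNilpotent H := by
      apply Subgroup.isNilpotent_of_ker_le_center (QuotientGroup.mk' C)
      rw [QuotientGroup.ker_mk']
      exact hCZ
    exact Cfsg.Agent.Lib.Helper79.exists_normal_comm_not_le_center hH
  · refine ⟨C, hCn, ?_, hCZ⟩
    intro a ha b hb
    haveI : IsMulCommutative C := IsCyclic.isMulCommutative
    have := mul_comm' (⟨a, ha⟩ : C) ⟨b, hb⟩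
    exact congrArg Subtype.val this

theorem imprim_aux (k : ℕ) : ∀ (H : Type u) [Group H] [Fintype H] (p : ℕ), p.Prime →
    IsQuasiElem p H → Nat.card H = k → ∀ χ : H → ℂ, IsIrrCharacter H χ → χ 1 ≠ 1 →
      ∃ K : Subgroup H, K ≠ ⊤ ∧ ∃ φ : K → ℂ, IsIrrCharacter K φ ∧ χ = indFun K φ := by
  classical
  induction k using Nat.strong_induction_on with
  | _ k ih =>
    intro G _ _ p hp hqe hk χ hχ hn1
    have hχc : IsCharacter G χ := Cfsg.Agent.Lib.Helper3.IsIrrCharacter.isCharacter hχ
    obtain ⟨n, ρ, hρ, hρχ⟩ := hχ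
    have hχ : IsIrrCharacter G χ := ⟨n, ρ, hρ, hρχ⟩
    by_cases hK : MonoidHom.ker ρ = ⊥
    · -- faithful
      have hinj : Function.Injective ρ := (MonoidHom.ker_eq_bot_iff ρ).mp hK
      have hnc : ¬ ∀ a b : G, a * b = b * a := by
        intro hc
        haveI : IsMulCommutative G := ⟨⟨hc⟩⟩
        exact hn1 (irr_one_eq_one_of_comm ⟨χ, hχ⟩)
      obtain ⟨A, hAn, hA, hAZ⟩ := hqe.exists_normal_comm_not_le_center hp hnc
      haveI := hAn
      haveI : Fintype A := Fintype.ofFinite A
      obtain ⟨θ, hθ, hne⟩ := exists_irr_constituent_restrict A hχ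
      have hcorr := clifford_correspondence A hχ hθ hne
      have hT : inertia A θ ≠ ⊤ := by
        intro hT
        apply hAZ
        subst hρχ
        have hsc := scalar_of_inertia_eq_top A hA ρ hρ hθ hne hT
        intro a ha
        rw [Subgroup.mem_center_iff]
        intro g
        apply hinj
        obtain ⟨c, hc⟩ := hsc a ha
        rw [map_mul, map_mul, hc, mul_smul_comm, smul_mul_assoc]
        congr 1
      obtain ⟨ψ, hψ, hind, -⟩ := hcorr
      exact ⟨inertia A θ, hT, ψ, hψ, hind⟩
    · -- not faithful: pass to the quotient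
      set K : Subgroup G := MonoidHom.ker ρ with hKdef
      haveI : Fintype (G ⧸ K) := Fintype.ofFinite _
      have hKχ : ∀ x ∈ K, χ x = χ 1 := by
        intro x hx
        rw [← hρχ]
        exact (rep_mem_ker_iff ρ x).mp hx
      obtain ⟨ψ, hψ, hψχ⟩ := isIrrCharacter_deflate hχ K hKχ
      have hlt : Nat.card (G ⧸ K) < k := by
        rw [← hk, Subgroup.card_eq_card_quotient_mul_card_subgroup K]
        have h1 : 1 < Nat.card K := (Subgroup.one_lt_card_iff_ne_bot K).mpr hK
        have h2 : 0 < Nat.card (G ⧸ K) := Nat.card_pos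
        nlinarith
      have hsurj : Function.Surjective (QuotientGroup.mk' K) := QuotientGroup.mk'_surjective K
      have hqe' : IsQuasiElem p (G ⧸ K) := hqe.of_surjective hp (QuotientGroup.mk' K) hsurj
      have hψ1 : ψ 1 ≠ 1 := by
        have := hψχ 1
        rw [QuotientGroup.mk_one] at this
        rw [this]
        exact hn1
      obtain ⟨Hbar, hHbar, φbar, hφbar, hψeq⟩ :=
        ih (Nat.card (G ⧸ K)) hlt (G ⧸ K) p hp hqe' rfl ψ hψ hψ1
      obtain ⟨H, hKH, rfl⟩ : ∃ H : Subgroup G, K ≤ H ∧ Hbar = H.map (QuotientGroup.mk' K) := by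
        refine ⟨Hbar.comap (QuotientGroup.mk' K), ?_,
          (Subgroup.map_comap_eq_self_of_surjective hsurj Hbar).symm⟩
        intro x hx
        rw [Subgroup.mem_comap]
        have : QuotientGroup.mk' K x = 1 := (QuotientGroup.eq_one_iff x).mpr hx
        rw [this]
        exact Subgroup.one_mem _
      refine ⟨H, ?_, fun h => φbar ((QuotientGroup.mk' K).subgroupMap H h), ?_, ?_⟩
      · intro hH
        apply hHbar
        rw [hH]
        exact Subgroup.map_top_of_surjective _ hsurj
      · exact isIrrCharacter_comp_surjective hφbar ((QuotientGroup.mk' K).subgroupMap H)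
          ((QuotientGroup.mk' K).subgroupMap_surjective H)
      · funext g
        rw [← hψχ g, hψeq]
        exact Cfsg.Agent.Lib.Helper25.indFun_inflation K H hKH _ _ (fun x => rfl) g

/-- Non-linear irreducible characters of quasi-elementary groups are induced from proper
subgroups. -/
theorem imprimHyp : ImprimHyp.{u} := by
  intro H _ _ p hp hqe ψ hψ hψ1
  exact imprim_aux (Nat.card H) H p hp hqe rfl ψ hψ hψ1

end Cfsg.Agent.Lib.Helper81
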