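import Cfsg.Agent.Lib.Helper81.HallCompl
import Cfsg.Agent.Lib.Helper81.Imprim
import Cfsg.Prelude.Def_Blocks

set_option autoImplicit false
set_option linter.unusedSectionVars false

/-!
# The span of the irreducible characters over the algebraic integers, and Brauer's
characterization over the algebraic integers
-/

namespace Cfsg.Agent.Lib.Helper81

open Cfsg
open scoped ComplexConjugate

universe u

section AlgSpan

variable (G : Type u) [Group G]

/-- The span of the irreducible characters over the ring of algebraic integers. -/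
def algSpan : Submodule AlgInt (G → ℂ) :=
  Submodule.span AlgInt (Set.range fun χ : IrrCharacter G => (χ : G → ℂ))

variable {G}

theorem algInt_smul_apply (a : AlgInt) (f : G → ℂ) (g : G) : (a • f) g = (a : ℂ) * f g := rfl

theorem irr_mem_algSpan (χ : IrrCharacter G) : (χ : G → ℂ) ∈ algSpan G :=
  Submodule.subset_span ⟨χ, rfl⟩

theorem isCharacter_mem_algSpan [Finite G] {ψ : G → ℂ} (hψ : IsCharacter G ψ) :
    ψ ∈ algSpan G := by
  classical
  have : Finite (IrrCharacter G) := Cfsg.Agent.Lib.Helper3.irrCharacter_finite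
  have : Fintype (IrrCharacter G) := Fintype.ofFinite _
  have : Fintype G := Fintype.ofFinite G
  obtain ⟨m, -, hm⟩ := Cfsg.Agent.Lib.Helper3.IsCharacter.exists_mult hψ
  rw [hm]
  apply Submodule.sum_mem
  intro χ _
  rw [Nat.cast_smul_eq_nsmul]
  exact nsmul_mem (irr_mem_algSpan χ) _

theorem complex_smul_mem_algSpan {f : G → ℂ} (hf : f ∈ algSpan G) {c : ℂ}
    (hc : IsIntegral ℤ c) : c • f ∈ algSpan G := by
  have h1 : c • f = (⟨c, hc⟩ : AlgInt) • f := rfl
  rw [h1]
  exact Submodule.smul_mem _ _ hf

/-- Multiplying by a character preserves the span. -/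
theorem mul_mem_algSpan [Finite G] {lam f : G → ℂ} (hlam : IsCharacter G lam)
    (hf : f ∈ algSpan G) : lam * f ∈ algSpan G := by
  induction hf using Submodule.span_induction with
  | mem x hx =>
    obtain ⟨χ, rfl⟩ := hx
    exact isCharacter_mem_algSpan (Cfsg.Agent.Lib.Helper3.IsCharacter.mul hlam
      (Cfsg.Agent.Lib.Helper3.IsIrrCharacter.isCharacter χ.2))
  | zero =>
    rw [mul_zero]
    exact Submodule.zero_mem _
  | add x y _ _ hx hy =>
    rw [mul_add]
    exact Submodule.add_mem _ hx hy
  | smul a x _ hx =>
    have h1 : lam * (a • x) = a • (lam * x) := by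
      funext g
      simp only [Pi.mul_apply, algInt_smul_apply]
      ring
    rw [h1]
    exact Submodule.smul_mem _ _ hx

/-- Induction maps the span into the span. -/
theorem indFun_mem_algSpan [Fintype G] (H : Subgroup G) {f : H → ℂ} (hf : f ∈ algSpan H) :
    indFun H f ∈ algSpan G := by
  induction hf using Submodule.span_induction with
  | mem x hx =>
    obtain ⟨χ, rfl⟩ := hx
    exact isCharacter_mem_algSpan (Cfsg.Agent.Lib.Helper3.isCharacter_indFun H
      (Cfsg.Agent.Lib.Helper3.IsIrrCharacter.isCharacter χ.2))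
  | zero =>
    rw [Cfsg.Agent.Lib.Helper3.indFun_zero]
    exact Submodule.zero_mem _
  | add x y _ _ hx hy =>
    rw [Cfsg.Agent.Lib.Helper3.indFun_add]
    exact Submodule.add_mem _ hx hy
  | smul a x _ hx =>
    have h1 : indFun H (a • x) = a • indFun H x := by
      have h2 : (a • x : H → ℂ) = (a : ℂ) • x := rfl
      rw [h2, Cfsg.Agent.Lib.Helper3.indFun_smul]
      rfl
    rw [h1]
    exact Submodule.smul_mem _ _ hx

/-- Inflation along a surjective homomorphism maps the span into the span. -/
theorem comp_mem_algSpan {E A : Type u} [Group E] [Group A] (φ : E →* A)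
    (hφ : Function.Surjective φ) {f : A → ℂ} (hf : f ∈ algSpan A) :
    (fun e => f (φ e)) ∈ algSpan E := by
  induction hf using Submodule.span_induction with
  | mem x hx =>
    obtain ⟨χ, rfl⟩ := hx
    exact irr_mem_algSpan ⟨_, Cfsg.Agent.Lib.Helper79.isIrrCharacter_comp_surjective χ.2 φ hφ⟩
  | zero => exact Submodule.zero_mem _
  | add x y _ _ hx hy => exact Submodule.add_mem _ hx hy
  | smul a x _ hx => exact Submodule.smul_mem _ a hx

/-- A class function whose inner products with the irreducible characters are algebraic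
integers lies in the span. -/
theorem mem_algSpan_of_classInner [Fintype G] {F : G → ℂ} (hF : IsClassFunction G F)
    (h : ∀ χ : IrrCharacter G, IsIntegral ℤ (classInner F (χ : G → ℂ))) : F ∈ algSpan G := by
  classical
  have : Finite (IrrCharacter G) := Cfsg.Agent.Lib.Helper3.irrCharacter_finite
  have : Fintype (IrrCharacter G) := Fintype.ofFinite _
  rw [Cfsg.Agent.Lib.Helper3.classFunction_eq_sum hF]
  apply Submodule.sum_mem
  intro χ _
  exact complex_smul_mem_algSpan (irr_mem_algSpan χ) (h χ)

/-- Elements of the span, written out with coefficients. -/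
theorem exists_coeff_of_mem_algSpan [Finite G] {f : G → ℂ} (hf : f ∈ algSpan G) :
    ∃ c : IrrCharacter G → ℂ, (∀ χ, c χ ∈ AlgInt) ∧
      f = ∑ᶠ χ : IrrCharacter G, c χ • (χ : G → ℂ) := by
  classical
  have : Finite (IrrCharacter G) := Cfsg.Agent.Lib.Helper3.irrCharacter_finite
  have : Fintype (IrrCharacter G) := Fintype.ofFinite _
  obtain ⟨c, hc⟩ := (Submodule.mem_span_range_iff_exists_fun AlgInt).mp hf
  refine ⟨fun χ => (c χ : ℂ), fun χ => (c χ).2, ?_⟩
  rw [finsum_eq_sum_of_fintype, ← hc]
  rfl

/-- **Brauer's characterization over the algebraic integers**: a class function whose restriction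
to every elementary subgroup is a combination of irreducible characters with algebraic integer
coefficients is such a combination itself. -/
theorem mem_algSpan_of_forall_elementary [Fintype G] {θ : G → ℂ} (hθ : IsClassFunction G θ)
    (hE : ∀ (E : Subgroup G) (p : ℕ), p.Prime → IsElementary p E →
      (fun e : E => θ e) ∈ algSpan E) : θ ∈ algSpan G := by
  classical
  have h1 : (fun _ : G => (1 : ℂ)) ∈ brauerSpan G :=
    mem_brauerSpan_of_isCharacter imprimHyp _ Cfsg.Agent.Lib.Helper3.IsCharacter.one
  have key : ∀ f ∈ brauerSpan G, f * θ ∈ algSpan G := by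
    intro f hf
    induction hf using AddSubgroup.closure_induction with
    | mem f hf =>
      obtain ⟨E, lam, ⟨p, hp, hEl⟩, rfl⟩ := hf
      rw [← Cfsg.Agent.Lib.Helper3.indFun_mul_restrict E _ hθ]
      have hlam : IsCharacter E (fun e => ((lam e : ℂˣ) : ℂ)) :=
        Cfsg.Agent.Lib.Helper3.IsIrrCharacter.isCharacter
          (Cfsg.Agent.Lib.Helper79.isIrrCharacter_of_monoidHom lam)
      exact indFun_mem_algSpan E (mul_mem_algSpan hlam (hE E p hp hEl))
    | zero =>
      rw [zero_mul]
      exact Submodule.zero_mem _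
    | add a b _ _ iha ihb =>
      rw [add_mul]
      exact Submodule.add_mem _ iha ihb
    | neg a _ iha =>
      rw [neg_mul]
      exact Submodule.neg_mem _ iha
  have h3 := key _ h1
  have h2 : (fun _ : G => (1 : ℂ)) * θ = θ := by
    funext g
    simp
  rwa [h2] at h3

end AlgSpan

section PiPart

/-- On an elementary subgroup of a group of order `m * n` (`m`, `n` coprime), the power map with
an exponent `N ≡ 1` mod `m`, `N ≡ 0` mod `n` is multiplicative. -/
theorem mul_pow_of_isElementary {G : Type*} [Group G] [Finite G] {m n N : ℕ}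
    (hmn : Nat.card G = m * n) (hcop : Nat.Coprime m n) (h1 : ∃ j : ℕ, N = 1 + m * j)
    (h0 : n ∣ N) (E : Subgroup G) {q : ℕ} (hq : q.Prime) (hE : IsElementary q E) (a b : E) :
    (a * b) ^ N = a ^ N * b ^ N := by
  obtain ⟨x₀, hx₀c, hx₀q, k, hk⟩ := id hE
  set c := (Subgroup.center E).index with hc
  have hcq : c ∣ q ^ k := by
    rw [← hk]
    exact Subgroup.index_dvd_of_le ((Subgroup.zpowers_le).2 hx₀c)
  have hqG : q ^ k ∣ m * n := by
    rw [← hmn, ← hk]
    exact ((Subgroup.zpowers x₀).index_dvd_card).trans (Subgroup.card_subgroup_dvd_card E)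
  have hN : ∃ i j : ℕ, i ≤ 1 ∧ N = i + c * j := by
    by_cases hqm : q ∣ m
    · have hqi : ¬ q ∣ n := by
        intro h
        have h2 := Nat.dvd_gcd hqm h
        rw [hcop] at h2
        exact hq.one_lt.ne' (Nat.dvd_one.mp h2)
      have h2 : Nat.Coprime (q ^ k) n :=
        Nat.Coprime.pow_left k ((Nat.Prime.coprime_iff_not_dvd hq).2 hqi)
      have h3 : q ^ k ∣ m := h2.dvd_of_dvd_mul_right hqG
      obtain ⟨j, hj⟩ := h1
      obtain ⟨t, ht⟩ := hcq.trans h3
      exact ⟨1, t * j, le_refl _, by rw [hj, ht, mul_assoc]⟩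
    · have h2 : Nat.Coprime (q ^ k) m :=
        Nat.Coprime.pow_left k ((Nat.Prime.coprime_iff_not_dvd hq).2 hqm)
      have h3 : q ^ k ∣ n := h2.dvd_of_dvd_mul_left hqG
      obtain ⟨t, ht⟩ := (hcq.trans h3).trans h0
      exact ⟨0, t, zero_le_one, by rw [ht, zero_add]⟩
  obtain ⟨i, j, hi, hNij⟩ := hN
  rw [hNij]
  exact mul_pow_of_center_index i j hi a b

end PiPart

section Section

variable {G : Type u} [Group G] [Fintype G]

open Classical in
/-- Isaacs, Lemma 8.19 in power-map form: `n` times the indicator function of the set of elements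
whose `n`-part `x ^ N` is conjugate to `g` is a combination of irreducible characters with
algebraic integer coefficients. -/
theorem section_indicator_mem_algSpan {m n N : ℕ} (hmn : Nat.card G = m * n)
    (hcop : Nat.Coprime m n) (h1 : ∃ j : ℕ, N = 1 + n * j) (h0 : m ∣ N) (g : G) :
    (fun x : G => if IsConj (x ^ N) g then (n : ℂ) else 0) ∈ algSpan G := by
  apply mem_algSpan_of_forall_elementary
  · intro x h
    have h2 : (h * x * h⁻¹) ^ N = h * x ^ N * h⁻¹ := conj_pow
    have h3 : IsConj (h * x ^ N * h⁻¹) g ↔ IsConj (x ^ N) g := by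
      constructor
      · intro hh
        exact (isConj_iff.mpr ⟨h, rfl⟩).trans hh
      · intro hh
        exact (isConj_iff.mpr ⟨h, rfl⟩).symm.trans hh
    simp only [h2, h3]
  · intro E q hq hE
    have hmn' : Nat.card G = n * m := by rw [hmn, mul_comm]
    have hmul := mul_pow_of_isElementary hmn' hcop.symm h1 h0 E hq hE
    let φ : E →* G := E.subtype.comp (MonoidHom.mk' (fun e : E => e ^ N) hmul)
    have hφ : ∀ e : E, φ e = (e : G) ^ N := fun e => by
      simp [φ]
    let F : φ.range → ℂ := fun a => if IsConj (a : G) g then (n : ℂ) else 0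
    have hFE : (fun e : E => if IsConj (((e : E) : G) ^ N) g then (n : ℂ) else 0) =
        fun e => F (φ.rangeRestrict e) := by
      funext e
      simp only [F]
      have : ((φ.rangeRestrict e : φ.range) : G) = (e : G) ^ N := hφ e
      rw [this]
    rw [hFE]
    apply comp_mem_algSpan φ.rangeRestrict φ.rangeRestrict_surjective
    have : Fintype φ.range := Fintype.ofFinite _
    apply mem_algSpan_of_classInner
    · intro a h
      simp only [F]
      have h3 : IsConj (((h * a * h⁻¹ : φ.range) : G)) g ↔ IsConj (a : G) g := by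
        have h4 : ((h * a * h⁻¹ : φ.range) : G) = (h : G) * (a : G) * (h : G)⁻¹ := rfl
        rw [h4]
        constructor
        · intro hh
          exact (isConj_iff.mpr ⟨(h : G), rfl⟩).trans hh
        · intro hh
          exact (isConj_iff.mpr ⟨(h : G), rfl⟩).symm.trans hh
      simp only [h3]
    · intro χ
      have hAcard : Nat.card φ.range ∣ n := by
        apply card_dvd_of_forall_pow_eq_one hcop.symm
        · rw [← hmn']
          exact Subgroup.card_subgroup_dvd_card _
        · rintro ⟨a, e, rfl⟩
          apply Subtype.ext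
          rw [Subgroup.coe_pow, Subgroup.coe_one]
          change (φ e) ^ n = 1
          rw [hφ, ← pow_mul]
          obtain ⟨t, ht⟩ := h0
          have h6 : m * t * n = Nat.card G * t := by rw [hmn]; ring
          rw [ht, h6, pow_mul, pow_card_eq_one', one_pow]
      obtain ⟨t, ht⟩ := hAcard
      have hA0 : (Nat.card φ.range : ℂ) ≠ 0 := by exact_mod_cast Nat.card_pos.ne'
      rw [Cfsg.Agent.Lib.Helper25.classInner_def]
      have h5 : (Nat.card φ.range : ℂ)⁻¹ * ∑ a : φ.range, F a * conj ((χ : φ.range → ℂ) a) =
          ∑ a : φ.range, if IsConj (a : G) g then (t : ℂ) * conj ((χ : φ.range → ℂ) a)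
            else 0 := by
        rw [Finset.mul_sum]
        refine Finset.sum_congr rfl fun a _ => ?_
        simp only [F]
        split_ifs
        · rw [ht]
          push_cast
          field_simp
        · simp
      rw [h5]
      apply IsIntegral.sum
      intro a _
      split_ifs
      · have h7 : IsIntegral ℤ ((t : ℕ) : ℂ) := by
          have h8 := isIntegral_algebraMap (R := ℤ) (A := ℂ) (x := (t : ℤ))
          simpa using h8
        exact h7.mul (isIntegral_conj_irr χ a)
      · exact isIntegral_zero

end Section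

end Cfsg.Agent.Lib.Helper81
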