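import Mathlib
import Cfsg.Prelude.Def_OddOrderLocal
import Cfsg.Agent.Lib.Helper32.BG142Defs
import Cfsg.Agent.Lib.Helper47.BG11e

/-!
# BG 14.2 leaf G4 (for helper32, S1430)
-/

set_option autoImplicit false
set_option linter.style.haveILetI false
set_option linter.unusedSectionVars false
set_option linter.unusedVariables false

namespace Cfsg.Agent.Lib.Helper32.BG142

open Subgroup Cfsg

universe u

variable {G : Type u} [Group G] [Finite G]

/-- LEAF G4: a subgroup of order `p ∈ σ(L)` of `L` lies in `L_σ`. -/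
theorem le_sigmaCore_of_card (hG : IsMinSimpleOddOrder G) {L X : Subgroup G} (hL : IsCoatom L)
    {p : ℕ} (hp : p ∈ sigma L) (hX : Nat.card X = p) (hXL : X ≤ L) : X ≤ sigmaCore L := by
  have hpp : p.Prime := hp.1
  haveI : Fact p.Prime := ⟨hpp⟩
  have hσ := Cfsg.Agent.Lib.Helper47.BG11.sigmaHallIn_of_coatom hG hL
  exact Cfsg.Agent.Lib.Helper47.BG11.le_sigmaCore_of_sigma hσ hp hXL
    (IsPGroup.of_card (n := 1) (by rw [hX, pow_one]))

end Cfsg.Agent.Lib.Helper32.BG142
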