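import Cfsg.Agent.S0874
import Cfsg.Agent.Lib.Helper25.Ind
import Cfsg.Agent.Lib.Helper25.CharUtil
import Cfsg.Agent.Lib.Helper3.CharOps
import Cfsg.Agent.Lib.Helper79.CliffordCorr

set_option autoImplicit false
set_option linter.unusedSectionVars false
set_option linter.style.haveILetI false

/-!
# Dade's theorem on detecting invariant characters with `p`-elementary subgroups
-/

namespace Cfsg.Agent.Lib.Helper81

open Cfsg Cfsg.Agent.Lib.Helper25
open scoped ComplexConjugate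

universe u

section Orbit

/-- A group acting on a finite set with all orbits of `p`-power size; an invariant integer weight
which is divisible by `p` at all fixed points has a sum divisible by `p`. -/
theorem dvd_sum_of_orbit_pow {Q X : Type*} [Group Q] [MulAction Q X] [Fintype X] {p : ℕ}
    (horb : ∀ x : X, ∃ k : ℕ, Nat.card (MulAction.orbit Q x) = p ^ k) (w : X → ℤ)
    (hinv : ∀ (q : Q) (x : X), w (q • x) = w x)
    (hfix : ∀ x ∈ MulAction.fixedPoints Q X, (p : ℤ) ∣ w x) : (p : ℤ) ∣ ∑ x : X, w x := by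
  classical
  have := Fintype.ofFinite (MulAction.orbitRel.Quotient Q X)
  let e := MulAction.selfEquivSigmaOrbits Q X
  have he : ∀ x : X, ((e x).2 : X) = x := fun x => rfl
  have hfin : ∀ ω : MulAction.orbitRel.Quotient Q X,
      Fintype (MulAction.orbit Q (Quotient.out ω)) := fun ω => Fintype.ofFinite _
  rw [← Equiv.sum_comp e.symm, Fintype.sum_sigma]
  refine Finset.dvd_sum fun ω _ => ?_
  have hconst : ∀ y : MulAction.orbit Q (Quotient.out ω),
      w (e.symm ⟨ω, y⟩) = w (Quotient.out ω) := by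
    intro y
    have hy : e.symm ⟨ω, y⟩ = (y : X) := by
      have := he (e.symm ⟨ω, y⟩)
      rw [Equiv.apply_symm_apply] at this
      exact this.symm
    rw [hy]
    obtain ⟨q, hq⟩ := MulAction.mem_orbit_iff.mp y.2
    rw [← hq, hinv]
  rw [Finset.sum_congr rfl (fun y _ => hconst y), Finset.sum_const, nsmul_eq_mul]
  by_cases hfx : Quotient.out ω ∈ MulAction.fixedPoints Q X
  · exact Dvd.dvd.mul_left (hfix _ hfx) _
  · apply Dvd.dvd.mul_right
    obtain ⟨k, hk⟩ := horb (Quotient.out ω)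
    rw [Finset.card_univ, ← Nat.card_eq_fintype_card, hk]
    cases k with
    | zero =>
      exfalso
      apply hfx
      rw [MulAction.mem_fixedPoints_iff_card_orbit_eq_one, ← Nat.card_eq_fintype_card, hk,
        pow_zero]
    | succ k =>
      exact_mod_cast dvd_pow_self p (Nat.succ_ne_zero k)

end Orbit

section Mackey

variable {G : Type u} [Group G] [Fintype G]

/-- Summing an induced function against a `G`-invariant function on a normal subgroup. -/
theorem sum_indFun_mul_invariant (N : Subgroup G) [hN : N.Normal] [Fintype N] (H : Subgroup G)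
    [Fintype ↥(H ⊓ N)] (ψ : H → ℂ) (f : N → ℂ) (hf : ∀ (g : G) (n : N), f ⟨g * n * g⁻¹, hN.conj_mem n n.2 g⟩ = f n) :
    ∑ n : N, indFun H ψ (n : G) * f n =
      (Nat.card G : ℂ) / (Nat.card H : ℂ) *
        ∑ x : ↥(H ⊓ N), ψ ⟨(x : G), x.2.1⟩ * f ⟨(x : G), x.2.2⟩ := by
  classical
  have h1 : ∀ g : G, ∑ n : N, extendByZero H ψ (g⁻¹ * (n : G) * g) * f n =
      ∑ n : N, extendByZero H ψ (n : G) * f n := by
    intro g
    let c : N ≃ N :=
      { toFun := fun n => ⟨g * n * g⁻¹, hN.conj_mem n n.2 g⟩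
        invFun := fun n => ⟨g⁻¹ * n * g, by
          have := hN.conj_mem n n.2 g⁻¹
          simpa using this⟩
        left_inv := fun n => by
          apply Subtype.ext
          simp only
          group
        right_inv := fun n => by
          apply Subtype.ext
          simp only
          group }
    rw [← Equiv.sum_comp c]
    refine Finset.sum_congr rfl fun n _ => ?_
    have h2 : g⁻¹ * ((c n : N) : G) * g = (n : G) := by
      change g⁻¹ * (g * n * g⁻¹) * g = n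
      group
    rw [h2]
    congr 1
    exact hf g n
  have h3 : ∑ n : N, extendByZero H ψ (n : G) * f n =
      ∑ x : ↥(H ⊓ N), ψ ⟨(x : G), x.2.1⟩ * f ⟨(x : G), x.2.2⟩ := by
    have h4 : ∑ n : N, extendByZero H ψ (n : G) * f n =
        ∑ n ∈ Finset.univ.filter (fun n : N => (n : G) ∈ H), extendByZero H ψ (n : G) * f n := by
      rw [Finset.sum_filter]
      refine Finset.sum_congr rfl fun n _ => ?_
      split_ifs with h
      · rfl
      · rw [extendByZero_of_not_mem H ψ h, zero_mul]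
    rw [h4]
    symm
    refine Finset.sum_bij (fun x _ => (⟨(x : G), x.2.2⟩ : N)) ?_ ?_ ?_ ?_
    · intro x _
      simp only [Finset.mem_filter, Finset.mem_univ, true_and]
      exact x.2.1
    · intro x _ y _ hxy
      apply Subtype.ext
      exact congrArg (fun n : N => (n : G)) hxy
    · intro n hn
      simp only [Finset.mem_filter, Finset.mem_univ, true_and] at hn
      exact ⟨⟨(n : G), hn, n.2⟩, Finset.mem_univ _, rfl⟩
    · intro x _
      simp only
      rw [extendByZero_of_mem H ψ x.2.1]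
  simp only [indFun_apply]
  have h5 : ∑ n : N, ((Nat.card H : ℂ)⁻¹ * ∑ g : G, extendByZero H ψ (g⁻¹ * (n : G) * g)) * f n =
      (Nat.card H : ℂ)⁻¹ * ∑ g : G, ∑ n : N, extendByZero H ψ (g⁻¹ * (n : G) * g) * f n := by
    rw [Finset.sum_comm, Finset.mul_sum]
    refine Finset.sum_congr rfl fun n _ => ?_
    rw [mul_assoc, Finset.sum_mul]
  rw [h5, Finset.sum_congr rfl (fun g _ => h1 g), h3, Finset.sum_const, Finset.card_univ,
    nsmul_eq_mul, ← Nat.card_eq_fintype_card]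
  ring

end Mackey

section Action

variable {G : Type u} [Group G]

/-- Conjugation by an element of `E` as an automorphism of `E ⊓ N`, for `N` normal. -/
def conjInf (E N : Subgroup G) [hN : N.Normal] (e : E) : ↥(E ⊓ N) ≃* ↥(E ⊓ N) where
  toFun x := ⟨(e : G) * x * (e : G)⁻¹,
    ⟨E.mul_mem (E.mul_mem e.2 x.2.1) (E.inv_mem e.2), hN.conj_mem x x.2.2 e⟩⟩
  invFun x := ⟨(e : G)⁻¹ * x * (e : G),
    ⟨E.mul_mem (E.mul_mem (E.inv_mem e.2) x.2.1) e.2, by
      have := hN.conj_mem x x.2.2 (e : G)⁻¹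
      simpa using this⟩⟩
  left_inv x := by
    apply Subtype.ext
    simp only
    group
  right_inv x := by
    apply Subtype.ext
    simp only
    group
  map_mul' x y := by
    apply Subtype.ext
    simp only [Subgroup.coe_mul]
    group

theorem conjInf_apply_coe (E N : Subgroup G) [hN : N.Normal] (e : E) (x : ↥(E ⊓ N)) :
    ((conjInf E N e x : ↥(E ⊓ N)) : G) = (e : G) * x * (e : G)⁻¹ := rfl

theorem conjInf_one (E N : Subgroup G) [hN : N.Normal] (x : ↥(E ⊓ N)) :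
    conjInf E N 1 x = x := by
  apply Subtype.ext
  rw [conjInf_apply_coe]
  simp

theorem conjInf_mul (E N : Subgroup G) [hN : N.Normal] (e₁ e₂ : E) (x : ↥(E ⊓ N)) :
    conjInf E N (e₁ * e₂) x = conjInf E N e₁ (conjInf E N e₂ x) := by
  apply Subtype.ext
  rw [conjInf_apply_coe, conjInf_apply_coe, conjInf_apply_coe]
  simp only [Subgroup.coe_mul]
  group

/-- The action of `E` on the irreducible characters of `E ⊓ N`. -/
@[reducible] noncomputable def irrConjAction (E N : Subgroup G) [hN : N.Normal] :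
    MulAction E (IrrCharacter ↥(E ⊓ N)) where
  smul e φ := ⟨fun x => (φ : ↥(E ⊓ N) → ℂ) (conjInf E N e⁻¹ x),
    Cfsg.Agent.Lib.Helper79.isIrrCharacter_comp_surjective φ.2 (conjInf E N e⁻¹).toMonoidHom
      (conjInf E N e⁻¹).surjective⟩
  one_smul φ := by
    apply Subtype.ext
    funext x
    change (φ : ↥(E ⊓ N) → ℂ) (conjInf E N 1⁻¹ x) = _
    rw [inv_one, conjInf_one]
  mul_smul e₁ e₂ φ := by
    apply Subtype.ext
    funext x
    change (φ : ↥(E ⊓ N) → ℂ) (conjInf E N (e₁ * e₂)⁻¹ x) =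
      (φ : ↥(E ⊓ N) → ℂ) (conjInf E N e₂⁻¹ (conjInf E N e₁⁻¹ x))
    rw [mul_inv_rev, conjInf_mul]

theorem irrConjAction_smul_apply (E N : Subgroup G) [hN : N.Normal] (e : E)
    (φ : IrrCharacter ↥(E ⊓ N)) (x : ↥(E ⊓ N)) :
    letI := irrConjAction E N
    ((e • φ : IrrCharacter ↥(E ⊓ N)) : ↥(E ⊓ N) → ℂ) x =
      (φ : ↥(E ⊓ N) → ℂ) (conjInf E N e⁻¹ x) := rfl

end Action

section Invariant

variable {G : Type u} [Group G] [Fintype G]

theorem card_orbit_irrConjAction (p : ℕ) (hp : p.Prime) (E N : Subgroup G) [hN : N.Normal]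
    (hind : ∃ k : ℕ, N.index = p ^ k) (φ : IrrCharacter ↥(E ⊓ N)) :
    letI := irrConjAction E N
    ∃ j : ℕ, Nat.card (MulAction.orbit E φ) = p ^ j := by
  letI := irrConjAction E N
  obtain ⟨k, hk⟩ := hind
  have h1 : Nat.card (MulAction.orbit E φ) = (MulAction.stabilizer E φ).index :=
    (MulAction.index_stabilizer E φ).symm
  have h2 : (E ⊓ N).subgroupOf E ≤ MulAction.stabilizer E φ := by
    intro d hd
    rw [MulAction.mem_stabilizer_iff]
    apply Subtype.ext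
    funext x
    rw [irrConjAction_smul_apply]
    have hd' : ((d : G))⁻¹ ∈ E ⊓ N := (E ⊓ N).inv_mem (Subgroup.mem_subgroupOf.mp hd)
    have h3 : conjInf E N d⁻¹ x =
        (⟨(d : G)⁻¹, hd'⟩ : ↥(E ⊓ N)) * x * (⟨(d : G)⁻¹, hd'⟩ : ↥(E ⊓ N))⁻¹ := by
      apply Subtype.ext
      rw [conjInf_apply_coe]
      simp
    rw [h3]
    exact (Cfsg.Agent.Lib.Helper3.IsCharacter.isClassFunction
      (Cfsg.Agent.Lib.Helper3.IsIrrCharacter.isCharacter φ.2)) x _
  have h3 : (MulAction.stabilizer E φ).index ∣ ((E ⊓ N).subgroupOf E).index :=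
    Subgroup.index_dvd_of_le h2
  have h4 : ((E ⊓ N).subgroupOf E).index = N.relIndex E := Subgroup.inf_relIndex_left E N
  have h5 : N.relIndex E ∣ p ^ k := hk ▸ Subgroup.relIndex_dvd_index_of_normal N E
  rw [h4] at h3
  obtain ⟨j, _, hj⟩ := (Nat.dvd_prime_pow hp).1 (h3.trans h5)
  exact ⟨j, by rw [h1, hj]⟩

theorem exists_invariant_constituent (p : ℕ) (hp : p.Prime) (E N : Subgroup G) [hN : N.Normal]
    (hind : ∃ k : ℕ, N.index = p ^ k) [Fintype ↥(E ⊓ N)] {a b : ↥(E ⊓ N) → ℂ}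
    (ha : IsCharacter ↥(E ⊓ N) a) (hb : IsCharacter ↥(E ⊓ N) b)
    (hainv : ∀ (e : E) (x : ↥(E ⊓ N)), a (conjInf E N e x) = a x)
    (hbinv : ∀ (e : E) (x : ↥(E ⊓ N)), b (conjInf E N e x) = b x)
    (J : ℕ) (hJ : classInner a b = (J : ℂ)) (hpJ : ¬ p ∣ J) :
    ∃ φ : IrrCharacter ↥(E ⊓ N),
      (∀ (e : E) (x : ↥(E ⊓ N)), (φ : ↥(E ⊓ N) → ℂ) (conjInf E N e x) = (φ : ↥(E ⊓ N) → ℂ) x) ∧
      ∃ m : ℕ, ¬ p ∣ m ∧ classInner b (φ : ↥(E ⊓ N) → ℂ) = (m : ℂ) := by
  classical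
  letI := irrConjAction E N
  have : Finite (IrrCharacter ↥(E ⊓ N)) := Cfsg.Agent.Lib.Helper3.irrCharacter_finite
  have : Fintype (IrrCharacter ↥(E ⊓ N)) := Fintype.ofFinite _
  obtain ⟨eb, heb, hbsum⟩ := Cfsg.Agent.Lib.Helper3.IsCharacter.exists_mult hb
  obtain ⟨fa, hfa, -⟩ := Cfsg.Agent.Lib.Helper3.IsCharacter.exists_mult ha
  have hJsum : (J : ℤ) = ∑ φ : IrrCharacter ↥(E ⊓ N), (fa φ : ℤ) * (eb φ : ℤ) := by
    have h1 : (J : ℂ) = ∑ φ : IrrCharacter ↥(E ⊓ N), (fa φ : ℂ) * (eb φ : ℂ) := by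
      rw [← hJ]
      have h2 : classInner a b = classInner a
          (∑ ψ : IrrCharacter ↥(E ⊓ N), (eb ψ : ℂ) • (ψ : ↥(E ⊓ N) → ℂ)) := by
        rw [← hbsum]
      rw [h2, Cfsg.Agent.Lib.Helper25.classInner_sum_right]
      refine Finset.sum_congr rfl fun φ _ => ?_
      rw [Cfsg.Agent.Lib.Helper25.classInner_smul_right, hfa φ]
      simp only [map_natCast]
      ring
    exact_mod_cast h1
  -- invariance of the multiplicities
  have hsmul_comp : ∀ (e : E) (φ : IrrCharacter ↥(E ⊓ N)) (x : ↥(E ⊓ N)),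
      ((e • φ : IrrCharacter ↥(E ⊓ N)) : ↥(E ⊓ N) → ℂ) (conjInf E N e x) =
        (φ : ↥(E ⊓ N) → ℂ) x := by
    intro e φ x
    rw [irrConjAction_smul_apply, ← conjInf_mul, inv_mul_cancel, conjInf_one]
  have hinv_gen : ∀ (c : ↥(E ⊓ N) → ℂ), (∀ (e : E) (x : ↥(E ⊓ N)), c (conjInf E N e x) = c x) →
      ∀ (e : E) (φ : IrrCharacter ↥(E ⊓ N)),
        classInner c ((e • φ : IrrCharacter ↥(E ⊓ N)) : ↥(E ⊓ N) → ℂ) =
          classInner c (φ : ↥(E ⊓ N) → ℂ) := by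
    intro c hc e φ
    have h1 := Cfsg.Agent.Lib.Helper79.classInner_comp_mulEquiv (conjInf E N e) c
      ((e • φ : IrrCharacter ↥(E ⊓ N)) : ↥(E ⊓ N) → ℂ)
    rw [← h1]
    congr 1
    · funext x
      exact hc e x
    · funext x
      exact hsmul_comp e φ x
  have hinvb : ∀ (e : E) (φ : IrrCharacter ↥(E ⊓ N)), eb (e • φ) = eb φ := by
    intro e φ
    have h1 := hinv_gen b hbinv e φ
    rw [heb, heb] at h1
    exact_mod_cast h1
  have hinva : ∀ (e : E) (φ : IrrCharacter ↥(E ⊓ N)), fa (e • φ) = fa φ := by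
    intro e φ
    have h1 := hinv_gen a hainv e φ
    rw [hfa, hfa] at h1
    exact_mod_cast h1
  by_contra hcon
  push Not at hcon
  apply hpJ
  have hdvd : (p : ℤ) ∣ ∑ φ : IrrCharacter ↥(E ⊓ N), (fa φ : ℤ) * (eb φ : ℤ) := by
    apply dvd_sum_of_orbit_pow (fun φ => card_orbit_irrConjAction p hp E N hind φ)
    · intro e φ
      rw [hinva, hinvb]
    · intro φ hφ
      have hfix : ∀ (e : E) (x : ↥(E ⊓ N)),
          (φ : ↥(E ⊓ N) → ℂ) (conjInf E N e x) = (φ : ↥(E ⊓ N) → ℂ) x := by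
        intro e x
        have h1 : e • φ = φ := hφ e
        have h2 := hsmul_comp e φ x
        rw [h1] at h2
        exact h2
      have h3 : p ∣ eb φ := by
        by_contra h
        exact hcon φ hfix (eb φ) h (heb φ)
      exact Dvd.dvd.mul_left (Int.natCast_dvd_natCast.mpr h3) _
  rw [← hJsum] at hdvd
  exact Int.natCast_dvd_natCast.mp hdvd

end Invariant

section Main

variable {G : Type u} [Group G] [Fintype G]

theorem card_inf_mul_relIndex (E N : Subgroup G) :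
    Nat.card ↥(E ⊓ N) * N.relIndex E = Nat.card E := by
  have h := ((E ⊓ N).subgroupOf E).card_mul_index
  rw [Nat.card_congr (Subgroup.subgroupOfEquivOfLe (inf_le_left : E ⊓ N ≤ E)).toEquiv] at h
  have h2 : ((E ⊓ N).subgroupOf E).index = N.relIndex E := Subgroup.inf_relIndex_left E N
  rw [h2] at h
  exact h

theorem classInner_indFun_mul_invariant (N : Subgroup G) [hN : N.Normal] [Fintype N]
    (E : Subgroup G) [Fintype ↥(E ⊓ N)] (ψ : E → ℂ) (ϑ : N → ℂ)
    (hinv : ∀ (g : G) (n : N), ϑ ⟨g * n * g⁻¹, hN.conj_mem (n : G) n.2 g⟩ = ϑ n) :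
    classInner (fun n : N => indFun E ψ (n : G) * ϑ n) ϑ * (N.relIndex E : ℂ) =
      (N.index : ℂ) * classInner (fun x : ↥(E ⊓ N) => ψ ⟨(x : G), x.2.1⟩ * ϑ ⟨(x : G), x.2.2⟩)
        (fun x : ↥(E ⊓ N) => ϑ ⟨(x : G), x.2.2⟩) := by
  have h1 := sum_indFun_mul_invariant N E ψ (fun n => ϑ n * conj (ϑ n)) (fun g n => by
    simp only [hinv g n])
  have hN0 : (Nat.card N : ℂ) ≠ 0 := by exact_mod_cast Nat.card_pos.ne'
  have hE0 : (Nat.card E : ℂ) ≠ 0 := by exact_mod_cast Nat.card_pos.ne'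
  have hD0 : (Nat.card ↥(E ⊓ N) : ℂ) ≠ 0 := by exact_mod_cast Nat.card_pos.ne'
  have hG : (Nat.card G : ℂ) = (Nat.card N : ℂ) * (N.index : ℂ) := by
    exact_mod_cast N.card_mul_index.symm
  have hE : (Nat.card E : ℂ) = (Nat.card ↥(E ⊓ N) : ℂ) * (N.relIndex E : ℂ) := by
    exact_mod_cast (card_inf_mul_relIndex E N).symm
  have hr0 : (N.relIndex E : ℂ) ≠ 0 := by
    intro h0
    rw [h0, mul_zero] at hE
    exact hE0 hE
  rw [classInner_def, classInner_def]
  have h2 : ∑ n : N, indFun E ψ (n : G) * ϑ n * conj (ϑ n) =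
      ∑ n : N, indFun E ψ (n : G) * (ϑ n * conj (ϑ n)) :=
    Finset.sum_congr rfl fun n _ => by ring
  have h3 : ∑ x : ↥(E ⊓ N), ψ ⟨(x : G), x.2.1⟩ * ϑ ⟨(x : G), x.2.2⟩ * conj (ϑ ⟨(x : G), x.2.2⟩) =
      ∑ x : ↥(E ⊓ N), ψ ⟨(x : G), x.2.1⟩ * (ϑ ⟨(x : G), x.2.2⟩ * conj (ϑ ⟨(x : G), x.2.2⟩)) :=
    Finset.sum_congr rfl fun n _ => by ring
  rw [h2, h1, h3, hG, hE]
  field_simp

/-- **Dade's theorem**: detecting an invariant character with a `p`-elementary subgroup. -/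
theorem dade_elementary (p : ℕ) (hp : p.Prime) (N : Subgroup G) [hN : N.Normal]
    (hind : ∃ k : ℕ, N.index = p ^ k) (ϑ : N → ℂ) (hϑ : IsIrrCharacter N ϑ)
    (hinv : ∀ (g : G) (n : N), ϑ ⟨g * n * g⁻¹, hN.conj_mem (n : G) n.2 g⟩ = ϑ n) :
    ∃ (E : Subgroup G) (φ : IrrCharacter ↥(E ⊓ N)), IsElementary p E ∧ E ⊔ N = ⊤ ∧
      (∀ (e : E) (x : ↥(E ⊓ N)),
        (φ : ↥(E ⊓ N) → ℂ) (conjInf E N e x) = (φ : ↥(E ⊓ N) → ℂ) x) ∧
      ∃ m : ℕ, ¬ p ∣ m ∧ ∀ [Fintype ↥(E ⊓ N)],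
        classInner (fun x : ↥(E ⊓ N) => ϑ ⟨(x : G), x.2.2⟩) (φ : ↥(E ⊓ N) → ℂ) = (m : ℂ) := by
  classical
  have : Fintype N := Fintype.ofFinite N
  have hϑc : IsCharacter N ϑ := Cfsg.Agent.Lib.Helper3.IsIrrCharacter.isCharacter hϑ
  obtain ⟨m, l, hm, hl, hsum⟩ := Cfsg.Agent.S0874.result (G := G) p hp
  obtain ⟨k, hk⟩ := id hind
  -- the linear functional
  let Φ : (G → ℂ) →+ ℂ :=
    { toFun := fun F => classInner (fun n : N => F (n : G) * ϑ n) ϑ
      map_zero' := by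
        simp [classInner_def]
      map_add' := fun F₁ F₂ => by
        simp only [classInner_def, Pi.add_apply, add_mul, Finset.sum_add_distrib, mul_add] }
  have hΦ : ∀ F : G → ℂ, Φ F = classInner (fun n : N => F (n : G) * ϑ n) ϑ := fun F => rfl
  have hΦsmul : ∀ (c : ℂ) (F : G → ℂ), Φ (c • F) = c * Φ F := by
    intro c F
    rw [hΦ, hΦ]
    have : (fun n : N => (c • F) (n : G) * ϑ n) = c • (fun n : N => F (n : G) * ϑ n) := by
      funext n
      simp only [Pi.smul_apply, smul_eq_mul]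
      ring
    rw [this, classInner_smul_left]
  have hΦm : Φ (fun _ : G => (m : ℂ)) = (m : ℂ) := by
    rw [hΦ]
    have : (fun n : N => (m : ℂ) * ϑ n) = (m : ℂ) • ϑ := rfl
    rw [this, classInner_smul_left]
    have h1 := Cfsg.Agent.Lib.Helper3.classInner_irr hϑ hϑ
    rw [if_pos rfl] at h1
    rw [h1, mul_one]
  -- the natural numbers
  have hterm : ∀ t ∈ l, ∃ (r J : ℕ), Φ (indFun t.1 t.2.1) = (r : ℂ) * (J : ℂ) ∧
      r * N.relIndex t.1 = N.index ∧ ∀ [Fintype ↥(t.1 ⊓ N)],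
      classInner (fun x : ↥(t.1 ⊓ N) => t.2.1 ⟨(x : G), x.2.1⟩ * ϑ ⟨(x : G), x.2.2⟩)
        (fun x : ↥(t.1 ⊓ N) => ϑ ⟨(x : G), x.2.2⟩) = (J : ℂ) := by
    intro t ht
    obtain ⟨-, hψ⟩ := hl t ht
    have : Fintype ↥(t.1 ⊓ N) := Fintype.ofFinite _
    have hc1 : IsCharacter ↥(t.1 ⊓ N) (fun x : ↥(t.1 ⊓ N) => ϑ ⟨(x : G), x.2.2⟩) :=
      Cfsg.Agent.Lib.Helper79.isCharacter_comp hϑc
        (Subgroup.inclusion (inf_le_right : t.1 ⊓ N ≤ N))
    have hc2 : IsCharacter ↥(t.1 ⊓ N) (fun x : ↥(t.1 ⊓ N) => t.2.1 ⟨(x : G), x.2.1⟩) :=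
      Cfsg.Agent.Lib.Helper79.isCharacter_comp hψ
        (Subgroup.inclusion (inf_le_left : t.1 ⊓ N ≤ t.1))
    obtain ⟨J, hJ⟩ := classInner_char_nat (Cfsg.Agent.Lib.Helper3.IsCharacter.mul hc2 hc1) hc1
    obtain ⟨r, hr⟩ := Subgroup.relIndex_dvd_index_of_normal N t.1
    refine ⟨r, J, ?_, by rw [hr, mul_comm], ?_⟩
    · have h1 := classInner_indFun_mul_invariant N t.1 t.2.1 ϑ hinv
      have h2 : classInner (fun x : ↥(t.1 ⊓ N) => t.2.1 ⟨(x : G), x.2.1⟩ * ϑ ⟨(x : G), x.2.2⟩)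
          (fun x : ↥(t.1 ⊓ N) => ϑ ⟨(x : G), x.2.2⟩) = (J : ℂ) := hJ
      rw [h2, hr] at h1
      have hr0 : (N.relIndex t.1 : ℂ) ≠ 0 := by
        intro h0
        have h3 : N.relIndex t.1 = 0 := by exact_mod_cast h0
        rw [h3, zero_mul] at hr
        exact Subgroup.index_ne_zero_of_finite hr
      rw [hΦ]
      push_cast at h1
      have h4 : classInner (fun n : N => indFun t.1 t.2.1 (n : G) * ϑ n) ϑ * (N.relIndex t.1 : ℂ) =
          ((r : ℂ) * (J : ℂ)) * (N.relIndex t.1 : ℂ) := by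
        rw [h1]
        ring
      exact mul_right_cancel₀ hr0 h4
    · intro inst
      have h5 : inst = this := Subsingleton.elim _ _
      subst h5
      exact hJ
  -- the sum
  have hmsum : (m : ℂ) = (l.map fun t => (t.2.2 : ℂ) * Φ (indFun t.1 t.2.1)).sum := by
    rw [← hΦm, hsum, map_list_sum, List.map_map]
    congr 1
    apply List.map_congr_left
    intro t _
    simp only [Function.comp_apply, hΦsmul]
  -- find a term not divisible by p
  have hex : ∃ t ∈ l, ∀ r J : ℕ, Φ (indFun t.1 t.2.1) = (r : ℂ) * (J : ℂ) →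
      ¬ (p : ℤ) ∣ t.2.2 * (r : ℤ) * (J : ℤ) := by
    by_contra hcon
    push Not at hcon
    apply hm
    choose! r J hrJ using hcon
    have h1 : (m : ℂ) = ((l.map fun t => t.2.2 * (r t : ℤ) * (J t : ℤ)).sum : ℤ) := by
      rw [hmsum]
      push_cast
      rw [List.map_map]
      congr 1
      apply List.map_congr_left
      intro t ht
      simp only [Function.comp_apply]
      rw [(hrJ t ht).1]
      push_cast
      ring
    have h2 : m = (l.map fun t => t.2.2 * (r t : ℤ) * (J t : ℤ)).sum := by exact_mod_cast h1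
    rw [h2]
    apply List.dvd_sum
    intro z hz
    obtain ⟨t, ht, rfl⟩ := List.mem_map.mp hz
    exact (hrJ t ht).2
  obtain ⟨t, ht, hnd⟩ := hex
  obtain ⟨r, J, hΦt, hr, hJ⟩ := hterm t ht
  have hnd' := hnd r J hΦt
  have hpr : ¬ p ∣ r := by
    intro h
    apply hnd'
    exact Dvd.dvd.mul_right (Dvd.dvd.mul_left (Int.natCast_dvd_natCast.mpr h) _) _
  have hpJ : ¬ p ∣ J := by
    intro h
    apply hnd'
    exact Dvd.dvd.mul_left (Int.natCast_dvd_natCast.mpr h) _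
  obtain ⟨hEl, hψ⟩ := hl t ht
  -- `r = 1`
  have hr1 : r = 1 := by
    have h1 : r ∣ p ^ k := by
      rw [← hk, ← hr]
      exact dvd_mul_right _ _
    obtain ⟨j, _, hj⟩ := (Nat.dvd_prime_pow hp).1 h1
    cases j with
    | zero => simpa using hj
    | succ j =>
      exfalso
      apply hpr
      rw [hj]
      exact dvd_pow_self p (Nat.succ_ne_zero j)
  have hsup : t.1 ⊔ N = ⊤ := by
    rw [hr1, one_mul] at hr
    have h1 : N.relIndex (t.1 ⊔ N) = N.index := by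
      rw [Subgroup.relIndex_sup_right, hr]
    have h2 := Subgroup.relIndex_mul_index (le_sup_right : N ≤ t.1 ⊔ N)
    rw [h1] at h2
    have h3 : (t.1 ⊔ N).index = 1 := by
      have h4 : N.index ≠ 0 := Subgroup.index_ne_zero_of_finite
      have h5 : N.index * (t.1 ⊔ N).index = N.index * 1 := by rw [h2, mul_one]
      exact Nat.eq_of_mul_eq_mul_left (Nat.pos_of_ne_zero h4) h5
    exact Subgroup.index_eq_one.mp h3
  -- the invariant constituent
  have : Fintype ↥(t.1 ⊓ N) := Fintype.ofFinite _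
  have hc1 : IsCharacter ↥(t.1 ⊓ N) (fun x : ↥(t.1 ⊓ N) => ϑ ⟨(x : G), x.2.2⟩) :=
    Cfsg.Agent.Lib.Helper79.isCharacter_comp hϑc
      (Subgroup.inclusion (inf_le_right : t.1 ⊓ N ≤ N))
  have hc2 : IsCharacter ↥(t.1 ⊓ N) (fun x : ↥(t.1 ⊓ N) => t.2.1 ⟨(x : G), x.2.1⟩) :=
    Cfsg.Agent.Lib.Helper79.isCharacter_comp hψ
      (Subgroup.inclusion (inf_le_left : t.1 ⊓ N ≤ t.1))
  have hbinv : ∀ (e : t.1) (x : ↥(t.1 ⊓ N)),
      (fun x : ↥(t.1 ⊓ N) => ϑ ⟨(x : G), x.2.2⟩) (conjInf t.1 N e x) =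
        (fun x : ↥(t.1 ⊓ N) => ϑ ⟨(x : G), x.2.2⟩) x := by
    intro e x
    exact hinv (e : G) ⟨(x : G), x.2.2⟩
  have hψinv : ∀ (e : t.1) (x : ↥(t.1 ⊓ N)),
      (fun x : ↥(t.1 ⊓ N) => t.2.1 ⟨(x : G), x.2.1⟩) (conjInf t.1 N e x) =
        (fun x : ↥(t.1 ⊓ N) => t.2.1 ⟨(x : G), x.2.1⟩) x := by
    intro e x
    have h1 := (Cfsg.Agent.Lib.Helper3.IsCharacter.isClassFunction hψ) ⟨(x : G), x.2.1⟩ e
    exact h1
  have hainv : ∀ (e : t.1) (x : ↥(t.1 ⊓ N)),
      ((fun x : ↥(t.1 ⊓ N) => t.2.1 ⟨(x : G), x.2.1⟩) *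
        (fun x : ↥(t.1 ⊓ N) => ϑ ⟨(x : G), x.2.2⟩)) (conjInf t.1 N e x) =
      ((fun x : ↥(t.1 ⊓ N) => t.2.1 ⟨(x : G), x.2.1⟩) *
        (fun x : ↥(t.1 ⊓ N) => ϑ ⟨(x : G), x.2.2⟩)) x := by
    intro e x
    have h1 := hbinv e x
    have h2 := hψinv e x
    simp only [Pi.mul_apply] at h1 h2 ⊢
    rw [h1, h2]
  obtain ⟨φ, hφinv, m', hm', hφm⟩ := exists_invariant_constituent p hp t.1 N hind
    (Cfsg.Agent.Lib.Helper3.IsCharacter.mul hc2 hc1) hc1 hainv hbinv J hJ hpJ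
  refine ⟨t.1, φ, hEl, hsup, hφinv, m', hm', ?_⟩
  intro inst
  have h5 : inst = this := Subsingleton.elim _ _
  subst h5
  exact hφm

end Main

end Cfsg.Agent.Lib.Helper81
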