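import Mathlib
import Cfsg.Agent.Lib.Helper70.AltSixInv
import Cfsg.Agent.Lib.Helper53.RuD8

/-!
# The centralizer of an involution of the alternating group of degree six
-/

set_option autoImplicit false
set_option linter.unusedSectionVars false
set_option linter.unusedVariables false
set_option linter.style.haveILetI false

namespace Cfsg.Agent.Lib.Helper81.DE

open Equiv Equiv.Perm Subgroup Cfsg.Agent.Lib.Helper70

/-- the standard involution `(0 1)(2 3)` of the alternating group -/
def altX0 : alternatingGroup (Fin 6) := ⟨asT0, mem_alternatingGroup.mpr asT0_props.1⟩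

theorem altA_props : sign (swap (0 : Fin 6) 2 * swap 1 3) = 1 ∧
    (swap (0 : Fin 6) 2 * swap 1 3) * asT0 = asT0 * (swap (0 : Fin 6) 2 * swap 1 3) ∧
    (swap (0 : Fin 6) 2 * swap 1 3) * (swap (0 : Fin 6) 2 * swap 1 3) = 1 ∧
    (swap (0 : Fin 6) 2 * swap 1 3) ≠ 1 := by
  decide +kernel

theorem altB_props : sign (swap (0 : Fin 6) 1 * swap 4 5) = 1 ∧
    (swap (0 : Fin 6) 1 * swap 4 5) * asT0 = asT0 * (swap (0 : Fin 6) 1 * swap 4 5) ∧
    (swap (0 : Fin 6) 1 * swap 4 5) * (swap (0 : Fin 6) 1 * swap 4 5) = 1 ∧
    (swap (0 : Fin 6) 1 * swap 4 5) ≠ 1 := by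
  decide +kernel

theorem altAB_props : (swap (0 : Fin 6) 2 * swap 1 3) * (swap (0 : Fin 6) 1 * swap 4 5) ≠
    (swap (0 : Fin 6) 1 * swap 4 5) * (swap (0 : Fin 6) 2 * swap 1 3) ∧
    (swap (0 : Fin 6) 2 * swap 1 3) ≠ (swap (0 : Fin 6) 1 * swap 4 5) := by
  decide +kernel

/-- an element of the centralizer of the standard involution from a permutation -/
def altMk (g : Perm (Fin 6)) (h1 : sign g = 1) (h2 : g * asT0 = asT0 * g) :
    centralizer ({altX0} : Set (alternatingGroup (Fin 6))) :=
  ⟨⟨g, mem_alternatingGroup.mpr h1⟩, by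
    rw [mem_centralizer_singleton_iff]
    apply Subtype.ext
    exact h2⟩

theorem altMk_val (g : Perm (Fin 6)) (h1 : sign g = 1) (h2 : g * asT0 = asT0 * g) :
    ((altMk g h1 h2 : alternatingGroup (Fin 6)) : Perm (Fin 6)) = g := rfl

theorem altX0_centralizer_card :
    Nat.card (centralizer ({altX0} : Set (alternatingGroup (Fin 6)))) = 8 := by
  rw [← as_c1, ← as_card_subtype_eq (fun g => g * asT0 = asT0 * g)]
  apply Nat.card_congr
  refine Equiv.subtypeEquivRight ?_
  intro g
  rw [mem_centralizer_singleton_iff]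
  constructor
  · intro h
    exact congrArg Subtype.val h
  · intro h
    exact Subtype.ext h

theorem altX0_centralizer_dihedral :
    Nonempty (centralizer ({altX0} : Set (alternatingGroup (Fin 6))) ≃* DihedralGroup 4) := by
  have hinj : ∀ x y : centralizer ({altX0} : Set (alternatingGroup (Fin 6))),
      ((x : alternatingGroup (Fin 6)) : Perm (Fin 6)) = ((y : alternatingGroup (Fin 6)) : Perm (Fin 6)) →
      x = y := fun x y h => Subtype.ext (Subtype.ext h)
  refine Cfsg.Agent.Lib.Helper53.dihedral_of_card_eight altX0_centralizer_card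
    ⟨altMk _ altA_props.1 altA_props.2.1, altMk _ altB_props.1 altB_props.2.1, ?_⟩
    (altMk _ altA_props.1 altA_props.2.1) (altMk _ altB_props.1 altB_props.2.1) ?_ ?_ ?_ ?_ ?_
  · intro h
    have := congrArg (fun x : centralizer ({altX0} : Set (alternatingGroup (Fin 6))) =>
      ((x : alternatingGroup (Fin 6)) : Perm (Fin 6))) h
    exact altAB_props.1 this
  · apply hinj
    exact altA_props.2.2.1
  · apply hinj
    exact altB_props.2.2.1
  · intro h
    have := congrArg (fun x : centralizer ({altX0} : Set (alternatingGroup (Fin 6))) =>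
      ((x : alternatingGroup (Fin 6)) : Perm (Fin 6))) h
    exact altA_props.2.2.2 this
  · intro h
    have := congrArg (fun x : centralizer ({altX0} : Set (alternatingGroup (Fin 6))) =>
      ((x : alternatingGroup (Fin 6)) : Perm (Fin 6))) h
    exact altB_props.2.2.2 this
  · intro h
    have := congrArg (fun x : centralizer ({altX0} : Set (alternatingGroup (Fin 6))) =>
      ((x : alternatingGroup (Fin 6)) : Perm (Fin 6))) h
    exact altAB_props.2 this

/-- The centralizer of an involution of `A_6` is dihedral of order eight. -/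
theorem alt6_centralizer_dihedral (αt : alternatingGroup (Fin 6)) (hαt : orderOf αt = 2) :
    Nonempty (centralizer ({αt} : Set (alternatingGroup (Fin 6))) ≃* DihedralGroup 4) := by
  have hs : sign αt.1 = 1 := mem_alternatingGroup.mp αt.2
  have h2' : αt * αt = 1 := by
    have := pow_orderOf_eq_one αt
    rw [hαt, pow_two] at this
    exact this
  have h2 : αt.1 * αt.1 = 1 := congrArg Subtype.val h2'
  have h1 : αt.1 ≠ 1 := by
    intro h
    have : αt = 1 := Subtype.ext h
    rw [this, orderOf_one] at hαt
    omega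
  obtain ⟨c, hc⟩ := as_conj hs h2 h1
  let φ : alternatingGroup (Fin 6) ≃* alternatingGroup (Fin 6) := MulAut.conjNormal c
  have hφ : φ altX0 = αt := by
    apply Subtype.ext
    show ((MulAut.conjNormal c altX0 : alternatingGroup (Fin 6)) : Perm (Fin 6)) = αt.1
    rw [MulAut.conjNormal_apply]
    exact hc.symm
  have hmap : (centralizer ({altX0} : Set (alternatingGroup (Fin 6)))).map
      (φ : alternatingGroup (Fin 6) →* alternatingGroup (Fin 6)) =
      centralizer ({αt} : Set (alternatingGroup (Fin 6))) := by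
    ext g
    rw [Subgroup.mem_map]
    constructor
    · rintro ⟨y, hy, rfl⟩
      rw [mem_centralizer_singleton_iff] at hy ⊢
      rw [← hφ]
      show φ y * φ altX0 = φ altX0 * φ y
      rw [← map_mul, ← map_mul, hy]
    · intro hg
      refine ⟨φ.symm g, ?_, φ.apply_symm_apply g⟩
      rw [mem_centralizer_singleton_iff] at hg ⊢
      apply φ.injective
      rw [map_mul, map_mul, φ.apply_symm_apply, hφ]
      exact hg
  obtain ⟨e0⟩ := altX0_centralizer_dihedral
  exact ⟨((MulEquiv.subgroupCongr hmap).symm.trans
    (φ.subgroupMap (centralizer ({altX0} : Set (alternatingGroup (Fin 6))))).symm).trans e0⟩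

end Cfsg.Agent.Lib.Helper81.DE
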