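import Mathlib
import Cfsg.Prelude.Def_GeometricClasses
import Cfsg.Agent.Lib.Helper81.EsDefs

/-!
# Es hive (S5877): ES-R2a `exists_step`
-/

set_option autoImplicit false
set_option linter.style.haveILetI false
set_option linter.unusedVariables false
set_option linter.unusedSectionVars false

namespace Cfsg.Agent.Lib.Helper81.Es

open scoped MatrixGroups

variable {F : Type*} [Field F] {n : ℕ}

theorem r2a_pow_conj_mem {R : Subgroup (GL (Fin n) F)} (g : GL (Fin n) F)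
    (hgR : ∀ a ∈ R, g * a * g⁻¹ ∈ R) (i : ℕ) :
    ∀ h ∈ R, g ^ i * h * (g ^ i)⁻¹ ∈ R := by
  induction i with
  | zero => intro h hh; simpa using hh
  | succ k ih =>
    intro h hh
    have h2 := hgR _ (ih h hh)
    have : g ^ (k + 1) * h * (g ^ (k + 1))⁻¹ = g * (g ^ k * h * (g ^ k)⁻¹) * g⁻¹ := by
      rw [pow_succ']; group
    rw [this]; exact h2

/-- ES-R2a : a two-step element (upper central series of the `r`-group `R ⊔ zpowers g`). -/
theorem exists_step [Fintype F] {r : ℕ} {R : Subgroup (GL (Fin n) F)} (hS : Setup r R)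
    (hRp : IsPGroup r R) (g : GL (Fin n) F) (hgR : ∀ a ∈ R, g * a * g⁻¹ ∈ R) (hgr : g ^ r = 1)
    (hnt : ¬ ActsTriv R g) :
    ∃ a ∈ R, ¬ IsSc (cm g a) ∧ IsSc (cm g (cm g a)) := by
  classical
  haveI : Fact r.Prime := ⟨hS.prime⟩
  have hr0 : 0 < r := hS.prime.pos
  set P : Subgroup (GL (Fin n) F) := Subgroup.zpowers g ⊔ R with hP
  have hgP : g ∈ P := Subgroup.mem_sup_left (Subgroup.mem_zpowers g)
  have hRP : R ≤ P := le_sup_right
  have hginv : g⁻¹ = g ^ (r - 1) := by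
    rw [inv_eq_iff_mul_eq_one, ← pow_succ', Nat.sub_add_cancel hr0, hgr]
  have hgnorm : Subgroup.zpowers g ≤ Subgroup.normalizer (R : Set (GL (Fin n) F)) := by
    rw [Subgroup.zpowers_le, Subgroup.mem_normalizer_iff]
    intro h
    refine ⟨hgR h, fun hh => ?_⟩
    have h1 := r2a_pow_conj_mem g hgR (r - 1) _ hh
    rw [← hginv] at h1
    have : g⁻¹ * (g * h * g⁻¹) * g⁻¹⁻¹ = h := by group
    rwa [this] at h1
  have hzp : IsPGroup r (Subgroup.zpowers g) := by
    rintro ⟨x, hx⟩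
    obtain ⟨m, rfl⟩ := Subgroup.mem_zpowers_iff.mp hx
    refine ⟨1, Subtype.ext ?_⟩
    simp only [pow_one, Subgroup.coe_pow, Subgroup.coe_one]
    rw [← zpow_natCast, ← zpow_mul, mul_comm, zpow_mul, zpow_natCast, hgr, one_zpow]
  have hPp : IsPGroup r P := IsPGroup.to_sup_of_normal_right' hzp hRp hgnorm
  haveI : Group.IsNilpotent ↥P := hPp.isNilpotent
  obtain ⟨k, hk⟩ := Group.IsNilpotent.nilpotent (G := ↥P)
  let Q : ℕ → Prop := fun i => ∀ a : ↥P, a ∈ Subgroup.upperCentralSeries ↥P i →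
    (a : GL (Fin n) F) ∈ R → IsSc (cm g (a : GL (Fin n) F))
  have hQ0 : Q 0 := by
    intro a ha _
    rw [Subgroup.upperCentralSeries_zero, Subgroup.mem_bot] at ha
    subst ha
    refine ⟨1, ?_⟩
    simp [cm]
  have hQk : ¬ Q k := by
    intro hQ
    apply hnt
    intro x hx
    have := hQ ⟨x, hRP hx⟩ (by rw [hk]; exact Subgroup.mem_top _) hx
    exact this
  have hex : ∃ i, ¬ Q i := ⟨k, hQk⟩
  set i0 := Nat.find hex with hi0
  have hi0spec : ¬ Q i0 := Nat.find_spec hex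
  have hi0ne : i0 ≠ 0 := by
    intro h0
    rw [h0] at hi0spec
    exact hi0spec hQ0
  obtain ⟨i, hi⟩ := Nat.exists_eq_succ_of_ne_zero hi0ne
  have hQi : Q i := by
    by_contra hcon
    have := Nat.find_min hex (m := i) (by omega)
    exact this hcon
  rw [hi] at hi0spec
  have hi0spec' : ∃ a : ↥P, a ∈ Subgroup.upperCentralSeries ↥P (i + 1) ∧
      (a : GL (Fin n) F) ∈ R ∧ ¬ IsSc (cm g (a : GL (Fin n) F)) := by
    by_contra hcon
    apply hi0spec
    intro a ha haR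
    by_contra hsc
    exact hcon ⟨a, ha, haR, hsc⟩
  obtain ⟨a, ha, haR, hasc⟩ := hi0spec'
  refine ⟨(a : GL (Fin n) F), haR, hasc, ?_⟩
  rw [Subgroup.mem_upperCentralSeries_succ_iff] at ha
  simp only [commutatorElement_def] at ha
  have h1 := ha ⟨g, hgP⟩
  have h2 := Subgroup.inv_mem _ h1
  -- the inverse of a g a⁻¹ g⁻¹ is cm g a
  have hcmR : cm g (a : GL (Fin n) F) ∈ R := by
    unfold cm
    exact R.mul_mem (hgR _ haR) (R.inv_mem haR)
  have hco : (((a * ⟨g, hgP⟩ * a⁻¹ * (⟨g, hgP⟩ : ↥P)⁻¹)⁻¹ : ↥P) : GL (Fin n) F) =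
      cm g (a : GL (Fin n) F) := by
    simp only [cm, Subgroup.coe_inv, Subgroup.coe_mul]
    group
  have h3 := hQi _ h2 (by rw [hco]; exact hcmR)
  rw [hco] at h3
  exact h3

end Cfsg.Agent.Lib.Helper81.Es
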