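import Mathlib
import Cfsg.Prelude.Def_GeometricClasses
import Cfsg.Agent.Lib.Helper81.EsDefs
import Cfsg.Agent.Lib.Helper81.EsDD
import Cfsg.Agent.Lib.Helper68.EsN1
import Cfsg.Agent.Lib.Helper25.EsN4
import Cfsg.Agent.Lib.Helper53.EsC1a
import Cfsg.Agent.Lib.Helper55.EsR1a
import Cfsg.Agent.Lib.Helper61.EsR2c4
import Cfsg.Agent.Lib.Helper13.EsSETUP
import Cfsg.Agent.Lib.Helper81.EsR2a
import Cfsg.Agent.Lib.Helper87.EsR1b
import Cfsg.Agent.Lib.Helper2.EsK5
import Cfsg.Agent.Lib.Helper2.EsTRIV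
import Cfsg.Agent.Lib.Helper82.EsR2c1
import Cfsg.Agent.Lib.Helper65.EsR2c3
import Cfsg.Agent.Lib.Helper72.EsNORM
import Cfsg.Agent.Lib.Helper72.EsR2c2

set_option autoImplicit false
set_option linter.style.haveILetI false
set_option linter.unusedVariables false
set_option linter.unusedSectionVars false

namespace Cfsg.Agent.Lib.Helper81.Es

open scoped MatrixGroups

variable {F : Type*} [Field F] {n : ℕ}

theorem asm_mem_NN_of_mem {R : Subgroup (GL (Fin n) F)} {x : GL (Fin n) F} (hx : x ∈ R) :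
    x ∈ NN R := Subgroup.mem_sup_left hx

theorem asm_pow_conj_mem {R : Subgroup (GL (Fin n) F)} (g : GL (Fin n) F)
    (hgN : ∀ h, h ∈ NN R ↔ g * h * g⁻¹ ∈ NN R) (i : ℕ) :
    ∀ h ∈ NN R, g ^ i * h * (g ^ i)⁻¹ ∈ NN R := by
  induction i with
  | zero => intro h hh; simpa using hh
  | succ k ih =>
    intro h hh
    have h1 := ih h hh
    have h2 := (hgN _).mp h1
    have : g ^ (k + 1) * h * (g ^ (k + 1))⁻¹ = g * (g ^ k * h * (g ^ k)⁻¹) * g⁻¹ := by
      rw [pow_succ']; group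
    rw [this]; exact h2

theorem asm_cm_pow_mem {R : Subgroup (GL (Fin n) F)} (g : GL (Fin n) F)
    (hgN : ∀ h, h ∈ NN R ↔ g * h * g⁻¹ ∈ NN R) (i : ℕ) (a : GL (Fin n) F) (ha : a ∈ NN R) :
    cm (g ^ i) a ∈ NN R := by
  unfold cm
  exact (NN R).mul_mem (asm_pow_conj_mem g hgN i a ha) ((NN R).inv_mem ha)

/-- ES-C1 : the commutator bound. -/
theorem c1 {r : ℕ} {R : Subgroup (GL (Fin n) F)} (hS : Setup r R) (g : GL (Fin n) F)
    (hgN : ∀ h, h ∈ NN R ↔ g * h * g⁻¹ ∈ NN R) (x : GL (Fin n) F) (hx : x ∈ R)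
    (hns : ¬ IsSc (cm g x)) (c : F) :
    2 * r * Module.finrank F (eig g c) ≤ (r + 1) * n := by
  have hxN : x ∈ NN R := asm_mem_NN_of_mem hx
  have hh : cm g x ∈ NN R := by
    unfold cm
    exact (NN R).mul_mem ((hgN x).mp hxN) ((NN R).inv_mem hxN)
  have h5 := k5 hS (cm g x) hh hns 1
  have h6 := inter_le g x c
  nlinarith

theorem asm_scalar_comm (z x : GL (Fin n) F) (hz : IsSc z) : z * x = x * z := by
  obtain ⟨c, hc⟩ := hz
  apply Units.ext
  rw [Units.val_mul, Units.val_mul, hc]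
  simp

/-- ES-R1 : assembly of R1a + R1b. -/
theorem r1 {r ϖ : ℕ} {R : Subgroup (GL (Fin n) F)} (hS : Setup r R) (g : GL (Fin n) F)
    (hgN : ∀ h, h ∈ NN R ↔ g * h * g⁻¹ ∈ NN R) (hϖ : ϖ.Prime) (h2 : ϖ ≠ 2) (hne : ϖ ≠ r)
    (hgϖ : g ^ ϖ = 1) (hnt : ¬ ActsTriv R g) (c : F) :
    2 * Module.finrank F (eig g c) ≤ n := by
  by_contra hcon
  have hW : n < 2 * Module.finrank F (eig g c) := by omega
  apply hnt
  have key := r1b (NN R) (Cfsg.Geo.scalars (Fin n) F) g r ϖ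
    ((Nat.coprime_primes hS.prime hϖ).mpr (Ne.symm hne)) (hϖ.odd_of_ne_two h2) hgϖ hgN
    (fun z hz => asm_scalar_comm z g ((isSc_iff_mem_scalars z).mpr hz))
    (fun z hz x _ => asm_scalar_comm z x ((isSc_iff_mem_scalars z).mpr hz))
    (by
      intro x hx y hy
      obtain ⟨ζ, hζ, hxy⟩ := comm_NN hS x hx y hy
      have hxy' : ((x * y * x⁻¹ * y⁻¹ : GL (Fin n) F) : Matrix (Fin n) (Fin n) F) = ζ • 1 := hxy
      refine ⟨(isSc_iff_mem_scalars _).mp ⟨ζ, hxy'⟩, ?_⟩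
      apply Units.ext
      rw [Units.val_pow_eq_pow_val, hxy', smul_pow, hζ, one_pow, one_smul, Units.val_one])
    (by
      intro c' hc' hcomm
      exact (isSc_iff_mem_scalars _).mp
        (isSc_of_commute hS c' (fun x hx => hcomm x (asm_mem_NN_of_mem hx))))
    (by
      intro a ha j
      have h1 := r1a g a c hW 1 j (by
        obtain ⟨ζ, _, hxy⟩ := comm_NN hS _ (asm_cm_pow_mem g hgN 1 a ha) _
          (asm_cm_pow_mem g hgN j a ha)
        exact ⟨ζ, hxy⟩)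
      simpa [cm, pow_one] using h1)
  intro x hx
  exact (isSc_iff_mem_scalars _).mpr (key x (asm_mem_NN_of_mem hx))

theorem asm_eig_zero (g : GL (Fin n) F) : Module.finrank F (eig g 0) = 0 := by
  have : eig g 0 = ⊥ := by
    rw [eq_bot_iff]
    intro v hv
    rw [eig, Module.End.mem_eigenspace_iff, zero_smul, Matrix.toLin'_apply] at hv
    have h2 : ((g⁻¹ : GL (Fin n) F) : Matrix (Fin n) (Fin n) F).mulVec
        ((g : Matrix (Fin n) (Fin n) F).mulVec v) = v := by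
      rw [Matrix.mulVec_mulVec, ← Units.val_mul, inv_mul_cancel, Units.val_one, Matrix.one_mulVec]
    rw [hv, Matrix.mulVec_zero] at h2
    rw [Submodule.mem_bot]; exact h2.symm
  rw [this]; simp

/-- ES-R2c : assembly of c1–c4. -/
theorem r2c {r : ℕ} (hr : r.Prime) (h5 : 5 ≤ r) (g a b : GL (Fin n) F) (ζ : F) (hζ1 : ζ ≠ 1)
    (hζ : ζ ^ r = 1) (hg : g ^ r = 1) (hb : b ^ r = 1) (hgb : g * b = b * g)
    (hga : g * a * g⁻¹ = b * a) (s : ℕ)
    (hab : ((cm a b : GL (Fin n) F) : Matrix (Fin n) (Fin n) F) = ζ ^ s • 1)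
    (hbdim : ∀ c : F, r * Module.finrank F (eig b c) ≤ n) (c : F) :
    2 * Module.finrank F (eig g c) ≤ n := by
  haveI : NeZero r := ⟨hr.ne_zero⟩
  by_cases hc : c = 0
  · subst hc; rw [asm_eig_zero]; omega
  have h1 := dd_decomp hr g b c ζ hζ1 hζ hb hgb
  obtain ⟨htot, hcol⟩ := dd_sum_le hr g b c ζ hζ1 hζ hc
  have h4 := count_le hr h5 n (dd r g b c ζ) (s : ZMod r)
    (fun j i => dd_shift g a b c ζ hζ hga hgb s hab j i) htot
    (fun j => le_trans (Nat.mul_le_mul_left r (hcol j)) (hbdim _))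
  omega

/-- ES-R2 : assembly. -/
theorem r2 [Fintype F] {r : ℕ} {R : Subgroup (GL (Fin n) F)} (hS : Setup r R) (hRp : IsPGroup r R)
    (hexp : ∀ x ∈ R, x ^ r = 1) (h5 : 5 ≤ r) (g : GL (Fin n) F)
    (hgN : ∀ h, h ∈ NN R ↔ g * h * g⁻¹ ∈ NN R) (hgr : g ^ r = 1) (hnt : ¬ ActsTriv R g) (c : F) :
    2 * Module.finrank F (eig g c) ≤ n := by
  have hgR := conj_mem_R hS hexp g hgN
  obtain ⟨a, haR, hbns, hbsc⟩ := exists_step hS hRp g hgR hgr hnt
  set b := cm g a with hbdef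
  have hbR : b ∈ R := by
    rw [hbdef]; unfold cm
    exact R.mul_mem (hgR a haR) (R.inv_mem haR)
  have hbr : b ^ r = 1 := hexp b hbR
  obtain ⟨z, hz⟩ := hbsc
  by_cases hz1 : z = 1
  · -- g and b commute
    have hcm1 : cm g b = 1 := by
      apply Units.ext
      rw [hz, hz1, one_smul, Units.val_one]
    have hgb : g * b = b * g := by
      have : g * b * g⁻¹ * b⁻¹ = 1 := hcm1
      have h3 : g * b = (g * b * g⁻¹ * b⁻¹) * (b * g) := by group
      rw [h3, this, one_mul]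
    obtain ⟨ζ, hζ1, hζr, hall⟩ := exists_prim hS
    obtain ⟨ξ, hξ, hab⟩ := hS.comm a haR b hbR
    obtain ⟨s, hs⟩ := hall ξ hξ
    rw [hs] at hab
    have hga : g * a * g⁻¹ = b * a := by
      rw [hbdef]; unfold cm; group
    exact r2c hS.prime h5 g a b ζ hζ1 hζr hgr hbr hgb hga s hab
      (fun c' => k5 hS b (asm_mem_NN_of_mem hbR) hbns c') c
  · -- b shifts the eigenspaces of g
    have hmat : (g : Matrix (Fin n) (Fin n) F) * (b : Matrix (Fin n) (Fin n) F) =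
        z • ((b : Matrix (Fin n) (Fin n) F) * (g : Matrix (Fin n) (Fin n) F)) := by
      have h3 : g * b = (cm g b) * (b * g) := by unfold cm; group
      have h4 := congrArg (fun u : GL (Fin n) F => (u : Matrix (Fin n) (Fin n) F)) h3
      simp only [Units.val_mul] at h4
      rw [h4, hz, smul_mul_assoc, one_mul]
    have := k5_shift_le g b z 2 (fun i h0 h2 => by
      have : i = 1 := by omega
      subst this; simpa using hz1) hmat c
    exact this

end Cfsg.Agent.Lib.Helper81.Es
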