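import Mathlib
import Cfsg.Prelude.Def_Characters
import Cfsg.Agent.Lib.Helper25.Ind

set_option autoImplicit false

/-!
# Normal `p`-complements of elementary groups, `p`-regular elements
-/

namespace Cfsg.Agent.Lib.Helper81

open Cfsg Cfsg.Agent.Lib.Helper25

theorem normal_zpowers_of_mem_center {E : Type*} [Group E] {x : E}
    (hx : x ∈ Subgroup.center E) : (Subgroup.zpowers x).Normal := by
  constructor
  intro n hn g
  have hc : n ∈ Subgroup.center E := by
    obtain ⟨i, rfl⟩ := hn
    exact Subgroup.zpow_mem _ hx i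
  have := Subgroup.mem_center_iff.mp hc g
  rw [this, mul_inv_cancel_right]
  exact hn

/-- A finite elementary group has a normal `p`-complement for every prime `p`. -/
theorem exists_normal_pcomplement_of_isElementary {E : Type*} [Group E] [Finite E] {q : ℕ}
    (hq : q.Prime) (hE : IsElementary q E) (p : ℕ) [hp : Fact p.Prime] :
    ∃ Q : Subgroup E, Q.Normal ∧ (Nat.card Q).Coprime p ∧ ∃ j : ℕ, Q.index = p ^ j := by
  obtain ⟨x, hxc, hxq, k, hk⟩ := hE
  have hZn : (Subgroup.zpowers x).Normal := normal_zpowers_of_mem_center hxc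
  by_cases hpq : q = p
  · subst hpq
    refine ⟨Subgroup.zpowers x, hZn, ?_, k, hk⟩
    rw [Nat.card_zpowers]
    exact hxq
  · obtain ⟨P⟩ : Nonempty (Sylow p E) := inferInstance
    have hPc : (P : Subgroup E) ≤ Subgroup.center E := by
      intro e he
      obtain ⟨m, hm⟩ := P.2 ⟨e, he⟩
      have hm' : e ^ (p ^ m) = 1 := congrArg Subtype.val hm
      have h1 : ((e : E) : E ⧸ Subgroup.zpowers x) ^ (p ^ m) = 1 := by
        rw [← QuotientGroup.mk_pow, hm']
        rfl
      have h2 : ((e : E) : E ⧸ Subgroup.zpowers x) ^ (q ^ k) = 1 := by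
        have hc : Nat.card (E ⧸ Subgroup.zpowers x) = q ^ k := hk
        rw [← hc]
        exact pow_card_eq_one'
      have hcop : Nat.Coprime (p ^ m) (q ^ k) :=
        Nat.Coprime.pow _ _ ((Nat.coprime_primes hp.out hq).2 (Ne.symm hpq))
      have h3 : ((e : E) : E ⧸ Subgroup.zpowers x) = 1 := by
        have h4 := pow_gcd_eq_one.mpr ⟨h1, h2⟩
        rwa [hcop, pow_one] at h4
      have h4 : e ∈ Subgroup.zpowers x := (QuotientGroup.eq_one_iff e).mp h3
      obtain ⟨i, rfl⟩ := h4
      exact Subgroup.zpow_mem _ hxc i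
    have hP : Subgroup.normalizer ((P : Subgroup E) : Set E) ≤
        Subgroup.centralizer ((P : Subgroup E) : Set E) := by
      intro g _
      rw [Subgroup.mem_centralizer_iff]
      intro y hy
      exact ((Subgroup.mem_center_iff.mp (hPc hy)) g).symm
    refine ⟨(MonoidHom.transferSylow P hP).ker, inferInstance, ?_, ?_⟩
    · exact Nat.Coprime.symm ((Nat.Prime.coprime_iff_not_dvd hp.out).2
        (MonoidHom.not_dvd_card_ker_transferSylow P hP))
    · rw [(MonoidHom.ker_transferSylow_isComplement' P hP).symm.index_eq_card]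
      exact ⟨_, P.card_eq_multiplicity⟩

/-- The elements of a normal `p`-complement are exactly the `p`-regular elements. -/
theorem mem_iff_not_dvd_orderOf {E : Type*} [Group E] [Finite E] (p : ℕ) [hp : Fact p.Prime]
    (Q : Subgroup E) [Q.Normal] (hQ : (Nat.card Q).Coprime p) {j : ℕ} (hj : Q.index = p ^ j)
    (e : E) : e ∈ Q ↔ ¬ p ∣ orderOf e := by
  constructor
  · intro he hdvd
    have h1 : orderOf e ∣ Nat.card Q := by
      have := orderOf_dvd_natCard (⟨e, he⟩ : Q)
      rwa [Subgroup.orderOf_mk] at this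
    have h2 : p ∣ Nat.card Q := hdvd.trans h1
    have h3 : p ∣ Nat.gcd (Nat.card Q) p := Nat.dvd_gcd h2 dvd_rfl
    rw [hQ] at h3
    exact hp.out.one_lt.ne' (Nat.dvd_one.mp h3)
  · intro hnd
    rw [← QuotientGroup.eq_one_iff]
    have h1 : (e : E ⧸ Q) ^ orderOf e = 1 := by
      rw [← QuotientGroup.mk_pow, pow_orderOf_eq_one]
      rfl
    have h2 : (e : E ⧸ Q) ^ (p ^ j) = 1 := by
      have hc : Nat.card (E ⧸ Q) = p ^ j := hj
      rw [← hc]
      exact pow_card_eq_one'
    have hcop : Nat.Coprime (orderOf e) (p ^ j) :=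
      Nat.Coprime.pow_right _ ((Nat.Prime.coprime_iff_not_dvd hp.out).2 hnd).symm
    have h4 := pow_gcd_eq_one.mpr ⟨h1, h2⟩
    rwa [hcop, pow_one] at h4

open Classical in
/-- The trivial character of a normal subgroup induces to the index on the subgroup and zero
elsewhere. -/
theorem indFun_one_normal {E : Type*} [Group E] [Fintype E] (Q : Subgroup E) [hQ : Q.Normal]
    (e : E) :
    indFun Q (fun _ => (1 : ℂ)) e = if e ∈ Q then (Q.index : ℂ) else 0 := by
  rw [indFun_apply]
  split_ifs with he
  · have h1 : ∀ x : E, extendByZero Q (fun _ => (1 : ℂ)) (x⁻¹ * e * x) = 1 := by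
      intro x
      have hmem : x⁻¹ * e * x ∈ Q := by
        have := hQ.conj_mem e he x⁻¹
        simpa using this
      rw [extendByZero_of_mem _ _ hmem]
    simp only [h1, Finset.sum_const, Finset.card_univ, nsmul_eq_mul, mul_one]
    rw [← Nat.card_eq_fintype_card, ← Q.card_mul_index]
    have hne : (Nat.card Q : ℂ) ≠ 0 := by
      exact_mod_cast Nat.card_pos.ne'
    push_cast
    field_simp
  · have h1 : ∀ x : E, extendByZero Q (fun _ => (1 : ℂ)) (x⁻¹ * e * x) = 0 := by
      intro x
      apply extendByZero_of_not_mem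
      intro h
      apply he
      have := hQ.conj_mem _ h x
      simpa [mul_assoc] using this
    simp [h1]

end Cfsg.Agent.Lib.Helper81
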