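import Cfsg.Agent.Lib.Helper81.Dade
import Cfsg.Agent.Lib.Helper81.Irr
import Cfsg.Agent.Lib.Helper81.HallCompl
import Cfsg.Agent.Lib.Helper81.PRegular
import Cfsg.Agent.Lib.Helper75.Clifford
import Cfsg.Agent.Lib.Helper3.Complete
import Cfsg.Agent.Lib.Helper3.Induced
import Cfsg.Agent.Lib.Helper3.ProperInduced
import Cfsg.Agent.Lib.Helper15.LinearChar
import Cfsg.Agent.Lib.Helper79.Basic
import Cfsg.Agent.S0887

set_option autoImplicit false
set_option linter.unusedSectionVars false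
set_option linter.style.haveILetI false

/-!
# Extending invariant characters when the quotient is a `p`-group (Isaacs 8.26)
-/

namespace Cfsg.Agent.Lib.Helper81

open Cfsg Cfsg.Agent.Lib.Helper25
open scoped ComplexConjugate

universe u

section Restrict

variable {G : Type u} [Group G] [Fintype G]

/-- The restriction of an irreducible character to a normal subgroup, when it has an invariant
irreducible constituent, is a multiple of that constituent. -/
theorem restrict_eq_smul_of_invariant (N : Subgroup G) [hN : N.Normal] [Fintype N]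
    {χ : G → ℂ} (hχ : IsIrrCharacter G χ) {ϑ : N → ℂ} (hϑ : IsIrrCharacter N ϑ)
    (hinv : ∀ (g : G) (n : N), ϑ ⟨g * n * g⁻¹, hN.conj_mem (n : G) n.2 g⟩ = ϑ n)
    (hne : classInner (fun n : N => χ n) ϑ ≠ 0) :
    (fun n : N => χ n) = classInner (fun n : N => χ n) ϑ • ϑ := by
  classical
  have : Fintype (IrrCharacter N) := Fintype.ofFinite _
  have hcf : IsClassFunction N (fun n : N => χ n) :=
    Cfsg.Agent.Lib.Helper3.IsCharacter.isClassFunction
      (Cfsg.Agent.Lib.Helper3.IsCharacter.restrict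
        (Cfsg.Agent.Lib.Helper3.IsIrrCharacter.isCharacter hχ) N)
  have h := Cfsg.Agent.Lib.Helper3.classFunction_eq_sum hcf
  rw [Finset.sum_eq_single (⟨ϑ, hϑ⟩ : IrrCharacter N)] at h
  · exact h
  · intro θ' _ hθ'
    by_cases h0 : classInner (fun n : N => χ n) (θ' : N → ℂ) = 0
    · rw [h0, zero_smul]
    · exfalso
      obtain ⟨g, hg⟩ := Cfsg.Agent.Lib.Helper75.clifford_conj N hχ hϑ θ'.2 hne h0
      apply hθ'
      apply Subtype.ext
      rw [hg]
      funext n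
      rw [Cfsg.Agent.Lib.Helper75.conjFun_apply]
      exact hinv g n
  · intro h'
    exact absurd (Finset.mem_univ _) h'

/-- If the restriction of a character `Ψ` of `G` to `N` contains `ϑ` with multiplicity prime to
`p`, then so does some irreducible constituent of `Ψ`. -/
theorem exists_constituent_not_dvd (N : Subgroup G) [Fintype N] {p : ℕ}
    {Ψ : G → ℂ} (hΨ : IsCharacter G Ψ) {ϑ : N → ℂ} (hϑ : IsIrrCharacter N ϑ) {m : ℕ}
    (hm : classInner (fun n : N => Ψ n) ϑ = (m : ℂ)) (hpm : ¬ p ∣ m) :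
    ∃ (χ : IrrCharacter G) (e : ℕ), classInner (fun n : N => (χ : G → ℂ) n) ϑ = (e : ℂ) ∧
      ¬ p ∣ e := by
  classical
  have : Fintype (IrrCharacter G) := Fintype.ofFinite _
  have hϑc : IsCharacter N ϑ := Cfsg.Agent.Lib.Helper3.IsIrrCharacter.isCharacter hϑ
  have hexp := Cfsg.Agent.Lib.Helper3.classFunction_eq_sum
    (Cfsg.Agent.Lib.Helper3.IsCharacter.isClassFunction hΨ)
  have ha : ∀ χ : IrrCharacter G, ∃ a : ℕ, classInner Ψ (χ : G → ℂ) = (a : ℂ) := fun χ =>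
    classInner_char_nat hΨ (Cfsg.Agent.Lib.Helper3.IsIrrCharacter.isCharacter χ.2)
  have he : ∀ χ : IrrCharacter G, ∃ e : ℕ,
      classInner (fun n : N => (χ : G → ℂ) n) ϑ = (e : ℂ) := fun χ =>
    classInner_char_nat (Cfsg.Agent.Lib.Helper3.IsCharacter.restrict
      (Cfsg.Agent.Lib.Helper3.IsIrrCharacter.isCharacter χ.2) N) hϑc
  choose a ha using ha
  choose e he using he
  by_contra hcon
  push Not at hcon
  apply hpm
  have h1 : (fun n : N => Ψ n) =
      ∑ χ : IrrCharacter G, (a χ : ℂ) • (fun n : N => (χ : G → ℂ) n) := by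
    funext n
    have := congrFun hexp (n : G)
    rw [this]
    simp only [Finset.sum_apply, Pi.smul_apply, ha]
  have h2 : ((m : ℕ) : ℂ) = ((∑ χ : IrrCharacter G, a χ * e χ : ℕ) : ℂ) := by
    rw [← hm, h1, classInner_sum_left]
    push_cast
    refine Finset.sum_congr rfl fun χ _ => ?_
    rw [classInner_smul_left, he]
  have h3 : m = ∑ χ : IrrCharacter G, a χ * e χ := by exact_mod_cast h2
  rw [h3]
  refine Finset.dvd_sum fun χ _ => ?_
  exact Dvd.dvd.mul_left (hcon χ (e χ) (he χ)) _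

end Restrict

section Elementary

/-- A multiplicative function with value `1` at `1` is an irreducible character. -/
theorem isIrrCharacter_of_mul {H : Type u} [Group H] (f : H → ℂ)
    (hmul : ∀ a b, f (a * b) = f a * f b) (h1 : f 1 = 1) : IsIrrCharacter H f := by
  have hne : ∀ a, f a ≠ 0 := by
    intro a h0
    have := hmul a a⁻¹
    rw [mul_inv_cancel, h1, h0, zero_mul] at this
    exact one_ne_zero this
  let φ : H →* ℂˣ :=
    { toFun := fun a => Units.mk0 (f a) (hne a)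
      map_one' := by
        apply Units.ext
        simp [h1]
      map_mul' := fun a b => by
        apply Units.ext
        simp [hmul] }
  exact Cfsg.Agent.Lib.Helper79.isIrrCharacter_of_monoidHom φ

/-- The structure of a finite `p`-elementary group: two multiplicative power maps splitting every
element into a `p`-part and a central `p'`-part. -/
theorem exists_pow_split_of_isElementary {E : Type*} [Group E] [Finite E] {p : ℕ} (hp : p.Prime)
    (hE : IsElementary p E) :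
    ∃ (a b j : ℕ) (x₀ : E), x₀ ∈ Subgroup.center E ∧ Nat.Coprime (orderOf x₀) p ∧
      (∀ u v : E, (u * v) ^ a = u ^ a * v ^ a) ∧ (∀ u v : E, (u * v) ^ b = u ^ b * v ^ b) ∧
      (∀ u : E, u ^ a * u ^ b = u) ∧ (∀ u : E, (u ^ a) ^ (p ^ j) = 1) ∧
      (∀ u : E, u ^ b ∈ Subgroup.zpowers x₀) := by
  obtain ⟨x₀, hx₀c, hx₀p, j, hj⟩ := id hE
  set o := orderOf x₀ with ho
  set q := p ^ j with hq
  have hZn : (Subgroup.zpowers x₀).Normal := normal_zpowers_of_mem_center hx₀c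
  have hcop : Nat.Coprime o q := Nat.Coprime.pow_right j hx₀p
  have ho0 : 0 < o := orderOf_pos x₀
  have hq0 : 0 < q := pow_pos hp.pos j
  set c := (Subgroup.center E).index with hc
  have hcq : c ∣ q := by
    rw [← hj]
    exact Subgroup.index_dvd_of_le ((Subgroup.zpowers_le).2 hx₀c)
  have hcard : Nat.card E = o * q := by
    rw [← (Subgroup.zpowers x₀).card_mul_index, Nat.card_zpowers, hj]
  -- the exponents
  obtain ⟨a₀, ha₀o, ha₀q⟩ : ∃ a₀ : ℕ, a₀ ≡ 0 [MOD o] ∧ a₀ ≡ 1 [MOD q] :=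
    ⟨Nat.chineseRemainder hcop 0 1, (Nat.chineseRemainder hcop 0 1).2⟩
  obtain ⟨b, hbo, hbq⟩ : ∃ b : ℕ, b ≡ 1 [MOD o] ∧ b ≡ 0 [MOD q] :=
    ⟨Nat.chineseRemainder hcop 1 0, (Nat.chineseRemainder hcop 1 0).2⟩
  set a := a₀ + o * q with ha
  have hao : a ≡ 0 [MOD o] := by
    have : a ≡ 0 + 0 [MOD o] := Nat.ModEq.add ha₀o
      ((Nat.modEq_zero_iff_dvd).2 (dvd_mul_right o q))
    simpa using this
  have haq : a ≡ 1 [MOD q] := by
    have : a ≡ 1 + 0 [MOD q] := Nat.ModEq.add ha₀q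
      ((Nat.modEq_zero_iff_dvd).2 (dvd_mul_left q o))
    simpa using this
  have ha1 : 1 ≤ a := by
    have : 1 ≤ o * q := Nat.mul_pos ho0 hq0
    omega
  have hoa : o ∣ a := (Nat.modEq_zero_iff_dvd).1 hao
  have hqb : q ∣ b := (Nat.modEq_zero_iff_dvd).1 hbq
  have hqa1 : q ∣ a - 1 := (Nat.modEq_iff_dvd' ha1).mp haq.symm
  -- multiplicativity
  have hamul : ∀ u v : E, (u * v) ^ a = u ^ a * v ^ a := by
    intro u v
    obtain ⟨t, ht⟩ := hcq.trans hqa1
    have : a = 1 + c * t := by omega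
    rw [this]
    exact mul_pow_of_center_index 1 t le_rfl u v
  have hbmul : ∀ u v : E, (u * v) ^ b = u ^ b * v ^ b := by
    intro u v
    obtain ⟨t, ht⟩ := hcq.trans hqb
    have : b = 0 + c * t := by omega
    rw [this]
    exact mul_pow_of_center_index 0 t zero_le_one u v
  -- the `q`-th powers lie in `zpowers x₀`
  have hpowq : ∀ u : E, u ^ q ∈ Subgroup.zpowers x₀ := by
    intro u
    have h1 : ((u : E) : E ⧸ Subgroup.zpowers x₀) ^ q = 1 := by
      have hc' : Nat.card (E ⧸ Subgroup.zpowers x₀) = q := hj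
      rw [← hc']
      exact pow_card_eq_one'
    rw [← QuotientGroup.mk_pow] at h1
    exact (QuotientGroup.eq_one_iff _).mp h1
  have hzo : ∀ y ∈ Subgroup.zpowers x₀, y ^ o = 1 := by
    intro y hy
    obtain ⟨i, rfl⟩ := hy
    rw [← zpow_natCast, ← zpow_mul, mul_comm, zpow_mul, zpow_natCast, ho, pow_orderOf_eq_one,
      one_zpow]
  refine ⟨a, b, j, x₀, hx₀c, hx₀p, hamul, hbmul, ?_, ?_, ?_⟩
  · intro u
    rw [← pow_add]
    have h1 : a + b ≡ 1 [MOD o * q] := by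
      rw [← Nat.modEq_and_modEq_iff_modEq_mul hcop]
      constructor
      · simpa using Nat.ModEq.add hao hbo
      · simpa using Nat.ModEq.add haq hbq
    have h2 : u ^ (a + b) = u ^ 1 := by
      rw [pow_eq_pow_iff_modEq]
      exact h1.of_dvd (hcard ▸ orderOf_dvd_natCard u)
    rw [h2, pow_one]
  · intro u
    rw [← pow_mul, mul_comm, pow_mul]
    obtain ⟨t, ht⟩ := hoa
    rw [ht, pow_mul, hzo _ (hpowq u), one_pow]
  · intro u
    obtain ⟨t, ht⟩ := hqb
    rw [ht, pow_mul]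
    exact Subgroup.pow_mem _ (hpowq u) t

end Elementary

section Main

/-- Homomorphisms to `ℂˣ` extend from subgroups of finite commutative groups. -/
theorem exists_extend_hom_of_comm {A : Type*} [Group A] [Finite A]
    (hA : ∀ a b : A, a * b = b * a) (B : Subgroup A) (f : ↥B →* ℂˣ) :
    ∃ F : A →* ℂˣ, ∀ y : ↥B, F (y : A) = f y := by
  letI : CommGroup A := { (inferInstance : Group A) with mul_comm := hA }
  have hne : NeZero ((Monoid.exponent A : ℕ) : ℂ) :=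
    ⟨by exact_mod_cast (Monoid.exponent_ne_zero_of_finite (G := A))⟩
  obtain ⟨F, hF⟩ := MonoidHom.domRestrict_surjective (M := ℂ) B f
  refine ⟨F, fun y => ?_⟩
  rw [← hF]
  rfl

variable {G : Type u} [Group G] [Fintype G]

theorem mem_smul_sylow_iff' {p : ℕ} [Fact p.Prime] (P : Sylow p G) (g y : G) :
    y ∈ ((g • P : Sylow p G) : Subgroup G) ↔ g⁻¹ * y * g ∈ (P : Subgroup G) := by
  rw [Sylow.coe_subgroup_smul, Subgroup.mem_pointwise_smul_iff_inv_smul_mem]
  simp [MulAut.smul_def]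

/-- **Isaacs 8.26**: extension of invariant characters when `G / N` is a `p`-group and the
Sylow `p`-subgroup meets `N` in a central subgroup all of whose linear characters extend. -/
theorem extends_of_pgroup_quotient (p : ℕ) [hp : Fact p.Prime] (N : Subgroup G) [hN : N.Normal]
    (hind : ∃ k : ℕ, N.index = p ^ k) (P : Sylow p G)
    (hcent : ∀ x ∈ (P : Subgroup G) ⊓ N, ∀ y ∈ (P : Subgroup G), x * y = y * x)
    (hlin : ∀ lam : ↥((P : Subgroup G) ⊓ N) → ℂ, IsCharacter ↥((P : Subgroup G) ⊓ N) lam →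
      lam 1 = 1 → ∃ μ : ↥(P : Subgroup G) → ℂ, IsCharacter ↥(P : Subgroup G) μ ∧ μ 1 = 1 ∧
        ∀ x : ↥((P : Subgroup G) ⊓ N), μ ⟨(x : G), x.2.1⟩ = lam x)
    (ϑ : N → ℂ) (hϑ : IsIrrCharacter N ϑ)
    (hinv : ∀ (g : G) (n : N), ϑ ⟨g * n * g⁻¹, hN.conj_mem (n : G) n.2 g⟩ = ϑ n) :
    ∃ χ : G → ℂ, IsIrrCharacter G χ ∧ ∀ n : N, χ n = ϑ n := by
  classical
  have : Fintype N := Fintype.ofFinite N
  obtain ⟨E, φ, hEel, hEN, -, m, hpm, hm⟩ := dade_elementary p hp.out N hind ϑ hϑ hinv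
  have : Fintype ↥(E ⊓ N) := Fintype.ofFinite _
  obtain ⟨k, hk⟩ := hind
  obtain ⟨a, b, j, x₀, hx₀c, hx₀p, hamul, hbmul, hab, haq, hbz⟩ :=
    exists_pow_split_of_isElementary hp.out hEel
  -- `G`-level facts about the power maps
  have hamulG : ∀ u ∈ E, ∀ v ∈ E, (u * v) ^ a = u ^ a * v ^ a := fun u hu v hv => by
    have := congrArg Subtype.val (hamul ⟨u, hu⟩ ⟨v, hv⟩)
    simpa using this
  have hbmulG : ∀ u ∈ E, ∀ v ∈ E, (u * v) ^ b = u ^ b * v ^ b := fun u hu v hv => by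
    have := congrArg Subtype.val (hbmul ⟨u, hu⟩ ⟨v, hv⟩)
    simpa using this
  have habG : ∀ u ∈ E, u ^ a * u ^ b = u := fun u hu => by
    have := congrArg Subtype.val (hab ⟨u, hu⟩)
    simpa using this
  have haqG : ∀ u ∈ E, (u ^ a) ^ (p ^ j) = 1 := fun u hu => by
    have := congrArg Subtype.val (haq ⟨u, hu⟩)
    simpa using this
  have hx₀N : (x₀ : G) ∈ N := by
    have h1 : ((x₀ : G) : G ⧸ N) ^ (p ^ k) = 1 := by
      have hc' : Nat.card (G ⧸ N) = p ^ k := hk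
      rw [← hc']
      exact pow_card_eq_one'
    have h2 : ((x₀ : G) : G ⧸ N) ^ (orderOf x₀) = 1 := by
      rw [← QuotientGroup.mk_pow, ← Subgroup.coe_pow, pow_orderOf_eq_one]
      rfl
    have h3 := pow_gcd_eq_one.mpr ⟨h1, h2⟩
    have hcop : Nat.Coprime (p ^ k) (orderOf x₀) := (Nat.Coprime.pow_right k hx₀p).symm
    rw [hcop, pow_one] at h3
    exact (QuotientGroup.eq_one_iff _).mp h3
  have hbN : ∀ u ∈ E, u ^ b ∈ N := fun u hu => by
    obtain ⟨i, hi⟩ := hbz ⟨u, hu⟩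
    have := congrArg Subtype.val hi
    simp only [Subgroup.coe_zpow, Subgroup.coe_pow] at this
    rw [← this]
    exact N.zpow_mem hx₀N i
  have hbcomm : ∀ u ∈ E, ∀ v ∈ E, u ^ b * v = v * u ^ b := fun u hu v hv => by
    have hc : (⟨u, hu⟩ : ↥E) ^ b ∈ Subgroup.center ↥E :=
      (Subgroup.zpowers_le.2 hx₀c) (hbz ⟨u, hu⟩)
    have := congrArg Subtype.val (Subgroup.mem_center_iff.mp hc ⟨v, hv⟩)
    simpa using this.symm
  -- the `p`-part of `E` lies in a conjugate of `P`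
  let πa : ↥E →* G :=
    { toFun := fun u => (u : G) ^ a
      map_one' := by simp
      map_mul' := fun u v => by simpa using hamulG u u.2 v v.2 }
  have hQp : IsPGroup p πa.range := by
    rintro ⟨y, u, rfl⟩
    refine ⟨j, Subtype.ext ?_⟩
    simpa [πa] using haqG u u.2
  obtain ⟨P', hP'⟩ := hQp.exists_le_sylow
  obtain ⟨g, hg⟩ := MulAction.exists_smul_eq G P P'
  have haP : ∀ u ∈ E, g⁻¹ * u ^ a * g ∈ (P : Subgroup G) := by
    intro u hu
    rw [← mem_smul_sylow_iff', hg]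
    exact hP' ⟨⟨u, hu⟩, rfl⟩
  have hconjN : ∀ u ∈ N, g⁻¹ * u * g ∈ N := fun u hu => by
    have := hN.conj_mem _ hu g⁻¹
    rwa [inv_inv] at this
  -- `E ⊓ N` is abelian
  have hEN_comm : ∀ u v : ↥(E ⊓ N), u * v = v * u := by
    intro u v
    apply Subtype.ext
    have hu := u.2
    have hv := v.2
    set x := (u : G) ^ a with hx
    set s := (u : G) ^ b with hs
    set y := (v : G) ^ a with hy
    set t := (v : G) ^ b with ht
    have h1 : (g⁻¹ * x * g) * (g⁻¹ * y * g) = (g⁻¹ * y * g) * (g⁻¹ * x * g) :=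
      hcent _ ⟨haP u hu.1, hconjN _ (N.pow_mem hu.2 a)⟩ _ (haP v hv.1)
    have h2 : x * y = y * x := by
      have h1' : g⁻¹ * (x * y) * g = g⁻¹ * (y * x) * g := by
        simpa [mul_assoc] using h1
      exact mul_left_cancel (mul_right_cancel h1')
    have c1 : s * y = y * s := hbcomm u hu.1 y (E.pow_mem hv.1 a)
    have c2 : s * t = t * s := hbcomm u hu.1 t (E.pow_mem hv.1 b)
    have c3 : t * x = x * t := hbcomm v hv.1 x (E.pow_mem hu.1 a)
    show (u : G) * (v : G) = (v : G) * (u : G)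
    calc (u : G) * v = (x * s) * (y * t) := by rw [habG u hu.1, habG v hv.1]
      _ = x * (s * y) * t := by group
      _ = x * (y * s) * t := by rw [c1]
      _ = (x * y) * (s * t) := by group
      _ = (y * x) * (t * s) := by rw [h2, c2]
      _ = y * (x * t) * s := by group
      _ = y * (t * x) * s := by rw [c3]
      _ = (y * t) * (x * s) := by group
      _ = v * u := by rw [habG u hu.1, habG v hv.1]
  -- so `φ` is linear
  have hφ1 : (φ : ↥(E ⊓ N) → ℂ) 1 = 1 := by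
    obtain ⟨n, τ, hτ, hτφ⟩ := φ.2
    refine Cfsg.Agent.Lib.Helper3.irr_constituent_linear_of_commute τ ?_ φ.2 ?_
    · intro x y
      rw [← map_mul, ← map_mul, hEN_comm]
    · rw [hτφ, Cfsg.Agent.Lib.Helper3.classInner_irr φ.2 φ.2, if_pos rfl]
      exact one_ne_zero
  have hφc : IsCharacter ↥(E ⊓ N) (φ : ↥(E ⊓ N) → ℂ) ∧ (φ : ↥(E ⊓ N) → ℂ) 1 = 1 :=
    ⟨Cfsg.Agent.Lib.Helper3.IsIrrCharacter.isCharacter φ.2, hφ1⟩
  have hφmul := Cfsg.Agent.Lib.Helper15.linChar_mul hφc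
  obtain ⟨Φ, hΦ⟩ := Cfsg.Agent.Lib.Helper79.exists_monoidHom_of_isCharacter_of_one hφc.1 hφ1
  -- transport to `P ⊓ N` and extend
  let cg : ↥((P : Subgroup G) ⊓ N) →* G :=
    (MulAut.conj g).toMonoidHom.comp ((P : Subgroup G) ⊓ N).subtype
  let B₀ : Subgroup ↥((P : Subgroup G) ⊓ N) := (E ⊓ N).comap cg
  let f₀ : ↥B₀ →* ℂˣ :=
    Φ.comp ((cg.comp B₀.subtype).codRestrict (E ⊓ N) (fun y => y.2))
  have hAcomm : ∀ x y : ↥((P : Subgroup G) ⊓ N), x * y = y * x := fun x y =>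
    Subtype.ext (hcent x x.2 y y.2.1)
  obtain ⟨F, hF⟩ := exists_extend_hom_of_comm hAcomm B₀ f₀
  obtain ⟨μ, hμc, hμ1, hμ⟩ := hlin (fun y => ((F y : ℂˣ) : ℂ))
    (Cfsg.Agent.Lib.Helper3.IsIrrCharacter.isCharacter
      (Cfsg.Agent.Lib.Helper79.isIrrCharacter_of_monoidHom F)) (by simp)
  have hμmul := Cfsg.Agent.Lib.Helper15.linChar_mul ⟨hμc, hμ1⟩
  -- the extension of `φ` to `E`
  let μ' : G → ℂ := fun y => if h : y ∈ (P : Subgroup G) then μ ⟨y, h⟩ else 0
  let φ' : G → ℂ := fun y => if h : y ∈ E ⊓ N then (φ : ↥(E ⊓ N) → ℂ) ⟨y, h⟩ else 0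
  have hμ'mul : ∀ y ∈ (P : Subgroup G), ∀ z ∈ (P : Subgroup G), μ' (y * z) = μ' y * μ' z := by
    intro y hy z hz
    simp only [μ', dif_pos hy, dif_pos hz, dif_pos (mul_mem hy hz)]
    exact hμmul ⟨y, hy⟩ ⟨z, hz⟩
  have hφ'mul : ∀ y ∈ E ⊓ N, ∀ z ∈ E ⊓ N, φ' (y * z) = φ' y * φ' z := by
    intro y hy z hz
    simp only [φ', dif_pos hy, dif_pos hz, dif_pos (mul_mem hy hz)]
    exact hφmul ⟨y, hy⟩ ⟨z, hz⟩
  let φh : ↥E → ℂ := fun e => μ' (g⁻¹ * (e : G) ^ a * g) * φ' ((e : G) ^ b)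
  have hφh_mul : ∀ e₁ e₂ : ↥E, φh (e₁ * e₂) = φh e₁ * φh e₂ := by
    intro e₁ e₂
    simp only [φh, Subgroup.coe_mul]
    rw [hamulG _ e₁.2 _ e₂.2, hbmulG _ e₁.2 _ e₂.2]
    have h1 : g⁻¹ * ((e₁ : G) ^ a * (e₂ : G) ^ a) * g =
        (g⁻¹ * (e₁ : G) ^ a * g) * (g⁻¹ * (e₂ : G) ^ a * g) := by group
    rw [h1, hμ'mul _ (haP _ e₁.2) _ (haP _ e₂.2),
      hφ'mul _ ⟨E.pow_mem e₁.2 b, hbN _ e₁.2⟩ _ ⟨E.pow_mem e₂.2 b, hbN _ e₂.2⟩]
    ring
  have hφh_one : φh 1 = 1 := by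
    simp only [φh, Subgroup.coe_one, one_pow]
    have h1 : g⁻¹ * 1 * g = 1 := by group
    rw [h1]
    simp only [μ', φ', dif_pos (one_mem _)]
    have h2 : (⟨1, one_mem _⟩ : ↥(P : Subgroup G)) = 1 := rfl
    have h3 : (⟨1, one_mem _⟩ : ↥(E ⊓ N)) = 1 := rfl
    rw [h2, h3, hμ1, hφ1, one_mul]
  have hφh_res : ∀ x : ↥(E ⊓ N), φh ⟨(x : G), x.2.1⟩ = (φ : ↥(E ⊓ N) → ℂ) x := by
    intro x
    have hxa : (x : G) ^ a ∈ E ⊓ N := pow_mem x.2 a
    have hxb : (x : G) ^ b ∈ E ⊓ N := pow_mem x.2 b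
    have hyP : g⁻¹ * (x : G) ^ a * g ∈ (P : Subgroup G) := haP _ x.2.1
    have hyN : g⁻¹ * (x : G) ^ a * g ∈ N := hconjN _ hxa.2
    let y : ↥((P : Subgroup G) ⊓ N) := ⟨g⁻¹ * (x : G) ^ a * g, hyP, hyN⟩
    have hcy : cg y = (x : G) ^ a := by
      show g * (g⁻¹ * (x : G) ^ a * g) * g⁻¹ = _
      group
    have hyB : y ∈ B₀ := by
      show cg y ∈ E ⊓ N
      rw [hcy]
      exact hxa
    have h1 : μ' (g⁻¹ * (x : G) ^ a * g) = (φ : ↥(E ⊓ N) → ℂ) ⟨(x : G) ^ a, hxa⟩ := by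
      simp only [μ', dif_pos hyP]
      have h2 := hμ y
      have h3 : (⟨g⁻¹ * (x : G) ^ a * g, hyP⟩ : ↥(P : Subgroup G)) = ⟨(y : G), y.2.1⟩ := rfl
      rw [h3, h2]
      have hFy := hF ⟨y, hyB⟩
      show ((F y : ℂˣ) : ℂ) = _
      rw [hFy, hΦ]
      show ((Φ ⟨cg y, _⟩ : ℂˣ) : ℂ) = _
      congr 3
    simp only [φh]
    rw [h1]
    simp only [φ', dif_pos hxb]
    rw [← hφmul]
    exact congrArg (φ : ↥(E ⊓ N) → ℂ) (Subtype.ext (habG _ x.2.1))
  have hφh_irr : IsIrrCharacter ↥E φh := isIrrCharacter_of_mul φh hφh_mul hφh_one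
  have hΨ : IsCharacter G (indFun E φh) :=
    Cfsg.Agent.Lib.Helper3.isCharacter_indFun E
      (Cfsg.Agent.Lib.Helper3.IsIrrCharacter.isCharacter hφh_irr)
  -- the multiplicity of `ϑ` in the restriction of the induced character
  have hinner : classInner (fun n : N => indFun E φh (n : G)) ϑ = (m : ℂ) := by
    have h1 := sum_indFun_mul_invariant N E φh (fun n => conj (ϑ n))
      (fun g n => by simp only [hinv g n])
    rw [classInner_def, h1]
    have h3 : (Nat.card ↥(E ⊓ N) : ℂ)⁻¹ *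
        ∑ x : ↥(E ⊓ N), ϑ ⟨(x : G), x.2.2⟩ * conj ((φ : ↥(E ⊓ N) → ℂ) x) = (m : ℂ) := by
      rw [← classInner_def]
      exact hm
    have h4 := congrArg conj h3
    simp only [map_mul, map_inv₀, map_sum, map_natCast, Complex.conj_conj] at h4
    have hD0 : (Nat.card ↥(E ⊓ N) : ℂ) ≠ 0 := by exact_mod_cast Nat.card_pos.ne'
    have h2 : ∑ x : ↥(E ⊓ N), φh ⟨(x : G), x.2.1⟩ * conj (ϑ ⟨(x : G), x.2.2⟩) =
        (Nat.card ↥(E ⊓ N) : ℂ) * (m : ℂ) := by
      rw [← h4, ← mul_assoc, mul_inv_cancel₀ hD0, one_mul]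
      refine Finset.sum_congr rfl fun x _ => ?_
      rw [hφh_res, mul_comm]
    rw [h2]
    have hN0 : (Nat.card N : ℂ) ≠ 0 := by exact_mod_cast Nat.card_pos.ne'
    have hE0 : (Nat.card E : ℂ) ≠ 0 := by exact_mod_cast Nat.card_pos.ne'
    have hrel : N.relIndex E = N.index := by
      rw [← Subgroup.relIndex_sup_right, hEN, Subgroup.relIndex_top_right]
    have hG : (Nat.card G : ℂ) = (Nat.card N : ℂ) * (N.index : ℂ) := by
      exact_mod_cast N.card_mul_index.symm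
    have hE : (Nat.card E : ℂ) = (Nat.card ↥(E ⊓ N) : ℂ) * (N.index : ℂ) := by
      rw [← hrel]
      exact_mod_cast (card_inf_mul_relIndex E N).symm
    have hI0 : (N.index : ℂ) ≠ 0 := by
      rw [hk]
      exact_mod_cast (pow_pos hp.out.pos k).ne'
    rw [hG, hE]
    field_simp
  obtain ⟨χ, e, he, hpe⟩ := exists_constituent_not_dvd N hΨ hϑ hinner hpm
  have he0 : e ≠ 0 := fun h => hpe (h ▸ dvd_zero p)
  have hne : classInner (fun n : N => (χ : G → ℂ) n) ϑ ≠ 0 := by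
    rw [he]
    exact_mod_cast he0
  have hres := restrict_eq_smul_of_invariant N χ.2 hϑ hinv hne
  rw [he] at hres
  obtain ⟨c, hc0, hc⟩ := irr_apply_one χ
  obtain ⟨d, hd0, hd⟩ := irr_apply_one (⟨ϑ, hϑ⟩ : IrrCharacter N)
  obtain ⟨hdc, hcd⟩ := Cfsg.Agent.S0887.result N χ χ.2 ϑ hϑ hne c d hc hd
  have hced : c = e * d := by
    have h1 := congrFun hres 1
    simp only [Pi.smul_apply, smul_eq_mul, Subgroup.coe_one] at h1
    have hd' : ϑ 1 = (d : ℂ) := hd
    rw [hc, hd'] at h1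
    exact_mod_cast h1
  have hcde : c / d = e := by
    rw [hced]
    exact Nat.mul_div_cancel _ (Nat.pos_of_ne_zero hd0)
  rw [hcde, hk] at hcd
  obtain ⟨i, hi, rfl⟩ := (Nat.dvd_prime_pow hp.out).mp hcd
  have hi0 : i = 0 := by
    by_contra h
    exact hpe (dvd_pow_self p h)
  subst hi0
  refine ⟨χ, χ.2, fun n => ?_⟩
  have h1 := congrFun hres n
  simpa using h1

end Main

end Cfsg.Agent.Lib.Helper81
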