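import Mathlib
import Cfsg.Agent.S2904
import Cfsg.Agent.Lib.Helper12.HupH

/-!
# Huppert's theorem: the arithmetic case analysis (for helper12, S3360)
-/

set_option autoImplicit false
set_option linter.style.haveILetI false
set_option linter.unusedVariables false
set_option linter.unusedSectionVars false

namespace Cfsg.Agent.Lib.Helper81.HupArith

open Cfsg.Agent.Lib.Helper12

/-- Huppert's theorem: the whole arithmetic case analysis, from the structure constants. -/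
theorem huppert_arith (q n m d s e0 cardH cardA : ℕ) (hq : q.Prime) (hn : n = m * d)
    (hd : 2 ≤ d) (hm : 0 < m) (hHdvd : q ^ n - 1 ∣ cardH) (hH0 : 0 < cardH)
    (hA : cardA ∣ q ^ m - 1) (hs : s.Prime) (hsA : s ∣ cardA)
    (he0 : 1 ≤ e0) (hle : s ^ e0 ≤ d)
    (hP : ∀ r : ℕ, r.Prime → r ∣ cardH → ¬ r ∣ cardA → ¬ r ∣ m →
      ∃ e, 1 ≤ e ∧ e ≤ e0 ∧ r ∣ s ^ (2 * e) - 1)
    (hI : m = 1 → cardH ∣ cardA * s ^ (2 * e0) *
      ∏ i ∈ Finset.range (2 * e0), (s ^ (2 * e0) - s ^ i)) :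
    q ^ n ∈ ({9, 25, 49, 121, 529, 81} : Set ℕ) := by
  have hq2 := hq.two_le
  have hs2 := hs.two_le
  have hn2 : 2 ≤ n := by rw [hn]; nlinarith
  have hmn : m < n := by rw [hn]; nlinarith
  have hsq : s ∣ q ^ m - 1 := hsA.trans hA
  have hse : s ≤ s ^ e0 := by
    calc s = s ^ 1 := (pow_one s).symm
      _ ≤ s ^ e0 := Nat.pow_le_pow_right (by omega) he0
  by_cases hn2' : n = 2
  · -- case (a)
    have hmd : m * d = 2 := by rw [← hn, hn2']
    have hd2 : d = 2 := by nlinarith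
    have hm1 : m = 1 := by nlinarith
    have hs_eq : s = 2 := by omega
    have he0_eq : e0 = 1 := by
      by_contra hne
      have h2e : 2 ≤ e0 := by omega
      have h3 : s ^ 2 ≤ s ^ e0 := Nat.pow_le_pow_right (by omega) h2e
      rw [hs_eq] at h3 hle
      omega
    have h24 := hI hm1
    rw [hs_eq, he0_eq] at h24
    have e24 : cardA * 2 ^ (2 * 1) * ∏ i ∈ Finset.range (2 * 1), (2 ^ (2 * 1) - 2 ^ i)
        = cardA * 24 := by
      simp [Finset.prod_range_succ]; ring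
    rw [e24] at h24
    have hA1 : cardA ∣ q - 1 := by
      have := hA; rw [hm1, pow_one] at this; exact this
    have h2A : 2 ∣ q - 1 := (hs_eq ▸ hsA : 2 ∣ cardA).trans hA1
    have hfin := Hup.case_two q cardA hq h2A hA1 ((hn2' ▸ hHdvd).trans h24)
    rw [hn2']; exact hfin
  by_cases h26 : q = 2 ∧ n = 6
  · -- case (b)
    exfalso
    obtain ⟨hq_eq, hn6⟩ := h26
    have h6 : 6 = m * d := by rw [← hn, hn6]
    have hs2m : s ∣ 2 ^ m - 1 := hq_eq ▸ hsq
    obtain ⟨hm2, hs3, hd3, he1⟩ := Hup.case_two_six m d s e0 h6 hd hs hs2m hle he0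
    have hA3 : cardA ∣ 3 := by
      have := hA; rw [hq_eq, hm2] at this; norm_num at this; exact this
    have h7H : 7 ∣ cardH := by
      have h63 : q ^ n - 1 = 63 := by rw [hq_eq, hn6]; norm_num
      rw [h63] at hHdvd
      exact (by norm_num : 7 ∣ 63).trans hHdvd
    have h7A : ¬ 7 ∣ cardA := fun h => by
      have := h.trans hA3; norm_num at this
    have h7m : ¬ 7 ∣ m := by rw [hm2]; norm_num
    obtain ⟨e, he1', hee, h7⟩ := hP 7 (by norm_num) h7H h7A h7m
    have he : e = 1 := by omega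
    rw [he, hs3] at h7
    norm_num at h7
  -- case (c)
  have hn3 : 3 ≤ n := by omega
  obtain ⟨r, hr, hrdvd, hrprim⟩ :=
    Cfsg.Agent.S2904.result q n (by omega) (by omega) h26 (fun h => hn2' h.1)
  have hnr : n ∣ r - 1 := Hup.zsig_dvd_sub_one q n r (by omega) (by omega) hr hrdvd hrprim
  have hr2 := hr.two_le
  have hnr' : n ≤ r - 1 := Nat.le_of_dvd (by omega) hnr
  have hrm : ¬ r ∣ m := fun h => by
    have := Nat.le_of_dvd hm h; omega
  have hrA : ¬ r ∣ cardA := fun h => hrprim m hm hmn (h.trans hA)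
  have hrH : r ∣ cardH := hrdvd.trans hHdvd
  obtain ⟨e, he1, hee, hre⟩ := hP r hr hrH hrA hrm
  obtain ⟨hm1, hee0, hds, hrs⟩ :=
    Hup.zsig_chain m d n s e0 e r hn hd hm hs hle he1 hee hr hre hnr
  have hnd : n = s ^ e0 := by rw [hn, hm1, one_mul, hds]
  have hs_eq : s = 2 :=
    Hup.s_eq_two s e0 hs (by rw [← hnd]; exact hn3) (by rw [← hrs]; exact hr)
  rw [hs_eq] at hnd hrs hds
  have hA1 : cardA ∣ q - 1 := by
    have := hA; rw [hm1, pow_one] at this; exact this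
  have h2A : 2 ∣ q - 1 := (hs_eq ▸ hsA : 2 ∣ cardA).trans hA1
  have hk2 : 2 ≤ e0 := by
    by_contra h
    have h1 : e0 = 1 := by omega
    rw [h1] at hnd; omega
  by_cases hk : e0 = 2
  · -- (c1)
    have h322 := hI hm1
    rw [hs_eq, hk] at h322
    have e322 : cardA * 2 ^ (2 * 2) * ∏ i ∈ Finset.range (2 * 2), (2 ^ (2 * 2) - 2 ^ i)
        = cardA * 322560 := by
      simp [Finset.prod_range_succ]; ring
    rw [e322] at h322
    have hn4 : n = 4 := by rw [hnd, hk]; norm_num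
    have hq3 := Hup.case_four q cardA hq h2A hA1 ((hn4 ▸ hHdvd).trans h322)
    rw [hn4, hq3]; norm_num
  · -- (c2)
    have hk3 : 3 ≤ e0 := by omega
    exfalso
    have h4 : 4 ≤ 2 ^ (e0 - 1) := by
      calc 4 = 2 ^ 2 := by norm_num
        _ ≤ 2 ^ (e0 - 1) := Nat.pow_le_pow_right (by norm_num) (by omega)
    have hne6 : 2 ^ (e0 - 1) ≠ 6 := by
      intro h
      have h4d : (2 : ℕ) ^ 2 ∣ 2 ^ (e0 - 1) := pow_dvd_pow 2 (by omega)
      rw [h] at h4d; norm_num at h4d
    obtain ⟨r2, hr2p, hr2dvd, hr2prim⟩ :=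
      Cfsg.Agent.S2904.result q (2 ^ (e0 - 1)) (by omega) (by omega)
        (fun h => hne6 h.2) (fun h => by omega)
    have hpk : 2 ^ e0 = 2 ^ (e0 - 1) * 2 := by
      rw [← pow_succ]; congr 1; omega
    have hr2n : r2 ∣ q ^ n - 1 := by
      rw [hnd, hpk, pow_mul]
      have h5 := Nat.sub_dvd_pow_sub_pow (q ^ 2 ^ (e0 - 1)) 1 2
      rw [one_pow] at h5
      exact hr2dvd.trans h5
    have hr2H : r2 ∣ cardH := hr2n.trans hHdvd
    have hr2A : ¬ r2 ∣ cardA := fun h =>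
      hr2prim 1 (by norm_num) (by omega) (by rw [pow_one]; exact h.trans hA1)
    have hr2m : ¬ r2 ∣ m := by
      rw [hm1]
      intro h
      have h6 := Nat.le_of_dvd one_pos h
      have h7 := hr2p.two_le
      omega
    obtain ⟨e', he1', hee', hr2e⟩ := hP r2 hr2p hr2H hr2A hr2m
    rw [hs_eq] at hr2e
    have hne : r2 ≠ 2 ^ e0 + 1 := by
      intro h
      have h8 : r2 = r := by rw [h, hrs]
      rw [h8] at hr2dvd
      exact hrprim (2 ^ (e0 - 1)) (by omega) (by rw [hnd, hpk]; omega) hr2dvd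
    have hdvd1 : 2 ^ (e0 - 1) ∣ r2 - 1 :=
      Hup.zsig_dvd_sub_one q (2 ^ (e0 - 1)) r2 (by omega) (by omega) hr2p hr2dvd hr2prim
    have hr2eq := Hup.second_prime e0 r2 e' hk2 hr2p hdvd1 he1' hee' hr2e hne
    exact Hup.fermat_consecutive e0 hk3 (hr2eq ▸ hr2p) (hrs ▸ hr)

end Cfsg.Agent.Lib.Helper81.HupArith
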