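import Mathlib

/-!
# Fusion of involutions in simple groups with Klein four Sylow 2-subgroups;
two-transitivity from a subgroup of a point stabiliser transitive on the other points
-/

set_option autoImplicit false
set_option linter.unusedSectionVars false
set_option linter.unusedVariables false
set_option linter.style.haveILetI false

namespace Cfsg.Agent.Lib.Helper81.KleinFuse

open Subgroup
open scoped Pointwise

/-- Two-transitivity from a subgroup of a point stabiliser which is transitive on the other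
points. -/
theorem two_pretransitive_of_regular {G α : Type*} [Group G] [MulAction G α]
    [MulAction.IsPretransitive G α] (a : α) (Q : Subgroup G)
    (hQ : Q ≤ MulAction.stabilizer G a)
    (htr : ∀ b c : α, b ≠ a → c ≠ a → ∃ q ∈ Q, q • b = c) :
    MulAction.IsMultiplyPretransitive G α 2 := by
  rw [MulAction.is_two_pretransitive_iff]
  intro x y z w hxy hzw
  obtain ⟨g1, hg1⟩ := MulAction.exists_smul_eq G x a
  obtain ⟨g2, hg2⟩ := MulAction.exists_smul_eq G z a
  have hy' : g1 • y ≠ a := by
    intro h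
    apply hxy
    exact MulAction.injective g1 (hg1.trans h.symm)
  have hw' : g2 • w ≠ a := by
    intro h
    apply hzw
    exact MulAction.injective g2 (hg2.trans h.symm)
  obtain ⟨q, hqQ, hq⟩ := htr (g1 • y) (g2 • w) hy' hw'
  have hqa : q • a = a := MulAction.mem_stabilizer_iff.mp (hQ hqQ)
  refine ⟨g2⁻¹ * q * g1, ?_, ?_⟩
  · rw [mul_smul, mul_smul, hg1, hqa, ← hg2, inv_smul_smul]
  · rw [mul_smul, mul_smul, hq, inv_smul_smul]

variable {G : Type*} [Group G]

/-- A `2`-element normalising a Sylow `2`-subgroup lies in it. -/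
theorem mem_sylow_of_two_elt [Finite G] (S : Sylow 2 G) {g : G}
    (hgN : g ∈ normalizer ((S : Subgroup G) : Set G)) (e : ℕ) (hg : orderOf g = 2 ^ e) :
    g ∈ (S : Subgroup G) := by
  haveI : Fact (Nat.Prime 2) := ⟨Nat.prime_two⟩
  have hz : IsPGroup 2 (zpowers g) := IsPGroup.of_card (n := e) (by rw [Nat.card_zpowers, hg])
  have hle : zpowers g ≤ normalizer ((S : Subgroup G) : Set G) := (zpowers_le).mpr hgN
  have hsup : IsPGroup 2 (zpowers g ⊔ (S : Subgroup G) : Subgroup G) :=
    hz.to_sup_of_normal_right' S.2 hle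
  have := S.is_maximal' hsup le_sup_right
  rw [← this]
  exact (le_sup_left : zpowers g ≤ _) (mem_zpowers g)

/-- The elements of a group of order four containing two distinct nonidentity elements. -/
theorem mem_four (P : Subgroup G) (hcard : Nat.card P = 4) {a b : G} (ha : a ∈ P) (hb : b ∈ P)
    (ha1 : a ≠ 1) (hb1 : b ≠ 1) (hab : a ≠ b) (hab1 : a * b ≠ 1) :
    ∀ s ∈ P, s = 1 ∨ s = a ∨ s = b ∨ s = a * b := by
  classical
  intro s hs
  by_contra hcon
  push Not at hcon
  obtain ⟨h1, h2, h3, h4⟩ := hcon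
  haveI : Finite P := Nat.finite_of_card_ne_zero (by rw [hcard]; norm_num)
  haveI := Fintype.ofFinite P
  let T : Finset P := {⟨1, P.one_mem⟩, ⟨a, ha⟩, ⟨b, hb⟩, ⟨a * b, P.mul_mem ha hb⟩, ⟨s, hs⟩}
  have hT : T.card = 5 := by
    have e1 : (⟨a * b, P.mul_mem ha hb⟩ : P) ≠ ⟨s, hs⟩ := fun h => h4 (congrArg Subtype.val h).symm
    have e2 : (⟨b, hb⟩ : P) ≠ ⟨s, hs⟩ := fun h => h3 (congrArg Subtype.val h).symm
    have e3 : (⟨b, hb⟩ : P) ≠ ⟨a * b, P.mul_mem ha hb⟩ := by
      intro h
      have : b = a * b := congrArg Subtype.val h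
      exact ha1 (by simpa using this)
    have e4 : (⟨a, ha⟩ : P) ≠ ⟨s, hs⟩ := fun h => h2 (congrArg Subtype.val h).symm
    have e5 : (⟨a, ha⟩ : P) ≠ ⟨a * b, P.mul_mem ha hb⟩ := by
      intro h
      have : a = a * b := congrArg Subtype.val h
      exact hb1 (by simpa using this)
    have e6 : (⟨a, ha⟩ : P) ≠ ⟨b, hb⟩ := fun h => hab (congrArg Subtype.val h)
    have e7 : (⟨1, P.one_mem⟩ : P) ≠ ⟨s, hs⟩ := fun h => h1 (congrArg Subtype.val h).symm
    have e8 : (⟨1, P.one_mem⟩ : P) ≠ ⟨a * b, P.mul_mem ha hb⟩ :=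
      fun h => hab1 (congrArg Subtype.val h).symm
    have e9 : (⟨1, P.one_mem⟩ : P) ≠ ⟨b, hb⟩ := fun h => hb1 (congrArg Subtype.val h).symm
    have e10 : (⟨1, P.one_mem⟩ : P) ≠ ⟨a, ha⟩ := fun h => ha1 (congrArg Subtype.val h).symm
    simp only [T]
    rw [Finset.card_insert_of_notMem, Finset.card_insert_of_notMem, Finset.card_insert_of_notMem,
      Finset.card_insert_of_notMem, Finset.card_singleton]
    · simp [e1]
    · simp [e2, e3]
    · simp [e4, e5, e6]
    · simp [e7, e8, e9, e10]
  have := Finset.card_le_univ T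
  rw [hT, ← Nat.card_eq_fintype_card, hcard] at this
  omega

/-- In a finite simple group whose Sylow `2`-subgroups are Klein four-groups, all involutions
are conjugate. -/
theorem klein_one_class [Finite G] [IsSimpleGroup G] (S : Sylow 2 G)
    (hcard : Nat.card (S : Subgroup G) = 4) (hexp : ∀ s ∈ (S : Subgroup G), s ^ 2 = 1)
    (x y : G) (hx : orderOf x = 2) (hy : orderOf y = 2) : ∃ g : G, g * x * g⁻¹ = y := by
  classical
  haveI : Fact (Nat.Prime 2) := ⟨Nat.prime_two⟩
  -- the Sylow subgroup is abelian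
  have hinv : ∀ s ∈ (S : Subgroup G), s⁻¹ = s := by
    intro s hs
    have := hexp s hs
    rw [pow_two] at this
    exact inv_eq_of_mul_eq_one_left this
  have hcomm : ∀ s ∈ (S : Subgroup G), ∀ t ∈ (S : Subgroup G), s * t = t * s := by
    intro s hs t ht
    have h1 := hinv (s * t) ((S : Subgroup G).mul_mem hs ht)
    rw [mul_inv_rev, hinv s hs, hinv t ht] at h1
    exact h1.symm
  -- Burnside
  have hNC : ¬ normalizer ((S : Subgroup G) : Set G) ≤ centralizer ((S : Subgroup G) : Set G) := by
    intro hP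
    have hc := MonoidHom.ker_transferSylow_isComplement' S hP
    rcases IsSimpleGroup.eq_bot_or_eq_top_of_normal (MonoidHom.transferSylow S hP).ker
      inferInstance with hK | hK
    · rw [hK, isComplement'_bot_left] at hc
      -- `G` has order 4
      have hG4 : Nat.card G = 4 := by
        rw [← hcard, hc, Subgroup.card_top]
      have hz2 : Nat.card (zpowers x) = 2 := by rw [Nat.card_zpowers, hx]
      have hidx : (zpowers x).index = 2 := by
        have := (zpowers x).index_mul_card
        rw [hz2, hG4] at this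
        omega
      haveI : (zpowers x).Normal := normal_of_index_eq_two hidx
      rcases IsSimpleGroup.eq_bot_or_eq_top_of_normal (zpowers x) inferInstance with h | h
      · rw [h, Subgroup.card_bot] at hz2
        omega
      · rw [h, Subgroup.card_top, hG4] at hz2
        omega
    · rw [hK, isComplement'_top_left] at hc
      rw [hc, Subgroup.card_bot] at hcard
      omega
  rw [SetLike.not_le_iff_exists] at hNC
  obtain ⟨n, hnN, hnC⟩ := hNC
  rw [mem_centralizer_iff] at hnC
  push Not at hnC
  obtain ⟨a, haS, han⟩ := hnC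
  have haS' : a ∈ (S : Subgroup G) := haS
  have hconjS : ∀ s ∈ (S : Subgroup G), n * s * n⁻¹ ∈ (S : Subgroup G) := by
    intro s hs
    exact (mem_normalizer_iff.mp hnN s).mp hs
  set b := n * a * n⁻¹ with hb
  have hbS : b ∈ (S : Subgroup G) := hconjS a haS'
  have ha1 : a ≠ 1 := by
    rintro rfl
    simp at han
  have hb1 : b ≠ 1 := by
    intro h
    apply ha1
    have : n * a * n⁻¹ = 1 := h
    have h2 : a = n⁻¹ * (n * a * n⁻¹) * n := by group
    rw [h2, this]
    group
  have hab : a ≠ b := by
    intro h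
    apply han
    have : a = n * a * n⁻¹ := h
    calc a * n = n * a * n⁻¹ * n := by rw [← this]
      _ = n * a := by group
  have hab1 : a * b ≠ 1 := by
    intro h
    apply hab
    have := eq_inv_of_mul_eq_one_left h
    rw [hinv b hbS] at this
    exact this
  have hfour := mem_four (S : Subgroup G) hcard haS' hbS ha1 hb1 hab hab1
  set c := a * b with hc
  have hcS : c ∈ (S : Subgroup G) := (S : Subgroup G).mul_mem haS' hbS
  -- the image of `b`
  set d := n * b * n⁻¹ with hd
  have hdS : d ∈ (S : Subgroup G) := hconjS b hbS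
  have hd1 : d ≠ 1 := by
    intro h
    apply hb1
    have : n * b * n⁻¹ = 1 := h
    have h2 : b = n⁻¹ * (n * b * n⁻¹) * n := by group
    rw [h2, this]
    group
  have hdb : d ≠ b := by
    intro h
    apply hab
    have : n * b * n⁻¹ = n * a * n⁻¹ := h
    have h2 : b = n⁻¹ * (n * b * n⁻¹) * n := by group
    have h3 : a = n⁻¹ * (n * a * n⁻¹) * n := by group
    rw [h3, ← this, ← h2]
  have hdc : d = c := by
    rcases hfour d hdS with h | h | h | h
    · exact absurd h hd1
    · -- `n` swaps `a` and `b`: impossible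
      exfalso
      -- `n * n` commutes with `a`
      have hnn : n * n * a = a * (n * n) := by
        have : n * (n * a * n⁻¹) * n⁻¹ = a := h
        calc n * n * a = n * (n * a * n⁻¹) * n⁻¹ * (n * n) := by group
          _ = a * (n * n) := by rw [this]
      have hcomm2 : Commute (n * n) a := hnn
      obtain ⟨e, r, hr, hk⟩ := Nat.exists_eq_two_pow_mul_odd (n := orderOf n)
        (orderOf_pos n).ne'
      obtain ⟨j, rfl⟩ := hr
      -- `n ^ (2 * j + 1)` has order `2 ^ e`
      have hord : orderOf (n ^ (2 * j + 1)) = 2 ^ e := by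
        rw [orderOf_pow' n (by omega), hk, Nat.gcd_eq_right (Dvd.intro_left _ rfl)]
        exact Nat.mul_div_cancel _ (by omega)
      have hmemN : n ^ (2 * j + 1) ∈ normalizer ((S : Subgroup G) : Set G) :=
        Subgroup.pow_mem _ hnN _
      have hmemS := mem_sylow_of_two_elt S hmemN e hord
      have hc1 := hcomm _ hmemS a haS'
      -- but `n ^ (2 * j + 1)` conjugates `a` to `b`
      have hpow : n ^ (2 * j + 1) = (n * n) ^ j * n := by
        rw [pow_succ, pow_mul, pow_two]
      have hc2 : Commute ((n * n) ^ j) a := hcomm2.pow_left j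
      have : n ^ (2 * j + 1) * a = b * n ^ (2 * j + 1) := by
        have hnb : n * a = b * n := by rw [hb]; group
        -- `(n * n) ^ j` commutes with `b` as well
        have hcomm3 : Commute (n * n) b := by
          have : n * (n * b * n⁻¹) * n⁻¹ = b := by
            change n * d * n⁻¹ = b
            rw [h]
          unfold Commute SemiconjBy
          calc n * n * b = n * (n * b * n⁻¹) * n⁻¹ * (n * n) := by group
            _ = b * (n * n) := by rw [this]
        have hc3 : Commute ((n * n) ^ j) b := hcomm3.pow_left j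
        rw [hpow, mul_assoc, hnb, ← mul_assoc, hc3.eq, mul_assoc]
      rw [hc1] at this
      exact hab (mul_right_cancel this)
    · exact absurd h hdb
    · exact h
  -- `n` permutes `a, b, c` cyclically
  have h1 : n * a * n⁻¹ = b := rfl
  have h2 : n * b * n⁻¹ = c := hdc
  have h3 : n * c * n⁻¹ = a := by
    have : n * c * n⁻¹ = (n * a * n⁻¹) * (n * b * n⁻¹) := by rw [hc]; group
    rw [this, h1, h2, hc, hcomm b hbS (a * b) hcS, mul_assoc]
    have := hexp b hbS
    rw [pow_two] at this
    rw [this, mul_one]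
  have hsq : ∀ u : G, (n * n) * u * (n * n)⁻¹ = n * (n * u * n⁻¹) * n⁻¹ := by
    intro u; group
  have key : ∀ u v : G, (u = a ∨ u = b ∨ u = c) → (v = a ∨ v = b ∨ v = c) →
      ∃ h : G, h * u * h⁻¹ = v := by
    rintro u v (rfl | rfl | rfl) (rfl | rfl | rfl)
    · exact ⟨1, by group⟩
    · exact ⟨n, h1⟩
    · exact ⟨n * n, by rw [hsq, h1, h2]⟩
    · exact ⟨n * n, by rw [hsq, h2, h3]⟩
    · exact ⟨1, by group⟩
    · exact ⟨n, h2⟩
    · exact ⟨n, h3⟩
    · exact ⟨n * n, by rw [hsq, h3, h1]⟩
    · exact ⟨1, by group⟩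
  -- move involutions into `S`
  have hmove : ∀ t : G, orderOf t = 2 → ∃ g : G, g * t * g⁻¹ ∈ (S : Subgroup G) := by
    intro t ht
    have hz : IsPGroup 2 (zpowers t) :=
      IsPGroup.of_card (n := 1) (by rw [Nat.card_zpowers, ht, pow_one])
    obtain ⟨R, hR⟩ := hz.exists_le_sylow
    obtain ⟨g, hg⟩ := MulAction.exists_smul_eq G R S
    refine ⟨g, ?_⟩
    have htR : t ∈ (R : Subgroup G) := hR (mem_zpowers t)
    have : MulAut.conj g • t ∈ MulAut.conj g • (R : Subgroup G) :=
      Subgroup.smul_mem_pointwise_smul t (MulAut.conj g) (R : Subgroup G) htR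
    rw [← Sylow.coe_subgroup_smul, hg] at this
    simpa [MulAut.smul_def, MulAut.conj_apply] using this
  have hcls : ∀ t : G, orderOf t = 2 → t ∈ (S : Subgroup G) → t = a ∨ t = b ∨ t = c := by
    intro t ht htS
    rcases hfour t htS with h | h | h | h
    · rw [h, orderOf_one] at ht
      omega
    · exact Or.inl h
    · exact Or.inr (Or.inl h)
    · exact Or.inr (Or.inr h)
  have hord_conj : ∀ (g t : G), orderOf (g * t * g⁻¹) = orderOf t := by
    intro g t
    have := orderOf_injective (MulAut.conj g).toMonoidHom (MulAut.conj g).injective t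
    simpa [MulAut.conj_apply] using this
  obtain ⟨g1, hg1⟩ := hmove x hx
  obtain ⟨g2, hg2⟩ := hmove y hy
  obtain ⟨h, hh⟩ := key (g1 * x * g1⁻¹) (g2 * y * g2⁻¹)
    (hcls _ (by rw [hord_conj, hx]) hg1) (hcls _ (by rw [hord_conj, hy]) hg2)
  refine ⟨g2⁻¹ * h * g1, ?_⟩
  have : g2⁻¹ * h * g1 * x * (g2⁻¹ * h * g1)⁻¹ = g2⁻¹ * (h * (g1 * x * g1⁻¹) * h⁻¹) * g2 := by
    group
  rw [this, hh]
  group

/-- The same for Sylow `2`-subgroups isomorphic to the dihedral group of order four. -/
theorem klein_one_class' [Finite G] [IsSimpleGroup G] (S : Sylow 2 G)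
    (hS : Nonempty ((S : Subgroup G) ≃* DihedralGroup 2))
    (x y : G) (hx : orderOf x = 2) (hy : orderOf y = 2) : ∃ g : G, g * x * g⁻¹ = y := by
  obtain ⟨e⟩ := hS
  apply klein_one_class S _ _ x y hx hy
  · rw [Nat.card_congr e.toEquiv, Nat.card_eq_fintype_card, DihedralGroup.card]
  · intro s hs
    have h1 : ∀ d : DihedralGroup 2, d ^ 2 = 1 := by decide
    have h2 := h1 (e ⟨s, hs⟩)
    rw [← map_pow, ← map_one e] at h2
    have h3 := e.injective h2
    exact congrArg Subtype.val h3

end Cfsg.Agent.Lib.Helper81.KleinFuse
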