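import Mathlib

/-!
# The combinatorial core of the Brauer–Leonard theorem

An abstract setting: index sets `Λ` (irreducible characters of the abelian Sylow subgroup),
`Φ` (irreducible characters of the complement of the centralizer), `Ψ` (irreducible characters of
the group), a group `Γ` (the normalizer) acting on `Λ` and `Φ`, and the multiplicity matrices
`M ψ : Λ → Φ → ℤ`.
-/

set_option autoImplicit false
set_option linter.unusedSectionVars false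

namespace Cfsg.Agent.Lib.Helper81.Leo

open Finset

/-- The abstract data. -/
structure Core (Λ : Type*) (Φ : Type*) (Ψ : Type*) (Γ : Type*) [Fintype Λ] [Fintype Φ]
    [Fintype Ψ] [Group Γ] [MulAction Γ Λ] [MulAction Γ Φ] where
  q : ℕ
  t : ℕ
  oneΛ : Λ
  oneΦ : Φ
  oneΨ : Ψ
  degΦ : Φ → ℤ
  degΨ : Ψ → ℤ
  M : Ψ → Λ → Φ → ℤ
  M_nonneg : ∀ ψ l φ, 0 ≤ M ψ l φ
  card_Λ : Fintype.card Λ = q
  t_pos : 0 < t
  degΦ_pos : ∀ φ, 0 < degΦ φ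
  degΦ_one : degΦ oneΦ = 1
  degΨ_pos : ∀ ψ, 0 < degΨ ψ
  smul_oneΛ : ∀ u : Γ, u • oneΛ = oneΛ
  smul_oneΦ : ∀ u : Γ, u • oneΦ = oneΦ
  degΦ_smul : ∀ (u : Γ) (φ : Φ), degΦ (u • φ) = degΦ φ
  M_smul : ∀ (ψ : Ψ) (u : Γ) (l : Λ) (φ : Φ), M ψ (u • l) (u • φ) = M ψ l φ
  orbit_card : ∀ l : Λ, l ≠ oneΛ → Nat.card (MulAction.orbit Γ l) = t
  degΨ_eq : ∀ ψ, degΨ ψ = ∑ l, ∑ φ, M ψ l φ * degΦ φ
  M_one_one : M oneΨ oneΛ oneΦ = 1
  M_one_ne : ∀ l φ, ¬ (l = oneΛ ∧ φ = oneΦ) → M oneΨ l φ = 0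
  ti : ∀ ψ, (q : ℤ) * ∑ l, ∑ φ, (M ψ l φ) ^ 2 < q * t + ∑ φ, (∑ l, M ψ l φ) ^ 2
  h0 : ∀ ψ, ψ ≠ oneΨ → ∃ l, l ≠ oneΛ ∧ ∃ φ, M ψ l φ ≠ 0
  norm2 : ∀ (φ : Φ) (l l' : Λ), l ≠ oneΛ → l' ≠ oneΛ → (∀ u : Γ, ¬ (u • l' = l ∧ u • φ = φ)) →
      ∃ μ₁ μ₂ : Ψ, μ₁ ≠ μ₂ ∧ degΨ μ₁ = degΨ μ₂ ∧ M μ₁ l φ = M μ₁ l' φ + 1 ∧
        M μ₂ l' φ = M μ₂ l φ + 1 ∧ ∀ ψ, ψ ≠ μ₁ → ψ ≠ μ₂ → M ψ l φ = M ψ l' φ
  prod : ∀ χ χ' : Ψ, ∃ n : Ψ → ℤ, (∀ ψ, 0 ≤ n ψ) ∧
      degΨ χ * degΨ χ' = ∑ ψ, n ψ * degΨ ψ ∧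
      (χ = χ' → n oneΨ = 1) ∧
      ∑ ψ, n ψ * M ψ oneΛ oneΦ = ∑ l, ∑ φ, M χ l φ * M χ' l φ ∧
      ∑ ψ, n ψ * ∑ l, M ψ l oneΦ = ∑ φ, (∑ l, M χ l φ) * (∑ l, M χ' l φ)

namespace Core

variable {Λ : Type*} {Φ : Type*} {Ψ : Type*} {Γ : Type*} [Fintype Λ] [Fintype Φ]
    [Fintype Ψ] [Group Γ] [MulAction Γ Λ] [MulAction Γ Φ] (D : Core Λ Φ Ψ Γ)

/-- The squared norm of a row. -/
def nrm (ψ : Ψ) (l : Λ) : ℤ := ∑ φ, (D.M ψ l φ) ^ 2

/-- The degree of a row. -/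
def rdeg (ψ : Ψ) (l : Λ) : ℤ := ∑ φ, D.M ψ l φ * D.degΦ φ

theorem nrm_nonneg (ψ : Ψ) (l : Λ) : 0 ≤ D.nrm ψ l :=
  Finset.sum_nonneg fun _ _ => sq_nonneg _

theorem rdeg_nonneg (ψ : Ψ) (l : Λ) : 0 ≤ D.rdeg ψ l :=
  Finset.sum_nonneg fun φ _ => mul_nonneg (D.M_nonneg ψ l φ) (D.degΦ_pos φ).le

theorem nrm_smul (ψ : Ψ) (u : Γ) (l : Λ) : D.nrm ψ (u • l) = D.nrm ψ l := by
  unfold nrm
  rw [← Equiv.sum_comp (MulAction.toPerm u) (fun φ => (D.M ψ (u • l) φ) ^ 2)]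
  refine Finset.sum_congr rfl fun φ _ => ?_
  simp only [MulAction.toPerm_apply]
  rw [D.M_smul]

theorem rdeg_smul (ψ : Ψ) (u : Γ) (l : Λ) : D.rdeg ψ (u • l) = D.rdeg ψ l := by
  unfold rdeg
  rw [← Equiv.sum_comp (MulAction.toPerm u) (fun φ => D.M ψ (u • l) φ * D.degΦ φ)]
  refine Finset.sum_congr rfl fun φ _ => ?_
  simp only [MulAction.toPerm_apply]
  rw [D.M_smul, D.degΦ_smul]

theorem degΨ_eq_sum_rdeg (ψ : Ψ) : D.degΨ ψ = ∑ l, D.rdeg ψ l := D.degΨ_eq ψ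

theorem nrm_pos_of_ne {ψ : Ψ} {l : Λ} {φ : Φ} (h : D.M ψ l φ ≠ 0) : 1 ≤ D.nrm ψ l := by
  unfold nrm
  have h1 : (D.M ψ l φ) ^ 2 ≤ ∑ φ, (D.M ψ l φ) ^ 2 :=
    Finset.single_le_sum (f := fun φ => (D.M ψ l φ) ^ 2) (fun _ _ => sq_nonneg _) (Finset.mem_univ φ)
  have h2 := D.M_nonneg ψ l φ
  have h3 : 1 ≤ D.M ψ l φ := by omega
  nlinarith

theorem rdeg_pos_of_ne {ψ : Ψ} {l : Λ} {φ : Φ} (h : D.M ψ l φ ≠ 0) : 1 ≤ D.rdeg ψ l := by
  unfold rdeg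
  have h1 : D.M ψ l φ * D.degΦ φ ≤ ∑ φ, D.M ψ l φ * D.degΦ φ :=
    Finset.single_le_sum (f := fun φ => D.M ψ l φ * D.degΦ φ)
      (fun φ _ => mul_nonneg (D.M_nonneg ψ l φ) (D.degΦ_pos φ).le) (Finset.mem_univ φ)
  have h2 := D.M_nonneg ψ l φ
  have h3 : 1 ≤ D.M ψ l φ := by omega
  have h4 := D.degΦ_pos φ
  nlinarith

theorem M_eq_zero_of_nrm {ψ : Ψ} {l : Λ} (h : D.nrm ψ l = 0) (φ : Φ) : D.M ψ l φ = 0 := by
  by_contra hne
  have := D.nrm_pos_of_ne hne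
  omega

theorem rdeg_ge_nrm_pos (ψ : Ψ) (l : Λ) (h : D.nrm ψ l ≠ 0) : 1 ≤ D.rdeg ψ l := by
  by_contra hlt
  apply h
  unfold nrm
  apply Finset.sum_eq_zero
  intro φ _
  by_contra hne
  have hne' : D.M ψ l φ ≠ 0 := fun h0 => hne (by rw [h0]; ring)
  exact hlt (D.rdeg_pos_of_ne hne')

/-! ### Orbits -/

open Classical in
/-- The orbit of `l`, as a finset. -/
noncomputable def orb (_D : Core Λ Φ Ψ Γ) (l : Λ) : Finset Λ :=
  Finset.univ.filter fun κ => ∃ u : Γ, u • l = κ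

theorem mem_orb {l κ : Λ} : κ ∈ D.orb l ↔ ∃ u : Γ, u • l = κ := by
  classical
  simp [orb]

theorem self_mem_orb (l : Λ) : l ∈ D.orb l := D.mem_orb.mpr ⟨1, one_smul _ _⟩

theorem smul_mem_orb (u : Γ) (l : Λ) : u • l ∈ D.orb l := D.mem_orb.mpr ⟨u, rfl⟩

theorem orb_eq_of_mem {l κ : Λ} (h : κ ∈ D.orb l) : D.orb κ = D.orb l := by
  obtain ⟨u, rfl⟩ := D.mem_orb.mp h
  ext m
  rw [D.mem_orb, D.mem_orb]
  constructor
  · rintro ⟨v, rfl⟩
    exact ⟨v * u, mul_smul _ _ _⟩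
  · rintro ⟨v, rfl⟩
    exact ⟨v * u⁻¹, by rw [mul_smul, inv_smul_smul]⟩

theorem mem_orb_symm {l κ : Λ} (h : κ ∈ D.orb l) : l ∈ D.orb κ := by
  rw [D.orb_eq_of_mem h]
  exact D.self_mem_orb l

theorem card_orb {l : Λ} (hl : l ≠ D.oneΛ) : (D.orb l).card = D.t := by
  classical
  rw [← D.orbit_card l hl, Nat.card_eq_fintype_card, Fintype.card_subtype]
  congr 1

theorem one_notMem_orb {l : Λ} (hl : l ≠ D.oneΛ) : D.oneΛ ∉ D.orb l := by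
  intro h
  obtain ⟨u, hu⟩ := D.mem_orb.mp h
  apply hl
  have : l = u⁻¹ • D.oneΛ := by rw [← hu, inv_smul_smul]
  rw [this, D.smul_oneΛ]

theorem ne_one_of_mem_orb {l κ : Λ} (hl : l ≠ D.oneΛ) (h : κ ∈ D.orb l) : κ ≠ D.oneΛ := by
  rintro rfl
  exact D.one_notMem_orb hl h

theorem orb_subset {S : Finset Λ} (hS : ∀ (u : Γ) (l : Λ), l ∈ S → u • l ∈ S) {l : Λ}
    (hl : l ∈ S) : D.orb l ⊆ S := by
  intro κ hκ
  obtain ⟨u, rfl⟩ := D.mem_orb.mp hκ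
  exact hS u l hl

theorem disjoint_orb {l κ : Λ} (h : κ ∉ D.orb l) : Disjoint (D.orb l) (D.orb κ) := by
  rw [Finset.disjoint_left]
  intro m hm hm'
  apply h
  rw [← D.orb_eq_of_mem hm]
  exact D.mem_orb_symm hm'

theorem dvd_card_of_invariant (S : Finset Λ) (hS : ∀ (u : Γ) (l : Λ), l ∈ S → u • l ∈ S)
    (h1 : D.oneΛ ∉ S) : D.t ∣ S.card := by
  classical
  induction' hn : S.card using Nat.strong_induction_on with n ih generalizing S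
  by_cases hemp : S = ∅
  · rw [← hn, hemp]
    simp
  obtain ⟨l, hl⟩ := Finset.nonempty_iff_ne_empty.mpr hemp
  have hl1 : l ≠ D.oneΛ := by
    rintro rfl
    exact h1 hl
  have hsub : D.orb l ⊆ S := D.orb_subset hS hl
  have hT : ∀ (u : Γ) (l' : Λ), l' ∈ S \ D.orb l → u • l' ∈ S \ D.orb l := by
    intro u l' hl'
    rw [Finset.mem_sdiff] at hl' ⊢
    refine ⟨hS u l' hl'.1, fun hh => hl'.2 ?_⟩
    obtain ⟨v, hv⟩ := D.mem_orb.mp hh
    rw [D.mem_orb]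
    refine ⟨u⁻¹ * v, ?_⟩
    rw [mul_smul, hv, inv_smul_smul]
  have hcard : (S \ D.orb l).card = S.card - D.t := by
    rw [Finset.card_sdiff_of_subset hsub, D.card_orb hl1]
  have htle : D.t ≤ S.card := by
    rw [← D.card_orb hl1]
    exact Finset.card_le_card hsub
  have hlt : (S \ D.orb l).card < n := by
    rw [hcard, ← hn]
    have := D.t_pos
    omega
  have := ih _ hlt (S \ D.orb l) hT (fun hh => h1 (Finset.mem_sdiff.mp hh).1) rfl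
  rw [hcard] at this
  rw [← hn]
  exact (Nat.dvd_sub_iff_left htle (dvd_refl _)).mp this

theorem t_dvd : D.t ∣ D.q - 1 := by
  classical
  have h := D.dvd_card_of_invariant (Finset.univ.erase D.oneΛ) (by
    intro u l hl
    rw [Finset.mem_erase] at hl ⊢
    refine ⟨fun hh => hl.1 ?_, Finset.mem_univ _⟩
    have : l = u⁻¹ • D.oneΛ := by rw [← hh, inv_smul_smul]
    rw [this, D.smul_oneΛ]) (Finset.notMem_erase _ _)
  rwa [Finset.card_erase_of_mem (Finset.mem_univ _), Finset.card_univ, D.card_Λ] at h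

/-! ### The basic inequality -/

theorem sq_sum_le_of_support (S : Finset Λ) (v : Λ → ℤ) (hv : ∀ l, l ∉ S → v l = 0) :
    (∑ l, v l) ^ 2 ≤ (S.card : ℤ) * ∑ l, (v l) ^ 2 := by
  have h1 : ∑ l, v l = ∑ l ∈ S, v l := by
    symm
    apply Finset.sum_subset (Finset.subset_univ S)
    intro l _ hl
    exact hv l hl
  have h2 : ∑ l, (v l) ^ 2 = ∑ l ∈ S, (v l) ^ 2 := by
    symm
    apply Finset.sum_subset (Finset.subset_univ S)
    intro l _ hl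
    rw [hv l hl]
    ring
  rw [h1, h2]
  exact sq_sum_le_card_mul_sum_sq

/-- The total squared norm of a character. -/
def tot (ψ : Ψ) : ℤ := ∑ l, D.nrm ψ l

theorem tot_eq (ψ : Ψ) : D.tot ψ = ∑ l, ∑ φ, (D.M ψ l φ) ^ 2 := rfl

theorem ti_supp (ψ : Ψ) (S : Finset Λ) (hS : ∀ l, l ∉ S → ∀ φ, D.M ψ l φ = 0) :
    ((D.q : ℤ) - S.card) * D.tot ψ < D.q * D.t := by
  have h1 := D.ti ψ
  have h2 : ∑ φ, (∑ l, D.M ψ l φ) ^ 2 ≤ (S.card : ℤ) * D.tot ψ := by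
    rw [D.tot_eq, Finset.sum_comm, Finset.mul_sum]
    refine Finset.sum_le_sum fun φ _ => ?_
    exact sq_sum_le_of_support S (fun l => D.M ψ l φ) (fun l hl => hS l hl φ)
  rw [← D.tot_eq] at h1
  linarith

/-! ### Supports -/

open Classical in
/-- The support of a character. -/
noncomputable def supp (ψ : Ψ) : Finset Λ := Finset.univ.filter fun l => D.nrm ψ l ≠ 0

theorem mem_supp {ψ : Ψ} {l : Λ} : l ∈ D.supp ψ ↔ D.nrm ψ l ≠ 0 := by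
  classical
  simp [supp]

theorem smul_mem_supp (ψ : Ψ) (u : Γ) (l : Λ) (h : l ∈ D.supp ψ) : u • l ∈ D.supp ψ := by
  rw [D.mem_supp] at h ⊢
  rwa [D.nrm_smul]

theorem M_eq_zero_of_notMem_supp {ψ : Ψ} {l : Λ} (h : l ∉ D.supp ψ) (φ : Φ) : D.M ψ l φ = 0 := by
  rw [D.mem_supp, not_not] at h
  exact D.M_eq_zero_of_nrm h φ

theorem tot_eq_sum_supp (ψ : Ψ) : D.tot ψ = ∑ l ∈ D.supp ψ, D.nrm ψ l := by
  unfold tot
  symm
  apply Finset.sum_subset (Finset.subset_univ _)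
  intro l _ hl
  rw [D.mem_supp, not_not] at hl
  exact hl

theorem card_supp_le_tot (ψ : Ψ) : ((D.supp ψ).card : ℤ) ≤ D.tot ψ := by
  rw [D.tot_eq_sum_supp]
  have : ((D.supp ψ).card : ℤ) = ∑ _l ∈ D.supp ψ, (1 : ℤ) := by simp
  rw [this]
  refine Finset.sum_le_sum fun l hl => ?_
  have h1 := D.mem_supp.mp hl
  have h2 := D.nrm_nonneg ψ l
  omega

theorem card_supp_le_deg (ψ : Ψ) : ((D.supp ψ).card : ℤ) ≤ D.degΨ ψ := by
  rw [D.degΨ_eq_sum_rdeg]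
  have h1 : ∑ l ∈ D.supp ψ, D.rdeg ψ l ≤ ∑ l, D.rdeg ψ l :=
    Finset.sum_le_sum_of_subset_of_nonneg (Finset.subset_univ _) fun l _ _ => D.rdeg_nonneg ψ l
  have : ((D.supp ψ).card : ℤ) = ∑ _l ∈ D.supp ψ, (1 : ℤ) := by simp
  rw [this]
  refine le_trans (Finset.sum_le_sum fun l hl => ?_) h1
  exact D.rdeg_ge_nrm_pos ψ l (D.mem_supp.mp hl)

theorem exists_of_nrm_eq_one {ψ : Ψ} {l : Λ} (h : D.nrm ψ l = 1) :
    ∃ φ₀, D.M ψ l φ₀ = 1 ∧ ∀ φ, φ ≠ φ₀ → D.M ψ l φ = 0 := by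
  classical
  have hex : ∃ φ₀, D.M ψ l φ₀ ≠ 0 := by
    by_contra hno
    push Not at hno
    have : D.nrm ψ l = 0 := by
      unfold nrm
      apply Finset.sum_eq_zero
      intro φ _
      rw [hno φ]
      ring
    omega
  obtain ⟨φ₀, hφ₀⟩ := hex
  have hnn : ∀ φ, 0 ≤ (D.M ψ l φ) ^ 2 := fun φ => sq_nonneg _
  have h0 := D.M_nonneg ψ l φ₀
  have hle : (D.M ψ l φ₀) ^ 2 ≤ 1 := by
    rw [← h]
    exact Finset.single_le_sum (f := fun φ => (D.M ψ l φ) ^ 2) (fun φ _ => hnn φ)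
      (Finset.mem_univ φ₀)
  have hge : 1 ≤ D.M ψ l φ₀ := by omega
  have h1 : D.M ψ l φ₀ = 1 := by nlinarith
  refine ⟨φ₀, h1, fun φ hφ => ?_⟩
  have hpair : ∑ x ∈ ({φ₀, φ} : Finset Φ), (D.M ψ l x) ^ 2 ≤ ∑ x, (D.M ψ l x) ^ 2 :=
    Finset.sum_le_sum_of_subset_of_nonneg (Finset.subset_univ _) fun x _ _ => hnn x
  rw [Finset.sum_pair (Ne.symm hφ)] at hpair
  have h2 : ∑ x, (D.M ψ l x) ^ 2 = 1 := h
  rw [h2, h1] at hpair
  have h3 := D.M_nonneg ψ l φ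
  nlinarith

/-! ### Characters of orbit type -/

/-- `χ` is of orbit type: its matrix is the indicator of the graph of `g` over an orbit `O`. -/
structure OrbType (χ : Ψ) (O : Finset Λ) (g : Λ → Φ) : Prop where
  exists_rep : ∃ l₁, l₁ ≠ D.oneΛ ∧ O = D.orb l₁
  M_one : ∀ l ∈ O, D.M χ l (g l) = 1
  M_zero : ∀ l φ, ¬ (l ∈ O ∧ φ = g l) → D.M χ l φ = 0

namespace OrbType

variable {D} {χ : Ψ} {O : Finset Λ} {g : Λ → Φ} (h : D.OrbType χ O g)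
include h

theorem card : O.card = D.t := by
  obtain ⟨l₁, hl₁, rfl⟩ := h.exists_rep
  exact D.card_orb hl₁

theorem ne_one {l : Λ} (hl : l ∈ O) : l ≠ D.oneΛ := by
  obtain ⟨l₁, hl₁, rfl⟩ := h.exists_rep
  exact D.ne_one_of_mem_orb hl₁ hl

theorem eq_orb {l : Λ} (hl : l ∈ O) : O = D.orb l := by
  obtain ⟨l₁, _, rfl⟩ := h.exists_rep
  exact (D.orb_eq_of_mem hl).symm

theorem smul_mem (u : Γ) {l : Λ} (hl : l ∈ O) : u • l ∈ O := by
  rw [h.eq_orb hl]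
  exact D.smul_mem_orb u l

theorem g_smul (u : Γ) {l : Λ} (hl : l ∈ O) : g (u • l) = u • g l := by
  by_contra hne
  have h1 := h.M_zero (u • l) (u • g l) (fun hh => hne hh.2.symm)
  rw [D.M_smul, h.M_one l hl] at h1
  exact one_ne_zero h1

theorem M_eq_one_iff (l : Λ) (φ : Φ) : D.M χ l φ ≠ 0 ↔ l ∈ O ∧ φ = g l := by
  constructor
  · intro hne
    by_contra hno
    exact hne (h.M_zero l φ hno)
  · rintro ⟨hl, rfl⟩
    rw [h.M_one l hl]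
    exact one_ne_zero

theorem sum_eq (F : Λ → Φ → ℤ) : ∑ l, ∑ φ, D.M χ l φ * F l φ = ∑ l ∈ O, F l (g l) := by
  classical
  have h1 : ∀ l, ∑ φ, D.M χ l φ * F l φ = if l ∈ O then F l (g l) else 0 := by
    intro l
    by_cases hl : l ∈ O
    · rw [if_pos hl, Finset.sum_eq_single (g l)]
      · rw [h.M_one l hl, one_mul]
      · intro φ _ hφ
        rw [h.M_zero l φ (fun hh => hφ hh.2), zero_mul]
      · intro hh
        exact absurd (Finset.mem_univ _) hh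
    · rw [if_neg hl]
      apply Finset.sum_eq_zero
      intro φ _
      rw [h.M_zero l φ (fun hh => hl hh.1), zero_mul]
  rw [Finset.sum_congr rfl fun l _ => h1 l, ← Finset.sum_filter]
  congr 1
  ext l
  simp

open Classical in
theorem colsum_eq (φ : Φ) : ∑ l, D.M χ l φ = ((O.filter fun l => g l = φ).card : ℤ) := by
  have h1 : ∀ l, D.M χ l φ = if l ∈ O ∧ g l = φ then 1 else 0 := by
    intro l
    by_cases hl : l ∈ O ∧ g l = φ
    · rw [if_pos hl, ← hl.2, h.M_one l hl.1]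
    · rw [if_neg hl]
      exact h.M_zero l φ (fun hh => hl ⟨hh.1, hh.2.symm⟩)
  rw [Finset.sum_congr rfl fun l _ => h1 l, Finset.sum_boole]
  have h2 : (Finset.univ.filter fun l => l ∈ O ∧ g l = φ) = O.filter fun l => g l = φ := by
    ext l
    simp
  rw [h2]

theorem degΦ_const {l l' : Λ} (hl : l ∈ O) (hl' : l' ∈ O) : D.degΦ (g l') = D.degΦ (g l) := by
  rw [h.eq_orb hl] at hl'
  obtain ⟨u, rfl⟩ := D.mem_orb.mp hl'
  rw [h.g_smul u hl, D.degΦ_smul]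

theorem deg_eq {l : Λ} (hl : l ∈ O) : D.degΨ χ = D.t * D.degΦ (g l) := by
  rw [D.degΨ_eq, h.sum_eq (fun _ φ => D.degΦ φ)]
  rw [Finset.sum_congr rfl fun l' hl' => h.degΦ_const hl hl', Finset.sum_const, h.card]
  simp

theorem tot_eq_t : D.tot χ = D.t := by
  have h1 : D.tot χ = ∑ l, ∑ φ, D.M χ l φ * D.M χ l φ := by
    rw [D.tot_eq]
    refine Finset.sum_congr rfl fun l _ => Finset.sum_congr rfl fun φ _ => ?_
    ring
  rw [h1, h.sum_eq (fun l φ => D.M χ l φ)]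
  rw [Finset.sum_congr rfl fun l hl => h.M_one l hl, Finset.sum_const, h.card]
  simp

end OrbType

theorem card_ge_of_invariant {S : Finset Λ} (hS : ∀ (u : Γ) (l : Λ), l ∈ S → u • l ∈ S) {l : Λ}
    (hl : l ∈ S) (hl1 : l ≠ D.oneΛ) : D.t ≤ S.card := by
  rw [← D.card_orb hl1]
  exact Finset.card_le_card (D.orb_subset hS hl)

theorem card_ge_two_of_invariant {S : Finset Λ} (hS : ∀ (u : Γ) (l : Λ), l ∈ S → u • l ∈ S)
    {l κ : Λ} (hl : l ∈ S) (hκ : κ ∈ S) (hl1 : l ≠ D.oneΛ) (hκ1 : κ ≠ D.oneΛ)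
    (hne : κ ∉ D.orb l) : 2 * D.t ≤ S.card := by
  classical
  have h1 := D.orb_subset hS hl
  have h2 := D.orb_subset hS hκ
  have h3 := Finset.card_le_card (Finset.union_subset h1 h2)
  rw [Finset.card_union_of_disjoint (D.disjoint_orb hne), D.card_orb hl1, D.card_orb hκ1] at h3
  omega

/-! ### Arithmetic lemmas -/

theorem arith_tot_le (q s d Mt t : ℤ) (h1 : (q - s) * Mt < q * t) (hsd : s ≤ d) (hts : t ≤ s)
    (hd : d ^ 2 + 1 < q) (ht : 0 ≤ t) : Mt ≤ t + 1 := by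
  by_contra hcon
  have hM2 : t + 2 ≤ Mt := by omega
  have hd0 : 0 ≤ d := by linarith
  have hqs : 0 ≤ q - s := by nlinarith
  have h2 : (q - s) * (t + 2) ≤ (q - s) * Mt := mul_le_mul_of_nonneg_left hM2 hqs
  have h3 : s * (t + 2) ≤ d * (d + 2) := by
    apply mul_le_mul hsd (by linarith) (by linarith) hd0
  nlinarith

theorem arith_one_case (q d t : ℤ) (h1 : (q - (t + 1)) * (t + 1) < q * t) (hd : d ^ 2 + 1 < q)
    (htd : t + 1 ≤ d) (ht : 0 ≤ t) : False := by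
  have h2 : (t + 1) * (t + 1) ≤ d * d := mul_self_le_mul_self (by linarith) htd
  nlinarith

theorem arith_m0 (t m0 : ℤ) (ht : 2 ≤ t) (h : t * m0 ≤ t + 1) (hm : 1 ≤ m0) : m0 = 1 := by
  by_contra hne
  have : 2 ≤ m0 := by omega
  nlinarith

/-! ### Step U1: small characters are of orbit type -/

theorem supp_eq_orb (ht : 2 ≤ D.t) (χ : Ψ) (hχ : χ ≠ D.oneΨ)
    (hd : D.degΨ χ ^ 2 + 1 < (D.q : ℤ)) :
    ∃ l₁, l₁ ≠ D.oneΛ ∧ D.supp χ = D.orb l₁ ∧ D.tot χ ≤ D.t + 1 := by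
  classical
  obtain ⟨l₁, hl₁, φ₁, hφ₁⟩ := D.h0 χ hχ
  have hl₁S : l₁ ∈ D.supp χ := by
    rw [D.mem_supp]
    have := D.nrm_pos_of_ne hφ₁
    omega
  have hinv := D.smul_mem_supp χ
  have hOS : D.orb l₁ ⊆ D.supp χ := D.orb_subset hinv hl₁S
  have hts : (D.t : ℤ) ≤ (D.supp χ).card := by
    exact_mod_cast D.card_ge_of_invariant hinv hl₁S hl₁
  have hsM := D.card_supp_le_tot χ
  have hsd := D.card_supp_le_deg χ
  have hti := D.ti_supp χ (D.supp χ) (fun l hl => D.M_eq_zero_of_notMem_supp hl)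
  have ht2 : (2 : ℤ) ≤ D.t := by exact_mod_cast ht
  have hM : D.tot χ ≤ D.t + 1 :=
    arith_tot_le _ _ _ _ _ hti hsd hts hd (by linarith)
  refine ⟨l₁, hl₁, ?_, hM⟩
  apply Finset.Subset.antisymm _ hOS
  intro l₂ hl₂
  by_contra hno
  by_cases h21 : l₂ = D.oneΛ
  · have h1 : (D.orb l₁).card + 1 ≤ (D.supp χ).card := by
      rw [← Finset.card_insert_of_notMem hno]
      apply Finset.card_le_card
      intro x hx
      rcases Finset.mem_insert.mp hx with rfl | hx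
      · exact hl₂
      · exact hOS hx
    rw [D.card_orb hl₁] at h1
    have hs1 : (D.t : ℤ) + 1 ≤ (D.supp χ).card := by exact_mod_cast h1
    have hs2 : ((D.supp χ).card : ℤ) = D.t + 1 := by omega
    have hs3 : D.tot χ = D.t + 1 := by omega
    rw [hs2, hs3] at hti
    exact arith_one_case _ _ _ hti hd (by omega) (by linarith)
  · have h1 := D.card_ge_two_of_invariant hinv hl₁S hl₂ hl₁ h21 hno
    have h2 : 2 * (D.t : ℤ) ≤ (D.supp χ).card := by exact_mod_cast h1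
    omega

theorem exists_orbType (ht : 2 ≤ D.t) (χ : Ψ) (hχ : χ ≠ D.oneΨ)
    (hd : D.degΨ χ ^ 2 + 1 < (D.q : ℤ)) : ∃ O g, D.OrbType χ O g := by
  classical
  obtain ⟨l₁, hl₁, hS, hM⟩ := D.supp_eq_orb ht χ hχ hd
  have ht2 : (2 : ℤ) ≤ D.t := by exact_mod_cast ht
  -- all rows in the orbit have the same norm
  have hrow : ∀ l ∈ D.orb l₁, D.nrm χ l = D.nrm χ l₁ := by
    intro l hl
    obtain ⟨u, rfl⟩ := D.mem_orb.mp hl
    exact D.nrm_smul χ u l₁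
  have hm0 : 1 ≤ D.nrm χ l₁ := by
    have h1 : l₁ ∈ D.supp χ := by rw [hS]; exact D.self_mem_orb l₁
    have h2 := D.mem_supp.mp h1
    have h3 := D.nrm_nonneg χ l₁
    omega
  have htot : D.tot χ = D.t * D.nrm χ l₁ := by
    rw [D.tot_eq_sum_supp, hS, Finset.sum_congr rfl hrow, Finset.sum_const, D.card_orb hl₁]
    simp
  have hone : D.nrm χ l₁ = 1 := arith_m0 _ _ ht2 (by rw [← htot]; exact hM) hm0
  have hrow1 : ∀ l ∈ D.orb l₁, D.nrm χ l = 1 := fun l hl => by rw [hrow l hl, hone]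
  -- choose the function g
  have hex : ∀ l : Λ, ∃ φ₀ : Φ, l ∈ D.orb l₁ → (D.M χ l φ₀ = 1 ∧ ∀ φ, φ ≠ φ₀ → D.M χ l φ = 0) := by
    intro l
    by_cases hl : l ∈ D.orb l₁
    · obtain ⟨φ₀, h1, h2⟩ := D.exists_of_nrm_eq_one (hrow1 l hl)
      exact ⟨φ₀, fun _ => ⟨h1, h2⟩⟩
    · exact ⟨D.oneΦ, fun h => absurd h hl⟩
  choose g hg using hex
  refine ⟨D.orb l₁, g, ⟨⟨l₁, hl₁, rfl⟩, fun l hl => (hg l hl).1, ?_⟩⟩
  intro l φ hno
  by_cases hl : l ∈ D.orb l₁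
  · apply (hg l hl).2
    intro hφ
    exact hno ⟨hl, hφ⟩
  · apply D.M_eq_zero_of_notMem_supp
    rwa [hS]

/-! ### The case `t = 1` -/

theorem exists_single_of_t_eq_one (ht : D.t = 1) (χ : Ψ)
    (hd : D.degΨ χ ^ 2 + 1 < (D.q : ℤ)) :
    ∃ l₀ φ₀, D.M χ l₀ φ₀ = 1 ∧ ∀ l φ, ¬ (l = l₀ ∧ φ = φ₀) → D.M χ l φ = 0 := by
  classical
  have hsM := D.card_supp_le_tot χ
  have hsd := D.card_supp_le_deg χ
  have hti := D.ti_supp χ (D.supp χ) (fun l hl => D.M_eq_zero_of_notMem_supp hl)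
  have hdpos := D.degΨ_pos χ
  rw [ht] at hti
  simp only [Nat.cast_one, mul_one] at hti
  -- the support is nonempty
  have hne : (D.supp χ).Nonempty := by
    by_contra hemp
    rw [Finset.not_nonempty_iff_eq_empty] at hemp
    have : D.degΨ χ = 0 := by
      rw [D.degΨ_eq]
      apply Finset.sum_eq_zero
      intro l _
      apply Finset.sum_eq_zero
      intro φ _
      rw [D.M_eq_zero_of_notMem_supp (by rw [hemp]; exact Finset.notMem_empty l), zero_mul]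
    omega
  have hs1 : (1 : ℤ) ≤ (D.supp χ).card := by exact_mod_cast hne.card_pos
  -- tot ≤ 1
  have hM : D.tot χ ≤ 1 := by
    by_contra hcon
    have hM2 : 2 ≤ D.tot χ := by omega
    have hqs : 0 ≤ (D.q : ℤ) - (D.supp χ).card := by nlinarith
    have h2 : ((D.q : ℤ) - (D.supp χ).card) * 2 ≤ ((D.q : ℤ) - (D.supp χ).card) * D.tot χ :=
      mul_le_mul_of_nonneg_left hM2 hqs
    nlinarith [sq_nonneg (D.degΨ χ - 1)]
  have hM1 : D.tot χ = 1 := by omega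
  have hcard : (D.supp χ).card = 1 := by
    have : ((D.supp χ).card : ℤ) = 1 := by omega
    exact_mod_cast this
  obtain ⟨l₀, hl₀⟩ := Finset.card_eq_one.mp hcard
  have hn1 : D.nrm χ l₀ = 1 := by
    have := D.tot_eq_sum_supp χ
    rw [hl₀, Finset.sum_singleton] at this
    omega
  obtain ⟨φ₀, h1, h2⟩ := D.exists_of_nrm_eq_one hn1
  refine ⟨l₀, φ₀, h1, fun l φ hno => ?_⟩
  by_cases hl : l = l₀
  · subst hl
    apply h2
    intro hφ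
    exact hno ⟨rfl, hφ⟩
  · apply D.M_eq_zero_of_notMem_supp
    rw [hl₀, Finset.mem_singleton]
    exact hl

/-! ### The norm two relations, with indicators -/

open Classical in
/-- The indicator of `μ`. -/
noncomputable def dl (μ ψ : Ψ) : ℤ := if ψ = μ then 1 else 0

theorem dl_self (μ : Ψ) : dl μ μ = 1 := by simp [dl]

theorem dl_ne {μ ψ : Ψ} (h : ψ ≠ μ) : dl μ ψ = 0 := by simp [dl, h]

theorem dl_cases (μ ψ : Ψ) : (ψ = μ ∧ dl μ ψ = 1) ∨ (ψ ≠ μ ∧ dl μ ψ = 0) := by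
  by_cases h : ψ = μ
  · left; exact ⟨h, by rw [h]; exact dl_self μ⟩
  · right; exact ⟨h, dl_ne h⟩

theorem dl_sub_eq {x y z w : Ψ} (hxy : x ≠ y)
    (h : ∀ ψ : Ψ, dl x ψ - dl y ψ = dl z ψ - dl w ψ) : x = z ∧ y = w := by
  have hx := h x
  have hy := h y
  rw [dl_self, dl_ne hxy] at hx
  rw [dl_self, dl_ne (Ne.symm hxy)] at hy
  constructor
  · rcases dl_cases z x with ⟨h1, _⟩ | ⟨_, h2⟩
    · exact h1
    · rcases dl_cases w x with ⟨_, h3⟩ | ⟨_, h3⟩ <;> omega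
  · rcases dl_cases w y with ⟨h1, _⟩ | ⟨_, h2⟩
    · exact h1
    · rcases dl_cases z y with ⟨_, h3⟩ | ⟨_, h3⟩ <;> omega

theorem norm2' (φ : Φ) (l l' : Λ) (hl : l ≠ D.oneΛ) (hl' : l' ≠ D.oneΛ)
    (h : ∀ u : Γ, ¬ (u • l' = l ∧ u • φ = φ)) :
    ∃ μ₁ μ₂ : Ψ, μ₁ ≠ μ₂ ∧ D.degΨ μ₁ = D.degΨ μ₂ ∧
      ∀ ψ, D.M ψ l φ - D.M ψ l' φ = dl μ₁ ψ - dl μ₂ ψ := by
  obtain ⟨μ₁, μ₂, hne, hdeg, h1, h2, h3⟩ := D.norm2 φ l l' hl hl' h
  refine ⟨μ₁, μ₂, hne, hdeg, fun ψ => ?_⟩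
  by_cases hψ1 : ψ = μ₁
  · rw [hψ1, dl_self, dl_ne hne, h1]
    ring
  · by_cases hψ2 : ψ = μ₂
    · rw [hψ2, dl_self, dl_ne (Ne.symm hne), h2]
      ring
    · rw [dl_ne hψ1, dl_ne hψ2, h3 ψ hψ1 hψ2]
      ring

/-- The hypothesis of `norm2'` for the trivial character of the complement: different orbits. -/
theorem norm2_one (l l' : Λ) (hl : l ≠ D.oneΛ) (hl' : l' ≠ D.oneΛ) (h : l ∉ D.orb l') :
    ∃ μ₁ μ₂ : Ψ, μ₁ ≠ μ₂ ∧ D.degΨ μ₁ = D.degΨ μ₂ ∧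
      ∀ ψ, D.M ψ l D.oneΦ - D.M ψ l' D.oneΦ = dl μ₁ ψ - dl μ₂ ψ := by
  apply D.norm2' D.oneΦ l l' hl hl'
  rintro u ⟨hu, _⟩
  apply h
  rw [← hu]
  exact D.smul_mem_orb u l'

/-! ### Step 3 and step 4 -/

theorem arith_e (q t f e : ℤ) (ht : 0 < t) (hq : q - 1 = e * t) (hd : (t * f) ^ 2 + 1 < q) :
    t * f ^ 2 + 1 ≤ e := by
  by_contra hcon
  have h1 : e ≤ t * f ^ 2 := by omega
  have h2 : e * t ≤ t * f ^ 2 * t := mul_le_mul_of_nonneg_right h1 ht.le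
  nlinarith

theorem exists_e : ∃ e : ℤ, (D.q : ℤ) - 1 = e * D.t := by
  obtain ⟨e, he⟩ := D.t_dvd
  have hq : 1 ≤ D.q := by
    rw [← D.card_Λ]
    exact Fintype.card_pos_iff.mpr ⟨D.oneΛ⟩
  refine ⟨e, ?_⟩
  have : ((D.q - 1 : ℕ) : ℤ) = (D.q : ℤ) - 1 := by
    rw [Nat.cast_sub hq]
    simp
  rw [← this, he]
  push_cast
  ring

theorem OrbType.q_ge {χ : Ψ} {O : Finset Λ} {g : Λ → Φ} (h : D.OrbType χ O g)
    (hd : D.degΨ χ ^ 2 + 1 < (D.q : ℤ)) {l₀ : Λ} (hl₀ : l₀ ∈ O) :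
    ∃ e : ℤ, (D.q : ℤ) - 1 = e * D.t ∧ D.t * D.degΦ (g l₀) ^ 2 + 1 ≤ e := by
  obtain ⟨e, he⟩ := D.exists_e
  refine ⟨e, he, ?_⟩
  have htpos : (0 : ℤ) < D.t := by exact_mod_cast D.t_pos
  apply arith_e _ _ _ _ htpos he
  rw [← h.deg_eq hl₀]
  exact hd

theorem lift (ht : 2 ≤ D.t) {χ : Ψ} {O : Finset Λ} {g : Λ → Φ} (h : D.OrbType χ O g)
    (hd : D.degΨ χ ^ 2 + 1 < (D.q : ℤ)) {l₀ : Λ} (hl₀ : l₀ ∈ O) {l' : Λ} (hl' : l' ≠ D.oneΛ) :
    ∃ (χ' : Ψ) (O' : Finset Λ) (g' : Λ → Φ), D.degΨ χ' = D.degΨ χ ∧ D.OrbType χ' O' g' ∧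
      l' ∈ O' ∧ g' l' = g l₀ := by
  by_cases hconj : ∃ u : Γ, u • l₀ = l' ∧ u • g l₀ = g l₀
  · obtain ⟨u, rfl, hu⟩ := hconj
    refine ⟨χ, O, g, rfl, h, h.smul_mem u hl₀, ?_⟩
    rw [h.g_smul u hl₀, hu]
  · push Not at hconj
    have hyp : ∀ u : Γ, ¬ (u • l' = l₀ ∧ u • g l₀ = g l₀) := by
      rintro u ⟨h1, h2⟩
      apply hconj u⁻¹
      · rw [← h1, inv_smul_smul]
      · conv_lhs => rw [← h2]
        rw [inv_smul_smul]
    obtain ⟨μ₁, μ₂, hne, hdeg, h1, h2, h3⟩ := D.norm2 (g l₀) l₀ l' (h.ne_one hl₀) hl' hyp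
    have hM1 : D.M χ l₀ (g l₀) = 1 := h.M_one l₀ hl₀
    have hM0 : D.M χ l' (g l₀) = 0 := by
      by_contra hne0
      obtain ⟨hlO, hgl⟩ := (h.M_eq_one_iff l' (g l₀)).mp hne0
      rw [h.eq_orb hl₀] at hlO
      obtain ⟨u, rfl⟩ := D.mem_orb.mp hlO
      apply hconj u rfl
      rw [← h.g_smul u hl₀, ← hgl]
    have hχ1 : χ = μ₁ := by
      by_contra hχ1
      by_cases hχ2 : χ = μ₂
      · rw [← hχ2] at h2
        rw [hM1, hM0] at h2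
        omega
      · have := h3 χ hχ1 hχ2
        rw [hM1, hM0] at this
        omega
    have hM2 : D.M μ₂ l' (g l₀) ≠ 0 := by
      have := D.M_nonneg μ₂ l₀ (g l₀)
      omega
    have hμ2 : μ₂ ≠ D.oneΨ := by
      intro h0
      rw [h0] at hM2
      exact hM2 (D.M_one_ne l' (g l₀) (fun hh => hl' hh.1))
    have hdeg2 : D.degΨ μ₂ = D.degΨ χ := by rw [hχ1, hdeg]
    obtain ⟨O', g', h'⟩ := D.exists_orbType ht μ₂ hμ2 (by rw [hdeg2]; exact hd)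
    obtain ⟨hlO', hgl'⟩ := (h'.M_eq_one_iff l' (g l₀)).mp hM2
    exact ⟨μ₂, O', g', hdeg2, h', hlO', hgl'.symm⟩

/-! ### Column analysis -/

/-- The column defect. -/
def colK (ψ : Ψ) (φ : Φ) : ℤ := (D.q : ℤ) * ∑ l, (D.M ψ l φ) ^ 2 - (∑ l, D.M ψ l φ) ^ 2

theorem ti_col (ψ : Ψ) : ∑ φ, D.colK ψ φ < (D.q : ℤ) * D.t := by
  have h := D.ti ψ
  unfold colK
  rw [Finset.sum_sub_distrib, ← Finset.mul_sum, Finset.sum_comm]
  linarith

theorem colK_ge (ψ : Ψ) (φ : Φ) (S : Finset Λ) (hS : ∀ l, l ∉ S → D.M ψ l φ = 0) :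
    ((D.q : ℤ) - S.card) * ∑ l, (D.M ψ l φ) ^ 2 ≤ D.colK ψ φ := by
  have := sq_sum_le_of_support S (fun l => D.M ψ l φ) hS
  unfold colK
  linarith

theorem colK_nonneg (ψ : Ψ) (φ : Φ) : 0 ≤ D.colK ψ φ := by
  have h := D.colK_ge ψ φ Finset.univ (fun l hl => absurd (Finset.mem_univ l) hl)
  rw [Finset.card_univ, D.card_Λ] at h
  simpa using h

open Classical in
/-- The support outside the column of the trivial character. -/
noncomputable def supp' (ψ : Ψ) : Finset Λ :=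
  Finset.univ.filter fun l => ∃ φ, φ ≠ D.oneΦ ∧ D.M ψ l φ ≠ 0

theorem mem_supp' {ψ : Ψ} {l : Λ} : l ∈ D.supp' ψ ↔ ∃ φ, φ ≠ D.oneΦ ∧ D.M ψ l φ ≠ 0 := by
  classical
  simp [supp']

theorem smul_mem_supp' (ψ : Ψ) (u : Γ) (l : Λ) (h : l ∈ D.supp' ψ) : u • l ∈ D.supp' ψ := by
  rw [D.mem_supp'] at h ⊢
  obtain ⟨φ, hφ, hM⟩ := h
  refine ⟨u • φ, ?_, by rwa [D.M_smul]⟩
  intro h1
  apply hφ
  have : φ = u⁻¹ • D.oneΦ := by rw [← h1, inv_smul_smul]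
  rw [this, D.smul_oneΦ]

open Classical in
/-- The total norm outside the column of the trivial character. -/
noncomputable def tot' (ψ : Ψ) : ℤ := ∑ φ ∈ Finset.univ.erase D.oneΦ, ∑ l, (D.M ψ l φ) ^ 2

theorem tot'_nonneg (ψ : Ψ) : 0 ≤ D.tot' ψ :=
  Finset.sum_nonneg fun _ _ => Finset.sum_nonneg fun _ _ => sq_nonneg _

theorem card_supp'_le_tot' (ψ : Ψ) : ((D.supp' ψ).card : ℤ) ≤ D.tot' ψ := by
  classical
  unfold tot'
  rw [Finset.sum_comm]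
  have h1 : ∑ l ∈ D.supp' ψ, ∑ φ ∈ Finset.univ.erase D.oneΦ, (D.M ψ l φ) ^ 2 ≤
      ∑ l, ∑ φ ∈ Finset.univ.erase D.oneΦ, (D.M ψ l φ) ^ 2 :=
    Finset.sum_le_sum_of_subset_of_nonneg (Finset.subset_univ _)
      fun l _ _ => Finset.sum_nonneg fun _ _ => sq_nonneg _
  have : ((D.supp' ψ).card : ℤ) = ∑ _l ∈ D.supp' ψ, (1 : ℤ) := by simp
  rw [this]
  refine le_trans (Finset.sum_le_sum fun l hl => ?_) h1
  obtain ⟨φ, hφ, hM⟩ := D.mem_supp'.mp hl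
  have h2 : (D.M ψ l φ) ^ 2 ≤ ∑ φ ∈ Finset.univ.erase D.oneΦ, (D.M ψ l φ) ^ 2 :=
    Finset.single_le_sum (f := fun φ => (D.M ψ l φ) ^ 2) (fun _ _ => sq_nonneg _)
      (Finset.mem_erase.mpr ⟨hφ, Finset.mem_univ φ⟩)
  have h3 := D.M_nonneg ψ l φ
  have h4 : 1 ≤ D.M ψ l φ := by omega
  nlinarith

open Classical in
theorem sum_colK_off_ge (ψ : Ψ) : ((D.q : ℤ) - (D.supp' ψ).card) * D.tot' ψ ≤
    ∑ φ ∈ Finset.univ.erase D.oneΦ, D.colK ψ φ := by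
  classical
  unfold tot'
  rw [Finset.mul_sum]
  refine Finset.sum_le_sum fun φ hφ => ?_
  apply D.colK_ge
  intro l hl
  by_contra hne
  exact hl (D.mem_supp'.mpr ⟨φ, (Finset.mem_erase.mp hφ).1, hne⟩)

theorem ti_split (ψ : Ψ) :
    D.colK ψ D.oneΦ + ((D.q : ℤ) - (D.supp' ψ).card) * D.tot' ψ < (D.q : ℤ) * D.t := by
  classical
  have h1 := D.ti_col ψ
  rw [← Finset.add_sum_erase _ _ (Finset.mem_univ D.oneΦ)] at h1
  have h2 := D.sum_colK_off_ge ψ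
  linarith

/-- The column sum at the trivial character. -/
def colOne (ψ : Ψ) : ℤ := ∑ l, D.M ψ l D.oneΦ

theorem colOne_nonneg (ψ : Ψ) : 0 ≤ D.colOne ψ := Finset.sum_nonneg fun _ _ => D.M_nonneg _ _ _

theorem deg_ge (ψ : Ψ) : D.colOne ψ + (D.supp' ψ).card ≤ D.degΨ ψ := by
  classical
  rw [D.degΨ_eq]
  have h1 : ∀ l, D.M ψ l D.oneΦ + (if l ∈ D.supp' ψ then 1 else 0) ≤
      ∑ φ, D.M ψ l φ * D.degΦ φ := by
    intro l
    have hnn : ∀ φ, 0 ≤ D.M ψ l φ * D.degΦ φ :=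
      fun φ => mul_nonneg (D.M_nonneg ψ l φ) (D.degΦ_pos φ).le
    by_cases hl : l ∈ D.supp' ψ
    · rw [if_pos hl]
      obtain ⟨φ, hφ, hM⟩ := D.mem_supp'.mp hl
      have hpair : ∑ x ∈ ({D.oneΦ, φ} : Finset Φ), D.M ψ l x * D.degΦ x ≤
          ∑ x, D.M ψ l x * D.degΦ x :=
        Finset.sum_le_sum_of_subset_of_nonneg (Finset.subset_univ _) fun x _ _ => hnn x
      rw [Finset.sum_pair (Ne.symm hφ), D.degΦ_one, mul_one] at hpair
      have h3 := D.M_nonneg ψ l φ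
      have h4 : 1 ≤ D.M ψ l φ := by omega
      have h5 := D.degΦ_pos φ
      nlinarith
    · rw [if_neg hl, add_zero]
      have := Finset.single_le_sum (f := fun φ => D.M ψ l φ * D.degΦ φ) (fun φ _ => hnn φ)
        (Finset.mem_univ D.oneΦ)
      simpa [D.degΦ_one] using this
  have h2 : D.colOne ψ + (D.supp' ψ).card =
      ∑ l, (D.M ψ l D.oneΦ + (if l ∈ D.supp' ψ then 1 else 0)) := by
    rw [Finset.sum_add_distrib, Finset.sum_boole]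
    have h3 : (Finset.univ.filter fun l => l ∈ D.supp' ψ) = D.supp' ψ := by
      ext l
      simp
    rw [h3]
    rfl
  rw [h2]
  exact Finset.sum_le_sum fun l _ => h1 l

/-! ### The column of the trivial character -/

theorem a_smul (θ : Ψ) (u : Γ) (l : Λ) : D.M θ (u • l) D.oneΦ = D.M θ l D.oneΦ := by
  conv_lhs => rw [← D.smul_oneΦ u]
  exact D.M_smul θ u l D.oneΦ

theorem a_eq_of_mem_orb (θ : Ψ) {l l' : Λ} (h : l' ∈ D.orb l) :
    D.M θ l' D.oneΦ = D.M θ l D.oneΦ := by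
  obtain ⟨u, rfl⟩ := D.mem_orb.mp h
  exact D.a_smul θ u l

theorem a_diff (θ : Ψ) {l l' : Λ} (hl : l ≠ D.oneΛ) (hl' : l' ≠ D.oneΛ) (h : l ∉ D.orb l') :
    D.M θ l D.oneΦ ≤ D.M θ l' D.oneΦ + 1 ∧ D.M θ l' D.oneΦ ≤ D.M θ l D.oneΦ + 1 := by
  obtain ⟨μ₁, μ₂, _, _, h3⟩ := D.norm2_one l l' hl hl' h
  have h4 := h3 θ
  rcases dl_cases μ₁ θ with ⟨_, h5⟩ | ⟨_, h5⟩ <;> rcases dl_cases μ₂ θ with ⟨_, h6⟩ | ⟨_, h6⟩ <;>
    constructor <;> omega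

theorem notMem_orb_symm {l κ : Λ} (h : κ ∉ D.orb l) : l ∉ D.orb κ :=
  fun h' => h (D.mem_orb_symm h')

theorem exc_aux (θ : Ψ) {l κ : Λ} (hl : l ≠ D.oneΛ) (hκ : κ ≠ D.oneΛ)
    (a1 : D.M θ l D.oneΦ = 1) (b1 : D.M θ κ D.oneΦ = 0) :
    ∃ A : Ψ, ∀ ψ, D.M ψ l D.oneΦ - D.M ψ κ D.oneΦ = dl θ ψ - dl A ψ := by
  have hno : l ∉ D.orb κ := by
    intro h
    have := D.a_eq_of_mem_orb θ h
    omega
  obtain ⟨μ₁, μ₂, _, _, h3⟩ := D.norm2_one l κ hl hκ hno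
  have h4 := h3 θ
  have hθ : θ = μ₁ := by
    rcases dl_cases μ₁ θ with ⟨h5, _⟩ | ⟨_, h5⟩
    · exact h5
    · rcases dl_cases μ₂ θ with ⟨_, h6⟩ | ⟨_, h6⟩ <;> omega
  exact ⟨μ₂, fun ψ => by rw [hθ]; exact h3 ψ⟩

theorem exc (θ : Ψ) {l₁ l₂ κ₁ κ₂ : Λ} (h1 : l₁ ≠ D.oneΛ) (h2 : l₂ ≠ D.oneΛ) (h3 : κ₁ ≠ D.oneΛ)
    (h4 : κ₂ ≠ D.oneΛ) (hl : l₂ ∉ D.orb l₁) (hκ : κ₂ ∉ D.orb κ₁)
    (a1 : D.M θ l₁ D.oneΦ = 1) (a2 : D.M θ l₂ D.oneΦ = 1) (b1 : D.M θ κ₁ D.oneΦ = 0)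
    (b2 : D.M θ κ₂ D.oneΦ = 0) : False := by
  obtain ⟨A11, hA11⟩ := D.exc_aux θ h1 h3 a1 b1
  obtain ⟨A12, hA12⟩ := D.exc_aux θ h1 h4 a1 b2
  obtain ⟨A21, hA21⟩ := D.exc_aux θ h2 h3 a2 b1
  obtain ⟨A22, hA22⟩ := D.exc_aux θ h2 h4 a2 b2
  obtain ⟨ν₁, ν₂, hν, _, hνe⟩ := D.norm2_one l₁ l₂ h1 h2 (D.notMem_orb_symm hl)
  obtain ⟨ρ₁, ρ₂, hρ, _, hρe⟩ := D.norm2_one κ₁ κ₂ h3 h4 (D.notMem_orb_symm hκ)
  have e1 : ν₁ = A21 ∧ ν₂ = A11 := by
    apply dl_sub_eq hν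
    intro ψ
    have := hνe ψ
    have := hA11 ψ
    have := hA21 ψ
    omega
  have e2 : ν₁ = A22 ∧ ν₂ = A12 := by
    apply dl_sub_eq hν
    intro ψ
    have := hνe ψ
    have := hA12 ψ
    have := hA22 ψ
    omega
  have hA : A11 = A12 := by rw [← e1.2, ← e2.2]
  have h5 := hρe ρ₁
  rw [dl_self, dl_ne hρ] at h5
  have h6 := hA11 ρ₁
  have h7 := hA12 ρ₁
  rw [hA] at h6
  omega

/-! ### Step 6 -/

theorem exists_a_zero (θ : Ψ) (hθq : D.degΨ θ < (D.q : ℤ)) :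
    ∃ κ₀, D.M θ κ₀ D.oneΦ = 0 := by
  by_contra hno
  push Not at hno
  have h1 : (D.q : ℤ) ≤ D.colOne θ := by
    have : (D.q : ℤ) = ∑ _l : Λ, (1 : ℤ) := by
      rw [← D.card_Λ]
      simp
    rw [this]
    unfold colOne
    refine Finset.sum_le_sum fun l _ => ?_
    have := D.M_nonneg θ l D.oneΦ
    have := hno l
    omega
  have h2 := D.deg_ge θ
  have h3 : (0 : ℤ) ≤ (D.supp' θ).card := by positivity
  omega

theorem a_le_one (θ : Ψ) {κ₀ : Λ} (hκ₀ : κ₀ ≠ D.oneΛ) (h0 : D.M θ κ₀ D.oneΦ = 0) {l : Λ}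
    (hl : l ≠ D.oneΛ) : D.M θ l D.oneΦ ≤ 1 := by
  by_cases h : l ∈ D.orb κ₀
  · rw [D.a_eq_of_mem_orb θ h, h0]
    exact zero_le_one
  · have := (D.a_diff θ hl hκ₀ h).1
    omega

open Classical in
/-- The set where the column of the trivial character equals one. -/
noncomputable def setB (θ : Ψ) : Finset Λ :=
  Finset.univ.filter fun l => l ≠ D.oneΛ ∧ D.M θ l D.oneΦ = 1

theorem mem_setB {θ : Ψ} {l : Λ} : l ∈ D.setB θ ↔ l ≠ D.oneΛ ∧ D.M θ l D.oneΦ = 1 := by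
  classical
  simp [setB]

theorem smul_mem_setB (θ : Ψ) (u : Γ) (l : Λ) (h : l ∈ D.setB θ) : u • l ∈ D.setB θ := by
  rw [D.mem_setB] at h ⊢
  refine ⟨?_, by rw [D.a_smul]; exact h.2⟩
  intro h1
  apply h.1
  have : l = u⁻¹ • D.oneΛ := by rw [← h1, inv_smul_smul]
  rw [this, D.smul_oneΛ]

theorem sum_col_eq (θ : Ψ) (hle : ∀ l, l ≠ D.oneΛ → D.M θ l D.oneΦ ≤ 1) :
    D.colOne θ = D.M θ D.oneΛ D.oneΦ + (D.setB θ).card ∧
      ∑ l, (D.M θ l D.oneΦ) ^ 2 = (D.M θ D.oneΛ D.oneΦ) ^ 2 + (D.setB θ).card := by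
  classical
  have hB : ((D.setB θ).card : ℤ) =
      ∑ l ∈ Finset.univ.erase D.oneΛ, (if D.M θ l D.oneΦ = 1 then (1 : ℤ) else 0) := by
    rw [Finset.sum_boole]
    congr 2
    ext l
    simp [setB]
  have hval : ∀ l ∈ Finset.univ.erase D.oneΛ,
      D.M θ l D.oneΦ = (if D.M θ l D.oneΦ = 1 then (1 : ℤ) else 0) := by
    intro l hl
    have h1 := hle l (Finset.mem_erase.mp hl).1
    have h2 := D.M_nonneg θ l D.oneΦ
    by_cases h3 : D.M θ l D.oneΦ = 1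
    · rw [if_pos h3, h3]
    · rw [if_neg h3]
      omega
  constructor
  · unfold colOne
    rw [← Finset.add_sum_erase _ _ (Finset.mem_univ D.oneΛ), hB]
    congr 1
    exact Finset.sum_congr rfl hval
  · rw [← Finset.add_sum_erase _ _ (Finset.mem_univ D.oneΛ), hB]
    congr 1
    refine Finset.sum_congr rfl fun l hl => ?_
    have := hval l hl
    by_cases h3 : D.M θ l D.oneΦ = 1
    · rw [if_pos h3, h3]
      ring
    · rw [if_neg h3] at this ⊢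
      rw [this]
      ring

theorem setB_eq (θ : Ψ) (hdeg : D.degΨ θ + D.t + 2 ≤ (D.q : ℤ))
    (hc : 1 ≤ D.M θ D.oneΛ D.oneΦ) {κ₀ : Λ} (hκ₀ : κ₀ ≠ D.oneΛ)
    (h0 : D.M θ κ₀ D.oneΦ = 0) :
    D.setB θ = ∅ ∨ ∃ l₁, l₁ ≠ D.oneΛ ∧ D.setB θ = D.orb l₁ := by
  classical
  by_cases hB : D.setB θ = ∅
  · left; exact hB
  right
  obtain ⟨l₁, hl₁⟩ := Finset.nonempty_iff_ne_empty.mpr hB
  have hl₁' := D.mem_setB.mp hl₁
  refine ⟨l₁, hl₁'.1, ?_⟩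
  apply Finset.Subset.antisymm _ (D.orb_subset (D.smul_mem_setB θ) hl₁)
  intro l₂ hl₂
  by_contra hno
  have hl₂' := D.mem_setB.mp hl₂
  have hle : ∀ l, l ≠ D.oneΛ → D.M θ l D.oneΦ ≤ 1 := fun l hl => D.a_le_one θ hκ₀ h0 hl
  -- all zeros are in the orbit of κ₀
  have hZ : Finset.univ.erase D.oneΛ ⊆ D.setB θ ∪ D.orb κ₀ := by
    intro l hl
    have hl1 := (Finset.mem_erase.mp hl).1
    rw [Finset.mem_union]
    by_cases h1 : D.M θ l D.oneΦ = 1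
    · left; exact D.mem_setB.mpr ⟨hl1, h1⟩
    · right
      by_contra hlo
      have h2 := hle l hl1
      have h3 := D.M_nonneg θ l D.oneΦ
      have h4 : D.M θ l D.oneΦ = 0 := by omega
      exact D.exc θ hl₁'.1 hl₂'.1 hκ₀ hl1 hno hlo hl₁'.2 hl₂'.2 h0 h4
  have h5 := Finset.card_le_card hZ
  rw [Finset.card_erase_of_mem (Finset.mem_univ _), Finset.card_univ, D.card_Λ] at h5
  have h6 := Finset.card_union_le (D.setB θ) (D.orb κ₀)
  rw [D.card_orb hκ₀] at h6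
  have h7 := (D.sum_col_eq θ hle).1
  have h8 := D.deg_ge θ
  have h9 : (0 : ℤ) ≤ (D.supp' θ).card := by positivity
  have h10 : (D.q : ℤ) - 1 ≤ (D.setB θ).card + D.t := by
    have : D.q - 1 ≤ (D.setB θ).card + D.t := le_trans h5 h6
    omega
  omega

theorem arith_D1 (q t c s tot : ℤ) (hti : q * c ^ 2 - c ^ 2 + (q - s) * tot < q * t)
    (hts : t ≤ s) (hs : s ≤ q - 1 - t) (htot : s ≤ tot) (hc : 1 ≤ c) (hq : t ^ 2 + t ≤ q - 1)
    (ht : 0 ≤ t) : False := by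
  have h1 : 0 ≤ q - s := by linarith
  have h2 : (q - s) * s ≤ (q - s) * tot := mul_le_mul_of_nonneg_left htot h1
  have h3 : 0 ≤ (s - t) * (q - 1 - s - t) := mul_nonneg (by linarith) (by linarith)
  have h4 : (q - 1) * 1 ≤ (q - 1) * c ^ 2 := by
    apply mul_le_mul_of_nonneg_left _ (by nlinarith)
    nlinarith
  have h5 : 0 ≤ s := by linarith
  nlinarith

theorem arith_D2a (q t c s tot : ℤ)
    (hti : q * (c ^ 2 + t) - (c + t) ^ 2 + (q - s) * tot < q * t)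
    (hqs : 0 ≤ q - s) (htot : 0 ≤ tot) (hc : 1 ≤ c) (hq : t ^ 2 + t ≤ q - 1)
    (ht : 2 ≤ t) : c = 1 := by
  by_contra hne
  have hc2 : 2 ≤ c := by omega
  have h1 : 0 ≤ (q - s) * tot := mul_nonneg hqs htot
  have h2 : 0 ≤ t ^ 2 * (c ^ 2 - 1) := mul_nonneg (sq_nonneg t) (by nlinarith)
  have h3 : 0 ≤ t * c * (c - 2) := mul_nonneg (mul_nonneg (by linarith) (by linarith)) (by linarith)
  have h4 : 0 ≤ (q - (t ^ 2 + t + 1)) * c ^ 2 := mul_nonneg (by linarith) (sq_nonneg c)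
  nlinarith

theorem arith_D2b (q t s tot f e : ℤ)
    (hti : q * (1 ^ 2 + t) - (1 + t) ^ 2 + (q - s) * tot < q * t)
    (hqs : 2 * t + 3 ≤ q - s) (htot : 0 ≤ tot) (he : q - 1 = e * t) (hef : t * f ^ 2 + 1 ≤ e)
    (hf : 1 ≤ f) (ht : 2 ≤ t) : q = t ^ 2 + t + 1 ∧ f = 1 ∧ tot = 0 := by
  have h1 : 0 ≤ (q - s) * tot := mul_nonneg (by linarith) htot
  have hq : q < (1 + t) ^ 2 := by nlinarith
  have he1 : e ≤ t + 1 := by
    by_contra hcon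
    have : t + 2 ≤ e := by omega
    have : (t + 2) * t ≤ e * t := mul_le_mul_of_nonneg_right this (by linarith)
    nlinarith
  have hf1 : f = 1 := by
    by_contra hne
    have hf2 : 2 ≤ f := by omega
    have : 4 ≤ f ^ 2 := by nlinarith
    nlinarith
  have he2 : e = t + 1 := by
    rw [hf1] at hef
    linarith
  have hq2 : q = t ^ 2 + t + 1 := by
    rw [he2] at he
    linarith
  refine ⟨hq2, hf1, ?_⟩
  by_contra hne
  have ht1 : 1 ≤ tot := by omega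
  have : (q - s) * 1 ≤ (q - s) * tot := mul_le_mul_of_nonneg_left ht1 (by linarith)
  nlinarith

/-- `θ` is of exceptional type: its matrix is the indicator of `({1} ∪ B) × {1}`. -/
structure ExcType (θ : Ψ) (B : Finset Λ) : Prop where
  exists_rep : ∃ l₁, l₁ ≠ D.oneΛ ∧ B = D.orb l₁
  M_one_one : D.M θ D.oneΛ D.oneΦ = 1
  M_B : ∀ l ∈ B, D.M θ l D.oneΦ = 1
  M_zero : ∀ l φ, ¬ (φ = D.oneΦ ∧ (l = D.oneΛ ∨ l ∈ B)) → D.M θ l φ = 0

theorem tot'_eq_zero {θ : Ψ} (h : D.tot' θ = 0) {l : Λ} {φ : Φ} (hφ : φ ≠ D.oneΦ) :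
    D.M θ l φ = 0 := by
  classical
  unfold tot' at h
  have h1 := (Finset.sum_eq_zero_iff_of_nonneg
    (fun _ _ => Finset.sum_nonneg fun _ _ => sq_nonneg _)).mp h φ
    (Finset.mem_erase.mpr ⟨hφ, Finset.mem_univ φ⟩)
  have h2 := (Finset.sum_eq_zero_iff_of_nonneg (fun _ _ => sq_nonneg _)).mp h1 l
    (Finset.mem_univ l)
  exact pow_eq_zero_iff (two_ne_zero) |>.mp h2

theorem step6 (ht : 2 ≤ D.t) {χ : Ψ} {O : Finset Λ} {g : Λ → Φ} (h : D.OrbType χ O g)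
    (hd : D.degΨ χ ^ 2 + 1 < (D.q : ℤ)) {l₀ : Λ} (hl₀ : l₀ ∈ O) (θ : Ψ) (hθ : θ ≠ D.oneΨ)
    (hθdeg : D.degΨ θ + 1 ≤ D.degΨ χ ^ 2) (hc : 1 ≤ D.M θ D.oneΛ D.oneΦ) :
    (D.q : ℤ) = (D.t : ℤ) ^ 2 + D.t + 1 ∧ D.degΦ (g l₀) = 1 ∧ ∃ B, D.ExcType θ B := by
  classical
  obtain ⟨e, he, hef⟩ := h.q_ge D hd hl₀
  have ht2 : (2 : ℤ) ≤ D.t := by exact_mod_cast ht
  have hf := D.degΦ_pos (g l₀)
  have hdeq := h.deg_eq hl₀
  -- d² + t ≤ q - 1
  have hdq : D.degΨ χ ^ 2 + D.t ≤ (D.q : ℤ) - 1 := by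
    rw [he, hdeq]
    have : (D.t * D.degΦ (g l₀) ^ 2 + 1) * D.t ≤ e * D.t :=
      mul_le_mul_of_nonneg_right hef (by linarith)
    nlinarith
  have hq2 : (D.t : ℤ) ^ 2 + D.t ≤ (D.q : ℤ) - 1 := by
    have : (D.t : ℤ) ^ 2 ≤ D.degΨ χ ^ 2 := by
      rw [hdeq]
      have : (D.t : ℤ) * 1 ≤ D.t * D.degΦ (g l₀) := mul_le_mul_of_nonneg_left (by omega) (by linarith)
      nlinarith
    linarith
  obtain ⟨κ₀, h0⟩ := D.exists_a_zero θ (by linarith)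
  have hκ₀ : κ₀ ≠ D.oneΛ := by
    rintro rfl
    omega
  have hle : ∀ l, l ≠ D.oneΛ → D.M θ l D.oneΦ ≤ 1 := fun l hl => D.a_le_one θ hκ₀ h0 hl
  obtain ⟨hcol1, hcol2⟩ := D.sum_col_eq θ hle
  have hK : D.colK θ D.oneΦ = (D.q : ℤ) * ((D.M θ D.oneΛ D.oneΦ) ^ 2 + (D.setB θ).card) -
      (D.M θ D.oneΛ D.oneΦ + (D.setB θ).card) ^ 2 := by
    unfold colK
    rw [hcol2]
    unfold colOne at hcol1
    rw [hcol1]
  have hti := D.ti_split θ
  have hdg := D.deg_ge θ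
  rw [hcol1] at hdg
  have htot := D.card_supp'_le_tot' θ
  have htot0 := D.tot'_nonneg θ
  rcases D.setB_eq θ (by linarith) hc hκ₀ h0 with hB | ⟨l₁, hl₁, hB⟩
  · -- B = ∅
    exfalso
    rw [hB] at hK hdg
    simp only [Finset.card_empty, Nat.cast_zero, add_zero] at hK hdg
    obtain ⟨l, hl, φ, hφ⟩ := D.h0 θ hθ
    have hφ1 : φ ≠ D.oneΦ := by
      rintro rfl
      have h1 : l ∉ D.setB θ := by rw [hB]; exact Finset.notMem_empty l
      rw [D.mem_setB] at h1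
      have h2 := hle l hl
      have h3 := D.M_nonneg θ l D.oneΦ
      have : D.M θ l D.oneΦ = 1 := by omega
      exact h1 ⟨hl, this⟩
    have hlS : l ∈ D.supp' θ := D.mem_supp'.mpr ⟨φ, hφ1, hφ⟩
    have hts : (D.t : ℤ) ≤ (D.supp' θ).card := by
      exact_mod_cast D.card_ge_of_invariant (D.smul_mem_supp' θ) hlS hl
    rw [hK] at hti
    have hti' : (D.q : ℤ) * (D.M θ D.oneΛ D.oneΦ) ^ 2 - (D.M θ D.oneΛ D.oneΦ) ^ 2 +
        ((D.q : ℤ) - (D.supp' θ).card) * D.tot' θ < D.q * D.t := by linarith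
    exact arith_D1 _ _ _ _ _ hti' hts (by linarith) htot hc hq2 (by linarith)
  · -- B is an orbit
    have hBc : ((D.setB θ).card : ℤ) = D.t := by
      rw [hB, D.card_orb hl₁]
    rw [hBc] at hK hdg
    rw [hK] at hti
    have hc1 : D.M θ D.oneΛ D.oneΦ = 1 :=
      arith_D2a _ _ _ _ _ hti (by linarith) htot0 hc hq2 ht2
    rw [hc1] at hti hdg
    obtain ⟨hq3, hf1, htot1⟩ := arith_D2b _ _ _ _ _ _ hti (by linarith) htot0 he hef (by omega) ht2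
    refine ⟨hq3, hf1, D.setB θ, ⟨⟨l₁, hl₁, hB⟩, hc1, fun l hl => (D.mem_setB.mp hl).2, ?_⟩⟩
    intro l φ hno
    by_cases hφ : φ = D.oneΦ
    · subst hφ
      have hl1 : l ≠ D.oneΛ := fun hh => hno ⟨rfl, Or.inl hh⟩
      have hlB : l ∉ D.setB θ := fun hh => hno ⟨rfl, Or.inr hh⟩
      rw [D.mem_setB] at hlB
      have h2 := hle l hl1
      have h3 := D.M_nonneg θ l D.oneΦ
      by_contra hne
      exact hlB ⟨hl1, by omega⟩
    · exact D.tot'_eq_zero htot1 hφ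

namespace ExcType

variable {D} {θ : Ψ} {B : Finset Λ} (h : D.ExcType θ B)
include h

theorem card : B.card = D.t := by
  obtain ⟨l₁, hl₁, rfl⟩ := h.exists_rep
  exact D.card_orb hl₁

theorem one_notMem : D.oneΛ ∉ B := by
  obtain ⟨l₁, hl₁, rfl⟩ := h.exists_rep
  exact D.one_notMem_orb hl₁

theorem nonempty : B.Nonempty := by
  obtain ⟨l₁, _, rfl⟩ := h.exists_rep
  exact ⟨l₁, D.self_mem_orb l₁⟩

theorem eq_orb {l : Λ} (hl : l ∈ B) : B = D.orb l := by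
  obtain ⟨l₁, _, rfl⟩ := h.exists_rep
  exact (D.orb_eq_of_mem hl).symm

theorem colOne_eq : D.colOne θ = 1 + D.t := by
  classical
  unfold colOne
  have h1 : ∀ l, D.M θ l D.oneΦ = if l ∈ insert D.oneΛ B then 1 else 0 := by
    intro l
    by_cases hl : l ∈ insert D.oneΛ B
    · rw [if_pos hl]
      rcases Finset.mem_insert.mp hl with rfl | hl
      · exact h.M_one_one
      · exact h.M_B l hl
    · rw [if_neg hl]
      apply h.M_zero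
      rintro ⟨_, h2⟩
      exact hl (Finset.mem_insert.mpr h2)
  rw [Finset.sum_congr rfl fun l _ => h1 l, Finset.sum_boole]
  have h2 : (Finset.univ.filter fun l => l ∈ insert D.oneΛ B) = insert D.oneΛ B := by
    ext l
    simp
  rw [h2, Finset.card_insert_of_notMem h.one_notMem, h.card]
  push_cast
  ring

theorem deg_eq : D.degΨ θ = 1 + D.t := by
  rw [← h.colOne_eq, D.degΨ_eq]
  unfold colOne
  refine Finset.sum_congr rfl fun l _ => ?_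
  rw [Finset.sum_eq_single D.oneΦ]
  · rw [D.degΦ_one, mul_one]
  · intro φ _ hφ
    rw [h.M_zero l φ (fun hh => hφ hh.1), zero_mul]
  · intro hh
    exact absurd (Finset.mem_univ _) hh

end ExcType

open Classical in
theorem fiber_const {O : Finset Λ} {g : Λ → Φ} {l₀ : Λ} (hl₀ : l₀ ∈ O)
    (h : (O.card : ℤ) ^ 2 ≤
      ∑ φ, (((O.filter fun l => g l = φ).card : ℕ) : ℤ) ^ 2) : ∀ l ∈ O, g l = g l₀ := by
  classical
  have hsum : ∑ φ, (((O.filter fun l => g l = φ).card : ℕ) : ℤ) = O.card := by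
    have := Finset.card_eq_sum_card_fiberwise (f := g) (s := O) (t := Finset.univ)
      (fun _ _ => Finset.mem_univ _)
    rw [this]
    push_cast
    rfl
  have hle : ∀ φ, (((O.filter fun l => g l = φ).card : ℕ) : ℤ) ≤ O.card := by
    intro φ
    exact_mod_cast Finset.card_filter_le _ _
  have hnn : ∀ φ ∈ (Finset.univ : Finset Φ), 0 ≤ (((O.filter fun l => g l = φ).card : ℕ) : ℤ) *
      ((O.card : ℤ) - ((O.filter fun l => g l = φ).card : ℕ)) := by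
    intro φ _
    apply mul_nonneg (by positivity)
    have := hle φ
    linarith
  have hzero : ∑ φ, (((O.filter fun l => g l = φ).card : ℕ) : ℤ) *
      ((O.card : ℤ) - ((O.filter fun l => g l = φ).card : ℕ)) = 0 := by
    apply le_antisymm _ (Finset.sum_nonneg hnn)
    have : ∑ φ, (((O.filter fun l => g l = φ).card : ℕ) : ℤ) *
        ((O.card : ℤ) - ((O.filter fun l => g l = φ).card : ℕ)) =
        (O.card : ℤ) * ∑ φ, (((O.filter fun l => g l = φ).card : ℕ) : ℤ) -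
          ∑ φ, (((O.filter fun l => g l = φ).card : ℕ) : ℤ) ^ 2 := by
      rw [Finset.mul_sum, ← Finset.sum_sub_distrib]
      refine Finset.sum_congr rfl fun φ _ => ?_
      ring
    rw [this, hsum]
    have h5 : (O.card : ℤ) * O.card = (O.card : ℤ) ^ 2 := by ring
    rw [h5]
    linarith
  have h0 := (Finset.sum_eq_zero_iff_of_nonneg hnn).mp hzero (g l₀) (Finset.mem_univ _)
  have hpos : 0 < (((O.filter fun l => g l = g l₀).card : ℕ) : ℤ) := by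
    have : 0 < (O.filter fun l => g l = g l₀).card :=
      Finset.card_pos.mpr ⟨l₀, Finset.mem_filter.mpr ⟨hl₀, rfl⟩⟩
    exact_mod_cast this
  have h1 : (O.card : ℤ) - ((O.filter fun l => g l = g l₀).card : ℕ) = 0 := by
    rcases mul_eq_zero.mp h0 with h2 | h2
    · omega
    · exact h2
  have h2 : O.card ≤ (O.filter fun l => g l = g l₀).card := by
    have : (O.card : ℤ) ≤ ((O.filter fun l => g l = g l₀).card : ℕ) := by omega
    exact_mod_cast this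
  have h3 := Finset.eq_of_subset_of_card_le (Finset.filter_subset _ O) h2
  intro l hl
  rw [← h3] at hl
  exact (Finset.mem_filter.mp hl).2

theorem colOne_one : D.colOne D.oneΨ = 1 := by
  unfold colOne
  rw [Finset.sum_eq_single D.oneΛ]
  · exact D.M_one_one
  · intro l _ hl
    exact D.M_one_ne l D.oneΦ (fun hh => hl hh.1)
  · intro hh
    exact absurd (Finset.mem_univ _) hh

theorem degΨ_one : D.degΨ D.oneΨ = 1 := by
  rw [D.degΨ_eq, Finset.sum_eq_single D.oneΛ]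
  · rw [Finset.sum_eq_single D.oneΦ]
    · rw [D.M_one_one, D.degΦ_one, mul_one]
    · intro φ _ hφ
      rw [D.M_one_ne D.oneΛ φ (fun hh => hφ hh.2), zero_mul]
    · intro hh
      exact absurd (Finset.mem_univ _) hh
  · intro l _ hl
    apply Finset.sum_eq_zero
    intro φ _
    rw [D.M_one_ne l φ (fun hh => hl hh.1), zero_mul]
  · intro hh
    exact absurd (Finset.mem_univ _) hh

/-- Steps 5 and 7. -/
theorem g_const (ht : 2 ≤ D.t) {χ : Ψ} {O : Finset Λ} {g : Λ → Φ} (h : D.OrbType χ O g)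
    (hd : D.degΨ χ ^ 2 + 1 < (D.q : ℤ)) {l₀ : Λ} (hl₀ : l₀ ∈ O) :
    (∀ l ∈ O, g l = g l₀) ∧ (D.q : ℤ) = (D.t : ℤ) ^ 2 + D.t + 1 ∧ D.degΦ (g l₀) = 1 ∧
      ∃ θ B, D.ExcType θ B := by
  classical
  obtain ⟨n, hn0, hdeg, hn1, h3, h4⟩ := D.prod χ χ
  have hn1 := hn1 rfl
  have ht2 : (2 : ℤ) ≤ D.t := by exact_mod_cast ht
  -- the right hand sides
  have h3' : ∑ ψ, n ψ * D.M ψ D.oneΛ D.oneΦ = D.t := by
    rw [h3, h.sum_eq (fun l φ => D.M χ l φ)]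
    rw [Finset.sum_congr rfl fun l hl => h.M_one l hl, Finset.sum_const, h.card]
    simp
  have h4' : ∑ ψ, n ψ * D.colOne ψ =
      ∑ φ, (((O.filter fun l => g l = φ).card : ℕ) : ℤ) ^ 2 := by
    unfold colOne
    rw [h4]
    refine Finset.sum_congr rfl fun φ _ => ?_
    rw [h.colsum_eq φ]
    ring
  -- degrees of constituents
  have hdegψ : ∀ ψ, ψ ≠ D.oneΨ → 1 ≤ n ψ → D.degΨ ψ + 1 ≤ D.degΨ χ ^ 2 := by
    intro ψ hψ hnψ
    have hpair : ∑ x ∈ ({D.oneΨ, ψ} : Finset Ψ), n x * D.degΨ x ≤ ∑ x, n x * D.degΨ x :=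
      Finset.sum_le_sum_of_subset_of_nonneg (Finset.subset_univ _)
        fun x _ _ => mul_nonneg (hn0 x) (D.degΨ_pos x).le
    rw [Finset.sum_pair (Ne.symm hψ), hn1, D.degΨ_one, ← hdeg] at hpair
    have := D.degΨ_pos ψ
    nlinarith
  have hstep : ∀ ψ, ψ ≠ D.oneΨ → 1 ≤ n ψ → 1 ≤ D.M ψ D.oneΛ D.oneΦ →
      (D.q : ℤ) = (D.t : ℤ) ^ 2 + D.t + 1 ∧ D.degΦ (g l₀) = 1 ∧ ∃ B, D.ExcType ψ B :=
    fun ψ hψ hnψ hcψ => D.step6 ht h hd hl₀ ψ hψ (hdegψ ψ hψ hnψ) hcψ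
  -- split off the trivial character
  have h3'' : ∑ ψ ∈ Finset.univ.erase D.oneΨ, n ψ * D.M ψ D.oneΛ D.oneΦ = D.t - 1 := by
    have := Finset.add_sum_erase Finset.univ (fun ψ => n ψ * D.M ψ D.oneΛ D.oneΦ)
      (Finset.mem_univ D.oneΨ)
    simp only [hn1, D.M_one_one, mul_one] at this
    linarith
  -- existence of θ
  have hex : ∃ θ ∈ Finset.univ.erase D.oneΨ, 0 < n θ * D.M θ D.oneΛ D.oneΦ := by
    by_contra hno
    push Not at hno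
    have : ∑ ψ ∈ Finset.univ.erase D.oneΨ, n ψ * D.M ψ D.oneΛ D.oneΦ ≤ 0 :=
      Finset.sum_nonpos hno
    omega
  obtain ⟨θ, hθmem, hθpos⟩ := hex
  have hθ1 : θ ≠ D.oneΨ := (Finset.mem_erase.mp hθmem).1
  have hnθ : 1 ≤ n θ := by
    have := hn0 θ
    have := D.M_nonneg θ D.oneΛ D.oneΦ
    by_contra hcon
    have : n θ = 0 := by omega
    rw [this] at hθpos
    simp at hθpos
  have hcθ : 1 ≤ D.M θ D.oneΛ D.oneΦ := by
    have := D.M_nonneg θ D.oneΛ D.oneΦ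
    by_contra hcon
    have : D.M θ D.oneΛ D.oneΦ = 0 := by omega
    rw [this] at hθpos
    simp at hθpos
  obtain ⟨hq, hf, B, hB⟩ := hstep θ hθ1 hnθ hcθ
  refine ⟨?_, hq, hf, θ, B, hB⟩
  -- the inequality
  have hterm : ∀ ψ ∈ Finset.univ.erase D.oneΨ,
      n ψ * D.M ψ D.oneΛ D.oneΦ * (1 + D.t) ≤ n ψ * D.colOne ψ := by
    intro ψ hψ
    have hψ1 := (Finset.mem_erase.mp hψ).1
    have h1 := hn0 ψ
    have h2 := D.M_nonneg ψ D.oneΛ D.oneΦ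
    have h5 := D.colOne_nonneg ψ
    by_cases hnψ : n ψ = 0
    · rw [hnψ]
      simp
    by_cases hcψ : D.M ψ D.oneΛ D.oneΦ = 0
    · rw [hcψ]
      simp only [mul_zero, zero_mul]
      exact mul_nonneg h1 h5
    obtain ⟨_, _, B', hB'⟩ := hstep ψ hψ1 (by omega) (by omega)
    rw [hB'.M_one_one, hB'.colOne_eq]
    linarith
  have hsum : (D.t : ℤ) ^ 2 ≤ ∑ ψ, n ψ * D.colOne ψ := by
    rw [← Finset.add_sum_erase Finset.univ _ (Finset.mem_univ D.oneΨ), hn1, D.colOne_one]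
    have h5 := Finset.sum_le_sum hterm
    rw [← Finset.sum_mul, h3''] at h5
    nlinarith
  apply fiber_const hl₀
  rw [h.card, ← h4']
  exact hsum

/-- Step 8: the final contradiction. -/
theorem final (ht : 2 ≤ D.t) {χ : Ψ} {O : Finset Λ} {g : Λ → Φ} (h : D.OrbType χ O g)
    (hd : D.degΨ χ ^ 2 + 1 < (D.q : ℤ)) {l₀ : Λ} (hl₀ : l₀ ∈ O) : False := by
  classical
  obtain ⟨hg, hq, hf1, θ, B, hB⟩ := D.g_const ht h hd hl₀
  have ht2 : (2 : ℤ) ≤ D.t := by exact_mod_cast ht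
  have hinv : ∀ u : Γ, u • g l₀ = g l₀ := by
    intro u
    rw [← h.g_smul u hl₀]
    exact hg _ (h.smul_mem u hl₀)
  have hd_t : D.degΨ χ = D.t := by rw [h.deg_eq hl₀, hf1, mul_one]
  have hqt : D.t < D.q - 1 := by
    have : (D.t : ℤ) < (D.q : ℤ) - 1 := by nlinarith
    omega
  have hcardΛ : (Finset.univ.erase D.oneΛ).card = D.q - 1 := by
    rw [Finset.card_erase_of_mem (Finset.mem_univ _), Finset.card_univ, D.card_Λ]
  -- a second orbit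
  have hex : ∃ l'', l'' ≠ D.oneΛ ∧ l'' ∉ D.orb l₀ := by
    have hcard : (D.orb l₀).card < (Finset.univ.erase D.oneΛ).card := by
      rw [D.card_orb (h.ne_one hl₀), hcardΛ]
      exact hqt
    obtain ⟨l'', hl''1, hl''2⟩ := Finset.exists_mem_notMem_of_card_lt_card hcard
    exact ⟨l'', (Finset.mem_erase.mp hl''1).1, hl''2⟩
  obtain ⟨l'', hl''1, hl''2⟩ := hex
  obtain ⟨χ'', O'', g'', hdeg'', h'', hl''O, hgl''⟩ := D.lift ht h hd hl₀ hl''1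
  have hg'' : ∀ l ∈ O'', g'' l = g l₀ := by
    intro l hl
    rw [h''.eq_orb hl''O] at hl
    obtain ⟨u, rfl⟩ := D.mem_orb.mp hl
    rw [h''.g_smul u hl''O, hgl'', hinv]
  have hdisj : Disjoint O O'' := by
    rw [h.eq_orb hl₀, h''.eq_orb hl''O]
    exact D.disjoint_orb hl''2
  obtain ⟨n, hn0, hdeg, _, h3, h4⟩ := D.prod χ χ''
  have h3' : ∑ ψ, n ψ * D.M ψ D.oneΛ D.oneΦ = 0 := by
    rw [h3, h.sum_eq (fun l φ => D.M χ'' l φ)]
    apply Finset.sum_eq_zero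
    intro l hl
    apply h''.M_zero
    rintro ⟨hl2, _⟩
    exact (Finset.disjoint_left.mp hdisj hl) hl2
  have h4' : ∑ ψ, n ψ * D.colOne ψ = (D.t : ℤ) ^ 2 := by
    unfold colOne
    rw [h4, Finset.sum_eq_single (g l₀)]
    · rw [h.colsum_eq, h''.colsum_eq]
      have e1 : (O.filter fun l => g l = g l₀) = O := Finset.filter_true_of_mem hg
      have e2 : (O''.filter fun l => g'' l = g l₀) = O'' := Finset.filter_true_of_mem hg''
      rw [e1, e2, h.card, h''.card]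
      ring
    · intro φ _ hφ
      rw [h.colsum_eq]
      have e1 : (O.filter fun l => g l = φ) = ∅ := by
        apply Finset.filter_false_of_mem
        intro l hl hh
        exact hφ (by rw [← hh, hg l hl])
      rw [e1]
      simp
    · intro hh
      exact absurd (Finset.mem_univ _) hh
  have hdeg' : ∑ ψ, n ψ * D.degΨ ψ = (D.t : ℤ) ^ 2 := by
    rw [← hdeg, hdeg'', hd_t]
    ring
  -- termwise equalities
  have hle : ∀ ψ ∈ (Finset.univ : Finset Ψ), n ψ * D.colOne ψ ≤ n ψ * D.degΨ ψ := by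
    intro ψ _
    apply mul_le_mul_of_nonneg_left _ (hn0 ψ)
    have := D.deg_ge ψ
    have : (0 : ℤ) ≤ (D.supp' ψ).card := by positivity
    linarith
  have hterm := (Finset.sum_eq_sum_iff_of_le hle).mp (by rw [h4', hdeg'])
  have hc0 := (Finset.sum_eq_zero_iff_of_nonneg
    (fun ψ _ => mul_nonneg (hn0 ψ) (D.M_nonneg ψ D.oneΛ D.oneΦ))).mp h3'
  -- elements of B and outside B
  obtain ⟨m₁, hm₁⟩ := hB.nonempty
  have hexB : ∃ m₂, m₂ ≠ D.oneΛ ∧ m₂ ∉ B := by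
    have hcard : B.card < (Finset.univ.erase D.oneΛ).card := by
      rw [hB.card, hcardΛ]
      exact hqt
    obtain ⟨m₂, h1, h2⟩ := Finset.exists_mem_notMem_of_card_lt_card hcard
    exact ⟨m₂, (Finset.mem_erase.mp h1).1, h2⟩
  obtain ⟨m₂, hm₂1, hm₂B⟩ := hexB
  have hBne : ∀ l ∈ B, l ≠ D.oneΛ := by
    intro l hl hl1
    rw [hl1] at hl
    exact hB.one_notMem hl
  -- all constituents have degree t + 1
  have hall : ∀ ψ, 1 ≤ n ψ → D.degΨ ψ = 1 + D.t := by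
    intro ψ hnψ
    by_contra hne
    have hcol : D.colOne ψ = D.degΨ ψ := by
      have := hterm ψ (Finset.mem_univ ψ)
      have hn : n ψ ≠ 0 := by omega
      exact mul_left_cancel₀ hn this
    have hcψ : D.M ψ D.oneΛ D.oneΦ = 0 := by
      have := hc0 ψ (Finset.mem_univ ψ)
      rcases mul_eq_zero.mp this with h5 | h5
      · omega
      · exact h5
    have key : ∀ μ₁ ∈ B, ∀ μ₂, μ₂ ≠ D.oneΛ → μ₂ ∉ B →
        D.M ψ μ₁ D.oneΦ = D.M ψ μ₂ D.oneΦ := by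
      intro μ₁ hμ₁ μ₂ hμ₂1 hμ₂B
      have hno : μ₁ ∉ D.orb μ₂ := by
        intro hh
        apply hμ₂B
        rw [hB.eq_orb hμ₁]
        exact D.mem_orb_symm hh
      obtain ⟨ν₁, ν₂, _, hdegν, hνe⟩ := D.norm2_one μ₁ μ₂ (hBne μ₁ hμ₁) hμ₂1 hno
      have hθe := hνe θ
      rw [hB.M_B μ₁ hμ₁, hB.M_zero μ₂ D.oneΦ (by
        rintro ⟨_, h5 | h5⟩
        · exact hμ₂1 h5
        · exact hμ₂B h5)] at hθe
      have hθν : θ = ν₁ := by
        rcases dl_cases ν₁ θ with ⟨h5, _⟩ | ⟨_, h5⟩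
        · exact h5
        · rcases dl_cases ν₂ θ with ⟨_, h6⟩ | ⟨_, h6⟩ <;> omega
      have hψ1 : ψ ≠ ν₁ := by
        intro hh
        apply hne
        rw [hh, ← hθν, hB.deg_eq]
      have hψ2 : ψ ≠ ν₂ := by
        intro hh
        apply hne
        rw [hh, ← hdegν, ← hθν, hB.deg_eq]
      have := hνe ψ
      rw [dl_ne hψ1, dl_ne hψ2] at this
      linarith
    have hk : ∀ l, l ≠ D.oneΛ → D.M ψ l D.oneΦ = D.M ψ m₁ D.oneΦ := by
      intro l hl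
      by_cases hlB : l ∈ B
      · rw [key l hlB m₂ hm₂1 hm₂B, ← key m₁ hm₁ m₂ hm₂1 hm₂B]
      · exact (key m₁ hm₁ l hl hlB).symm
    have hcolk : D.colOne ψ = ((D.q : ℤ) - 1) * D.M ψ m₁ D.oneΦ := by
      unfold colOne
      rw [← Finset.add_sum_erase Finset.univ _ (Finset.mem_univ D.oneΛ), hcψ, zero_add,
        Finset.sum_congr rfl fun l hl => hk l (Finset.mem_erase.mp hl).1, Finset.sum_const,
        hcardΛ]
      have hq1 : 1 ≤ D.q := by omega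
      rw [nsmul_eq_mul, Nat.cast_sub hq1]
      simp
    have hdegle : D.degΨ ψ ≤ (D.t : ℤ) ^ 2 := by
      have h5 := Finset.single_le_sum (f := fun ψ => n ψ * D.degΨ ψ)
        (fun ψ _ => mul_nonneg (hn0 ψ) (D.degΨ_pos ψ).le) (Finset.mem_univ ψ)
      rw [hdeg'] at h5
      have := D.degΨ_pos ψ
      nlinarith
    have hk0 := D.M_nonneg ψ m₁ D.oneΦ
    have hpos := D.degΨ_pos ψ
    rw [← hcol, hcolk] at hdegle hpos
    by_cases hk1 : D.M ψ m₁ D.oneΦ = 0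
    · rw [hk1] at hpos
      simp at hpos
    · have : 1 ≤ D.M ψ m₁ D.oneΦ := by omega
      nlinarith
  -- divisibility
  have hfin : ∑ ψ, n ψ * D.degΨ ψ = (1 + (D.t : ℤ)) * ∑ ψ, n ψ := by
    rw [Finset.mul_sum]
    refine Finset.sum_congr rfl fun ψ _ => ?_
    by_cases hnψ : n ψ = 0
    · rw [hnψ]
      simp
    · have := hn0 ψ
      rw [hall ψ (by omega)]
      ring
  rw [hdeg'] at hfin
  by_cases hN : ∑ ψ, n ψ ≤ (D.t : ℤ) - 1
  · nlinarith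
  · have : (D.t : ℤ) ≤ ∑ ψ, n ψ := by omega
    nlinarith

/-- The main theorem of the core, case `t ≥ 2`. -/
theorem core_false (ht : 2 ≤ D.t) (χ : Ψ) (hχ : χ ≠ D.oneΨ)
    (hd : D.degΨ χ ^ 2 + 1 < (D.q : ℤ)) : False := by
  obtain ⟨O, g, h⟩ := D.exists_orbType ht χ hχ hd
  obtain ⟨l₁, _, rfl⟩ := h.exists_rep
  exact D.final ht h hd (D.self_mem_orb l₁)

end Core

end Cfsg.Agent.Lib.Helper81.Leo
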