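import Cfsg.Agent.Lib.Helper81.LeoFinal

/-!
# The Brauer–Leonard theorem for faithful characters
-/

set_option autoImplicit false
set_option linter.unusedSectionVars false
set_option linter.style.haveILetI false

namespace Cfsg.Agent.Lib.Helper81.Leo

open Cfsg Subgroup
open scoped ComplexConjugate

universe u

/-- All constituents linear and faithful implies abelian. -/
theorem comm_of_faithful_of_linear {G : Type u} [Group G] [Fintype G] {χ : G → ℂ}
    (hχ : IsCharacter G χ) (hfaith : ∀ g : G, χ g = χ 1 → g = 1)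
    (hlin : ∀ ψ : IrrCharacter G, classInner χ (ψ : G → ℂ) ≠ 0 →
      (ψ : G → ℂ) 1 = 1) : ∀ a b : G, a * b = b * a := by
  classical
  haveI : Fintype (IrrCharacter G) := Fintype.ofFinite _
  obtain ⟨m, hm1, hm2⟩ := Cfsg.Agent.Lib.Helper3.IsCharacter.exists_mult hχ
  have hcomm : ∀ g ∈ commutator G, χ g = χ 1 := by
    intro g hg
    rw [hm2, Finset.sum_apply, Finset.sum_apply]
    refine Finset.sum_congr rfl fun ψ _ => ?_
    rw [Pi.smul_apply, Pi.smul_apply]
    by_cases hmψ : m ψ = 0
    · rw [hmψ]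
      simp
    · have h1 : (ψ : G → ℂ) 1 = 1 := by
        apply hlin ψ
        rw [hm1 ψ]
        exact_mod_cast hmψ
      rw [Cfsg.Agent.Lib.Helper79.isCharacter_one_commutator (Setup.irr_isCharacter ψ) h1 hg, h1]
  intro a b
  have h1 : a * b * a⁻¹ * b⁻¹ ∈ commutator G := by
    rw [_root_.commutator_def]
    have := Subgroup.commutator_mem_commutator (H₁ := (⊤ : Subgroup G)) (H₂ := ⊤) (mem_top a) (mem_top b)
    rwa [commutatorElement_def] at this
  have h2 := hfaith _ (hcomm _ h1)
  calc a * b = (a * b * a⁻¹ * b⁻¹) * b * a := by group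
    _ = b * a := by rw [h2, one_mul]

/-- The degree of a constituent is at most the degree of the character. -/
theorem charDegree_le_of_classInner_ne_zero {G : Type u} [Group G] [Fintype G] {χ : G → ℂ}
    (hχ : IsCharacter G χ) (ψ : IrrCharacter G) (hψ : classInner χ (ψ : G → ℂ) ≠ 0) :
    charDegree (ψ : G → ℂ) ≤ charDegree χ := by
  classical
  haveI : Fintype (IrrCharacter G) := Fintype.ofFinite _
  obtain ⟨m, hm1, hm2⟩ := Cfsg.Agent.Lib.Helper3.IsCharacter.exists_mult hχ
  have h1 : χ 1 = ((∑ ψ' : IrrCharacter G, m ψ' * charDegree (ψ' : G → ℂ) : ℕ) : ℂ) := by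
    conv_lhs => rw [hm2]
    rw [Finset.sum_apply]
    push_cast
    refine Finset.sum_congr rfl fun ψ' _ => ?_
    rw [Pi.smul_apply, smul_eq_mul, irr_apply_one_eq_charDegree]
  rw [charDegree_eq_of_apply_one h1]
  have hmψ : m ψ ≠ 0 := by
    intro h0
    apply hψ
    rw [hm1 ψ, h0]
    simp
  have h2 : m ψ * charDegree (ψ : G → ℂ) ≤ ∑ ψ' : IrrCharacter G, m ψ' * charDegree (ψ' : G → ℂ) :=
    Finset.single_le_sum (f := fun ψ' : IrrCharacter G => m ψ' * charDegree (ψ' : G → ℂ))
      (fun _ _ => Nat.zero_le _) (Finset.mem_univ ψ)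
  have h3 : charDegree (ψ : G → ℂ) ≤ m ψ * charDegree (ψ : G → ℂ) :=
    Nat.le_mul_of_pos_left _ (Nat.pos_of_ne_zero hmψ)
  exact le_trans h3 h2

theorem leonard_faithful_aux (p : ℕ) (hp : p.Prime) : ∀ (N : ℕ) (G : Type u) [Group G] [Finite G],
    Nat.card G = N → ∀ (P : Sylow p G),
    (∀ x ∈ (P : Subgroup G), x ≠ 1 →
      centralizer ({x} : Set G) = centralizer ((P : Subgroup G) : Set G)) →
    ∀ n : ℕ, Nat.card P = p ^ n → ∀ χ : G → ℂ, IsCharacter G χ →
    (∀ g : G, χ g = χ 1 → g = 1) → charDegree χ ^ 2 + 1 < p ^ n → (P : Subgroup G).Normal := by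
  intro N
  induction N using Nat.strong_induction_on with
  | _ N ih =>
  intro G _ _ hN P hstar n hn χ hχ hfaith hdeg
  classical
  haveI : Fact p.Prime := ⟨hp⟩
  by_cases hK : ∃ K : Subgroup G, K.Normal ∧ K ≠ ⊤ ∧ (P : Subgroup G) ≤ K
  · obtain ⟨K, hKn, hKtop, hPK⟩ := hK
    have hcardK : Nat.card K < N := by
      rw [← hN]
      by_contra hge
      push Not at hge
      exact hKtop (Subgroup.eq_top_of_le_card K hge)
    set Q : Sylow p K := P.subtype hPK with hQdef
    have hQmem : ∀ q : K, q ∈ (Q : Subgroup K) ↔ (q : G) ∈ (P : Subgroup G) := by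
      intro q
      rw [hQdef, Sylow.coe_subtype, mem_subgroupOf]
    have hstarK : ∀ x ∈ (Q : Subgroup K), x ≠ 1 →
        centralizer ({x} : Set K) = centralizer ((Q : Subgroup K) : Set K) := by
      intro x hx hx1
      have hxP : (x : G) ∈ (P : Subgroup G) := (hQmem x).mp hx
      have hx1' : (x : G) ≠ 1 := fun h => hx1 (Subtype.ext h)
      have hC := hstar x hxP hx1'
      ext k
      rw [mem_centralizer_iff, mem_centralizer_iff]
      have hk : (k : G) ∈ centralizer ({(x : G)} : Set G) ↔
          (k : G) ∈ centralizer ((P : Subgroup G) : Set G) := by rw [hC]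
      rw [mem_centralizer_iff, mem_centralizer_iff] at hk
      constructor
      · intro h q hq
        apply Subtype.ext
        have h1 : ∀ g ∈ ({(x : G)} : Set G), g * (k : G) = (k : G) * g := by
          intro g hg
          rw [Set.mem_singleton_iff] at hg
          rw [hg]
          exact congrArg Subtype.val (h x rfl)
        exact hk.mp h1 q ((hQmem q).mp hq)
      · intro h g hg
        rw [Set.mem_singleton_iff] at hg
        rw [hg]
        apply Subtype.ext
        have h1 : ∀ y ∈ ((P : Subgroup G) : Set G), y * (k : G) = (k : G) * y := by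
          intro y hy
          have := h ⟨y, hPK hy⟩ ((hQmem ⟨y, hPK hy⟩).mpr hy)
          exact congrArg Subtype.val this
        exact hk.mpr h1 x rfl
    have hcardQ : Nat.card Q = p ^ n := by
      rw [← hn]
      rw [hQdef, Sylow.coe_subtype]
      exact Nat.card_congr (Subgroup.subgroupOfEquivOfLe hPK).toEquiv
    have hQn : (Q : Subgroup K).Normal :=
      ih (Nat.card K) hcardK K rfl Q hstarK n hcardQ (fun k : K => χ k)
        (Cfsg.Agent.Lib.Helper3.IsCharacter.restrict hχ K)
        (fun k hk => Subtype.ext (hfaith k hk)) hdeg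
    haveI := hKn
    haveI : (Q : Subgroup K).Characteristic := Sylow.characteristic_of_normal Q hQn
    have hnorm : ((Q : Subgroup K).map K.subtype).Normal := inferInstance
    have hmap : (Q : Subgroup K).map K.subtype = (P : Subgroup G) := by
      rw [hQdef, Sylow.coe_subtype, subgroupOf_map_subtype, inf_eq_left.mpr hPK]
    rwa [hmap] at hnorm
  · haveI : Fintype G := Fintype.ofFinite G
    have hcomm := comm_of_faithful_of_linear hχ hfaith (by
      intro ψ hψ
      by_cases hψ1 : (ψ : G → ℂ) = fun _ => 1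
      · rw [hψ1]
      · have hle := charDegree_le_of_classInner_ne_zero hχ ψ hψ
        have hdegψ : charDegree (ψ : G → ℂ) ^ 2 + 1 < p ^ n := by
          have : charDegree (ψ : G → ℂ) ^ 2 ≤ charDegree χ ^ 2 := Nat.pow_le_pow_left hle 2
          omega
        rcases leonard p hp P hstar n hn ψ hψ1 hdegψ with h | ⟨_, h⟩
        · exact absurd h hK
        · rw [irr_apply_one_eq_charDegree, h]
          simp)
    refine ⟨fun x hx g => ?_⟩
    rw [hcomm g x, mul_assoc, mul_inv_cancel, mul_one]
    exact hx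

theorem leonard_faithful {G : Type u} [Group G] [Finite G] (p : ℕ) (hp : p.Prime) (P : Sylow p G)
    (hstar : ∀ x ∈ (P : Subgroup G), x ≠ 1 →
      centralizer ({x} : Set G) = centralizer ((P : Subgroup G) : Set G))
    (n : ℕ) (hn : Nat.card P = p ^ n) (χ : G → ℂ) (hχ : IsCharacter G χ)
    (hfaith : ∀ g : G, χ g = χ 1 → g = 1) (hdeg : charDegree χ ^ 2 + 1 < p ^ n) :
    (P : Subgroup G).Normal :=
  leonard_faithful_aux p hp (Nat.card G) G rfl P hstar n hn χ hχ hfaith hdeg

end Cfsg.Agent.Lib.Helper81.Leo
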