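import Mathlib

/-!
# Group theory for the Brauer–Leonard theorem

A Sylow `p`-subgroup `P` of a finite group `G` such that `C_G(x) = C_G(P)` for every non-identity
`x ∈ P`.
-/

set_option autoImplicit false
set_option linter.unusedSectionVars false
set_option linter.style.haveILetI false

namespace Cfsg.Agent.Lib.Helper81.Leo

open Subgroup

universe u

section Central

variable {H : Type u} [Group H] [Finite H] {p : ℕ} [hp : Fact p.Prime]

/-- A central Sylow subgroup has a normal complement, which consists of the `p`-regular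
elements. -/
theorem exists_compl_of_central (Q : Sylow p H) (hQ : ∀ q ∈ (Q : Subgroup H), ∀ h : H, q * h = h * q) :
    ∃ K : Subgroup H, K.Normal ∧ (∀ h : H, ∃ q ∈ (Q : Subgroup H), ∃ k ∈ K, h = q * k) ∧
      (∀ h : H, h ∈ K ↔ ¬ p ∣ orderOf h) ∧ ¬ p ∣ Nat.card K := by
  have hNC : normalizer (Q : Set H) ≤ centralizer (Q : Set H) := by
    intro h _
    rw [mem_centralizer_iff]
    intro q hq
    exact hQ q hq h
  refine ⟨(MonoidHom.transferSylow Q hNC).ker, inferInstance, ?_, ?_,
    MonoidHom.not_dvd_card_ker_transferSylow Q hNC⟩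
  · intro h
    have hc := MonoidHom.ker_transferSylow_isComplement' Q hNC
    obtain ⟨x, hx, _⟩ := hc.existsUnique h
    refine ⟨x.2, x.2.2, x.1, x.1.2, ?_⟩
    rw [hQ x.2 x.2.2 x.1]
    exact hx.symm
  · intro h
    constructor
    · intro hh hdvd
      apply MonoidHom.not_dvd_card_ker_transferSylow Q hNC
      have h1 : orderOf (⟨h, hh⟩ : (MonoidHom.transferSylow Q hNC).ker) = orderOf h :=
        Subgroup.orderOf_mk h hh
      rw [← h1] at hdvd
      exact hdvd.trans (orderOf_dvd_natCard _)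
    · intro hnd
      rw [MonoidHom.mem_ker]
      have h1 : orderOf (MonoidHom.transferSylow Q hNC h) ∣ orderOf h := orderOf_map_dvd _ h
      obtain ⟨j, hj⟩ := (IsPGroup.iff_orderOf.mp Q.2) (MonoidHom.transferSylow Q hNC h)
      rw [← orderOf_eq_one_iff]
      rcases Nat.eq_zero_or_pos j with hj0 | hj0
      · rw [hj, hj0, pow_zero]
      · exfalso
        apply hnd
        refine dvd_trans ?_ h1
        rw [hj]
        exact dvd_pow_self p (by omega)

end Central

section Conj

variable {G : Type u} [Group G]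

/-- The conjugation action of a subgroup `N` on a subgroup `H` which it normalizes. -/
def conjOn (N H : Subgroup G) (hN : ∀ u ∈ N, ∀ h ∈ H, u * h * u⁻¹ ∈ H) : N →* MulAut H where
  toFun u :=
    { toFun := fun h => ⟨u * h * (u : G)⁻¹, hN u u.2 h h.2⟩
      invFun := fun h => ⟨(u : G)⁻¹ * h * u, by
        have := hN (u : G)⁻¹ (inv_mem u.2) h h.2
        simpa using this⟩
      left_inv := fun h => by
        apply Subtype.ext
        simp only
        group
      right_inv := fun h => by
        apply Subtype.ext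
        simp only
        group
      map_mul' := fun h h' => by
        apply Subtype.ext
        simp only [Subgroup.coe_mul]
        group }
  map_one' := by
    ext h
    simp
  map_mul' := fun u v => by
    ext h
    simp only [Subgroup.coe_mul, MulEquiv.coe_mk, Equiv.coe_fn_mk, MulAut.mul_apply, mul_inv_rev]
    group

theorem conjOn_apply (N H : Subgroup G) (hN : ∀ u ∈ N, ∀ h ∈ H, u * h * u⁻¹ ∈ H) (u : N)
    (h : H) : ((conjOn N H hN u h : H) : G) = u * h * (u : G)⁻¹ := rfl

end Conj

section Star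

variable {G : Type u} [Group G] [Finite G] {p : ℕ} [hp : Fact p.Prime] (P : Sylow p G)

/-- Every non-identity element of `P` has the same centralizer as `P`. -/
def Star : Prop := ∀ x ∈ (P : Subgroup G), x ≠ 1 →
  centralizer ({x} : Set G) = centralizer ((P : Subgroup G) : Set G)

variable {P}

theorem Star.comm (h : Star P) {x y : G} (hx : x ∈ (P : Subgroup G)) (hy : y ∈ (P : Subgroup G)) :
    x * y = y * x := by
  by_cases hx1 : x = 1
  · rw [hx1, one_mul, mul_one]
  · have h1 : x ∈ centralizer ({x} : Set G) := by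
      rw [mem_centralizer_iff]
      intro z hz
      rw [Set.mem_singleton_iff] at hz
      rw [hz]
    rw [h x hx hx1, mem_centralizer_iff] at h1
    exact (h1 y hy).symm

theorem Star.le_centralizer (h : Star P) :
    (P : Subgroup G) ≤ centralizer ((P : Subgroup G) : Set G) := by
  intro x hx
  rw [mem_centralizer_iff]
  intro y hy
  exact h.comm hy hx

theorem Star.exists_V (h : Star P) : ∃ V : Subgroup G,
    V ≤ centralizer ((P : Subgroup G) : Set G) ∧
    (∀ c ∈ centralizer ((P : Subgroup G) : Set G), ∃ x ∈ (P : Subgroup G), ∃ v ∈ V, c = x * v) ∧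
    (∀ c ∈ centralizer ((P : Subgroup G) : Set G), c ∈ V ↔ ¬ p ∣ orderOf c) ∧
    ¬ p ∣ Nat.card V := by
  set C := centralizer ((P : Subgroup G) : Set G) with hC
  set Q : Sylow p C := P.subtype h.le_centralizer with hQdef
  have hQmem : ∀ q : C, q ∈ (Q : Subgroup C) ↔ (q : G) ∈ (P : Subgroup G) := by
    intro q
    rw [hQdef, Sylow.coe_subtype, mem_subgroupOf]
  have hQ : ∀ q ∈ (Q : Subgroup C), ∀ c : C, q * c = c * q := by
    intro q hq c
    apply Subtype.ext
    have h1 : (c : G) ∈ centralizer ((P : Subgroup G) : Set G) := c.2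
    rw [mem_centralizer_iff] at h1
    exact h1 q ((hQmem q).mp hq)
  obtain ⟨K, _, hdec, hreg, hcard⟩ := exists_compl_of_central Q hQ
  refine ⟨K.map C.subtype, map_subtype_le K, ?_, ?_, ?_⟩
  · intro c hc
    obtain ⟨q, hq, k, hk, hqk⟩ := hdec ⟨c, hc⟩
    refine ⟨q, (hQmem q).mp hq, k, mem_map_of_mem C.subtype hk, ?_⟩
    have := congrArg Subtype.val hqk
    simpa using this
  · intro c hc
    have h1 : c ∈ K.map C.subtype ↔ (⟨c, hc⟩ : C) ∈ K := by
      constructor
      · rintro ⟨k, hk, hkc⟩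
        have : k = ⟨c, hc⟩ := Subtype.ext hkc
        rwa [← this]
      · intro hk
        exact ⟨⟨c, hc⟩, hk, rfl⟩
    rw [h1, hreg, Subgroup.orderOf_mk]
  · rw [Subgroup.card_map_of_injective (Subgroup.subtype_injective C)]
    exact hcard

/-- The normalizer of `P` normalizes the centralizer of `P`. -/
theorem conj_mem_centralizer_of_mem_normalizer {u c : G}
    (hu : u ∈ normalizer ((P : Subgroup G) : Set G))
    (hc : c ∈ centralizer ((P : Subgroup G) : Set G)) :
    u * c * u⁻¹ ∈ centralizer ((P : Subgroup G) : Set G) := by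
  rw [mem_centralizer_iff] at hc ⊢
  intro y hy
  have h1 : u⁻¹ * y * u ∈ (P : Subgroup G) := by
    have := (mem_normalizer_iff.mp (inv_mem hu) y).mp hy
    simpa using this
  have h2 := hc _ h1
  calc y * (u * c * u⁻¹) = u * ((u⁻¹ * y * u) * c) * u⁻¹ := by group
    _ = u * (c * (u⁻¹ * y * u)) * u⁻¹ := by rw [h2]
    _ = u * c * u⁻¹ * y := by group

/-- The data of a complement `V` of `P` in its centralizer. -/
structure IsCompl (P : Sylow p G) (V : Subgroup G) : Prop where
  le : V ≤ centralizer ((P : Subgroup G) : Set G)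
  dec : ∀ c ∈ centralizer ((P : Subgroup G) : Set G), ∃ x ∈ (P : Subgroup G), ∃ v ∈ V, c = x * v
  reg : ∀ c ∈ centralizer ((P : Subgroup G) : Set G), c ∈ V ↔ ¬ p ∣ orderOf c
  card : ¬ p ∣ Nat.card V

theorem Star.exists_isCompl (h : Star P) : ∃ V : Subgroup G, IsCompl P V := by
  obtain ⟨V, h1, h2, h3, h4⟩ := h.exists_V
  exact ⟨V, ⟨h1, h2, h3, h4⟩⟩

namespace IsCompl

variable {V : Subgroup G} (hV : IsCompl P V)
include hV

theorem comm {a b : G} (ha : a ∈ (P : Subgroup G)) (hb : b ∈ V) : a * b = b * a := by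
  have := hV.le hb
  rw [mem_centralizer_iff] at this
  exact this a ha

theorem conj_mem {u v : G} (hu : u ∈ normalizer ((P : Subgroup G) : Set G)) (hv : v ∈ V) :
    u * v * u⁻¹ ∈ V := by
  have h1 := conj_mem_centralizer_of_mem_normalizer hu (hV.le hv)
  rw [hV.reg _ h1]
  have h2 : orderOf (u * v * u⁻¹) = orderOf v := by
    have := MulEquiv.orderOf_eq (MulAut.conj u) v
    rwa [MulAut.conj_apply] at this
  rw [h2]
  exact (hV.reg v (hV.le hv)).mp hv

theorem eq_one_of_mem_of_mem {g : G} (hg : g ∈ (P : Subgroup G)) (hgV : g ∈ V) : g = 1 := by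
  have h1 := (hV.reg g (hV.le hgV)).mp hgV
  obtain ⟨j, hj⟩ := (IsPGroup.iff_orderOf.mp P.2) ⟨g, hg⟩
  rw [Subgroup.orderOf_mk] at hj
  rcases Nat.eq_zero_or_pos j with hj0 | hj0
  · rw [hj0, pow_zero] at hj
    exact orderOf_eq_one_iff.mp hj
  · exfalso
    apply h1
    rw [hj]
    exact dvd_pow_self p (by omega)

theorem pow_card_P {a : G} (ha : a ∈ (P : Subgroup G)) : a ^ Nat.card (P : Subgroup G) = 1 := by
  have := pow_card_eq_one' (G := (P : Subgroup G)) (x := ⟨a, ha⟩)
  exact congrArg Subtype.val this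

omit hV in
theorem pow_card_V {b : G} (hb : b ∈ V) : b ^ Nat.card V = 1 := by
  have := pow_card_eq_one' (G := V) (x := ⟨b, hb⟩)
  exact congrArg Subtype.val this

theorem coprime_card : (Nat.card V).Coprime (Nat.card (P : Subgroup G)) := by
  obtain ⟨n, hn⟩ := IsPGroup.iff_card.mp P.2
  rw [hn]
  apply Nat.Coprime.pow_right
  exact ((Nat.Prime.coprime_iff_not_dvd hp.out).mpr hV.card).symm

/-- Extraction of the `p`-part by a power. -/
theorem exists_pow (h1 : 1 < Nat.card (P : Subgroup G)) :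
    ∃ k : ℕ, ∀ a ∈ (P : Subgroup G), ∀ b ∈ V, (a * b) ^ k = a := by
  obtain ⟨m, -, hm⟩ := Nat.exists_mul_mod_eq_one_of_coprime hV.coprime_card h1
  refine ⟨Nat.card V * m, fun a ha b hb => ?_⟩
  have hc : Commute a b := hV.comm ha hb
  rw [hc.mul_pow]
  have hb1 : b ^ (Nat.card V * m) = 1 := by rw [pow_mul, pow_card_V hb, one_pow]
  have ha1 : a ^ (Nat.card V * m) = a := by
    conv_lhs => rw [← Nat.div_add_mod (Nat.card V * m) (Nat.card (P : Subgroup G))]
    rw [pow_add, pow_mul, hV.pow_card_P ha, one_pow, one_mul, hm, pow_one]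
  rw [hb1, ha1, mul_one]

/-- An element of the centralizer killed by `|P|` lies in `P`. -/
theorem mem_of_pow_eq_one {c : G} (hc : c ∈ centralizer ((P : Subgroup G) : Set G))
    (hpow : c ^ Nat.card (P : Subgroup G) = 1) : c ∈ (P : Subgroup G) := by
  obtain ⟨x, hx, v, hv, rfl⟩ := hV.dec c hc
  have hcomm : Commute x v := hV.comm hx hv
  rw [hcomm.mul_pow, hV.pow_card_P hx, one_mul] at hpow
  have h1 : orderOf v ∣ Nat.card (P : Subgroup G) := orderOf_dvd_of_pow_eq_one hpow
  obtain ⟨n, hn⟩ := IsPGroup.iff_card.mp P.2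
  rw [hn] at h1
  obtain ⟨j, _, hj⟩ := (Nat.dvd_prime_pow hp.out).mp h1
  have h2 := (hV.reg v (hV.le hv)).mp hv
  rcases Nat.eq_zero_or_pos j with hj0 | hj0
  · rw [hj0, pow_zero] at hj
    rw [orderOf_eq_one_iff.mp hj, mul_one]
    exact hx
  · exfalso
    apply h2
    rw [hj]
    exact dvd_pow_self p (by omega)

/-- An element normalizing the centralizer normalizes `P`. -/
theorem conj_mem_of_normalizes {w : G}
    (hw : ∀ z ∈ centralizer ((P : Subgroup G) : Set G),
      w * z * w⁻¹ ∈ centralizer ((P : Subgroup G) : Set G)) (hcomm : Star P)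
    {x : G} (hx : x ∈ (P : Subgroup G)) : w * x * w⁻¹ ∈ (P : Subgroup G) := by
  apply hV.mem_of_pow_eq_one (hw x (hcomm.le_centralizer hx))
  rw [conj_pow, hV.pow_card_P hx]
  group

/-- The TI property. -/
theorem ti (hstar : Star P) (h1 : 1 < Nat.card (P : Subgroup G)) {a b a' b' y : G}
    (ha : a ∈ (P : Subgroup G)) (ha1 : a ≠ 1) (hb : b ∈ V) (ha' : a' ∈ (P : Subgroup G))
    (ha'1 : a' ≠ 1) (hb' : b' ∈ V) (hy : y⁻¹ * (a * b) * y = a' * b') :
    y ∈ normalizer ((P : Subgroup G) : Set G) := by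
  obtain ⟨k, hk⟩ := hV.exists_pow h1
  have hconj : y⁻¹ * a * y = a' := by
    have h2 : (y⁻¹ * (a * b) * y) ^ k = (a' * b') ^ k := by rw [hy]
    have h3 : (y⁻¹ * (a * b) * y) ^ k = y⁻¹ * (a * b) ^ k * y := by
      have := conj_pow (a := y⁻¹) (b := a * b) (i := k)
      simpa using this
    rw [h3, hk a ha b hb, hk a' ha' b' hb'] at h2
    exact h2
  have hC := hstar a ha ha1
  have hC' := hstar a' ha' ha'1
  -- `y` normalizes the centralizer
  have hw1 : ∀ z ∈ centralizer ((P : Subgroup G) : Set G),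
      y * z * y⁻¹ ∈ centralizer ((P : Subgroup G) : Set G) := by
    intro z hz
    rw [← hC'] at hz
    rw [← hC]
    rw [mem_centralizer_iff] at hz ⊢
    intro g hg
    rw [Set.mem_singleton_iff] at hg
    have h4 := hz a' rfl
    rw [hg]
    have ha_eq : a = y * a' * y⁻¹ := by rw [← hconj]; group
    calc a * (y * z * y⁻¹) = y * (a' * z) * y⁻¹ := by rw [ha_eq]; group
      _ = y * (z * a') * y⁻¹ := by rw [h4]
      _ = y * z * y⁻¹ * a := by rw [ha_eq]; group
  have hw2 : ∀ z ∈ centralizer ((P : Subgroup G) : Set G),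
      y⁻¹ * z * y⁻¹⁻¹ ∈ centralizer ((P : Subgroup G) : Set G) := by
    intro z hz
    rw [← hC] at hz
    rw [← hC']
    rw [mem_centralizer_iff] at hz ⊢
    intro g hg
    rw [Set.mem_singleton_iff] at hg
    have h4 := hz a rfl
    rw [hg, ← hconj]
    calc y⁻¹ * a * y * (y⁻¹ * z * y⁻¹⁻¹) = y⁻¹ * (a * z) * y := by group
      _ = y⁻¹ * (z * a) * y := by rw [h4]
      _ = y⁻¹ * z * y⁻¹⁻¹ * (y⁻¹ * a * y) := by group
  rw [mem_normalizer_iff]
  intro g
  constructor
  · intro hg
    exact hV.conj_mem_of_normalizes hw1 hstar hg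
  · intro hg
    have := hV.conj_mem_of_normalizes hw2 hstar hg
    have h5 : y⁻¹ * (y * g * y⁻¹) * y⁻¹⁻¹ = g := by group
    rwa [h5] at this

end IsCompl

end Star

end Cfsg.Agent.Lib.Helper81.Leo
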