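import Cfsg.Agent.Lib.Helper81.LeoMain
import Cfsg.Agent.Lib.Helper81.LeoGroup
import Cfsg.Agent.Lib.Helper75.Twist

/-!
# The Brauer–Leonard theorem
-/

set_option autoImplicit false
set_option linter.unusedSectionVars false
set_option linter.style.haveILetI false

namespace Cfsg.Agent.Lib.Helper81.Leo

open Cfsg Subgroup
open scoped ComplexConjugate

universe u

section Build

variable {G : Type u} [Group G] [Finite G] {p : ℕ} [hp : Fact p.Prime] {P : Sylow p G}
  {V : Subgroup G}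

/-- The multiplication map `P × V → G`. -/
def mulHom (hV : IsCompl P V) : ↥(P : Subgroup G) × ↥V →* G where
  toFun x := (x.1 : G) * (x.2 : G)
  map_one' := by simp
  map_mul' x y := by
    simp only [Prod.fst_mul, Prod.snd_mul, Subgroup.coe_mul]
    have h1 : (y.1 : G) * (x.2 : G) = (x.2 : G) * (y.1 : G) := hV.comm y.1.2 x.2.2
    calc (x.1 : G) * y.1 * ((x.2 : G) * y.2) = x.1 * (y.1 * x.2) * y.2 := by group
      _ = x.1 * (x.2 * y.1) * y.2 := by rw [h1]
      _ = x.1 * x.2 * (y.1 * y.2) := by group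

theorem mulHom_apply (hV : IsCompl P V) (x : ↥(P : Subgroup G) × ↥V) :
    mulHom hV x = (x.1 : G) * (x.2 : G) := rfl

theorem mulHom_injective (hV : IsCompl P V) : Function.Injective (mulHom hV) := by
  intro x y hxy
  rw [mulHom_apply, mulHom_apply] at hxy
  have h1 : (y.1 : G)⁻¹ * x.1 = y.2 * (x.2 : G)⁻¹ := by
    calc (y.1 : G)⁻¹ * x.1 = (y.1 : G)⁻¹ * (x.1 * x.2) * (x.2 : G)⁻¹ := by group
      _ = (y.1 : G)⁻¹ * (y.1 * y.2) * (x.2 : G)⁻¹ := by rw [hxy]
      _ = y.2 * (x.2 : G)⁻¹ := by group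
  have h2 : (y.1 : G)⁻¹ * x.1 ∈ (P : Subgroup G) := mul_mem (inv_mem y.1.2) x.1.2
  have h3 : (y.1 : G)⁻¹ * x.1 ∈ V := by
    rw [h1]
    exact mul_mem y.2.2 (inv_mem x.2.2)
  have h4 := hV.eq_one_of_mem_of_mem h2 h3
  have h5 : (x.1 : G) = y.1 := by
    have := inv_mul_eq_one.mp h4
    exact this.symm
  have h6 : (x.2 : G) = y.2 := by
    rw [h4] at h1
    have := mul_inv_eq_one.mp h1.symm
    exact this.symm
  exact Prod.ext (Subtype.ext h5) (Subtype.ext h6)

theorem mulHom_range (hstar : Star P) (hV : IsCompl P V) :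
    (mulHom hV).range = centralizer ((P : Subgroup G) : Set G) := by
  ext c
  constructor
  · rintro ⟨x, rfl⟩
    rw [mulHom_apply]
    exact mul_mem (hstar.le_centralizer x.1.2) (hV.le x.2.2)
  · intro hc
    obtain ⟨x, hx, v, hv, rfl⟩ := hV.dec c hc
    exact ⟨(⟨x, hx⟩, ⟨v, hv⟩), rfl⟩

/-- The setting attached to a Sylow subgroup with uniform centralizers. -/
noncomputable def mkSetup (hstar : Star P) (hV : IsCompl P V)
    (h1 : 1 < Nat.card (P : Subgroup G)) : Setup G ↥(P : Subgroup G) ↥V where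
  μ := mulHom hV
  μ_inj := mulHom_injective hV
  comm := fun a a' => Subtype.ext (hstar.comm a.2 a'.2)
  N := normalizer ((P : Subgroup G) : Set G)
  σ := conjOn (normalizer ((P : Subgroup G) : Set G)) (P : Subgroup G)
    (fun u hu h hh => (mem_normalizer_iff.mp hu h).mp hh)
  τ := conjOn (normalizer ((P : Subgroup G) : Set G)) V (fun u hu v hv => hV.conj_mem hu hv)
  conj_μ := fun u x => by
    rw [mulHom_apply, mulHom_apply, conjOn_apply, conjOn_apply]
    group
  range_le := by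
    rw [mulHom_range hstar hV]
    exact centralizer_le_normalizer _
  ti := fun x y hx hex => by
    obtain ⟨x', hx', hxy⟩ := hex
    rw [mulHom_apply, mulHom_apply] at hxy
    refine hV.ti hstar h1 x.1.2 ?_ x.2.2 x'.1.2 ?_ x'.2.2 hxy
    · intro h
      exact hx (Subtype.ext h)
    · intro h
      exact hx' (Subtype.ext h)
  free := fun u a ha hfix => by
    rw [mulHom_range hstar hV, ← hstar a a.2 (fun h => ha (Subtype.ext h)), mem_centralizer_iff]
    intro g hg
    rw [Set.mem_singleton_iff] at hg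
    have h2 := congrArg Subtype.val hfix
    rw [conjOn_apply] at h2
    rw [hg]
    calc (a : G) * u = (u * a * (u : G)⁻¹) * u := by rw [h2]
      _ = u * a := by group

end Build

/-- The Brauer–Leonard theorem on small degrees. -/
theorem leonard {G : Type u} [Group G] [Finite G] (p : ℕ) (hp : p.Prime) (P : Sylow p G)
    (hstar : ∀ x ∈ (P : Subgroup G), x ≠ 1 →
      centralizer ({x} : Set G) = centralizer ((P : Subgroup G) : Set G))
    (n : ℕ) (hn : Nat.card P = p ^ n) (χ : IrrCharacter G) (h1 : (χ : G → ℂ) ≠ fun _ => 1)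
    (hdeg : charDegree (χ : G → ℂ) ^ 2 + 1 < p ^ n) :
    (∃ K : Subgroup G, K.Normal ∧ K ≠ ⊤ ∧ (P : Subgroup G) ≤ K) ∨
      ((∃ N : Subgroup G, N.Normal ∧ N.index = p ^ n) ∧ charDegree (χ : G → ℂ) = 1) := by
  classical
  haveI : Fact p.Prime := ⟨hp⟩
  by_cases hK : ∃ K : Subgroup G, K.Normal ∧ K ≠ ⊤ ∧ (P : Subgroup G) ≤ K
  · left
    exact hK
  right
  have hK' : ∀ K : Subgroup G, K.Normal → (P : Subgroup G) ≤ K → K = ⊤ := by
    intro K hKn hPK
    by_contra hne
    exact hK ⟨K, hKn, hne, hPK⟩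
  have hstar' : Star P := hstar
  obtain ⟨V, hV⟩ := hstar'.exists_isCompl
  have hcardP : Nat.card (P : Subgroup G) = p ^ n := hn
  have h1lt : 1 < Nat.card (P : Subgroup G) := by
    rw [hcardP]
    omega
  haveI : Fintype G := Fintype.ofFinite G
  haveI : Fintype (P : Subgroup G) := Fintype.ofFinite _
  haveI : Fintype V := Fintype.ofFinite _
  set S := mkSetup hstar' hV h1lt with hS
  haveI : Fintype S.N := Fintype.ofFinite _
  haveI : Fintype (IrrCharacter G) := Fintype.ofFinite _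
  haveI : Fintype (IrrCharacter (P : Subgroup G)) := Fintype.ofFinite _
  haveI : Fintype (IrrCharacter V) := Fintype.ofFinite _
  have hμ : ∀ x : ↥(P : Subgroup G) × ↥V, S.μ x = (x.1 : G) * (x.2 : G) := fun x => rfl
  have H0 : S.H0 := by
    intro K hKn hall
    apply hK' K hKn
    intro x hx
    have := hall ⟨x, hx⟩
    rw [hμ] at this
    simpa using this
  have hχ1 : χ ≠ oneIrr G := by
    intro h
    apply h1
    rw [h]
    rfl
  obtain ⟨ht, l₀, φ₀, hval⟩ := S.main H0 χ hχ1 (by rw [hcardP]; exact hdeg)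
  -- the normalizer equals the centralizer
  have hNC : normalizer ((P : Subgroup G) : Set G) ≤ centralizer ((P : Subgroup G) : Set G) := by
    intro u hu
    have hc1 := S.card_N
    rw [ht, one_mul] at hc1
    have hc2 := S.card_range
    have htop : S.μ.range.subgroupOf S.N = ⊤ :=
      (Subgroup.card_eq_iff_eq_top _).mp (hc2.trans hc1.symm)
    have hmem : (⟨u, hu⟩ : S.N) ∈ S.μ.range.subgroupOf S.N := by
      rw [htop]
      exact mem_top _
    rw [mem_subgroupOf] at hmem
    rw [← mulHom_range hstar' hV]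
    exact hmem
  set T := MonoidHom.transferSylow P hNC with hT
  have hcompl := MonoidHom.ker_transferSylow_isComplement' P hNC
  refine ⟨⟨T.ker, MonoidHom.normal_ker T, ?_⟩, ?_⟩
  · rw [hcompl.symm.index_eq_card, hcardP]
  -- the degree is one
  have hl₀1 : (l₀ : ↥(P : Subgroup G) → ℂ) 1 = 1 := irr_apply_one_of_comm S.comm l₀.2
  obtain ⟨φh, hφh⟩ := Cfsg.Agent.Lib.Helper79.exists_monoidHom_of_isCharacter_of_one
    (Setup.irr_isCharacter l₀) hl₀1
  have hcop : Nat.Coprime (P : Subgroup G).index (Nat.card (P : Subgroup G)) := by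
    rw [hcardP]
    apply Nat.Coprime.pow_right
    exact ((Nat.Prime.coprime_iff_not_dvd hp).mpr P.not_dvd_index).symm
  obtain ⟨k, -, hk⟩ := Nat.exists_mul_mod_eq_one_of_coprime hcop h1lt
  set Φ : G →* ℂˣ := ((φh.comp T) ^ k)⁻¹ with hΦ
  set β : G → ℂ := fun g => ((Φ g : ℂˣ) : ℂ) with hβ
  have hβirr : IsIrrCharacter G β := Cfsg.Agent.Lib.Helper79.isIrrCharacter_of_monoidHom Φ
  have hβ1 : β 1 = 1 := by simp [hβ]
  have hχ' : IsIrrCharacter G ((χ : G → ℂ) * β) :=
    Cfsg.Agent.Lib.Helper75.isIrrCharacter_mul_of_linear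
      (Cfsg.Agent.Lib.Helper3.IsIrrCharacter.isCharacter hβirr) hβ1 χ.2
  have hβP : ∀ x : ↥(P : Subgroup G), β x = ((φh x : ℂˣ) : ℂ)⁻¹ := by
    intro x
    have hTx : T x = x ^ (P : Subgroup G).index := by
      have := MonoidHom.transferSylow_eq_pow P hNC x x.2
      apply Subtype.ext
      rw [hT, this]
      rfl
    have hq : φh x ^ Nat.card (P : Subgroup G) = 1 := by
      rw [← map_pow, pow_card_eq_one', map_one]
    have hpow : φh x ^ ((P : Subgroup G).index * k) = φh x := by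
      conv_lhs => rw [← Nat.div_add_mod ((P : Subgroup G).index * k) (Nat.card (P : Subgroup G))]
      rw [pow_add, pow_mul, hq, one_pow, one_mul, hk, pow_one]
    have h2 : Φ x = (φh x)⁻¹ := by
      rw [hΦ, MonoidHom.inv_apply, MonoidHom.pow_apply, MonoidHom.comp_apply, hTx, map_pow,
        ← pow_mul, hpow]
    change ((Φ x : ℂˣ) : ℂ) = _
    rw [h2, Units.val_inv_eq_inv_val]
  have hχP : ∀ x : ↥(P : Subgroup G),
      (χ : G → ℂ) x = (l₀ : ↥(P : Subgroup G) → ℂ) x * (φ₀ : ↥V → ℂ) 1 := by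
    intro x
    have := hval (x, 1)
    rw [hμ] at this
    simpa using this
  have hχone : (χ : G → ℂ) 1 = (φ₀ : ↥V → ℂ) 1 := by
    have := hχP 1
    rw [hl₀1, one_mul] at this
    exact this
  have hker : ∀ x ∈ (P : Subgroup G), ((χ : G → ℂ) * β) x = ((χ : G → ℂ) * β) 1 := by
    intro x hx
    rw [Pi.mul_apply, Pi.mul_apply, hβ1, mul_one, hχone]
    have h2 := hχP ⟨x, hx⟩
    have h3 := hβP ⟨x, hx⟩
    simp only at h2 h3
    rw [h2, h3, hφh ⟨x, hx⟩]
    have hne : ((φh ⟨x, hx⟩ : ℂˣ) : ℂ) ≠ 0 := Units.ne_zero _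
    field_simp
  have hχ'c : IsCharacter G ((χ : G → ℂ) * β) :=
    Cfsg.Agent.Lib.Helper3.IsIrrCharacter.isCharacter hχ'
  have hKtop := hK' (Cfsg.Agent.Lib.Helper79.charKer hχ'c) inferInstance
    (fun x hx => (Cfsg.Agent.Lib.Helper79.mem_charKer _ _).mpr (hker x hx))
  have hall : ∀ g, ((χ : G → ℂ) * β) g = ((χ : G → ℂ) * β) 1 := by
    intro g
    apply (Cfsg.Agent.Lib.Helper79.mem_charKer hχ'c g).mp
    rw [hKtop]
    exact mem_top g
  have hnorm := Cfsg.Agent.Lib.Helper3.classInner_irr hχ' hχ'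
  rw [if_pos rfl, Cfsg.Agent.Lib.Helper25.classInner_def,
    Finset.sum_congr rfl (fun g _ => by rw [hall g]), Finset.sum_const, Finset.card_univ,
    nsmul_eq_mul, Pi.mul_apply, hβ1, mul_one, irr_apply_one_eq_charDegree,
    ← Nat.card_eq_fintype_card] at hnorm
  have hG0 : (Nat.card G : ℂ) ≠ 0 := Cfsg.Agent.Lib.Helper25.card_ne_zero_complex
  rw [Complex.conj_natCast] at hnorm
  have h5 : ((charDegree (χ : G → ℂ) : ℕ) : ℂ) * (charDegree (χ : G → ℂ) : ℕ) = 1 := by
    field_simp at hnorm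
    linear_combination hnorm
  have h6 : charDegree (χ : G → ℂ) * charDegree (χ : G → ℂ) = 1 := by exact_mod_cast h5
  exact Nat.eq_one_of_mul_eq_one_right h6

end Cfsg.Agent.Lib.Helper81.Leo
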