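import Cfsg.Agent.Lib.Helper81.ProdIrr
import Cfsg.Agent.Lib.Helper81.FTLemma
import Cfsg.Agent.Lib.Helper3.Complete
import Cfsg.Agent.Lib.Helper3.CharOps
import Cfsg.Agent.Lib.Helper3.CharBasic

/-!
# Expansions of class functions on a direct product `A × B` with `A` abelian
-/

set_option autoImplicit false
set_option linter.unusedSectionVars false
set_option linter.style.haveILetI false

namespace Cfsg.Agent.Lib.Helper81.Leo

open Cfsg
open scoped ComplexConjugate

universe u

variable {A B : Type u} [Group A] [Group B] [Fintype A] [Fintype B]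
  [Fintype (IrrCharacter A)] [Fintype (IrrCharacter B)]

/-- The product of two functions, as a function on the product. -/
def tens (f : A → ℂ) (h : B → ℂ) : A × B → ℂ := fun x => f x.1 * h x.2

theorem tens_apply (f : A → ℂ) (h : B → ℂ) (x : A × B) : tens f h x = f x.1 * h x.2 := rfl

/-- The multiplicity of `l ⊗ φ` in `Θ`. -/
noncomputable def mult (Θ : A × B → ℂ) (l : IrrCharacter A) (φ : IrrCharacter B) : ℂ :=
  classInner Θ (tens (l : A → ℂ) (φ : B → ℂ))

theorem tens_irr (l : IrrCharacter A) (φ : IrrCharacter B) :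
    tens (l : A → ℂ) (φ : B → ℂ) = ((irrProd (l, φ) : IrrCharacter (A × B)) : A × B → ℂ) := by
  funext x
  rw [irrProd_apply]
  rfl

theorem sum_irr_prod {M : Type*} [AddCommMonoid M] [Fintype (IrrCharacter (A × B))]
    (F : IrrCharacter (A × B) → M) :
    ∑ ξ : IrrCharacter (A × B), F ξ =
      ∑ l : IrrCharacter A, ∑ φ : IrrCharacter B, F (irrProd (l, φ)) := by
  rw [← Fintype.sum_prod_type']
  exact (Function.Bijective.sum_comp (⟨irrProd_injective, irrProd_surjective⟩ :
    Function.Bijective (irrProd : IrrCharacter A × IrrCharacter B → IrrCharacter (A × B))) F).symm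

/-- Expansion of a class function on `A × B`. -/
theorem expand {Θ : A × B → ℂ} (hΘ : IsClassFunction (A × B) Θ) (x : A × B) :
    Θ x = ∑ l : IrrCharacter A, ∑ φ : IrrCharacter B,
      mult Θ l φ * ((l : A → ℂ) x.1 * (φ : B → ℂ) x.2) := by
  haveI : Fintype (IrrCharacter (A × B)) := Fintype.ofFinite _
  have h := Cfsg.Agent.Lib.Helper3.classFunction_eq_sum hΘ
  have h2 := congrFun h x
  rw [Finset.sum_apply, sum_irr_prod] at h2
  rw [h2]
  refine Finset.sum_congr rfl fun l _ => Finset.sum_congr rfl fun φ _ => ?_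
  rw [Pi.smul_apply, smul_eq_mul, irrProd_apply]
  rfl

/-- Parseval on `A × B`. -/
theorem inner_expand {Θ Θ' : A × B → ℂ} (hΘ : IsClassFunction (A × B) Θ)
    (hΘ' : IsClassFunction (A × B) Θ') :
    classInner Θ Θ' = ∑ l : IrrCharacter A, ∑ φ : IrrCharacter B,
      mult Θ l φ * conj (mult Θ' l φ) := by
  haveI : Fintype (IrrCharacter (A × B)) := Fintype.ofFinite _
  have h := Cfsg.Agent.Lib.Helper3.classFunction_eq_sum hΘ
  have h' := Cfsg.Agent.Lib.Helper3.classFunction_eq_sum hΘ'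
  conv_lhs => rw [h, h']
  rw [Cfsg.Agent.Lib.Helper3.classInner_sum_sum, sum_irr_prod]
  refine Finset.sum_congr rfl fun l _ => Finset.sum_congr rfl fun φ _ => ?_
  rw [← tens_irr]
  rfl

variable (hA : ∀ a a' : A, a * a' = a' * a)
include hA

/-- The restriction to `1 × B`. -/
theorem expand_one {Θ : A × B → ℂ} (hΘ : IsClassFunction (A × B) Θ) :
    (fun b : B => Θ (1, b)) =
      ∑ φ : IrrCharacter B, (∑ l : IrrCharacter A, mult Θ l φ) • (φ : B → ℂ) := by
  funext b
  rw [expand hΘ (1, b), Finset.sum_apply, Finset.sum_comm]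
  refine Finset.sum_congr rfl fun φ _ => ?_
  rw [Pi.smul_apply, smul_eq_mul, Finset.sum_mul]
  refine Finset.sum_congr rfl fun l _ => ?_
  rw [irr_apply_one_of_comm hA l.2, one_mul]

theorem inner_one_expand {Θ Θ' : A × B → ℂ} (hΘ : IsClassFunction (A × B) Θ)
    (hΘ' : IsClassFunction (A × B) Θ') :
    classInner (fun b : B => Θ (1, b)) (fun b : B => Θ' (1, b)) =
      ∑ φ : IrrCharacter B, (∑ l : IrrCharacter A, mult Θ l φ) *
        conj (∑ l : IrrCharacter A, mult Θ' l φ) := by
  rw [expand_one hA hΘ, expand_one hA hΘ', Cfsg.Agent.Lib.Helper3.classInner_sum_sum]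

theorem sum_mult_eq {Θ : A × B → ℂ} (hΘ : IsClassFunction (A × B) Θ) (φ : IrrCharacter B) :
    ∑ l : IrrCharacter A, mult Θ l φ = classInner (fun b : B => Θ (1, b)) (φ : B → ℂ) := by
  classical
  rw [expand_one hA hΘ, Cfsg.Agent.Lib.Helper25.classInner_sum_left]
  rw [Finset.sum_eq_single φ]
  · rw [Cfsg.Agent.Lib.Helper25.classInner_smul_left,
      Cfsg.Agent.Lib.Helper3.classInner_irr φ.2 φ.2, if_pos rfl, mul_one]
  · intro φ' _ hφ'
    rw [Cfsg.Agent.Lib.Helper25.classInner_smul_left,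
      Cfsg.Agent.Lib.Helper3.classInner_irr φ'.2 φ.2, if_neg (fun h => hφ' (Subtype.ext h)),
      mul_zero]
  · intro h
    exact absurd (Finset.mem_univ _) h

theorem apply_one_expand {Θ : A × B → ℂ} (hΘ : IsClassFunction (A × B) Θ) :
    Θ 1 = ∑ l : IrrCharacter A, ∑ φ : IrrCharacter B, mult Θ l φ * (φ : B → ℂ) 1 := by
  rw [expand hΘ 1]
  refine Finset.sum_congr rfl fun l _ => Finset.sum_congr rfl fun φ _ => ?_
  rw [Prod.fst_one, Prod.snd_one, irr_apply_one_of_comm hA l.2, one_mul]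

omit hA in
/-- The punctured sum. -/
theorem punctured_sum [DecidableEq A] (Θ : A × B → ℂ) :
    ∑ x ∈ Finset.univ.filter (fun x : A × B => x.1 ≠ 1), Θ x * conj (Θ x) =
      (Nat.card A : ℂ) * (Nat.card B : ℂ) * classInner Θ Θ -
        (Nat.card B : ℂ) * classInner (fun b : B => Θ (1, b)) (fun b : B => Θ (1, b)) := by
  have hAB : (Nat.card (A × B) : ℂ) = (Nat.card A : ℂ) * (Nat.card B : ℂ) := by
    rw [Nat.card_prod]
    push_cast
    ring
  have hA0 : (Nat.card A : ℂ) ≠ 0 := Cfsg.Agent.Lib.Helper25.card_ne_zero_complex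
  have hB0 : (Nat.card B : ℂ) ≠ 0 := Cfsg.Agent.Lib.Helper25.card_ne_zero_complex
  have h1 : (Nat.card A : ℂ) * (Nat.card B : ℂ) * classInner Θ Θ = ∑ x : A × B, Θ x * conj (Θ x) := by
    rw [Cfsg.Agent.Lib.Helper25.classInner_def, hAB]
    field_simp
  have h2 : (Nat.card B : ℂ) * classInner (fun b : B => Θ (1, b)) (fun b : B => Θ (1, b)) =
      ∑ b : B, Θ (1, b) * conj (Θ (1, b)) := by
    rw [Cfsg.Agent.Lib.Helper25.classInner_def]
    field_simp
  have h3 : ∑ b : B, Θ (1, b) * conj (Θ (1, b)) =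
      ∑ x ∈ Finset.univ.filter (fun x : A × B => ¬ x.1 ≠ 1), Θ x * conj (Θ x) := by
    symm
    refine Finset.sum_bij (fun x _ => x.2) (fun _ _ => Finset.mem_univ _) ?_ ?_ ?_
    · intro x hx y hy hxy
      simp only [Finset.mem_filter, Finset.mem_univ, true_and, not_not] at hx hy
      exact Prod.ext (by rw [hx, hy]) hxy
    · intro b _
      exact ⟨(1, b), by simp, rfl⟩
    · intro x hx
      simp only [Finset.mem_filter, Finset.mem_univ, true_and, not_not] at hx
      have : x = (1, x.2) := Prod.ext hx rfl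
      rw [← this]
  rw [h1, h2, h3, ← Finset.sum_filter_add_sum_filter_not Finset.univ (fun x : A × B => x.1 ≠ 1)]
  ring

end Cfsg.Agent.Lib.Helper81.Leo
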