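import Cfsg.Agent.Lib.Helper81.LeoSetup
import Cfsg.Agent.Lib.Helper25.Ind
import Cfsg.Agent.Lib.Helper25.NormTwo
import Cfsg.Agent.Lib.Helper3.Induced

/-!
# Induction from the centralizer in the Brauer–Leonard setting
-/

set_option autoImplicit false
set_option linter.unusedSectionVars false
set_option linter.style.haveILetI false

namespace Cfsg.Agent.Lib.Helper81.Leo

open Cfsg
open scoped ComplexConjugate

universe u

theorem classInner_equiv {K H : Type*} [Group K] [Group H] [Fintype K] [Fintype H] (e : K ≃* H)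
    (f g : H → ℂ) : classInner (fun k => f (e k)) (fun k => g (e k)) = classInner f g := by
  rw [Cfsg.Agent.Lib.Helper25.classInner_def, Cfsg.Agent.Lib.Helper25.classInner_def,
    Nat.card_congr e.toEquiv]
  congr 1
  exact Fintype.sum_equiv e.toEquiv _ _ (fun k => rfl)

namespace Setup

variable {G A B : Type u} [Group G] [Group A] [Group B] (S : Setup G A B)

/-- The image of `μ`. -/
def H : Subgroup G := S.μ.range

/-- The isomorphism onto the image. -/
noncomputable def e : A × B ≃* S.H := MonoidHom.ofInjective S.μ_inj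

theorem e_apply (x : A × B) : ((S.e x : S.H) : G) = S.μ x := rfl

/-- Transport of a function to the image. -/
noncomputable def lift (f : A × B → ℂ) : S.H → ℂ := fun h => f (S.e.symm h)

theorem lift_e (f : A × B → ℂ) (x : A × B) : S.lift f (S.e x) = f x := by
  unfold lift
  rw [MulEquiv.symm_apply_apply]

variable [Fintype G] [Fintype A] [Fintype B]

/-- The induced function. -/
noncomputable def Y (f : A × B → ℂ) : G → ℂ := indFun S.H (S.lift f)

theorem Y_isClassFunction (f : A × B → ℂ) : IsClassFunction G (S.Y f) :=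
  Cfsg.Agent.Lib.Helper25.indFun_isClassFunction _ _

theorem frob (f : A × B → ℂ) {χ : G → ℂ} (hχ : IsClassFunction G χ) :
    classInner (S.Y f) χ = classInner f (S.res χ) := by
  classical
  haveI : Fintype S.H := Fintype.ofFinite _
  unfold Y
  rw [Cfsg.Agent.Lib.Helper25.frobenius_reciprocity S.H (S.lift f) χ hχ,
    ← classInner_equiv S.e]
  congr 1
  funext x
  exact S.lift_e f x

theorem lift_sub (f₁ f₂ : A × B → ℂ) : S.lift (f₁ - f₂) = S.lift f₁ - S.lift f₂ := rfl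

theorem Y_isGenChar {f₁ f₂ : A × B → ℂ} (h₁ : IsCharacter (A × B) f₁)
    (h₂ : IsCharacter (A × B) f₂) : IsGeneralizedCharacter G (S.Y (f₁ - f₂)) := by
  refine ⟨S.Y f₁, S.Y f₂, ?_, ?_, ?_⟩
  · exact Cfsg.Agent.Lib.Helper3.isCharacter_indFun S.H
      (Cfsg.Agent.Lib.Helper79.isCharacter_comp h₁ S.e.symm.toMonoidHom)
  · exact Cfsg.Agent.Lib.Helper3.isCharacter_indFun S.H
      (Cfsg.Agent.Lib.Helper79.isCharacter_comp h₂ S.e.symm.toMonoidHom)
  · unfold Y
    rw [S.lift_sub, Cfsg.Agent.Lib.Helper25.indFun_sub]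

theorem Y_one {f : A × B → ℂ} (hf : f 1 = 0) : S.Y f 1 = 0 := by
  unfold Y
  rw [Cfsg.Agent.Lib.Helper25.indFun_apply]
  have : ∀ x : G, extendByZero S.H (S.lift f) (x⁻¹ * 1 * x) = 0 := by
    intro x
    have h1 : x⁻¹ * 1 * x = ((1 : S.H) : G) := by simp
    rw [h1, Cfsg.Agent.Lib.Helper25.extendByZero_coe]
    unfold lift
    rw [map_one, hf]
  rw [Finset.sum_congr rfl fun x _ => this x]
  simp

/-- The value of the extension by zero at a conjugate, for `y ∉ N`. -/
theorem ext_eq_zero_of_notMem {f : A × B → ℂ} (hf : ∀ x : A × B, x.1 = 1 → f x = 0)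
    (x : A × B) (hx : x.1 ≠ 1) (y : G) (hy : y ∉ S.N) :
    extendByZero S.H (S.lift f) (y⁻¹ * S.μ x * y) = 0 := by
  by_cases hmem : y⁻¹ * S.μ x * y ∈ S.H
  · obtain ⟨x', hx'⟩ := hmem
    have h1 : y⁻¹ * S.μ x * y = ((S.e x' : S.H) : G) := hx'.symm
    rw [h1, Cfsg.Agent.Lib.Helper25.extendByZero_coe, S.lift_e]
    apply hf
    by_contra hx'1
    exact hy (S.ti x y hx ⟨x', hx'1, hx'.symm⟩)
  · exact Cfsg.Agent.Lib.Helper25.extendByZero_of_not_mem _ _ hmem

/-- The value of the extension by zero at a conjugate, for `u ∈ N`. -/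
theorem ext_eq_of_mem (f : A × B → ℂ) (x : A × B) (u : S.N) :
    extendByZero S.H (S.lift f) ((u : G)⁻¹ * S.μ x * (u : G)) =
      f (S.σ u⁻¹ x.1, S.τ u⁻¹ x.2) := by
  have h1 : (u : G)⁻¹ * S.μ x * (u : G) = ((S.e (S.σ u⁻¹ x.1, S.τ u⁻¹ x.2) : S.H) : G) := by
    rw [S.e_apply, S.conj_μ u⁻¹ x]
    simp
  rw [h1, Cfsg.Agent.Lib.Helper25.extendByZero_coe, S.lift_e]

variable [Fintype S.N]

theorem card_H : Nat.card S.H = Nat.card A * Nat.card B := by
  rw [← Nat.card_congr S.e.toEquiv, Nat.card_prod]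

/-- The values of the induced function on the TI set. -/
theorem Y_res {f : A × B → ℂ} (hf : ∀ x : A × B, x.1 = 1 → f x = 0)
    (x : A × B) (hx : x.1 ≠ 1) :
    S.Y f (S.μ x) = ((Nat.card A : ℂ) * (Nat.card B : ℂ))⁻¹ *
      ∑ u : S.N, f (S.σ u x.1, S.τ u x.2) := by
  classical
  unfold Y
  rw [Cfsg.Agent.Lib.Helper25.indFun_apply, S.card_H]
  push_cast
  congr 1
  have h1 : ∑ y : G, extendByZero S.H (S.lift f) (y⁻¹ * S.μ x * y) =
      ∑ y ∈ Finset.univ.filter (fun y : G => y ∈ S.N),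
        extendByZero S.H (S.lift f) (y⁻¹ * S.μ x * y) := by
    symm
    apply Finset.sum_subset (Finset.subset_univ _)
    intro y _ hy
    simp only [Finset.mem_filter, Finset.mem_univ, true_and] at hy
    exact S.ext_eq_zero_of_notMem hf x hx y hy
  rw [h1, Finset.sum_subtype (Finset.univ.filter (fun y : G => y ∈ S.N))
    (p := fun y => y ∈ S.N) (by simp)]
  rw [Finset.sum_congr rfl fun u _ => S.ext_eq_of_mem f x u]
  exact Fintype.sum_equiv (Equiv.inv S.N) _ _ (fun u => rfl)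

/-- The norm of the induced function. -/
theorem Y_norm {f : A × B → ℂ} (hf : ∀ x : A × B, x.1 = 1 → f x = 0) :
    classInner (S.Y f) (S.Y f) = ((Nat.card A : ℂ) * (Nat.card B : ℂ))⁻¹ *
      ∑ u : S.N, classInner f (fun x : A × B => f (S.σ u x.1, S.τ u x.2)) := by
  rw [S.frob f (S.Y_isClassFunction f)]
  have h1 : ∀ x : A × B, f x * conj (S.res (S.Y f) x) =
      ((Nat.card A : ℂ) * (Nat.card B : ℂ))⁻¹ *
        ∑ u : S.N, f x * conj (f (S.σ u x.1, S.τ u x.2)) := by
    intro x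
    by_cases hx : x.1 = 1
    · rw [hf x hx]
      simp
    · rw [S.res_apply, S.Y_res hf x hx, map_mul, map_sum, Finset.mul_sum, Finset.mul_sum,
        Finset.mul_sum]
      refine Finset.sum_congr rfl fun u _ => ?_
      rw [map_inv₀, map_mul, Complex.conj_natCast, Complex.conj_natCast]
      ring
  rw [Cfsg.Agent.Lib.Helper25.classInner_def, Finset.sum_congr rfl fun x _ => h1 x,
    ← Finset.mul_sum, Finset.sum_comm]
  rw [Finset.mul_sum, Finset.mul_sum, Finset.mul_sum]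
  refine Finset.sum_congr rfl fun u _ => ?_
  rw [Cfsg.Agent.Lib.Helper25.classInner_def]
  ring

variable [Fintype (IrrCharacter A)] [Fintype (IrrCharacter B)] [Fintype (IrrCharacter G)]

attribute [local instance] Setup.mulActA Setup.mulActB

/-- The difference `(l - l') ⊗ φ`. -/
def dif (l l' : IrrCharacter A) (φ : IrrCharacter B) : A × B → ℂ :=
  tens (l : A → ℂ) (φ : B → ℂ) - tens (l' : A → ℂ) (φ : B → ℂ)

theorem dif_eq_zero (hA : ∀ a a' : A, a * a' = a' * a) (l l' : IrrCharacter A)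
    (φ : IrrCharacter B) (x : A × B) (hx : x.1 = 1) : dif l l' φ x = 0 := by
  unfold dif
  rw [Pi.sub_apply, tens_apply, tens_apply, hx, irr_apply_one_of_comm hA l.2,
    irr_apply_one_of_comm hA l'.2, sub_self]

theorem dif_twist (u : S.N) (l l' : IrrCharacter A) (φ : IrrCharacter B) :
    (fun x : A × B => dif l l' φ (S.σ u x.1, S.τ u x.2)) = dif (u⁻¹ • l) (u⁻¹ • l') (u⁻¹ • φ) := by
  funext x
  unfold dif
  simp only [Pi.sub_apply, tens_apply]
  rw [S.smulA_def, S.smulA_def, S.smulB_def, S.smulA_apply, S.smulA_apply, S.smulB_apply]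
  simp only [map_inv]
  rfl

open Classical in
theorem classInner_tens (l m : IrrCharacter A) (φ φ' : IrrCharacter B) :
    classInner (tens (l : A → ℂ) (φ : B → ℂ)) (tens (m : A → ℂ) (φ' : B → ℂ)) =
      (if l = m then 1 else 0) * (if φ = φ' then 1 else 0) := by
  have h := classInner_prod (l : A → ℂ) (m : A → ℂ) (φ : B → ℂ) (φ' : B → ℂ)
  have h1 : classInner (tens (l : A → ℂ) (φ : B → ℂ)) (tens (m : A → ℂ) (φ' : B → ℂ)) =
      classInner (l : A → ℂ) (m : A → ℂ) * classInner (φ : B → ℂ) (φ' : B → ℂ) := h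
  rw [h1, Cfsg.Agent.Lib.Helper3.classInner_irr l.2 m.2,
    Cfsg.Agent.Lib.Helper3.classInner_irr φ.2 φ'.2]
  congr 1
  · by_cases hlm : l = m
    · rw [if_pos hlm, if_pos (by rw [hlm])]
    · rw [if_neg hlm, if_neg (fun h => hlm (Subtype.ext h))]
  · by_cases hlm : φ = φ'
    · rw [if_pos hlm, if_pos (by rw [hlm])]
    · rw [if_neg hlm, if_neg (fun h => hlm (Subtype.ext h))]

open Classical in
theorem classInner_dif (l l' m m' : IrrCharacter A) (φ φ' : IrrCharacter B) :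
    classInner (dif l l' φ) (dif m m' φ') =
      ((if l = m then 1 else 0) - (if l = m' then 1 else 0) - (if l' = m then 1 else 0) +
        (if l' = m' then 1 else 0)) * (if φ = φ' then 1 else 0) := by
  unfold dif
  rw [Cfsg.Agent.Lib.Helper25.classInner_sub_left, Cfsg.Agent.Lib.Helper25.classInner_sub_right,
    Cfsg.Agent.Lib.Helper25.classInner_sub_right, classInner_tens, classInner_tens,
    classInner_tens, classInner_tens]
  ring

open Classical in
/-- The value of the inner product of the difference with its twist. -/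
theorem classInner_dif_twist (l l' : IrrCharacter A) (φ : IrrCharacter B)
    (hl : (l : A → ℂ) ≠ fun _ => 1) (hl' : (l' : A → ℂ) ≠ fun _ => 1)
    (hyp : ∀ u : S.N, ¬ (u • l' = l ∧ u • φ = φ)) (u : S.N) :
    classInner (dif l l' φ) (dif (u • l) (u • l') (u • φ)) =
      if (u : G) ∈ S.μ.range then 2 else 0 := by
  have hne : l ≠ l' := by
    intro h
    apply hyp 1
    rw [one_smul, one_smul, h]
    exact ⟨rfl, rfl⟩
  rw [classInner_dif]
  by_cases hu : (u : G) ∈ S.μ.range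
  · rw [if_pos hu]
    have h1 : u • l = l := S.smulA_of_mem_range u hu l
    have h2 : u • l' = l' := S.smulA_of_mem_range u hu l'
    have h3 : u • φ = φ := S.smulB_of_mem_range u hu φ
    rw [h1, h2, h3, if_pos rfl, if_neg hne, if_neg (Ne.symm hne), if_pos rfl, if_pos rfl]
    ring
  · rw [if_neg hu]
    have h1 : ¬ l = u • l := fun h => hu (S.mem_range_of_smulA_eq u l hl h.symm)
    have h2 : ¬ l' = u • l' := fun h => hu (S.mem_range_of_smulA_eq u l' hl' h.symm)
    rw [if_neg h1, if_neg h2]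
    by_cases hφ : φ = u • φ
    · have h3 : ¬ l = u • l' := fun h => hyp u ⟨h.symm, hφ.symm⟩
      have h4 : ¬ l' = u • l := by
        intro h
        apply hyp u⁻¹
        constructor
        · rw [h, inv_smul_smul]
        · conv_lhs => rw [hφ]
          rw [inv_smul_smul]
      rw [if_neg h3, if_neg h4]
      ring
    · rw [if_neg hφ]
      ring

theorem Y_dif_norm (l l' : IrrCharacter A) (φ : IrrCharacter B)
    (hl : (l : A → ℂ) ≠ fun _ => 1) (hl' : (l' : A → ℂ) ≠ fun _ => 1)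
    (hyp : ∀ u : S.N, ¬ (u • l' = l ∧ u • φ = φ)) :
    classInner (S.Y (dif l l' φ)) (S.Y (dif l l' φ)) = 2 := by
  classical
  rw [S.Y_norm (fun x hx => dif_eq_zero S.comm l l' φ x hx)]
  rw [Finset.sum_congr rfl fun u _ => by rw [S.dif_twist u l l' φ]]
  have h1 : ∑ u : S.N, classInner (dif l l' φ) (dif (u⁻¹ • l) (u⁻¹ • l') (u⁻¹ • φ)) =
      ∑ u : S.N, classInner (dif l l' φ) (dif (u • l) (u • l') (u • φ)) :=
    Fintype.sum_equiv (Equiv.inv S.N) _ _ (fun u => rfl)
  rw [h1, Finset.sum_congr rfl fun u _ => S.classInner_dif_twist l l' φ hl hl' hyp u,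
    Finset.sum_ite, Finset.sum_const, Finset.sum_const_zero, add_zero]
  have h2 : (Finset.univ.filter fun u : S.N => (u : G) ∈ S.μ.range).card =
      Nat.card A * Nat.card B := by
    rw [← S.card_range, Nat.card_eq_fintype_card, Fintype.card_subtype]
    congr 1
    ext u
    simp [Subgroup.mem_subgroupOf]
  rw [h2, nsmul_eq_mul]
  have hA0 : (Nat.card A : ℂ) ≠ 0 := Cfsg.Agent.Lib.Helper25.card_ne_zero_complex
  have hB0 : (Nat.card B : ℂ) ≠ 0 := Cfsg.Agent.Lib.Helper25.card_ne_zero_complex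
  push_cast
  field_simp

omit [Fintype A] in
theorem ne_one_fun {K : Type u} [Group K] (l : IrrCharacter K) (hl : l ≠ oneIrr K) :
    (l : K → ℂ) ≠ fun _ => 1 := by
  intro h
  apply hl
  apply Subtype.ext
  rw [h]
  funext g
  rw [oneIrr_apply]

theorem norm2_field (φ : IrrCharacter B) (l l' : IrrCharacter A) (hl : l ≠ oneIrr A)
    (hl' : l' ≠ oneIrr A) (hyp : ∀ u : S.N, ¬ (u • l' = l ∧ u • φ = φ)) :
    ∃ μ₁ μ₂ : IrrCharacter G, μ₁ ≠ μ₂ ∧
      (charDegree (μ₁ : G → ℂ) : ℤ) = (charDegree (μ₂ : G → ℂ) : ℤ) ∧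
      S.Mz (μ₁ : G → ℂ) l φ = S.Mz (μ₁ : G → ℂ) l' φ + 1 ∧
      S.Mz (μ₂ : G → ℂ) l' φ = S.Mz (μ₂ : G → ℂ) l φ + 1 ∧
      ∀ ψ : IrrCharacter G, ψ ≠ μ₁ → ψ ≠ μ₂ →
        S.Mz (ψ : G → ℂ) l φ = S.Mz (ψ : G → ℂ) l' φ := by
  classical
  have hlf := ne_one_fun l hl
  have hl'f := ne_one_fun l' hl'
  have hgen : IsGeneralizedCharacter G (S.Y (dif l l' φ)) :=
    S.Y_isGenChar (isCharacter_tens l φ) (isCharacter_tens l' φ)
  have h2 := S.Y_dif_norm l l' φ hlf hl'f hyp
  have h1 : S.Y (dif l l' φ) 1 = 0 :=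
    S.Y_one (dif_eq_zero S.comm l l' φ 1 rfl)
  obtain ⟨m₁, m₂, hm₁, hm₂, hne, hY⟩ :=
    Cfsg.Agent.Lib.Helper25.genChar_norm_two hgen h2 h1
  have key : ∀ ψ : IrrCharacter G, ((S.Mz (ψ : G → ℂ) l φ - S.Mz (ψ : G → ℂ) l' φ : ℤ) : ℂ) =
      (if m₁ = (ψ : G → ℂ) then 1 else 0) - (if m₂ = (ψ : G → ℂ) then 1 else 0) := by
    intro ψ
    have hc := irr_isCharacter ψ
    have e1 : classInner (S.Y (dif l l' φ)) (ψ : G → ℂ) =
        classInner (dif l l' φ) (S.res (ψ : G → ℂ)) := S.frob _ (irr_isClassFunction ψ)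
    have e2 : classInner (dif l l' φ) (S.res (ψ : G → ℂ)) =
        conj (mult (S.res (ψ : G → ℂ)) l φ) - conj (mult (S.res (ψ : G → ℂ)) l' φ) := by
      unfold dif mult
      rw [Cfsg.Agent.Lib.Helper25.classInner_sub_left,
        Cfsg.Agent.Lib.Helper25.classInner_conj_symm, Cfsg.Agent.Lib.Helper25.classInner_conj_symm]
    have e3 : classInner (S.Y (dif l l' φ)) (ψ : G → ℂ) =
        (if m₁ = (ψ : G → ℂ) then 1 else 0) - (if m₂ = (ψ : G → ℂ) then 1 else 0) := by
      rw [hY, Cfsg.Agent.Lib.Helper25.classInner_sub_left,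
        Cfsg.Agent.Lib.Helper3.classInner_irr hm₁ ψ.2, Cfsg.Agent.Lib.Helper3.classInner_irr hm₂ ψ.2]
    rw [← e3, e1, e2, ← (S.Mz_cast hc l φ).1, ← (S.Mz_cast hc l' φ).1, map_intCast, map_intCast]
    push_cast
    ring
  have hdeg : m₁ 1 = m₂ 1 := by
    have := congrFun hY 1
    rw [h1, Pi.sub_apply] at this
    exact (sub_eq_zero.mp this.symm)
  refine ⟨⟨m₁, hm₁⟩, ⟨m₂, hm₂⟩, fun h => hne (congrArg Subtype.val h), ?_, ?_, ?_, ?_⟩
  · change ((charDegree m₁ : ℕ) : ℤ) = ((charDegree m₂ : ℕ) : ℤ)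
    unfold charDegree
    rw [hdeg]
  · have := key ⟨m₁, hm₁⟩
    rw [if_pos rfl, if_neg (Ne.symm hne)] at this
    have h3 : S.Mz m₁ l φ - S.Mz m₁ l' φ = 1 := by exact_mod_cast this
    change S.Mz m₁ l φ = S.Mz m₁ l' φ + 1
    omega
  · have := key ⟨m₂, hm₂⟩
    rw [if_neg hne, if_pos rfl] at this
    have h3 : S.Mz m₂ l φ - S.Mz m₂ l' φ = -1 := by exact_mod_cast this
    change S.Mz m₂ l' φ = S.Mz m₂ l φ + 1
    omega
  · intro ψ hψ1 hψ2
    have := key ψ
    rw [if_neg (fun h => hψ1 (Subtype.ext h.symm)), if_neg (fun h => hψ2 (Subtype.ext h.symm))] at this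
    have h3 : S.Mz (ψ : G → ℂ) l φ - S.Mz (ψ : G → ℂ) l' φ = 0 := by exact_mod_cast this
    omega

end Setup

end Cfsg.Agent.Lib.Helper81.Leo
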