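import Cfsg.Agent.Lib.Helper81.LeoTI
import Cfsg.Agent.Lib.Helper81.LeoInd
import Cfsg.Agent.Lib.Helper3.Ortho

/-!
# The Brauer–Leonard theorem in the abstract setting
-/

set_option autoImplicit false
set_option linter.unusedSectionVars false
set_option linter.style.haveILetI false

namespace Cfsg.Agent.Lib.Helper81.Leo

open Cfsg
open scoped ComplexConjugate

universe u

theorem card_irr_of_comm {A : Type u} [Group A] [Finite A] (hA : ∀ a a' : A, a * a' = a' * a) :
    Nat.card (IrrCharacter A) = Nat.card A := by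
  rw [Cfsg.Agent.Lib.Helper3.card_irrCharacter]
  symm
  apply Nat.card_congr
  refine Equiv.ofBijective (ConjClasses.mk : A → ConjClasses A) ⟨?_, ConjClasses.mk_surjective⟩
  intro a b hab
  obtain ⟨c, hc⟩ := isConj_iff.mp (ConjClasses.mk_eq_mk_iff_isConj.mp hab)
  rw [hA c, mul_assoc, mul_inv_cancel, mul_one] at hc
  exact hc

namespace Setup

variable {G A B : Type u} [Group G] [Group A] [Group B] (S : Setup G A B)
  [Fintype G] [Fintype A] [Fintype B] [Fintype S.N]
  [Fintype (IrrCharacter A)] [Fintype (IrrCharacter B)] [Fintype (IrrCharacter G)]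

attribute [local instance] Setup.mulActA Setup.mulActB

theorem smul_oneA (u : S.N) : u • oneIrr A = oneIrr A := by
  apply Subtype.ext
  funext a
  rw [S.smulA_def, S.smulA_apply, oneIrr_apply, oneIrr_apply]

theorem smul_oneB (u : S.N) : u • oneIrr B = oneIrr B := by
  apply Subtype.ext
  funext b
  rw [S.smulB_def, S.smulB_apply, oneIrr_apply, oneIrr_apply]

theorem charDegree_smulB (u : S.N) (φ : IrrCharacter B) :
    charDegree ((u • φ : IrrCharacter B) : B → ℂ) = charDegree (φ : B → ℂ) := by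
  unfold charDegree
  rw [S.smulB_def, S.smulB_apply, map_one]

/-- The combinatorial core attached to the setting. -/
noncomputable def core (h0 : S.H0) :
    Core (IrrCharacter A) (IrrCharacter B) (IrrCharacter G) S.N where
  q := Nat.card A
  t := S.t
  oneΛ := oneIrr A
  oneΦ := oneIrr B
  oneΨ := oneIrr G
  degΦ := fun φ => (charDegree (φ : B → ℂ) : ℤ)
  degΨ := fun ψ => (charDegree (ψ : G → ℂ) : ℤ)
  M := fun ψ l φ => S.Mz (ψ : G → ℂ) l φ
  M_nonneg := fun ψ l φ => (S.Mz_cast (irr_isCharacter ψ) l φ).2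
  card_Λ := by
    rw [← Nat.card_eq_fintype_card]
    exact card_irr_of_comm S.comm
  t_pos := S.t_pos
  degΦ_pos := fun φ => by
    have := irr_charDegree_ne_zero φ
    have : 0 < charDegree (φ : B → ℂ) := Nat.pos_of_ne_zero this
    exact_mod_cast this
  degΦ_one := by
    have : charDegree ((oneIrr B : IrrCharacter B) : B → ℂ) = 1 :=
      charDegree_eq_of_apply_one (n := 1) (by rw [oneIrr_apply]; simp)
    rw [this]
    rfl
  degΨ_pos := fun ψ => by
    have := irr_charDegree_ne_zero ψ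
    have : 0 < charDegree (ψ : G → ℂ) := Nat.pos_of_ne_zero this
    exact_mod_cast this
  smul_oneΛ := S.smul_oneA
  smul_oneΦ := S.smul_oneB
  degΦ_smul := fun u φ => by rw [S.charDegree_smulB]
  M_smul := fun ψ u l φ => S.Mz_smul (irr_isClassFunction ψ) u l φ
  orbit_card := fun l hl => S.orbit_card l (ne_one_fun l hl)
  degΨ_eq := fun ψ => S.degΨ_eq ψ
  M_one_one := S.Mz_one_one
  M_one_ne := fun l φ h => S.Mz_one_ne l φ h
  ti := fun ψ => S.ti_field ψ
  h0 := fun ψ hψ => S.h0_field h0 ψ hψ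
  norm2 := fun φ l l' hl hl' hyp => S.norm2_field φ l l' hl hl' hyp
  prod := fun χ χ' => S.prod_field χ χ'

/-- The main theorem in the abstract setting. -/
theorem main (h0 : S.H0) (χ : IrrCharacter G) (hχ : χ ≠ oneIrr G)
    (hd : charDegree (χ : G → ℂ) ^ 2 + 1 < Nat.card A) :
    S.t = 1 ∧ ∃ (l₀ : IrrCharacter A) (φ₀ : IrrCharacter B),
      ∀ x : A × B, (χ : G → ℂ) (S.μ x) = (l₀ : A → ℂ) x.1 * (φ₀ : B → ℂ) x.2 := by
  have hd' : (S.core h0).degΨ χ ^ 2 + 1 < ((S.core h0).q : ℤ) := by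
    change ((charDegree (χ : G → ℂ) : ℕ) : ℤ) ^ 2 + 1 < ((Nat.card A : ℕ) : ℤ)
    exact_mod_cast hd
  have ht : S.t = 1 := by
    by_contra hne
    have h2 : 2 ≤ (S.core h0).t := by
      change 2 ≤ S.t
      have := S.t_pos
      omega
    exact (S.core h0).core_false h2 χ hχ hd'
  refine ⟨ht, ?_⟩
  obtain ⟨l₀, φ₀, h1, h2⟩ := (S.core h0).exists_single_of_t_eq_one ht χ hd'
  refine ⟨l₀, φ₀, fun x => ?_⟩
  have hc := irr_isCharacter χ
  have h3 := expand (S.res_isClassFunction (irr_isClassFunction χ)) x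
  rw [S.res_apply] at h3
  rw [h3, Finset.sum_eq_single l₀, Finset.sum_eq_single φ₀]
  · rw [← (S.Mz_cast hc l₀ φ₀).1]
    have : S.Mz (χ : G → ℂ) l₀ φ₀ = 1 := h1
    rw [this]
    simp
  · intro φ _ hφ
    rw [← (S.Mz_cast hc l₀ φ).1]
    have : S.Mz (χ : G → ℂ) l₀ φ = 0 := h2 l₀ φ (fun hh => hφ hh.2)
    rw [this]
    simp
  · intro h
    exact absurd (Finset.mem_univ _) h
  · intro l _ hl
    apply Finset.sum_eq_zero
    intro φ _
    rw [← (S.Mz_cast hc l φ).1]
    have : S.Mz (χ : G → ℂ) l φ = 0 := h2 l φ (fun hh => hl hh.1)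
    rw [this]
    simp
  · intro h
    exact absurd (Finset.mem_univ _) h

end Setup

end Cfsg.Agent.Lib.Helper81.Leo
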