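import Cfsg.Agent.Lib.Helper81.Twist
import Mathlib.GroupTheory.GroupAction.Quotient
import Mathlib.GroupTheory.GroupAction.ConjAct

set_option autoImplicit false

namespace Cfsg.Agent.Lib.Helper81

open Cfsg
open scoped ComplexConjugate

universe u

theorem card_mul_card_quot {Γ A : Type*} [Group Γ] [Fintype Γ] [Fintype A] [DecidableEq A]
    (φ : Γ →* Equiv.Perm A) :
    Nat.card (Quot (fun a a' : A => ∃ γ, φ γ a = a')) * Fintype.card Γ =
      ∑ γ : Γ, (Finset.univ.filter fun a => φ γ a = a).card := by
  classical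
  letI : MulAction Γ A := MulAction.compHom A φ
  have hsmul : ∀ (γ : Γ) (a : A), γ • a = φ γ a := fun γ a => rfl
  have hB := MulAction.sum_card_fixedBy_eq_card_orbits_mul_card_group Γ A
  have e : Quot (fun a a' : A => ∃ γ, φ γ a = a') ≃ Quotient (MulAction.orbitRel Γ A) := by
    refine Quot.congrRight ?_
    intro a b
    constructor
    · rintro ⟨γ, h⟩
      change a ∈ MulAction.orbit Γ b
      refine ⟨γ⁻¹, ?_⟩
      change γ⁻¹ • b = a
      rw [hsmul, ← h, map_inv]
      simp
    · intro h
      change a ∈ MulAction.orbit Γ b at h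
      obtain ⟨γ, h⟩ := h
      refine ⟨γ⁻¹, ?_⟩
      have h' : φ γ b = a := h
      rw [← h', map_inv]
      simp
  rw [Nat.card_congr e, Nat.card_eq_fintype_card, ← hB]
  refine Finset.sum_congr rfl fun γ _ => ?_
  rw [← Fintype.card_subtype]
  rfl

theorem card_quot_eq_of_card_fixed_eq {Γ A B : Type*} [Group Γ] [Finite Γ] [Finite A] [Finite B]
    (φ : Γ →* Equiv.Perm A) (ψ : Γ →* Equiv.Perm B)
    (h : ∀ γ, Nat.card {a // φ γ a = a} = Nat.card {b // ψ γ b = b}) :
    Nat.card (Quot (fun a a' : A => ∃ γ, φ γ a = a')) =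
      Nat.card (Quot (fun b b' : B => ∃ γ, ψ γ b = b')) := by
  classical
  have : Fintype Γ := Fintype.ofFinite Γ
  have : Fintype A := Fintype.ofFinite A
  have : Fintype B := Fintype.ofFinite B
  have hA := card_mul_card_quot φ
  have hB := card_mul_card_quot ψ
  have hsum : ∑ γ : Γ, (Finset.univ.filter fun a => φ γ a = a).card =
      ∑ γ : Γ, (Finset.univ.filter fun b => ψ γ b = b).card := by
    refine Finset.sum_congr rfl fun γ _ => ?_
    have := h γ
    rw [Nat.card_eq_fintype_card, Nat.card_eq_fintype_card, Fintype.card_subtype,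
      Fintype.card_subtype] at this
    exact this
  rw [hsum, ← hB] at hA
  exact Nat.eq_of_mul_eq_mul_right Fintype.card_pos hA

theorem fixed_mul_iff {A : Type*} (σ t : Equiv.Perm A) (hcomm : σ * t = t * σ) (hσ : σ * σ = 1)
    {m : ℕ} (hm : Odd m) (ht : t ^ m = 1) (a : A) :
    (σ * t) a = a ↔ σ a = a ∧ t a = a := by
  constructor
  · intro h
    have h2 : (σ * t) * (σ * t) = t * t := by
      calc (σ * t) * (σ * t) = σ * (t * σ) * t := by simp only [mul_assoc]
        _ = σ * (σ * t) * t := by rw [hcomm]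
        _ = (σ * σ) * (t * t) := by simp only [mul_assoc]
        _ = t * t := by rw [hσ, one_mul]
    have h3 : (t * t) a = a := by
      rw [← h2, Equiv.Perm.mul_apply, h, h]
    obtain ⟨j, rfl⟩ := hm
    have h4 : t = (t * t) ^ (j + 1) := by
      calc t = t ^ (2 * j + 1) * t := by rw [ht, one_mul]
        _ = (t * t) ^ (j + 1) := by
          rw [← pow_two, ← pow_mul, ← pow_succ]
          rfl
    have h5 : t a = a := by
      rw [h4]
      exact Equiv.Perm.pow_apply_eq_self_of_apply_eq_self h3 (j + 1)
    refine ⟨?_, h5⟩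
    have := h
    rw [Equiv.Perm.mul_apply, h5] at this
    exact this
  · rintro ⟨h1, h2⟩
    rw [Equiv.Perm.mul_apply, h2, h1]


/-- Restriction of a permutation action to an invariant predicate. -/
def restrictHom {Γ A : Type*} [Group Γ] (φ : Γ →* Equiv.Perm A) (p : A → Prop)
    (hp : ∀ γ a, p (φ γ a) ↔ p a) : Γ →* Equiv.Perm {a // p a} where
  toFun γ := (φ γ).subtypePerm (hp γ)
  map_one' := by
    ext a
    simp
  map_mul' γ δ := by
    apply Equiv.ext
    intro a
    apply Subtype.ext
    simp only [Equiv.Perm.subtypePerm_apply, map_mul, Equiv.Perm.mul_apply]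

theorem restrictHom_apply {Γ A : Type*} [Group Γ] (φ : Γ →* Equiv.Perm A) (p : A → Prop)
    (hp : ∀ γ a, p (φ γ a) ↔ p a) (γ : Γ) (a : {a // p a}) :
    ((restrictHom φ p hp γ a : {a // p a}) : A) = φ γ a := rfl

theorem card_quot_eq_of_surjective {Y Z : Type*} (r : Y → Y → Prop) (r' : Z → Z → Prop)
    (hr' : Equivalence r') (f : Y → Z) (hf : Function.Surjective f)
    (h : ∀ x y, r x y ↔ r' (f x) (f y)) : Nat.card (Quot r) = Nat.card (Quot r') := by
  let F : Quot r → Quot r' := Quot.map f (fun x y hxy => (h x y).1 hxy)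
  have hF : Function.Bijective F := by
    constructor
    · intro a b
      induction a using Quot.ind with
      | _ x =>
        induction b using Quot.ind with
        | _ y =>
          intro hab
          have h1 : Quot.mk r' (f x) = Quot.mk r' (f y) := hab
          rw [Quot.eq, hr'.eqvGen_iff] at h1
          exact Quot.sound ((h x y).2 h1)
    · intro c
      induction c using Quot.ind with
      | _ z =>
        obtain ⟨y, rfl⟩ := hf z
        exact ⟨Quot.mk r y, rfl⟩
  exact Nat.card_congr (Equiv.ofBijective F hF)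


theorem orbitRel_equivalence {Γ A : Type*} [Group Γ] (φ : Γ →* Equiv.Perm A) :
    Equivalence (fun a a' : A => ∃ γ, φ γ a = a') := by
  refine ⟨fun a => ⟨1, by simp⟩, ?_, ?_⟩
  · rintro a b ⟨γ, h⟩
    refine ⟨γ⁻¹, ?_⟩
    rw [← h, map_inv]
    simp
  · rintro a b c ⟨γ, h⟩ ⟨δ, h'⟩
    refine ⟨δ * γ, ?_⟩
    rw [map_mul, Equiv.Perm.mul_apply, h, h']

section Homs

variable {G : Type u} [Group G]

/-- Twisting irreducible characters, as a homomorphism from the automorphism group. -/
noncomputable def irrTwistHom (G : Type u) [Group G] :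
    MulAut G →* Equiv.Perm (IrrCharacter G) where
  toFun α := irrTwist α
  map_one' := by
    ext χ
    rfl
  map_mul' α β := by
    ext χ
    rfl

theorem irrTwistHom_apply (α : MulAut G) : irrTwistHom G α = irrTwist α := rfl

/-- The action on conjugacy classes, as a homomorphism from the automorphism group. -/
noncomputable def classMapHom (G : Type u) [Group G] :
    MulAut G →* Equiv.Perm (ConjClasses G) where
  toFun α := classMap α
  map_one' := by
    ext C
    obtain ⟨g, rfl⟩ := ConjClasses.exists_rep C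
    rfl
  map_mul' α β := by
    ext C
    obtain ⟨g, rfl⟩ := ConjClasses.exists_rep C
    rfl

theorem classMapHom_apply (α : MulAut G) : classMapHom G α = classMap α := rfl

theorem irrConj_mul_irrTwist (α : MulAut G) : irrConj G * irrTwist α = irrTwist α * irrConj G := by
  ext χ
  rfl

theorem irrConj_mul_self : irrConj G * irrConj G = 1 := by
  ext χ g
  change conj (conj ((χ : G → ℂ) g)) = _
  rw [Complex.conj_conj]
  rfl

theorem classInv_mul_classMap (α : MulAut G) :
    classInv G * classMap α = classMap α * classInv G := by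
  ext C
  obtain ⟨g, rfl⟩ := ConjClasses.exists_rep C
  change ConjClasses.mk (α g)⁻¹ = ConjClasses.mk (α g⁻¹)
  rw [map_inv]

theorem classInv_mul_self : classInv G * classInv G = 1 := by
  ext C
  obtain ⟨g, rfl⟩ := ConjClasses.exists_rep C
  change ConjClasses.mk (g⁻¹)⁻¹ = ConjClasses.mk g
  rw [inv_inv]

theorem irrTwist_conj (x : G) : irrTwist (MulAut.conj x) = 1 := by
  ext χ g
  change (χ : G → ℂ) ((MulAut.conj x).symm g) = (χ : G → ℂ) g
  rw [MulAut.conj_symm_apply]
  have := irr_conj_apply χ g x⁻¹
  rwa [inv_inv] at this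

theorem classMap_conj (x : G) : classMap (MulAut.conj x) = 1 := by
  ext C
  obtain ⟨g, rfl⟩ := ConjClasses.exists_rep C
  change ConjClasses.mk (MulAut.conj x g) = ConjClasses.mk g
  rw [ConjClasses.mk_eq_mk_iff_isConj, MulAut.conj_apply, isConj_comm, isConj_iff]
  exact ⟨x, rfl⟩

end Homs

end Cfsg.Agent.Lib.Helper81
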