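import Cfsg.Agent.Lib.Helper81.LeoFourier
import Cfsg.Agent.Lib.Helper81.LeoCore
import Cfsg.Agent.Lib.Helper81.Orbits
import Cfsg.Agent.Lib.Helper81.FixedIrr
import Cfsg.Agent.Lib.Helper81.OneIrr
import Cfsg.Agent.Lib.Helper79.Basic
import Cfsg.Agent.Lib.Helper25.CharUtil

/-!
# The setting of the Brauer–Leonard theorem

A finite group `G`, an injective homomorphism `μ : A × B →* G` with `A` abelian (the image is the
centralizer of the Sylow subgroup `A`), a subgroup `N` (the normalizer) acting on `A` and `B`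
compatibly, such that `μ ((A \ 1) × B)` is a TI-set with normalizer `N`, and `N` modulo the image
of `μ` acts freely on `A \ 1`.
-/

set_option autoImplicit false
set_option linter.unusedSectionVars false
set_option linter.style.haveILetI false

namespace Cfsg.Agent.Lib.Helper81.Leo

open Cfsg
open scoped ComplexConjugate

universe u

/-- The data. -/
structure Setup (G A B : Type u) [Group G] [Group A] [Group B] where
  μ : A × B →* G
  μ_inj : Function.Injective μ
  comm : ∀ a a' : A, a * a' = a' * a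
  N : Subgroup G
  σ : N →* MulAut A
  τ : N →* MulAut B
  conj_μ : ∀ (u : N) (x : A × B), μ (σ u x.1, τ u x.2) = (u : G) * μ x * (u : G)⁻¹
  range_le : μ.range ≤ N
  ti : ∀ (x : A × B) (y : G), x.1 ≠ 1 → (∃ x' : A × B, x'.1 ≠ 1 ∧ y⁻¹ * μ x * y = μ x') → y ∈ N
  free : ∀ (u : N) (a : A), a ≠ 1 → σ u a = a → (u : G) ∈ μ.range

namespace Setup

variable {G A B : Type u} [Group G] [Group A] [Group B] (S : Setup G A B)

/-- The action on the characters of `A`. -/
noncomputable def actA : S.N →* Equiv.Perm (IrrCharacter A) := (irrTwistHom A).comp S.σ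

/-- The action on the characters of `B`. -/
noncomputable def actB : S.N →* Equiv.Perm (IrrCharacter B) := (irrTwistHom B).comp S.τ

/-- The action on the characters of `A`, as a `MulAction`. -/
@[reducible] noncomputable def mulActA : MulAction S.N (IrrCharacter A) :=
  MulAction.compHom (IrrCharacter A) S.actA

/-- The action on the characters of `B`, as a `MulAction`. -/
@[reducible] noncomputable def mulActB : MulAction S.N (IrrCharacter B) :=
  MulAction.compHom (IrrCharacter B) S.actB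

theorem smulA_apply (u : S.N) (l : IrrCharacter A) (a : A) :
    ((S.mulActA.smul u l : IrrCharacter A) : A → ℂ) a = (l : A → ℂ) ((S.σ u).symm a) := by
  change ((irrTwistHom A (S.σ u) l : IrrCharacter A) : A → ℂ) a = _
  rw [irrTwistHom_apply, irrTwist_apply]

theorem smulB_apply (u : S.N) (φ : IrrCharacter B) (b : B) :
    ((S.mulActB.smul u φ : IrrCharacter B) : B → ℂ) b = (φ : B → ℂ) ((S.τ u).symm b) := by
  change ((irrTwistHom B (S.τ u) φ : IrrCharacter B) : B → ℂ) b = _
  rw [irrTwistHom_apply, irrTwist_apply]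

/-- Elements of the image of `μ` act trivially on `A` and by inner automorphisms on `B`. -/
theorem act_of_mem_range (u : S.N) (x₀ : A × B) (hu : S.μ x₀ = (u : G)) :
    (∀ a, S.σ u a = a) ∧ ∀ b, S.τ u b = x₀.2 * b * x₀.2⁻¹ := by
  have key : ∀ x : A × B, (S.σ u x.1, S.τ u x.2) = x₀ * x * x₀⁻¹ := by
    intro x
    apply S.μ_inj
    rw [S.conj_μ, ← hu, map_mul, map_mul, map_inv]
  constructor
  · intro a
    have := congrArg Prod.fst (key (a, 1))
    simp only [Prod.fst_mul, Prod.fst_inv] at this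
    rw [this, S.comm x₀.1 a, mul_assoc, mul_inv_cancel, mul_one]
  · intro b
    have := congrArg Prod.snd (key (1, b))
    simpa using this

theorem smulA_of_mem_range (u : S.N) (hu : (u : G) ∈ S.μ.range) (l : IrrCharacter A) :
    S.mulActA.smul u l = l := by
  obtain ⟨x₀, hx₀⟩ := hu
  apply Subtype.ext
  funext a
  rw [S.smulA_apply]
  have h1 : (S.σ u).symm a = a := by
    rw [MulEquiv.symm_apply_eq, (S.act_of_mem_range u x₀ hx₀).1]
  rw [h1]

theorem smulB_of_mem_range [Finite B] (u : S.N) (hu : (u : G) ∈ S.μ.range) (φ : IrrCharacter B) :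
    S.mulActB.smul u φ = φ := by
  obtain ⟨x₀, hx₀⟩ := hu
  apply Subtype.ext
  funext b
  rw [S.smulB_apply]
  have h1 : (S.τ u).symm b = x₀.2⁻¹ * b * x₀.2⁻¹⁻¹ := by
    rw [MulEquiv.symm_apply_eq, (S.act_of_mem_range u x₀ hx₀).2]
    group
  rw [h1, irr_conj_apply]

/-- The stabilizer of a nontrivial character of `A` is the image of `μ`. -/
theorem mem_range_of_smulA_eq [Finite A] (u : S.N) (l : IrrCharacter A)
    (hl : (l : A → ℂ) ≠ fun _ => 1) (h : S.mulActA.smul u l = l) : (u : G) ∈ S.μ.range := by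
  by_contra hno
  apply hl
  apply irr_eq_one_of_comp_eq (S.σ u) _ l
  · have h1 : irrTwist (S.σ u) l = l := by
      rw [← irrTwistHom_apply]
      exact h
    exact (irrTwist_eq_self_iff (S.σ u) l).mp h1
  · intro a ha
    by_contra ha1
    apply hno
    apply S.free u a ha1
    obtain ⟨c, hc⟩ := isConj_iff.mp ha
    rw [S.comm c, mul_assoc, mul_inv_cancel, mul_one] at hc
    exact hc

attribute [local instance] Setup.mulActA Setup.mulActB

theorem smulA_def (u : S.N) (l : IrrCharacter A) : u • l = S.mulActA.smul u l := rfl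

theorem smulB_def (u : S.N) (φ : IrrCharacter B) : u • φ = S.mulActB.smul u φ := rfl

/-- Restriction along `μ`. -/
def res (ψ : G → ℂ) : A × B → ℂ := fun x => ψ (S.μ x)

theorem res_apply (ψ : G → ℂ) (x : A × B) : S.res ψ x = ψ (S.μ x) := rfl

theorem res_isClassFunction {ψ : G → ℂ} (hψ : IsClassFunction G ψ) :
    IsClassFunction (A × B) (S.res ψ) := by
  intro x y
  unfold res
  rw [map_mul, map_mul, map_inv]
  exact hψ _ _

theorem res_isCharacter {ψ : G → ℂ} (hψ : IsCharacter G ψ) : IsCharacter (A × B) (S.res ψ) :=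
  Cfsg.Agent.Lib.Helper79.isCharacter_comp hψ S.μ

section Fin

variable [Fintype G] [Fintype A] [Fintype B]

/-- The integer multiplicity. -/
noncomputable def Mz (ψ : G → ℂ) (l : IrrCharacter A) (φ : IrrCharacter B) : ℤ :=
  ⌊(mult (S.res ψ) l φ).re⌋

theorem isCharacter_tens (l : IrrCharacter A) (φ : IrrCharacter B) :
    IsCharacter (A × B) (tens (l : A → ℂ) (φ : B → ℂ)) :=
  Cfsg.Agent.Lib.Helper79.isCharacter_of_isIrrCharacter (isIrrCharacter_prod l.2 φ.2)

theorem Mz_cast {ψ : G → ℂ} (hψ : IsCharacter G ψ) (l : IrrCharacter A) (φ : IrrCharacter B) :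
    ((S.Mz ψ l φ : ℤ) : ℂ) = mult (S.res ψ) l φ ∧ 0 ≤ S.Mz ψ l φ := by
  obtain ⟨n, hn⟩ := Cfsg.Agent.Lib.Helper25.classInner_char_nat (S.res_isCharacter hψ)
    (isCharacter_tens l φ)
  have h1 : mult (S.res ψ) l φ = (n : ℂ) := hn
  unfold Mz
  rw [h1]
  simp

theorem mult_smul {ψ : G → ℂ} (hψ : IsClassFunction G ψ) (u : S.N) (l : IrrCharacter A)
    (φ : IrrCharacter B) : mult (S.res ψ) (u • l) (u • φ) = mult (S.res ψ) l φ := by
  unfold mult
  rw [Cfsg.Agent.Lib.Helper25.classInner_def, Cfsg.Agent.Lib.Helper25.classInner_def]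
  congr 1
  symm
  apply Fintype.sum_equiv (Equiv.prodCongr (S.σ u).toEquiv (S.τ u).toEquiv)
  rintro ⟨a, b⟩
  change S.res ψ (a, b) * conj ((l : A → ℂ) a * (φ : B → ℂ) b) =
    S.res ψ (S.σ u a, S.τ u b) * conj (((u • l : IrrCharacter A) : A → ℂ) (S.σ u a) *
      ((u • φ : IrrCharacter B) : B → ℂ) (S.τ u b))
  rw [S.smulA_def, S.smulB_def, S.smulA_apply, S.smulB_apply, MulEquiv.symm_apply_apply,
    MulEquiv.symm_apply_apply, S.res_apply, S.res_apply, S.conj_μ u (a, b), hψ]

theorem Mz_smul {ψ : G → ℂ} (hψ : IsClassFunction G ψ) (u : S.N) (l : IrrCharacter A)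
    (φ : IrrCharacter B) : S.Mz ψ (u • l) (u • φ) = S.Mz ψ l φ := by
  unfold Mz
  rw [S.mult_smul hψ]

/-- The index of the image of `μ` in `N`. -/
noncomputable def t : ℕ := Nat.card S.N / (Nat.card A * Nat.card B)

theorem card_range : Nat.card (S.μ.range.subgroupOf S.N) = Nat.card A * Nat.card B := by
  rw [Nat.card_congr (Subgroup.subgroupOfEquivOfLe S.range_le).toEquiv,
    ← Nat.card_congr (MonoidHom.ofInjective S.μ_inj).toEquiv, Nat.card_prod]

theorem card_N : Nat.card S.N = S.t * (Nat.card A * Nat.card B) := by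
  unfold t
  rw [Nat.div_mul_cancel]
  rw [← S.card_range]
  exact Subgroup.card_subgroup_dvd_card _

theorem t_pos : 0 < S.t := by
  have h := S.card_N
  have h1 : 0 < Nat.card S.N := Nat.card_pos
  by_contra h0
  have : S.t = 0 := by omega
  rw [this, zero_mul] at h
  omega

theorem stabilizer_eq (l : IrrCharacter A) (hl : (l : A → ℂ) ≠ fun _ => 1) :
    MulAction.stabilizer S.N l = S.μ.range.subgroupOf S.N := by
  ext u
  rw [MulAction.mem_stabilizer_iff, Subgroup.mem_subgroupOf]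
  constructor
  · intro h
    exact S.mem_range_of_smulA_eq u l hl h
  · intro h
    exact S.smulA_of_mem_range u h l

theorem orbit_card (l : IrrCharacter A) (hl : (l : A → ℂ) ≠ fun _ => 1) :
    Nat.card (MulAction.orbit S.N l) = S.t := by
  have h1 := Nat.card_congr (MulAction.orbitProdStabilizerEquivGroup S.N l)
  rw [Nat.card_prod, S.stabilizer_eq l hl, S.card_range, S.card_N] at h1
  have hpos : 0 < Nat.card A * Nat.card B := Nat.mul_pos Nat.card_pos Nat.card_pos
  exact Nat.eq_of_mul_eq_mul_right hpos h1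

variable [Fintype (IrrCharacter A)] [Fintype (IrrCharacter B)] [Fintype (IrrCharacter G)]

theorem irr_isClassFunction (ψ : IrrCharacter G) : IsClassFunction G (ψ : G → ℂ) :=
  Cfsg.Agent.Lib.Helper3.IsCharacter.isClassFunction
    (Cfsg.Agent.Lib.Helper3.IsIrrCharacter.isCharacter ψ.2)

theorem irr_isCharacter (ψ : IrrCharacter G) : IsCharacter G (ψ : G → ℂ) :=
  Cfsg.Agent.Lib.Helper3.IsIrrCharacter.isCharacter ψ.2

theorem degΨ_eq (ψ : IrrCharacter G) :
    (charDegree (ψ : G → ℂ) : ℤ) = ∑ l : IrrCharacter A, ∑ φ : IrrCharacter B,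
      S.Mz (ψ : G → ℂ) l φ * (charDegree (φ : B → ℂ) : ℤ) := by
  have h1 := apply_one_expand S.comm (S.res_isClassFunction (irr_isClassFunction ψ))
  rw [S.res_apply, map_one, irr_apply_one_eq_charDegree] at h1
  have h2 : ((charDegree (ψ : G → ℂ) : ℤ) : ℂ) = ((∑ l : IrrCharacter A, ∑ φ : IrrCharacter B,
      S.Mz (ψ : G → ℂ) l φ * (charDegree (φ : B → ℂ) : ℤ) : ℤ) : ℂ) := by
    push_cast
    rw [h1]
    refine Finset.sum_congr rfl fun l _ => Finset.sum_congr rfl fun φ _ => ?_
    rw [(S.Mz_cast (irr_isCharacter ψ) l φ).1, irr_apply_one_eq_charDegree]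
  exact_mod_cast h2

theorem res_one : S.res (fun _ => (1 : ℂ)) =
    tens ((oneIrr A : IrrCharacter A) : A → ℂ) ((oneIrr B : IrrCharacter B) : B → ℂ) := by
  funext x
  rw [tens_apply, oneIrr_apply, oneIrr_apply, mul_one]
  rfl

theorem mult_one (l : IrrCharacter A) (φ : IrrCharacter B) [Decidable (l = oneIrr A ∧ φ = oneIrr B)] :
    mult (S.res (fun _ => (1 : ℂ))) l φ = if l = oneIrr A ∧ φ = oneIrr B then 1 else 0 := by
  unfold mult
  rw [S.res_one, tens_irr, tens_irr,
    Cfsg.Agent.Lib.Helper3.classInner_irr (irrProd (oneIrr A, oneIrr B)).2 (irrProd (l, φ)).2]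
  by_cases h : l = oneIrr A ∧ φ = oneIrr B
  · rw [if_pos h, if_pos]
    rw [h.1, h.2]
  · rw [if_neg h, if_neg]
    intro h1
    apply h
    have := irrProd_injective (Subtype.ext h1)
    rw [Prod.mk.injEq] at this
    exact ⟨this.1.symm, this.2.symm⟩

theorem Mz_one_one : S.Mz (fun _ => (1 : ℂ)) (oneIrr A) (oneIrr B) = 1 := by
  classical
  unfold Mz
  rw [S.mult_one, if_pos ⟨rfl, rfl⟩]
  simp

theorem Mz_one_ne (l : IrrCharacter A) (φ : IrrCharacter B) (h : ¬ (l = oneIrr A ∧ φ = oneIrr B)) :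
    S.Mz (fun _ => (1 : ℂ)) l φ = 0 := by
  classical
  unfold Mz
  rw [S.mult_one, if_neg h]
  simp

/-- The hypothesis that no proper normal subgroup contains the image of `A`. -/
def H0 : Prop := ∀ K : Subgroup G, K.Normal → (∀ a : A, S.μ (a, 1) ∈ K) → K = ⊤

theorem h0_field (h0 : S.H0) (ψ : IrrCharacter G) (hψ : ψ ≠ oneIrr G) :
    ∃ l : IrrCharacter A, l ≠ oneIrr A ∧ ∃ φ : IrrCharacter B, S.Mz (ψ : G → ℂ) l φ ≠ 0 := by
  classical
  by_contra hno
  push Not at hno
  have hcl := S.res_isClassFunction (irr_isClassFunction ψ)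
  have hm0 : ∀ l : IrrCharacter A, l ≠ oneIrr A → ∀ φ, mult (S.res (ψ : G → ℂ)) l φ = 0 := by
    intro l hl φ
    rw [← (S.Mz_cast (irr_isCharacter ψ) l φ).1, hno l hl φ]
    simp
  have hval : ∀ a : A, (ψ : G → ℂ) (S.μ (a, 1)) = (ψ : G → ℂ) 1 := by
    intro a
    have h1 := expand hcl (a, 1)
    have h2 := expand hcl (1, 1)
    rw [S.res_apply] at h1 h2
    rw [Finset.sum_eq_single (oneIrr A)] at h1 h2
    · have : S.μ ((1 : A), (1 : B)) = 1 := map_one S.μ
      rw [this] at h2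
      rw [h1, h2]
      refine Finset.sum_congr rfl fun φ _ => ?_
      simp only [oneIrr_apply]
    · intro l _ hl
      apply Finset.sum_eq_zero
      intro φ _
      rw [hm0 l hl φ, zero_mul]
    · intro h
      exact absurd (Finset.mem_univ _) h
    · intro l _ hl
      apply Finset.sum_eq_zero
      intro φ _
      rw [hm0 l hl φ, zero_mul]
    · intro h
      exact absurd (Finset.mem_univ _) h
  have hK := h0 (Cfsg.Agent.Lib.Helper79.charKer (irr_isCharacter ψ)) inferInstance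
    (fun a => (Cfsg.Agent.Lib.Helper79.mem_charKer _ _).mpr (hval a))
  have hall : ∀ g : G, (ψ : G → ℂ) g = (ψ : G → ℂ) 1 := by
    intro g
    apply (Cfsg.Agent.Lib.Helper79.mem_charKer (irr_isCharacter ψ) g).mp
    rw [hK]
    exact Subgroup.mem_top g
  have hne : (ψ : G → ℂ) ≠ fun _ => 1 := by
    intro h
    apply hψ
    apply Subtype.ext
    rw [h]
    funext g
    rw [oneIrr_apply]
  have hsum := irr_sum_eq_zero_of_ne_one ψ hne
  rw [Finset.sum_congr rfl fun g _ => hall g, Finset.sum_const, Finset.card_univ,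
    nsmul_eq_mul] at hsum
  rcases mul_eq_zero.mp hsum with h1 | h1
  · have : (Fintype.card G : ℂ) ≠ 0 := by
      exact_mod_cast Fintype.card_ne_zero
    exact this h1
  · exact irr_apply_one_ne_zero ψ h1

theorem res_sum (m : IrrCharacter G → ℂ) :
    S.res (∑ ψ : IrrCharacter G, m ψ • (ψ : G → ℂ)) =
      ∑ ψ : IrrCharacter G, m ψ • S.res (ψ : G → ℂ) := by
  funext x
  rw [S.res_apply, Finset.sum_apply, Finset.sum_apply]
  rfl

theorem mult_sum (m : IrrCharacter G → ℂ) (l : IrrCharacter A) (φ : IrrCharacter B) :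
    mult (S.res (∑ ψ : IrrCharacter G, m ψ • (ψ : G → ℂ))) l φ =
      ∑ ψ : IrrCharacter G, m ψ * mult (S.res (ψ : G → ℂ)) l φ := by
  unfold mult
  rw [S.res_sum, Cfsg.Agent.Lib.Helper25.classInner_sum_left]
  refine Finset.sum_congr rfl fun ψ _ => ?_
  rw [Cfsg.Agent.Lib.Helper25.classInner_smul_left]

theorem prod_field (χ χ' : IrrCharacter G) : ∃ n : IrrCharacter G → ℤ, (∀ ψ, 0 ≤ n ψ) ∧
    (charDegree (χ : G → ℂ) : ℤ) * (charDegree (χ' : G → ℂ) : ℤ) =
      ∑ ψ : IrrCharacter G, n ψ * (charDegree (ψ : G → ℂ) : ℤ) ∧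
    (χ = χ' → n (oneIrr G) = 1) ∧
    ∑ ψ : IrrCharacter G, n ψ * S.Mz (ψ : G → ℂ) (oneIrr A) (oneIrr B) =
      ∑ l : IrrCharacter A, ∑ φ : IrrCharacter B,
        S.Mz (χ : G → ℂ) l φ * S.Mz (χ' : G → ℂ) l φ ∧
    ∑ ψ : IrrCharacter G, n ψ * ∑ l : IrrCharacter A, S.Mz (ψ : G → ℂ) l (oneIrr B) =
      ∑ φ : IrrCharacter B, (∑ l : IrrCharacter A, S.Mz (χ : G → ℂ) l φ) *
        (∑ l : IrrCharacter A, S.Mz (χ' : G → ℂ) l φ) := by
  classical
  set Ψ : G → ℂ := (χ : G → ℂ) * (fun g => conj ((χ' : G → ℂ) g)) with hΨdef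
  have hΨ : IsCharacter G Ψ :=
    Cfsg.Agent.Lib.Helper3.IsCharacter.mul (irr_isCharacter χ)
      (Cfsg.Agent.Lib.Helper3.IsCharacter.conj (irr_isCharacter χ'))
  obtain ⟨m, hm1, hm2⟩ := Cfsg.Agent.Lib.Helper3.IsCharacter.exists_mult hΨ
  have hΨapp : ∀ g, Ψ g = (χ : G → ℂ) g * conj ((χ' : G → ℂ) g) := fun g => rfl
  have hcχ := irr_isCharacter χ
  have hcχ' := irr_isCharacter χ'
  have hclχ := S.res_isClassFunction (irr_isClassFunction χ)
  have hclχ' := S.res_isClassFunction (irr_isClassFunction χ')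
  refine ⟨fun ψ => (m ψ : ℤ), fun ψ => by positivity, ?_, ?_, ?_, ?_⟩
  · -- degrees
    beta_reduce
    have h1 : Ψ 1 = ∑ ψ : IrrCharacter G, (m ψ : ℂ) * (ψ : G → ℂ) 1 := by
      conv_lhs => rw [hm2]
      rw [Finset.sum_apply]
      rfl
    rw [hΨapp, Cfsg.Agent.Lib.Helper3.IsCharacter.conj_one hcχ', irr_apply_one_eq_charDegree,
      irr_apply_one_eq_charDegree] at h1
    have h2 : (((charDegree (χ : G → ℂ) : ℤ) * (charDegree (χ' : G → ℂ) : ℤ) : ℤ) : ℂ) =
        ((∑ ψ : IrrCharacter G, (m ψ : ℤ) * (charDegree (ψ : G → ℂ) : ℤ) : ℤ) : ℂ) := by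
      push_cast
      rw [h1]
      refine Finset.sum_congr rfl fun ψ _ => ?_
      rw [irr_apply_one_eq_charDegree]
    exact_mod_cast h2
  · -- the trivial character
    intro hχχ'
    have h1 := hm1 (oneIrr G)
    have h2 : classInner Ψ ((oneIrr G : IrrCharacter G) : G → ℂ) =
        classInner (χ : G → ℂ) (χ' : G → ℂ) := by
      rw [Cfsg.Agent.Lib.Helper25.classInner_def, Cfsg.Agent.Lib.Helper25.classInner_def]
      congr 1
      refine Finset.sum_congr rfl fun g _ => ?_
      rw [oneIrr_apply, hΨapp, map_one, mul_one]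
    rw [h2, Cfsg.Agent.Lib.Helper3.classInner_irr χ.2 χ'.2, if_pos (by rw [hχχ'])] at h1
    have : (m (oneIrr G) : ℂ) = ((1 : ℕ) : ℂ) := by rw [← h1]; simp
    have h3 : m (oneIrr G) = 1 := by exact_mod_cast this
    simp [h3]
  · -- the multiplicity of the trivial character of `A × B`
    beta_reduce
    have h1 : mult (S.res Ψ) (oneIrr A) (oneIrr B) =
        classInner (S.res (χ : G → ℂ)) (S.res (χ' : G → ℂ)) := by
      unfold mult
      rw [Cfsg.Agent.Lib.Helper25.classInner_def, Cfsg.Agent.Lib.Helper25.classInner_def]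
      congr 1
      refine Finset.sum_congr rfl fun x _ => ?_
      rw [tens_apply, oneIrr_apply, oneIrr_apply, S.res_apply, S.res_apply, S.res_apply, hΨapp]
      simp
    have h2 : mult (S.res Ψ) (oneIrr A) (oneIrr B) =
        ∑ ψ : IrrCharacter G, (m ψ : ℂ) * mult (S.res (ψ : G → ℂ)) (oneIrr A) (oneIrr B) := by
      conv_lhs => rw [hm2]
      exact S.mult_sum _ _ _
    rw [h1, inner_expand hclχ hclχ'] at h2
    have h3 : ((∑ ψ : IrrCharacter G, (m ψ : ℤ) * S.Mz (ψ : G → ℂ) (oneIrr A) (oneIrr B) : ℤ) : ℂ) =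
        ((∑ l : IrrCharacter A, ∑ φ : IrrCharacter B,
          S.Mz (χ : G → ℂ) l φ * S.Mz (χ' : G → ℂ) l φ : ℤ) : ℂ) := by
      push_cast
      rw [Finset.sum_congr rfl fun ψ _ => by
        rw [(S.Mz_cast (irr_isCharacter ψ) (oneIrr A) (oneIrr B)).1], ← h2]
      refine Finset.sum_congr rfl fun l _ => Finset.sum_congr rfl fun φ _ => ?_
      rw [← (S.Mz_cast hcχ l φ).1, ← (S.Mz_cast hcχ' l φ).1, map_intCast]
    exact_mod_cast h3
  · -- the restriction to `B`
    beta_reduce
    have h1 : ∑ l : IrrCharacter A, mult (S.res Ψ) l (oneIrr B) =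
        classInner (fun b : B => S.res (χ : G → ℂ) (1, b))
          (fun b : B => S.res (χ' : G → ℂ) (1, b)) := by
      rw [sum_mult_eq S.comm (S.res_isClassFunction
        (Cfsg.Agent.Lib.Helper3.IsCharacter.isClassFunction hΨ))]
      rw [Cfsg.Agent.Lib.Helper25.classInner_def, Cfsg.Agent.Lib.Helper25.classInner_def]
      congr 1
      refine Finset.sum_congr rfl fun b _ => ?_
      rw [oneIrr_apply, S.res_apply, S.res_apply, S.res_apply, hΨapp]
      simp
    have h2 : ∑ l : IrrCharacter A, mult (S.res Ψ) l (oneIrr B) =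
        ∑ ψ : IrrCharacter G, (m ψ : ℂ) *
          ∑ l : IrrCharacter A, mult (S.res (ψ : G → ℂ)) l (oneIrr B) := by
      conv_lhs => rw [hm2]
      rw [Finset.sum_congr rfl fun l _ => S.mult_sum _ l (oneIrr B), Finset.sum_comm]
      refine Finset.sum_congr rfl fun ψ _ => ?_
      rw [Finset.mul_sum]
    rw [h1, inner_one_expand S.comm hclχ hclχ'] at h2
    have h3 : ((∑ ψ : IrrCharacter G, (m ψ : ℤ) *
        ∑ l : IrrCharacter A, S.Mz (ψ : G → ℂ) l (oneIrr B) : ℤ) : ℂ) =
        ((∑ φ : IrrCharacter B, (∑ l : IrrCharacter A, S.Mz (χ : G → ℂ) l φ) *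
          (∑ l : IrrCharacter A, S.Mz (χ' : G → ℂ) l φ) : ℤ) : ℂ) := by
      push_cast
      rw [Finset.sum_congr rfl fun ψ _ => by
        rw [Finset.sum_congr rfl fun l _ => (S.Mz_cast (irr_isCharacter ψ) l (oneIrr B)).1], ← h2]
      refine Finset.sum_congr rfl fun φ _ => ?_
      rw [map_sum]
      congr 1
      · refine Finset.sum_congr rfl fun l _ => ?_
        rw [(S.Mz_cast hcχ l φ).1]
      · refine Finset.sum_congr rfl fun l _ => ?_
        rw [← (S.Mz_cast hcχ' l φ).1, map_intCast]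
    exact_mod_cast h3

end Fin

end Setup

end Cfsg.Agent.Lib.Helper81.Leo
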