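import Cfsg.Agent.Lib.Helper81.LeoSetup

/-!
# The TI inequality in the Brauer–Leonard setting
-/

set_option autoImplicit false
set_option linter.unusedSectionVars false
set_option linter.style.haveILetI false

namespace Cfsg.Agent.Lib.Helper81.Leo

open Cfsg
open scoped ComplexConjugate

universe u

section TICount

variable {G : Type u} [Group G] [Fintype G]

open Classical in
/-- Counting with a set `S` of non-identity elements which is "TI with normalizer `N`". -/
theorem ti_count' (N : Subgroup G) (S : Finset G) (F : G → ℝ) (hF0 : ∀ g, 0 ≤ F g)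
    (hFc : ∀ g t : G, F (t * g * t⁻¹) = F g)
    (hone : (1 : G) ∉ S)
    (hTI : ∀ g ∈ S, ∀ t : G, t⁻¹ * g * t ∈ S → t ∈ N) :
    (Fintype.card G : ℝ) * ∑ g ∈ S, F g ≤
      (Nat.card N : ℝ) * ∑ g ∈ Finset.univ.filter (fun g : G => g ≠ 1), F g := by
  have h1 : (Fintype.card G : ℝ) * ∑ g ∈ S, F g = ∑ _t : G, ∑ g ∈ S, F g := by
    rw [Finset.sum_const, Finset.card_univ, nsmul_eq_mul]
  have h2 : ∀ t : G, ∑ g ∈ S, F g = ∑ g' : G, if t⁻¹ * g' * t ∈ S then F g' else 0 := by
    intro t
    rw [← Finset.sum_filter]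
    refine Finset.sum_bij (fun g _ => t * g * t⁻¹) ?_ ?_ ?_ ?_
    · intro g hg
      simp only [Finset.mem_filter, Finset.mem_univ, true_and]
      have : t⁻¹ * (t * g * t⁻¹) * t = g := by group
      rw [this]
      exact hg
    · intro a _ b _ hab
      have hab' : t * (a * t⁻¹) = t * (b * t⁻¹) := by simpa [mul_assoc] using hab
      exact mul_right_cancel (mul_left_cancel hab')
    · intro g' hg'
      simp only [Finset.mem_filter, Finset.mem_univ, true_and] at hg'
      exact ⟨t⁻¹ * g' * t, hg', by group⟩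
    · intro g _
      exact (hFc g t).symm
  have h3 : ∀ g' : G, (Finset.univ.filter fun t : G => t⁻¹ * g' * t ∈ S).card ≤
      if g' ≠ 1 then Nat.card N else 0 := by
    intro g'
    by_cases hg' : g' = 1
    · rw [if_neg (not_not.mpr hg')]
      apply le_of_eq
      rw [Finset.card_eq_zero, Finset.filter_eq_empty_iff]
      intro t _ ht
      apply hone
      rw [hg'] at ht
      simpa using ht
    · rw [if_pos hg']
      by_cases hemp : (Finset.univ.filter fun t : G => t⁻¹ * g' * t ∈ S) = ∅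
      · rw [hemp]
        exact Nat.zero_le _
      · obtain ⟨t₁, ht₁⟩ := Finset.nonempty_iff_ne_empty.mpr hemp
        simp only [Finset.mem_filter, Finset.mem_univ, true_and] at ht₁
        have hcard : Nat.card N = (Finset.univ.filter fun t : G => t ∈ N).card := by
          rw [Nat.card_eq_fintype_card, Fintype.card_subtype]
        rw [hcard]
        refine Finset.card_le_card_of_injOn (fun t => t₁⁻¹ * t) ?_ ?_
        · intro t ht
          simp only [Finset.coe_filter, Finset.mem_univ, true_and, Set.mem_ofPred_eq] at ht ⊢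
          apply hTI _ ht₁
          have : (t₁⁻¹ * t)⁻¹ * (t₁⁻¹ * g' * t₁) * (t₁⁻¹ * t) = t⁻¹ * g' * t := by group
          rw [this]
          exact ht
        · intro a _ b _ hab
          exact mul_left_cancel hab
  rw [h1, Finset.sum_congr rfl fun t _ => h2 t]
  rw [Finset.sum_comm, Finset.mul_sum, Finset.sum_filter]
  refine Finset.sum_le_sum fun g' _ => ?_
  rw [← Finset.sum_filter, Finset.sum_const, nsmul_eq_mul]
  have h4 := h3 g'
  by_cases hg' : g' ≠ 1
  · rw [if_pos hg'] at h4 ⊢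
    have : ((Finset.univ.filter fun t : G => t⁻¹ * g' * t ∈ S).card : ℝ) ≤ (Nat.card N : ℝ) := by
      exact_mod_cast h4
    exact mul_le_mul_of_nonneg_right this (hF0 g')
  · rw [if_neg hg'] at h4 ⊢
    have : (Finset.univ.filter fun t : G => t⁻¹ * g' * t ∈ S).card = 0 := Nat.le_zero.mp h4
    rw [this]
    simp

end TICount

namespace Setup

variable {G A B : Type u} [Group G] [Group A] [Group B] (S : Setup G A B)
  [Fintype G] [Fintype A] [Fintype B]
  [Fintype (IrrCharacter A)] [Fintype (IrrCharacter B)] [Fintype (IrrCharacter G)]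

theorem sum_normSq_irr (ψ : IrrCharacter G) :
    ∑ g : G, Complex.normSq ((ψ : G → ℂ) g) = (Fintype.card G : ℝ) := by
  have h := Cfsg.Agent.Lib.Helper3.classInner_irr ψ.2 ψ.2
  rw [if_pos rfl, Cfsg.Agent.Lib.Helper25.classInner_def] at h
  have h0 : (Nat.card G : ℂ) ≠ 0 := Cfsg.Agent.Lib.Helper25.card_ne_zero_complex
  have h1 : ∑ g : G, (ψ : G → ℂ) g * conj ((ψ : G → ℂ) g) = (Nat.card G : ℂ) := by
    field_simp at h
    exact h
  have h2 : ((∑ g : G, Complex.normSq ((ψ : G → ℂ) g) : ℝ) : ℂ) = ((Fintype.card G : ℝ) : ℂ) := by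
    push_cast
    rw [← Nat.card_eq_fintype_card, ← h1]
    refine Finset.sum_congr rfl fun g _ => ?_
    rw [Complex.mul_conj]
  exact_mod_cast h2

/-- The TI inequality, as a real inequality. -/
theorem ti_real (ψ : IrrCharacter G) [DecidableEq A] :
    ∑ x ∈ Finset.univ.filter (fun x : A × B => x.1 ≠ 1), Complex.normSq (S.res (ψ : G → ℂ) x) <
      (Nat.card S.N : ℝ) := by
  classical
  set D : Finset G := (Finset.univ.filter (fun x : A × B => x.1 ≠ 1)).image S.μ with hD
  have hsum : ∑ g ∈ D, Complex.normSq ((ψ : G → ℂ) g) =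
      ∑ x ∈ Finset.univ.filter (fun x : A × B => x.1 ≠ 1), Complex.normSq (S.res (ψ : G → ℂ) x) := by
    rw [hD, Finset.sum_image]
    · rfl
    · intro x _ y _ hxy
      exact S.μ_inj hxy
  have hone : (1 : G) ∉ D := by
    intro h
    rw [hD, Finset.mem_image] at h
    obtain ⟨x, hx, hx1⟩ := h
    rw [Finset.mem_filter] at hx
    apply hx.2
    have : x = 1 := S.μ_inj (by rw [hx1, map_one])
    rw [this]
    rfl
  have hTI : ∀ g ∈ D, ∀ t : G, t⁻¹ * g * t ∈ D → t ∈ S.N := by
    intro g hg t ht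
    rw [hD, Finset.mem_image] at hg ht
    obtain ⟨x, hx, rfl⟩ := hg
    obtain ⟨x', hx', hx'e⟩ := ht
    rw [Finset.mem_filter] at hx hx'
    exact S.ti x t hx.2 ⟨x', hx'.2, hx'e.symm⟩
  have hcount := ti_count' S.N D (fun g => Complex.normSq ((ψ : G → ℂ) g))
    (fun g => Complex.normSq_nonneg _)
    (fun g t => by
      rw [irr_conj_apply]) hone hTI
  rw [hsum] at hcount
  have htot := sum_normSq_irr ψ
  have hsplit : ∑ g ∈ Finset.univ.filter (fun g : G => g ≠ 1), Complex.normSq ((ψ : G → ℂ) g) =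
      (Fintype.card G : ℝ) - Complex.normSq ((ψ : G → ℂ) 1) := by
    rw [← htot, ← Finset.sum_filter_add_sum_filter_not Finset.univ (fun g : G => g ≠ 1)]
    have : (Finset.univ.filter fun g : G => ¬ g ≠ 1) = {1} := by
      ext g
      simp
    rw [this, Finset.sum_singleton]
    ring
  rw [hsplit] at hcount
  have hpos : 0 < Complex.normSq ((ψ : G → ℂ) 1) :=
    Complex.normSq_pos.mpr (irr_apply_one_ne_zero ψ)
  have hG : (0 : ℝ) < Fintype.card G := by exact_mod_cast Fintype.card_pos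
  have hN : (0 : ℝ) < Nat.card S.N := by exact_mod_cast Nat.card_pos
  by_contra hcon
  push Not at hcon
  have h1 : (Fintype.card G : ℝ) * (Nat.card S.N : ℝ) ≤ (Fintype.card G : ℝ) *
      ∑ x ∈ Finset.univ.filter (fun x : A × B => x.1 ≠ 1), Complex.normSq (S.res (ψ : G → ℂ) x) :=
    mul_le_mul_of_nonneg_left hcon hG.le
  nlinarith

/-- The punctured sum as an integer. -/
theorem punctured_int (ψ : IrrCharacter G) [DecidableEq A] :
    ∑ x ∈ Finset.univ.filter (fun x : A × B => x.1 ≠ 1), Complex.normSq (S.res (ψ : G → ℂ) x) =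
      (((Nat.card A : ℤ) * (Nat.card B : ℤ) * ∑ l : IrrCharacter A, ∑ φ : IrrCharacter B,
          (S.Mz (ψ : G → ℂ) l φ) ^ 2 -
        (Nat.card B : ℤ) * ∑ φ : IrrCharacter B,
          (∑ l : IrrCharacter A, S.Mz (ψ : G → ℂ) l φ) ^ 2 : ℤ) : ℝ) := by
  have hcl := S.res_isClassFunction (irr_isClassFunction ψ)
  have hc := irr_isCharacter ψ
  have h := punctured_sum (S.res (ψ : G → ℂ))
  rw [inner_expand hcl hcl, inner_one_expand S.comm hcl hcl] at h
  have h2 : ((∑ x ∈ Finset.univ.filter (fun x : A × B => x.1 ≠ 1),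
      Complex.normSq (S.res (ψ : G → ℂ) x) : ℝ) : ℂ) =
      (((((Nat.card A : ℤ) * (Nat.card B : ℤ) * ∑ l : IrrCharacter A, ∑ φ : IrrCharacter B,
          (S.Mz (ψ : G → ℂ) l φ) ^ 2 -
        (Nat.card B : ℤ) * ∑ φ : IrrCharacter B,
          (∑ l : IrrCharacter A, S.Mz (ψ : G → ℂ) l φ) ^ 2 : ℤ) : ℝ)) : ℂ) := by
    push_cast
    have h3 : ∑ x ∈ Finset.univ.filter (fun x : A × B => x.1 ≠ 1),
        ((Complex.normSq (S.res (ψ : G → ℂ) x) : ℝ) : ℂ) =
        ∑ x ∈ Finset.univ.filter (fun x : A × B => x.1 ≠ 1),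
          S.res (ψ : G → ℂ) x * conj (S.res (ψ : G → ℂ) x) := by
      refine Finset.sum_congr rfl fun x _ => ?_
      rw [Complex.mul_conj]
    rw [h3, h]
    congr 1
    · congr 1
      refine Finset.sum_congr rfl fun l _ => Finset.sum_congr rfl fun φ _ => ?_
      rw [← (S.Mz_cast hc l φ).1, map_intCast]
      ring
    · congr 1
      refine Finset.sum_congr rfl fun φ _ => ?_
      rw [Finset.sum_congr rfl fun l _ => ((S.Mz_cast hc l φ).1).symm, map_sum,
        Finset.sum_congr rfl fun l _ => map_intCast (starRingEnd ℂ) (S.Mz (ψ : G → ℂ) l φ)]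
      ring
  exact_mod_cast h2

theorem ti_field (ψ : IrrCharacter G) :
    (Nat.card A : ℤ) * ∑ l : IrrCharacter A, ∑ φ : IrrCharacter B, (S.Mz (ψ : G → ℂ) l φ) ^ 2 <
      (Nat.card A : ℤ) * (S.t : ℤ) +
        ∑ φ : IrrCharacter B, (∑ l : IrrCharacter A, S.Mz (ψ : G → ℂ) l φ) ^ 2 := by
  classical
  have h1 := S.ti_real ψ
  rw [S.punctured_int ψ, S.card_N] at h1
  have h2 : (Nat.card A : ℤ) * (Nat.card B : ℤ) * ∑ l : IrrCharacter A, ∑ φ : IrrCharacter B,
      (S.Mz (ψ : G → ℂ) l φ) ^ 2 - (Nat.card B : ℤ) * ∑ φ : IrrCharacter B,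
        (∑ l : IrrCharacter A, S.Mz (ψ : G → ℂ) l φ) ^ 2 <
      ((S.t * (Nat.card A * Nat.card B) : ℕ) : ℤ) := by exact_mod_cast h1
  push_cast at h2
  have hB : (0 : ℤ) < Nat.card B := by exact_mod_cast Nat.card_pos
  by_contra hcon
  push Not at hcon
  nlinarith

end Setup

end Cfsg.Agent.Lib.Helper81.Leo
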