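import Mathlib
import Cfsg.Agent.Lib.Helper81.NseBasic

/-!
# A verified backtracking search for the numbers of elements of each order
-/

set_option autoImplicit false
set_option linter.unusedSectionVars false
set_option linter.unusedVariables false
set_option linter.style.haveILetI false

universe u

namespace Cfsg.Agent.Lib.Helper81.Nse

/-- An assignment: pairs (order, number of elements of that order). -/
abbrev Asg := List (ℕ × ℕ)

/-- The sum of the values at the keys dividing `n`. -/
def sdiv (A : Asg) (n : ℕ) : ℕ := ((A.filter (fun p => decide (p.1 ∣ n))).map Prod.snd).sum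

/-- The value at the key `k` (zero if absent). -/
def val (A : Asg) (k : ℕ) : ℕ := ((A.filter (fun p => decide (p.1 = k))).map Prod.snd).sum

/-- The sum of all values. -/
def total (A : Asg) : ℕ := (A.map Prod.snd).sum

/-- Discard the zero entries. -/
def nz (A : Asg) : Asg := A.filter (fun p => decide (p.2 ≠ 0))

/-- Add an entry if it is nonzero. -/
def push (A : Asg) (k v : ℕ) : Asg := if v = 0 then A else (k, v) :: A

/-- A necessary condition for a nonzero value at `k`: the maximal proper divisors are present. -/
def closedB (P : List ℕ) (A : Asg) (k : ℕ) : Bool :=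
  P.all (fun p => !(decide (p ∣ k)) || decide (val A (k / p) ≠ 0))

/-- A necessary condition for a zero value at `k`: fixed-point-free action. -/
def fpfOk (P : List ℕ) (A : Asg) (k : ℕ) : Bool :=
  P.all (fun p => !(decide (p ∣ k) && decide (Nat.Coprime p (k / p)) && decide (val A p ≠ 0)
    && decide (val A (k / p) ≠ 0)) || decide (p ∣ val A (k / p)))

/-- The local condition at `k` with value `v`. -/
def locOk (P : List ℕ) (A : Asg) (k v : ℕ) : Bool :=
  if v = 0 then fpfOk P A k else (closedB P A k && decide (k ∣ v + sdiv A k))

/-- The global conditions. -/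
def globOk (L : ℕ) (T : List ℕ) (A : Asg) : Bool :=
  decide (total A ∣ L ^ total A) &&
    T.all (fun n => !(decide (n ∣ total A)) || decide (n ∣ sdiv A n))

/-- All prescribed values occur. -/
def realized (vals : List ℕ) (A : Asg) : Bool :=
  vals.all (fun v => decide (v = 0) || A.any (fun p => decide (p.2 = v)))

/-- The search. -/
def go (P : List ℕ) (L : ℕ) (T vals : List ℕ) (concl : Asg → Bool) :
    List (ℕ × List ℕ) → Asg → Bool
  | [], A => !(globOk L T A && realized vals A) || concl A
  | p :: rest, A =>
    p.2.all (fun v => !(locOk P A p.1 v) || go P L T vals concl rest (push A p.1 v))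

/-- Extending an assignment by the values of a function. -/
def ext (m : ℕ → ℕ) : List (ℕ × List ℕ) → Asg → Asg
  | [], A => A
  | p :: rest, A => ext m rest (push A p.1 (m p.1))

/-- The local conditions along the way. -/
def LocAll (P : List ℕ) (m : ℕ → ℕ) : List (ℕ × List ℕ) → Asg → Prop
  | [], _ => True
  | p :: rest, A => locOk P A p.1 (m p.1) = true ∧ LocAll P m rest (push A p.1 (m p.1))

theorem go_sound (P : List ℕ) (L : ℕ) (T vals : List ℕ) (concl : Asg → Bool) (m : ℕ → ℕ) :
    ∀ (Ks : List (ℕ × List ℕ)) (A : Asg), go P L T vals concl Ks A = true →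
      (∀ p ∈ Ks, m p.1 ∈ p.2) → LocAll P m Ks A → globOk L T (ext m Ks A) = true →
      realized vals (ext m Ks A) = true → concl (ext m Ks A) = true := by
  intro Ks
  induction Ks with
  | nil =>
    intro A hgo _ _ hg hr
    simp only [go, ext] at hgo hg hr ⊢
    rw [hg, hr] at hgo
    simpa using hgo
  | cons p rest ih =>
    intro A hgo hmem hloc hg hr
    simp only [go, List.all_eq_true] at hgo
    have h1 := hgo (m p.1) (hmem p (List.mem_cons_self))
    obtain ⟨hl1, hl2⟩ := hloc
    rw [hl1] at h1
    simp only [Bool.not_true, Bool.false_or] at h1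
    exact ih _ h1 (fun q hq => hmem q (List.mem_cons_of_mem _ hq)) hl2 hg hr

theorem push_eq (A : Asg) (k v : ℕ) : push A k v = nz [(k, v)] ++ A := by
  unfold push nz
  by_cases h : v = 0
  · simp [h]
  · simp [h]

theorem nz_append (A B : Asg) : nz (A ++ B) = nz A ++ nz B := by
  unfold nz
  rw [List.filter_append]

theorem nz_reverse (A : Asg) : nz A.reverse = (nz A).reverse := by
  unfold nz
  rw [List.filter_reverse]

theorem ext_eq (m : ℕ → ℕ) : ∀ (Ks : List (ℕ × List ℕ)) (A : Asg),
    ext m Ks A = (nz (Ks.map (fun p => (p.1, m p.1)))).reverse ++ A := by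
  intro Ks
  induction Ks with
  | nil => intro A; rfl
  | cons p rest ih =>
    intro A
    rw [ext, ih, push_eq, List.map_cons]
    have : ((p.1, m p.1) :: List.map (fun p => (p.1, m p.1)) rest) =
        [(p.1, m p.1)] ++ List.map (fun p => (p.1, m p.1)) rest := rfl
    rw [this, nz_append, List.reverse_append, List.append_assoc]
    congr 1
    unfold nz
    by_cases h : m p.1 = 0
    · simp [h]
    · simp [h]

theorem locAll_of (P : List ℕ) (m : ℕ → ℕ) : ∀ (Ks : List (ℕ × List ℕ)) (A : Asg),
    (∀ Ks₁ p Ks₂, Ks = Ks₁ ++ p :: Ks₂ →
      locOk P ((nz (Ks₁.map (fun p => (p.1, m p.1)))).reverse ++ A) p.1 (m p.1) = true) →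
    LocAll P m Ks A := by
  intro Ks
  induction Ks with
  | nil => intro A _; trivial
  | cons q rest ih =>
    intro A h
    refine ⟨?_, ?_⟩
    · have := h [] q rest rfl
      simpa [nz] using this
    · apply ih
      intro R₁ p R₂ hR
      have := h (q :: R₁) p R₂ (by rw [hR]; rfl)
      rw [List.map_cons] at this
      have h2 : ((q.1, m q.1) :: List.map (fun p => (p.1, m p.1)) R₁) =
        [(q.1, m q.1)] ++ List.map (fun p => (p.1, m p.1)) R₁ := rfl
      rw [h2, nz_append, List.reverse_append, List.append_assoc] at this
      rw [push_eq]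
      have h3 : (nz [(q.1, m q.1)]).reverse = nz [(q.1, m q.1)] := by
        unfold nz
        by_cases h : m q.1 = 0
        · simp [h]
        · simp [h]
      rw [h3] at this
      exact this

/-- The assignment attached to a function on a list of keys. -/
def asgOf (m : ℕ → ℕ) (D : List ℕ) : Asg := D.map (fun d => (d, m d))

theorem sdiv_nz (A : Asg) (n : ℕ) : sdiv (nz A) n = sdiv A n := by
  unfold sdiv nz
  induction A with
  | nil => rfl
  | cons a A ih =>
    by_cases h1 : a.2 = 0
    · by_cases h2 : a.1 ∣ n
      · simp only [List.filter_cons, h1, h2, ne_eq, not_true_eq_false, decide_false,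
          Bool.false_eq_true, ↓reduceIte, decide_true, List.map_cons, List.sum_cons, zero_add]
        simpa using ih
      · simp only [List.filter_cons, h1, h2, ne_eq, not_true_eq_false, decide_false,
          Bool.false_eq_true, ↓reduceIte]
        simpa using ih
    · by_cases h2 : a.1 ∣ n
      · simp only [List.filter_cons, h1, h2, ne_eq, not_false_eq_true, decide_true, ↓reduceIte,
          List.map_cons, List.sum_cons]
        simpa using ih
      · simp only [List.filter_cons, h1, h2, ne_eq, not_false_eq_true, decide_true, ↓reduceIte,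
          decide_false, Bool.false_eq_true]
        simpa using ih

theorem val_nz (A : Asg) (k : ℕ) : val (nz A) k = val A k := by
  unfold val nz
  induction A with
  | nil => rfl
  | cons a A ih =>
    by_cases h1 : a.2 = 0
    · by_cases h2 : a.1 = k
      · simp only [List.filter_cons, h1, h2, ne_eq, not_true_eq_false, decide_false,
          Bool.false_eq_true, ↓reduceIte, decide_true, List.map_cons, List.sum_cons, zero_add]
        simpa using ih
      · simp only [List.filter_cons, h1, h2, ne_eq, not_true_eq_false, decide_false,
          Bool.false_eq_true, ↓reduceIte]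
        simpa using ih
    · by_cases h2 : a.1 = k
      · simp only [List.filter_cons, h1, h2, ne_eq, not_false_eq_true, decide_true, ↓reduceIte,
          List.map_cons, List.sum_cons]
        simpa using ih
      · simp only [List.filter_cons, h1, h2, ne_eq, not_false_eq_true, decide_true, ↓reduceIte,
          decide_false, Bool.false_eq_true]
        simpa using ih

theorem total_nz (A : Asg) : total (nz A) = total A := by
  unfold total nz
  induction A with
  | nil => rfl
  | cons a A ih =>
    by_cases h1 : a.2 = 0
    · simp only [List.filter_cons, h1, ne_eq, not_true_eq_false, decide_false,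
        Bool.false_eq_true, ↓reduceIte, List.map_cons, List.sum_cons, zero_add]
      simpa using ih
    · simp only [List.filter_cons, h1, ne_eq, not_false_eq_true, decide_true, ↓reduceIte,
        List.map_cons, List.sum_cons]
      simpa using ih

theorem sdiv_asgOf (m : ℕ → ℕ) (D : List ℕ) (n : ℕ) :
    sdiv (asgOf m D) n = ((D.filter (fun d => decide (d ∣ n))).map m).sum := by
  unfold sdiv asgOf
  rw [List.filter_map, List.map_map]
  rfl

theorem val_asgOf (m : ℕ → ℕ) (D : List ℕ) (k : ℕ) :
    val (asgOf m D) k = ((D.filter (fun d => decide (d = k))).map m).sum := by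
  unfold val asgOf
  rw [List.filter_map, List.map_map]
  rfl

theorem val_asgOf_eq (m : ℕ → ℕ) (D : List ℕ) (hD : D.Nodup) (k : ℕ) :
    val (asgOf m D) k = if k ∈ D then m k else 0 := by
  rw [val_asgOf]
  induction D with
  | nil => simp
  | cons d D ih =>
    rw [List.nodup_cons] at hD
    by_cases h : d = k
    · subst h
      have hnot : List.filter (fun x => decide (x = d)) D = [] := by
        rw [List.filter_eq_nil_iff]
        intro x hx
        simp only [decide_eq_true_eq]
        rintro rfl
        exact hD.1 hx
      simp [hnot]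
    · have hk : k ≠ d := fun h' => h h'.symm
      simp only [List.filter_cons, h, decide_false, Bool.false_eq_true, ↓reduceIte,
        List.mem_cons, hk, false_or]
      exact ih hD.2

theorem sdiv_reverse (A : Asg) (n : ℕ) : sdiv A.reverse n = sdiv A n := by
  unfold sdiv
  rw [List.filter_reverse, List.map_reverse, List.sum_reverse]

theorem val_reverse (A : Asg) (n : ℕ) : val A.reverse n = val A n := by
  unfold val
  rw [List.filter_reverse, List.map_reverse, List.sum_reverse]

theorem total_reverse (A : Asg) : total A.reverse = total A := by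
  unfold total
  rw [List.map_reverse, List.sum_reverse]

theorem total_asgOf (m : ℕ → ℕ) (D : List ℕ) : total (asgOf m D) = (D.map m).sum := by
  unfold total asgOf
  rw [List.map_map]
  rfl

theorem realized_reverse (vals : List ℕ) (A : Asg) : realized vals A.reverse = realized vals A := by
  unfold realized
  congr 1
  funext v
  rw [List.any_reverse]

theorem realized_nz_asgOf (vals : List ℕ) (m : ℕ → ℕ) (D : List ℕ)
    (h : ∀ v ∈ vals, ∃ d ∈ D, m d = v) : realized vals (nz (asgOf m D)) = true := by
  unfold realized
  rw [List.all_eq_true]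
  intro v hv
  obtain ⟨d, hd, hdv⟩ := h v hv
  by_cases hv0 : v = 0
  · simp [hv0]
  · rw [Bool.or_eq_true, List.any_eq_true]
    right
    refine ⟨(d, m d), ?_, by simp [hdv]⟩
    unfold nz asgOf
    rw [List.mem_filter]
    refine ⟨List.mem_map.mpr ⟨d, hd, rfl⟩, ?_⟩
    simp only [ne_eq, decide_eq_true_eq]
    rw [hdv]
    exact hv0

/-- List sums over a strictly increasing list of divisors. -/
theorem list_sum_filter_eq (m : ℕ → ℕ) (D : List ℕ) (hD : D.Nodup) (P : ℕ → Prop)
    [DecidablePred P] (s : Finset ℕ) (hs : ∀ d, d ∈ s ↔ d ∈ D ∧ P d) :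
    ((D.filter (fun d => decide (P d))).map m).sum = ∑ d ∈ s, m d := by
  rw [← List.sum_toFinset m (hD.filter _)]
  apply Finset.sum_congr _ (fun _ _ => rfl)
  ext d
  rw [List.mem_toFinset, List.mem_filter, hs]
  simp

/-- A computable totient for numbers whose prime factors lie in `P`. -/
def phi (P : List ℕ) (n : ℕ) : ℕ :=
  (n / (P.filter (fun p => decide (p ∣ n))).prod) *
    ((P.filter (fun p => decide (p ∣ n))).map (fun p => p - 1)).prod

theorem totient_eq_phi (P : List ℕ) (hP : P.Nodup) (hprime : ∀ p ∈ P, p.Prime) (n : ℕ)
    (hn : n ≠ 0) (hsm : ∀ q, q.Prime → q ∣ n → q ∈ P) : Nat.totient n = phi P n := by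
  rw [Nat.totient_eq_div_primeFactors_mul]
  have hpf : n.primeFactors = (P.filter (fun p => decide (p ∣ n))).toFinset := by
    ext q
    rw [Nat.mem_primeFactors, List.mem_toFinset, List.mem_filter]
    simp only [decide_eq_true_eq]
    constructor
    · rintro ⟨h1, h2, _⟩
      exact ⟨hsm q h1 h2, h2⟩
    · rintro ⟨h1, h2⟩
      exact ⟨hprime q h1, h2, hn⟩
  rw [hpf, List.prod_toFinset _ (hP.filter _), List.prod_toFinset _ (hP.filter _)]
  unfold phi
  simp

/-- The candidate values at `k`. -/
def cand (P vals : List ℕ) (m2 k : ℕ) : List ℕ :=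
  if k = 1 then [1] else if k = 2 then [m2]
  else 0 :: vals.filter (fun v => decide (phi P k ∣ v))

/-- The search data. -/
def mkKs (P vals : List ℕ) (m2 : ℕ) (D : List ℕ) : List (ℕ × List ℕ) :=
  D.map (fun k => (k, cand P vals m2 k))

theorem mkKs_fst (P vals : List ℕ) (m2 : ℕ) (D : List ℕ) :
    (mkKs P vals m2 D).map Prod.fst = D := by
  unfold mkKs
  rw [List.map_map]
  have : (Prod.fst ∘ fun k => (k, cand P vals m2 k)) = id := rfl
  rw [this, List.map_id]

end Cfsg.Agent.Lib.Helper81.Nse
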