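import Mathlib
import Cfsg.Agent.Lib.Helper81.NseSearch
import Cfsg.Agent.Lib.Helper81.NseFpf

/-!
# Applying the search to the numbers of elements of each order of a finite group
-/

set_option autoImplicit false
set_option linter.unusedSectionVars false
set_option linter.unusedVariables false
set_option linter.style.haveILetI false

universe u

namespace Cfsg.Agent.Lib.Helper81.Nse

open Finset

variable {G : Type u} [Group G] [Finite G]

/-- The data of a list of divisors. -/
structure DivList (L : ℕ) (D : List ℕ) : Prop where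
  ne : L ≠ 0
  mem : ∀ d, d ∈ D ↔ d ∣ L
  sorted : D.Pairwise (· < ·)

theorem DivList.nodup {L : ℕ} {D : List ℕ} (h : DivList L D) : D.Nodup :=
  h.sorted.imp (fun hab => Nat.ne_of_lt hab)

theorem divList_of_eq (L : ℕ) (D : List ℕ) (hL : L ≠ 0)
    (hD : D = (Nat.divisors L).sort (· ≤ ·)) : DivList L D := by
  refine ⟨hL, ?_, ?_⟩
  · intro d
    rw [hD, Finset.mem_sort, Nat.mem_divisors]
    exact ⟨fun h => h.1, fun h => ⟨h, hL⟩⟩
  · rw [hD]
    exact (Finset.sortedLT_sort _).pairwise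

theorem total_eq_card {L : ℕ} {D : List ℕ} (hD : DivList L D)
    (H2 : ∀ k, cnt G k ≠ 0 → k ∣ L) : total (asgOf (cnt G) D) = Nat.card G := by
  rw [total_asgOf]
  have h1 : (D.map (cnt G)).sum = ∑ d ∈ Nat.divisors L, cnt G d := by
    rw [← List.sum_toFinset _ hD.nodup]
    apply Finset.sum_congr _ (fun _ _ => rfl)
    ext d
    rw [List.mem_toFinset, hD.mem, Nat.mem_divisors]
    exact ⟨fun h => ⟨h, hD.ne⟩, fun h => h.1⟩
  rw [h1, card_eq_sum (G := G)]
  rw [← Finset.sum_filter_of_ne (s := Nat.divisors L) (p := fun d => d ∣ Nat.card G)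
    (fun d _ hd => dvd_card_of_cnt_ne_zero hd)]
  rw [← Finset.sum_filter_of_ne (s := Nat.divisors (Nat.card G)) (p := fun d => d ∣ L)
    (fun d _ hd => H2 d hd)]
  apply Finset.sum_congr _ (fun _ _ => rfl)
  ext d
  simp only [Finset.mem_filter, Nat.mem_divisors]
  have hc : Nat.card G ≠ 0 := Nat.card_pos.ne'
  have := hD.ne
  tauto

theorem sdiv_full {L : ℕ} {D : List ℕ} (hD : DivList L D)
    (H2 : ∀ k, cnt G k ≠ 0 → k ∣ L) {n : ℕ} (hn : n ≠ 0) :
    sdiv (asgOf (cnt G) D) n = ∑ d ∈ Nat.divisors n, cnt G d := by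
  rw [sdiv_asgOf]
  rw [list_sum_filter_eq (cnt G) D hD.nodup (fun d => d ∣ n)
    ((Nat.divisors n).filter (fun d => d ∣ L))]
  · exact Finset.sum_filter_of_ne (fun d _ hd => H2 d hd)
  · intro d
    rw [Finset.mem_filter, Nat.mem_divisors, hD.mem]
    tauto

theorem sdiv_prefix {L : ℕ} {D D₁ D₂ : List ℕ} {k : ℕ} (hD : DivList L D)
    (hsplit : D = D₁ ++ k :: D₂) :
    sdiv (asgOf (cnt G) D₁) k = ∑ d ∈ Nat.properDivisors k, cnt G d := by
  rw [sdiv_asgOf]
  have hsorted := hD.sorted
  rw [hsplit, List.pairwise_append] at hsorted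
  obtain ⟨hs1, hs2, hs3⟩ := hsorted
  have hk : k ∣ L := (hD.mem k).mp (by rw [hsplit]; simp)
  have hnd : D₁.Nodup := hs1.imp (fun hab => Nat.ne_of_lt hab)
  apply list_sum_filter_eq (cnt G) D₁ hnd (fun d => d ∣ k)
  intro d
  rw [Nat.mem_properDivisors]
  constructor
  · rintro ⟨hdk, hlt⟩
    refine ⟨?_, hdk⟩
    have hdD : d ∈ D := (hD.mem d).mpr (hdk.trans hk)
    rw [hsplit, List.mem_append, List.mem_cons] at hdD
    rcases hdD with h | rfl | h
    · exact h
    · omega
    · have := (List.pairwise_cons.mp hs2).1 d h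
      omega
  · rintro ⟨hd1, hdk⟩
    exact ⟨hdk, hs3 d hd1 k (List.mem_cons_self)⟩


theorem mem_prefix {L : ℕ} {D D₁ D₂ : List ℕ} {k : ℕ} (hD : DivList L D)
    (hsplit : D = D₁ ++ k :: D₂) {d : ℕ} (hdk : d ∣ k) (hne : d ≠ k) : d ∈ D₁ := by
  have hsorted := hD.sorted
  rw [hsplit, List.pairwise_append] at hsorted
  obtain ⟨hs1, hs2, hs3⟩ := hsorted
  have hk : k ∣ L := (hD.mem k).mp (by rw [hsplit]; simp)
  have hk0 : k ≠ 0 := by
    rintro rfl
    rw [zero_dvd_iff] at hk
    exact hD.ne hk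
  have hlt : d < k := lt_of_le_of_ne (Nat.le_of_dvd (Nat.pos_of_ne_zero hk0) hdk) hne
  have hdD : d ∈ D := (hD.mem d).mpr (hdk.trans hk)
  rw [hsplit, List.mem_append, List.mem_cons] at hdD
  rcases hdD with h | rfl | h
  · exact h
  · omega
  · have := (List.pairwise_cons.mp hs2).1 d h
    omega

theorem prefix_nodup {L : ℕ} {D D₁ D₂ : List ℕ} {k : ℕ} (hD : DivList L D)
    (hsplit : D = D₁ ++ k :: D₂) : D₁.Nodup := by
  have hsorted := hD.sorted
  rw [hsplit, List.pairwise_append] at hsorted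
  exact hsorted.1.imp (fun hab => Nat.ne_of_lt hab)

/-- The main bridge. -/
theorem search_apply {L : ℕ} {D : List ℕ} (hD : DivList L D) (P : List ℕ)
    (hPprime : ∀ p ∈ P, p.Prime)
    (H2 : ∀ k, cnt G k ≠ 0 → k ∣ L) (Ks : List (ℕ × List ℕ)) (hKs : Ks.map Prod.fst = D)
    (hcand : ∀ p ∈ Ks, cnt G p.1 ∈ p.2) (T vals : List ℕ)
    (hvals : ∀ v ∈ vals, ∃ k, cnt G k ≠ 0 ∧ cnt G k = v) (concl : Asg → Bool)
    (hgo : go P L T vals concl Ks [] = true) :
    concl (nz (asgOf (cnt G) D)).reverse = true := by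
  have hext : ext (cnt G) Ks [] = (nz (asgOf (cnt G) D)).reverse := by
    rw [ext_eq, List.append_nil, ← hKs]
    unfold asgOf
    rw [List.map_map]
    rfl
  have h := go_sound P L T vals concl (cnt G) Ks [] hgo hcand ?_ ?_ ?_
  · rw [hext] at h
    exact h
  · -- local conditions
    apply locAll_of
    intro Ks₁ p Ks₂ hsplit
    rw [List.append_nil]
    have hsplitD : D = Ks₁.map Prod.fst ++ p.1 :: Ks₂.map Prod.fst := by
      rw [← hKs, hsplit, List.map_append, List.map_cons]
    have hA : Ks₁.map (fun p => (p.1, cnt G p.1)) = asgOf (cnt G) (Ks₁.map Prod.fst) := by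
      unfold asgOf
      rw [List.map_map]
      rfl
    rw [hA]
    have hnd := prefix_nodup hD hsplitD
    have hval : ∀ x, val (nz (asgOf (cnt G) (Ks₁.map Prod.fst))).reverse x =
        if x ∈ Ks₁.map Prod.fst then cnt G x else 0 := by
      intro x
      rw [val_reverse, val_nz, val_asgOf_eq _ _ hnd]
    have hval' : ∀ x, val (nz (asgOf (cnt G) (Ks₁.map Prod.fst))).reverse x ≠ 0 →
        val (nz (asgOf (cnt G) (Ks₁.map Prod.fst))).reverse x = cnt G x := by
      intro x hx
      rw [hval] at hx ⊢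
      by_cases hxm : x ∈ Ks₁.map Prod.fst
      · rw [if_pos hxm]
      · rw [if_neg hxm] at hx
        exact absurd rfl hx
    have hk : p.1 ∣ L := (hD.mem p.1).mp (by rw [hsplitD]; simp)
    have hk0 : p.1 ≠ 0 := by
      intro h00
      rw [h00, zero_dvd_iff] at hk
      exact hD.ne hk
    unfold locOk
    by_cases h0 : cnt G p.1 = 0
    · rw [if_pos h0]
      unfold fpfOk
      rw [List.all_eq_true]
      intro q hq
      have hqp := hPprime q hq
      by_cases hc : (q ∣ p.1 ∧ Nat.Coprime q (p.1 / q)) ∧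
          val (nz (asgOf (cnt G) (Ks₁.map Prod.fst))).reverse q ≠ 0 ∧
          val (nz (asgOf (cnt G) (Ks₁.map Prod.fst))).reverse (p.1 / q) ≠ 0
      · obtain ⟨⟨hc1, hc2⟩, hc3, hc4⟩ := hc
        have e3 := hval' _ hc3
        have e4 := hval' _ hc4
        have hq0 : cnt G q ≠ 0 := by rw [← e3]; exact hc3
        have hmul : q * (p.1 / q) = p.1 := Nat.mul_div_cancel' hc1
        have := fpf_dvd (G := G) hqp hc2 hq0 (by rw [hmul]; exact h0)
        rw [e4]
        simp [this]
      · have : (decide (q ∣ p.1) && decide (Nat.Coprime q (p.1 / q)) &&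
            decide (val (nz (asgOf (cnt G) (Ks₁.map Prod.fst))).reverse q ≠ 0) &&
            decide (val (nz (asgOf (cnt G) (Ks₁.map Prod.fst))).reverse (p.1 / q) ≠ 0)) = false := by
          rw [Bool.eq_false_iff]
          intro hb
          apply hc
          simp only [Bool.and_eq_true, decide_eq_true_eq] at hb
          exact ⟨⟨hb.1.1.1, hb.1.1.2⟩, hb.1.2, hb.2⟩
        rw [this]
        rfl
    · rw [if_neg h0]
      have hcl : closedB P (nz (asgOf (cnt G) (Ks₁.map Prod.fst))).reverse p.1 = true := by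
        unfold closedB
        rw [List.all_eq_true]
        intro q hq
        have hqp := hPprime q hq
        by_cases hqk : q ∣ p.1
        · have hdk : p.1 / q ∣ p.1 := Nat.div_dvd_of_dvd hqk
          have hne : p.1 / q ≠ p.1 := by
            have := Nat.div_lt_self (Nat.pos_of_ne_zero hk0) hqp.one_lt
            omega
          have hmem := mem_prefix hD hsplitD hdk hne
          rw [hval, if_pos hmem]
          have := cnt_ne_zero_of_dvd h0 hdk
          simp [this]
        · simp [hqk]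
      have hdv : p.1 ∣ cnt G p.1 + sdiv (nz (asgOf (cnt G) (Ks₁.map Prod.fst))).reverse p.1 := by
        rw [sdiv_reverse, sdiv_nz, sdiv_prefix hD hsplitD, add_comm]
        have hfr := frob (G := G) (dvd_card_of_cnt_ne_zero h0)
        rw [← Nat.cons_self_properDivisors hk0, Finset.sum_cons, add_comm] at hfr
        exact hfr
      simp [hcl, hdv]
  · -- global conditions
    rw [hext]
    unfold globOk
    have htot : total (nz (asgOf (cnt G) D)).reverse = Nat.card G := by
      rw [total_reverse, total_nz, total_eq_card hD H2]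
    rw [htot]
    have hc0 : Nat.card G ≠ 0 := Nat.card_pos.ne'
    have hsm : Nat.card G ∣ L ^ Nat.card G := by
      apply dvd_pow_self_of_primes hc0
      intro q hq hqd
      exact H2 q (cnt_prime_ne_zero hq hqd)
    rw [Bool.and_eq_true]
    refine ⟨by simp [hsm], ?_⟩
    rw [List.all_eq_true]
    intro n _
    rw [sdiv_reverse, sdiv_nz]
    by_cases hn : n ∣ Nat.card G
    · have hn0 : n ≠ 0 := by
        rintro rfl
        rw [zero_dvd_iff] at hn
        exact hc0 hn
      rw [sdiv_full hD H2 hn0]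
      simp [hn, frob hn]
    · simp [hn]
  · -- realized
    rw [hext, realized_reverse]
    apply realized_nz_asgOf
    intro v hv
    obtain ⟨k, hk0, hkv⟩ := hvals v hv
    exact ⟨k, (hD.mem k).mpr (H2 k hk0), hkv⟩

/-- The standard candidates contain the actual values. -/
theorem mkKs_cand {L : ℕ} {D : List ℕ} (hD : DivList L D) (P : List ℕ) (hPnd : P.Nodup)
    (hPprime : ∀ p ∈ P, p.Prime) (hPL : ∀ q, q.Prime → q ∣ L → q ∈ P) (vals : List ℕ)
    (hmem : ∀ k, cnt G k ≠ 0 → cnt G k ∈ vals) (m2 : ℕ) (hm2 : cnt G 2 = m2) :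
    ∀ p ∈ mkKs P vals m2 D, cnt G p.1 ∈ p.2 := by
  intro p hp
  unfold mkKs at hp
  rw [List.mem_map] at hp
  obtain ⟨k, hkD, rfl⟩ := hp
  have hkL : k ∣ L := (hD.mem k).mp hkD
  have hk0 : k ≠ 0 := by
    rintro rfl
    rw [zero_dvd_iff] at hkL
    exact hD.ne hkL
  change cnt G k ∈ cand P vals m2 k
  unfold cand
  by_cases h1 : k = 1
  · rw [if_pos h1, h1, cnt_one]
    simp
  · rw [if_neg h1]
    by_cases h2 : k = 2
    · rw [if_pos h2, h2, hm2]
      simp
    · rw [if_neg h2]
      by_cases h0 : cnt G k = 0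
      · rw [h0]
        simp
      · rw [List.mem_cons]
        right
        rw [List.mem_filter]
        refine ⟨hmem k h0, ?_⟩
        rw [decide_eq_true_eq, ← totient_eq_phi P hPnd hPprime k hk0
          (fun q hq hqk => hPL q hq (hqk.trans hkL))]
        exact totient_dvd_cnt k

/-- The search with the standard candidates and conclusion. -/
theorem search_spec {L : ℕ} {D : List ℕ} (hD : DivList L D) (P : List ℕ) (hPnd : P.Nodup)
    (hPprime : ∀ p ∈ P, p.Prime) (hPL : ∀ q, q.Prime → q ∣ L → q ∈ P)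
    (H2 : ∀ k, cnt G k ≠ 0 → k ∣ L) (T vals : List ℕ)
    (hmem : ∀ k, cnt G k ≠ 0 → cnt G k ∈ vals)
    (hvals : ∀ v ∈ vals, ∃ k, cnt G k ≠ 0 ∧ cnt G k = v) (m2 : ℕ) (hm2 : cnt G 2 = m2)
    (N : ℕ) (S : List ℕ)
    (hgo : go P L T vals (fun A => decide (total A = N) && A.all (fun a => decide (a.1 ∈ S)))
      (mkKs P vals m2 D) [] = true) :
    Nat.card G = N ∧ ∀ k, cnt G k ≠ 0 → k ∈ S := by
  have hcand := mkKs_cand hD P hPnd hPprime hPL vals hmem m2 hm2
  have h := search_apply hD P hPprime H2 (mkKs P vals m2 D) (mkKs_fst P vals m2 D) hcand T vals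
    hvals _ hgo
  rw [Bool.and_eq_true, decide_eq_true_eq, List.all_eq_true] at h
  obtain ⟨h1, h2⟩ := h
  rw [total_reverse, total_nz, total_eq_card hD H2] at h1
  refine ⟨h1, ?_⟩
  intro k hk
  have hkD : k ∈ D := (hD.mem k).mpr (H2 k hk)
  have hin : (k, cnt G k) ∈ (nz (asgOf (cnt G) D)).reverse := by
    rw [List.mem_reverse]
    unfold nz asgOf
    rw [List.mem_filter]
    refine ⟨List.mem_map.mpr ⟨k, hkD, rfl⟩, ?_⟩
    simpa using hk
  have := h2 _ hin
  simpa using this

/-- The search with the standard candidates and a single target. -/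
theorem search_target {L : ℕ} {D : List ℕ} (hD : DivList L D) (P : List ℕ) (hPnd : P.Nodup)
    (hPprime : ∀ p ∈ P, p.Prime) (hPL : ∀ q, q.Prime → q ∣ L → q ∈ P)
    (H2 : ∀ k, cnt G k ≠ 0 → k ∣ L) (T vals : List ℕ)
    (hmem : ∀ k, cnt G k ≠ 0 → cnt G k ∈ vals)
    (hvals : ∀ v ∈ vals, ∃ k, cnt G k ≠ 0 ∧ cnt G k = v) (m2 : ℕ) (hm2 : cnt G 2 = m2)
    (target : Asg)
    (hgo : go P L T vals (fun A => decide (A = target)) (mkKs P vals m2 D) [] = true) :
    Nat.card G = total target ∧ ∀ k, cnt G k ≠ 0 → (k, cnt G k) ∈ target := by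
  have hcand := mkKs_cand hD P hPnd hPprime hPL vals hmem m2 hm2
  have h := search_apply hD P hPprime H2 (mkKs P vals m2 D) (mkKs_fst P vals m2 D) hcand T vals
    hvals _ hgo
  rw [decide_eq_true_eq] at h
  refine ⟨?_, ?_⟩
  · rw [← h, total_reverse, total_nz, total_eq_card hD H2]
  · intro k hk
    have hkD : k ∈ D := (hD.mem k).mpr (H2 k hk)
    rw [← h, List.mem_reverse]
    unfold nz asgOf
    rw [List.mem_filter]
    refine ⟨List.mem_map.mpr ⟨k, hkD, rfl⟩, ?_⟩
    simpa using hk

/-- A divisor list from computational checks. -/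
theorem divList_of_checks (L : ℕ) (D : List ℕ) (hL : L ≠ 0)
    (h1 : (List.range (L + 1)).all (fun d => !(decide (d ∣ L)) || decide (d ∈ D)) = true)
    (h2 : D.all (fun d => decide (d ∣ L)) = true) (h3 : D.Pairwise (· < ·)) : DivList L D := by
  refine ⟨hL, ?_, h3⟩
  intro d
  constructor
  · intro hd
    rw [List.all_eq_true] at h2
    simpa using h2 d hd
  · intro hd
    rw [List.all_eq_true] at h1
    have := h1 d (List.mem_range.mpr
      (Nat.lt_succ_of_le (Nat.le_of_dvd (Nat.pos_of_ne_zero hL) hd)))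
    simpa [hd] using this

end Cfsg.Agent.Lib.Helper81.Nse
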