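import Mathlib
import Cfsg.Agent.Lib.Helper81.NseBridge

/-!
# The numbers of elements of each order: the case of `A4`
-/

set_option autoImplicit false
set_option linter.unusedSectionVars false
set_option linter.unusedVariables false
set_option linter.style.haveILetI false

universe u

namespace Cfsg.Agent.Lib.Helper81.Nse

/-- The divisors of `48`. -/
def dA4 : List ℕ := [1, 2, 3, 4, 6, 8, 12, 16, 24, 48]

/-- The test moduli. -/
def tA4 : List ℕ := [1, 2, 3, 4, 6, 8, 9, 12, 16, 24, 27, 32, 48, 64, 81]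

theorem divList_A4 : DivList 48 dA4 := by
  apply divList_of_checks 48 dA4 (by norm_num)
  · decide +kernel
  · decide +kernel
  · decide +kernel

theorem go_A4 : go [2, 3] 48 tA4 [1, 3, 8]
    (fun A => decide (A = [(3, 8), (2, 3), (1, 1)]))
    (mkKs [2, 3] [1, 3, 8] 3 dA4) [] = true := by
  decide +kernel

theorem prime_A4 {G : Type u} [Group G] [Finite G]
    (hmem : ∀ k, cnt G k ≠ 0 → cnt G k ∈ [1, 3, 8]) {q : ℕ} (hq : q.Prime)
    (hdvd : q ∣ Nat.card G) : q = 2 ∨ q = 3 := by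
  obtain ⟨h0, h1, h2⟩ := prime_cond (G := G) hq hdvd
  have hv := hmem q h0
  generalize cnt G q = v at h1 h2 hv
  simp only [List.mem_cons, List.not_mem_nil, or_false] at hv
  rcases hv with rfl | rfl | rfl
  · have := (Nat.mem_primeFactorsList (by norm_num)).mpr ⟨hq, h2⟩
    simp at this
    omega
  · have := (Nat.mem_primeFactorsList (by norm_num)).mpr ⟨hq, h2⟩
    simp at this
    omega
  · have := (Nat.mem_primeFactorsList (by norm_num)).mpr ⟨hq, h2⟩
    simp at this
    omega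

theorem nse_A4 {G : Type u} [Group G] [Finite G]
    (hmem : ∀ k, cnt G k ≠ 0 → cnt G k ∈ [1, 3, 8])
    (hvals : ∀ v ∈ [1, 3, 8], ∃ k, cnt G k ≠ 0 ∧ cnt G k = v) :
    Nat.card G = 12 ∧ cnt G 2 = 3 ∧ cnt G 3 = 8 ∧ ∀ k, cnt G k ≠ 0 → k ∈ [1, 2, 3] := by
  have hm2 : cnt G 2 = 3 := cnt_two_of_odd (hvals 3 (by simp)) (by decide) (by decide)
  have H2 : ∀ k, cnt G k ≠ 0 → k ∣ 48 := by
    apply spectrum_dvd
    intro p e hp hpe
    have hpd : p ∣ Nat.card G :=
      (dvd_pow_self p (Nat.succ_ne_zero e)).trans (dvd_card_of_cnt_ne_zero hpe)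
    rcases prime_A4 hmem hp hpd with rfl | rfl
    · exact (pp_dvd (E := 4) hp _ hmem (by decide) _ hpe).trans (by norm_num)
    · exact (pp_dvd (E := 1) hp _ hmem (by decide) _ hpe).trans (by norm_num)
  have hmain : Nat.card G = total [(3, 8), (2, 3), (1, 1)] ∧
      ∀ k, cnt G k ≠ 0 → (k, cnt G k) ∈ ([(3, 8), (2, 3), (1, 1)] : Asg) := by
    refine search_target divList_A4 [2, 3] (by decide) ?_ ?_ H2 tA4 [1, 3, 8] hmem hvals 3 hm2
      [(3, 8), (2, 3), (1, 1)] go_A4
    · intro p hp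
      simp only [List.mem_cons, List.not_mem_nil, or_false] at hp
      rcases hp with rfl | rfl <;> norm_num
    · intro q hq hqd
      have := (Nat.mem_primeFactorsList (by norm_num)).mpr ⟨hq, hqd⟩
      simp at this
      simp only [List.mem_cons, List.not_mem_nil, or_false]
      omega
  obtain ⟨hc, hin⟩ := hmain
  have hval : ∀ v ∈ [1, 3, 8], ∀ k0, (∀ k, (k, v) ∈ ([(3, 8), (2, 3), (1, 1)] : Asg) → k = k0) → cnt G k0 = v := by
    intro v hv k0 hk0
    obtain ⟨k, hk1, hk2⟩ := hvals v hv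
    have h1 := hin k hk1
    rw [hk2] at h1
    rw [← hk0 k h1]
    exact hk2
  refine ⟨hc, hval 3 (by simp) 2 (by simp), hval 8 (by simp) 3 (by simp), ?_⟩
  intro k hk
  have h1 := hin k hk
  simp only [List.mem_cons, Prod.mk.injEq, List.not_mem_nil, or_false] at h1 ⊢
  tauto

end Cfsg.Agent.Lib.Helper81.Nse
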