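import Mathlib
import Cfsg.Agent.Lib.Helper81.NseBridge

/-!
# The numbers of elements of each order: the case of `A6`
-/

set_option autoImplicit false
set_option linter.unusedSectionVars false
set_option linter.unusedVariables false
set_option linter.style.haveILetI false

universe u

namespace Cfsg.Agent.Lib.Helper81.Nse

/-- The divisors of `151200`. -/
def dA6 : List ℕ := [1, 2, 3, 4, 5, 6, 7, 8, 9, 10, 12, 14, 15, 16, 18, 20, 21, 24, 25, 27, 28, 30, 32, 35, 36, 40, 42, 45, 48, 50, 54, 56, 60, 63, 70, 72, 75, 80, 84, 90, 96, 100, 105, 108, 112, 120, 126, 135, 140, 144, 150, 160, 168, 175, 180, 189, 200, 210, 216, 224, 225, 240, 252, 270, 280, 288, 300, 315, 336, 350, 360, 378, 400, 420, 432, 450, 480, 504, 525, 540, 560, 600, 630, 672, 675, 700, 720, 756, 800, 840, 864, 900, 945, 1008, 1050, 1080, 1120, 1200, 1260, 1350, 1400, 1440, 1512, 1575, 1680, 1800, 1890, 2016, 2100, 2160, 2400, 2520, 2700, 2800, 3024, 3150, 3360, 3600, 3780, 4200, 4320, 4725, 5040,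 5400, 5600, 6048, 6300, 7200, 7560, 8400, 9450, 10080, 10800, 12600, 15120, 16800, 18900, 21600, 25200, 30240, 37800, 50400, 75600, 151200]

/-- The test moduli. -/
def tA6 : List ℕ := [1, 2, 3, 4, 5, 6, 7, 8, 9, 10, 12, 14, 15, 16, 18, 20, 21, 24, 25, 27, 28, 30, 32, 35, 36, 40, 42, 45, 48, 49, 50, 54, 56, 60, 63, 64, 70, 72, 75, 80, 81, 84, 90, 96, 100, 105, 108, 112, 120, 125, 126, 128, 135, 140, 144, 150, 160, 168, 175, 180, 189, 200, 210, 216, 224, 225, 240, 243, 252, 256, 270, 280, 288, 300, 315, 336, 343, 350, 360, 378, 400, 420, 432, 450, 480, 504, 512, 525, 540, 560, 600, 625, 630, 672, 675, 700, 720, 729, 756, 800, 840, 864, 900, 945, 1008, 1024, 1050, 1080, 1120, 1200, 1260, 1350, 1400, 1440, 1512, 1575, 1680, 1800, 1890, 2016, 2100, 2160, 2400, 2520, 2700, 2800, 3024, 3150, 3360, 3600, 3780, 4200, 4320, 4725, 5040, 5400, 5600, 6048, 6300, 7200, 7560, 8400, 9450, 10080, 10800, 12600, 15120, 16800, 18900, 21600, 25200, 30240, 37800, 50400, 75600, 151200]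

theorem divList_A6 : DivList 151200 dA6 := by
  apply divList_of_checks 151200 dA6 (by norm_num)
  · decide +kernel
  · decide +kernel
  · decide +kernel

theorem go_A6 : go [2, 3, 5, 7] 151200 tA6 [1, 45, 80, 90, 144]
    (fun A => decide (A = [(5, 144), (4, 90), (3, 80), (2, 45), (1, 1)]))
    (mkKs [2, 3, 5, 7] [1, 45, 80, 90, 144] 45 dA6) [] = true := by
  decide +kernel

theorem prime_A6 {G : Type u} [Group G] [Finite G]
    (hmem : ∀ k, cnt G k ≠ 0 → cnt G k ∈ [1, 45, 80, 90, 144]) {q : ℕ} (hq : q.Prime)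
    (hdvd : q ∣ Nat.card G) : q = 2 ∨ q = 3 ∨ q = 5 ∨ q = 7 := by
  obtain ⟨h0, h1, h2⟩ := prime_cond (G := G) hq hdvd
  have hv := hmem q h0
  generalize cnt G q = v at h1 h2 hv
  simp only [List.mem_cons, List.not_mem_nil, or_false] at hv
  rcases hv with rfl | rfl | rfl | rfl | rfl
  · have := (Nat.mem_primeFactorsList (by norm_num)).mpr ⟨hq, h2⟩
    simp at this
    omega
  · have := (Nat.mem_primeFactorsList (by norm_num)).mpr ⟨hq, h2⟩
    simp at this
    rcases this with rfl | rfl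
    · omega
    · exfalso
      revert h1
      decide
  · have := (Nat.mem_primeFactorsList (by norm_num)).mpr ⟨hq, h2⟩
    simp at this
    omega
  · have := (Nat.mem_primeFactorsList (by norm_num)).mpr ⟨hq, h2⟩
    simp at this
    rcases this with rfl | rfl
    · omega
    · exfalso
      revert h1
      decide
  · have := (Nat.mem_primeFactorsList (by norm_num)).mpr ⟨hq, h2⟩
    simp at this
    rcases this with rfl | rfl
    · omega
    · exfalso
      revert h1
      decide

theorem nse_A6 {G : Type u} [Group G] [Finite G]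
    (hmem : ∀ k, cnt G k ≠ 0 → cnt G k ∈ [1, 45, 80, 90, 144])
    (hvals : ∀ v ∈ [1, 45, 80, 90, 144], ∃ k, cnt G k ≠ 0 ∧ cnt G k = v) :
    Nat.card G = 360 ∧ cnt G 2 = 45 ∧ cnt G 3 = 80 ∧ cnt G 4 = 90 ∧ cnt G 5 = 144 ∧ ∀ k, cnt G k ≠ 0 → k ∈ [1, 2, 3, 4, 5] := by
  have hm2 : cnt G 2 = 45 := cnt_two_of_odd (hvals 45 (by simp)) (by decide) (by decide)
  have H2 : ∀ k, cnt G k ≠ 0 → k ∣ 151200 := by
    apply spectrum_dvd
    intro p e hp hpe
    have hpd : p ∣ Nat.card G :=
      (dvd_pow_self p (Nat.succ_ne_zero e)).trans (dvd_card_of_cnt_ne_zero hpe)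
    rcases prime_A6 hmem hp hpd with rfl | rfl | rfl | rfl
    · exact (pp_dvd (E := 5) hp _ hmem (by decide) _ hpe).trans (by norm_num)
    · exact (pp_dvd (E := 3) hp _ hmem (by decide) _ hpe).trans (by norm_num)
    · exact (pp_dvd (E := 2) hp _ hmem (by decide) _ hpe).trans (by norm_num)
    · exact (pp_dvd (E := 1) hp _ hmem (by decide) _ hpe).trans (by norm_num)
  have hmain : Nat.card G = total [(5, 144), (4, 90), (3, 80), (2, 45), (1, 1)] ∧
      ∀ k, cnt G k ≠ 0 → (k, cnt G k) ∈ ([(5, 144), (4, 90), (3, 80), (2, 45), (1, 1)] : Asg) := by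
    refine search_target divList_A6 [2, 3, 5, 7] (by decide) ?_ ?_ H2 tA6 [1, 45, 80, 90, 144] hmem hvals 45 hm2
      [(5, 144), (4, 90), (3, 80), (2, 45), (1, 1)] go_A6
    · intro p hp
      simp only [List.mem_cons, List.not_mem_nil, or_false] at hp
      rcases hp with rfl | rfl | rfl | rfl <;> norm_num
    · intro q hq hqd
      have := (Nat.mem_primeFactorsList (by norm_num)).mpr ⟨hq, hqd⟩
      simp at this
      simp only [List.mem_cons, List.not_mem_nil, or_false]
      omega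
  obtain ⟨hc, hin⟩ := hmain
  have hval : ∀ v ∈ [1, 45, 80, 90, 144], ∀ k0, (∀ k, (k, v) ∈ ([(5, 144), (4, 90), (3, 80), (2, 45), (1, 1)] : Asg) → k = k0) → cnt G k0 = v := by
    intro v hv k0 hk0
    obtain ⟨k, hk1, hk2⟩ := hvals v hv
    have h1 := hin k hk1
    rw [hk2] at h1
    rw [← hk0 k h1]
    exact hk2
  refine ⟨hc, hval 45 (by simp) 2 (by simp), hval 80 (by simp) 3 (by simp), hval 90 (by simp) 4 (by simp), hval 144 (by simp) 5 (by simp), ?_⟩
  intro k hk
  have h1 := hin k hk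
  simp only [List.mem_cons, Prod.mk.injEq, List.not_mem_nil, or_false] at h1 ⊢
  tauto

end Cfsg.Agent.Lib.Helper81.Nse
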