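import Mathlib
import Cfsg.Agent.Lib.Helper81.NseBasic

/-!
# The numbers of elements of each order in the alternating groups of degree 4, 5, 6
-/

set_option autoImplicit false
set_option linter.unusedSectionVars false
set_option linter.unusedVariables false
set_option linter.style.haveILetI false

namespace Cfsg.Agent.Lib.Helper81.Nse

open Equiv Equiv.Perm

/-- Transfer of a count from the alternating group to the permutations. -/
theorem alt_cnt_eq (n k : ℕ) (P : Perm (Fin n) → Prop) [DecidablePred P]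
    (hP : ∀ g : Perm (Fin n), orderOf g = k ↔ P g) :
    cnt (alternatingGroup (Fin n)) k =
      (Finset.univ.filter (fun g : Perm (Fin n) => sign g = 1 ∧ P g)).card := by
  classical
  unfold cnt
  rw [← Fintype.card_coe, ← Nat.card_eq_fintype_card]
  apply Nat.card_congr
  refine ⟨fun g => ⟨g.1.1, Finset.mem_filter.mpr ⟨Finset.mem_univ _,
      mem_alternatingGroup.mp g.1.2, (hP _).mp (by rw [Subgroup.orderOf_coe]; exact g.2)⟩⟩,
    fun x => ⟨⟨x.1, mem_alternatingGroup.mpr (Finset.mem_filter.mp x.2).2.1⟩, by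
      rw [← Subgroup.orderOf_coe]; exact (hP _).mpr (Finset.mem_filter.mp x.2).2.2⟩, ?_, ?_⟩
  · intro g; rfl
  · intro x; rfl

theorem orderOf_two_iff {G : Type*} [Group G] (g : G) : orderOf g = 2 ↔ g ^ 2 = 1 ∧ g ≠ 1 := by
  haveI : Fact (Nat.Prime 2) := ⟨Nat.prime_two⟩
  exact orderOf_eq_prime_iff

theorem orderOf_three_iff {G : Type*} [Group G] (g : G) : orderOf g = 3 ↔ g ^ 3 = 1 ∧ g ≠ 1 := by
  haveI : Fact (Nat.Prime 3) := ⟨Nat.prime_three⟩
  exact orderOf_eq_prime_iff

theorem orderOf_five_iff {G : Type*} [Group G] (g : G) : orderOf g = 5 ↔ g ^ 5 = 1 ∧ g ≠ 1 := by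
  haveI : Fact (Nat.Prime 5) := ⟨Nat.prime_five⟩
  exact orderOf_eq_prime_iff

theorem orderOf_four_iff {G : Type*} [Group G] (g : G) :
    orderOf g = 4 ↔ g ^ 4 = 1 ∧ g ^ 2 ≠ 1 := by
  constructor
  · intro h
    refine ⟨by rw [← h]; exact pow_orderOf_eq_one g, ?_⟩
    intro h2
    have := orderOf_dvd_of_pow_eq_one h2
    rw [h] at this
    omega
  · rintro ⟨h4, h2⟩
    have := orderOf_eq_prime_pow (x := g) (p := 2) (n := 1) (by simpa using h2) (by simpa using h4)
    simpa using this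

theorem orderOf_mem_of_pow {G : Type*} [Group G] (g : G)
    (h : g ^ 2 = 1 ∨ g ^ 3 = 1 ∨ g ^ 4 = 1 ∨ g ^ 5 = 1) :
    orderOf g = 1 ∨ orderOf g = 2 ∨ orderOf g = 3 ∨ orderOf g = 4 ∨ orderOf g = 5 := by
  have key : ∀ n : ℕ, n ∣ 2 ∨ n ∣ 3 ∨ n ∣ 4 ∨ n ∣ 5 → n = 1 ∨ n = 2 ∨ n = 3 ∨ n = 4 ∨ n = 5 := by
    intro n hn
    have hle : n ≤ 5 := by
      rcases hn with h | h | h | h <;> exact le_trans (Nat.le_of_dvd (by norm_num) h) (by norm_num)
    have hpos : 0 < n := by
      rcases hn with h | h | h | h <;> exact Nat.pos_of_dvd_of_pos h (by norm_num)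
    interval_cases n <;> simp_all
  apply key
  rcases h with h | h | h | h
  · exact Or.inl (orderOf_dvd_of_pow_eq_one h)
  · exact Or.inr (Or.inl (orderOf_dvd_of_pow_eq_one h))
  · exact Or.inr (Or.inr (Or.inl (orderOf_dvd_of_pow_eq_one h)))
  · exact Or.inr (Or.inr (Or.inr (orderOf_dvd_of_pow_eq_one h)))

/-! ### Degree 4 -/

theorem a4_pow : ∀ g : Perm (Fin 4), sign g = 1 → g ^ 2 = 1 ∨ g ^ 3 = 1 := by
  decide +kernel

theorem a4_c2 : (Finset.univ.filter
    (fun g : Perm (Fin 4) => sign g = 1 ∧ (g ^ 2 = 1 ∧ g ≠ 1))).card = 3 := by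
  decide +kernel

theorem a4_c3 : (Finset.univ.filter
    (fun g : Perm (Fin 4) => sign g = 1 ∧ (g ^ 3 = 1 ∧ g ≠ 1))).card = 8 := by
  decide +kernel

theorem cnt_a4_two : cnt (alternatingGroup (Fin 4)) 2 = 3 := by
  rw [alt_cnt_eq 4 2 _ (fun g => orderOf_two_iff g)]
  exact a4_c2

theorem cnt_a4_three : cnt (alternatingGroup (Fin 4)) 3 = 8 := by
  rw [alt_cnt_eq 4 3 _ (fun g => orderOf_three_iff g)]
  exact a4_c3

theorem spec_a4 : Set.range (orderOf : alternatingGroup (Fin 4) → ℕ) = {1, 2, 3} := by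
  apply Set.Subset.antisymm
  · rintro n ⟨g, rfl⟩
    rw [← Subgroup.orderOf_coe]
    have h := a4_pow g.1 (mem_alternatingGroup.mp g.2)
    have := orderOf_mem_of_pow g.1 (by tauto)
    simp only [Set.mem_insert_iff, Set.mem_singleton_iff]
    rcases h with h | h
    · have := orderOf_dvd_of_pow_eq_one h
      have hle := Nat.le_of_dvd (by norm_num) this
      have hpos := orderOf_pos g.1
      omega
    · have := orderOf_dvd_of_pow_eq_one h
      have hle := Nat.le_of_dvd (by norm_num) this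
      have hpos := orderOf_pos g.1
      have : orderOf g.1 ≠ 2 := by
        intro h2
        rw [h2] at this
        omega
      omega
  · intro n hn
    simp only [Set.mem_insert_iff, Set.mem_singleton_iff] at hn
    rcases hn with rfl | rfl | rfl
    · exact ⟨1, orderOf_one⟩
    · exact (cnt_ne_zero_iff 2).mp (by rw [cnt_a4_two]; norm_num)
    · exact (cnt_ne_zero_iff 3).mp (by rw [cnt_a4_three]; norm_num)

theorem nse_alt4 : ((fun m : ℕ => Nat.card {g : alternatingGroup (Fin 4) // orderOf g = m}) ''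
    Set.range (orderOf : alternatingGroup (Fin 4) → ℕ)) = {1, 3, 8} := by
  rw [spec_a4]
  simp only [Set.image_insert_eq, Set.image_singleton]
  change ({cnt (alternatingGroup (Fin 4)) 1, cnt (alternatingGroup (Fin 4)) 2,
    cnt (alternatingGroup (Fin 4)) 3} : Set ℕ) = _
  rw [cnt_one, cnt_a4_two, cnt_a4_three]

/-! ### Degree 5 -/

theorem a5_pow : ∀ g : Perm (Fin 5), sign g = 1 → g ^ 2 = 1 ∨ g ^ 3 = 1 ∨ g ^ 5 = 1 := by
  decide +kernel

theorem a5_c2 : (Finset.univ.filter
    (fun g : Perm (Fin 5) => sign g = 1 ∧ (g ^ 2 = 1 ∧ g ≠ 1))).card = 15 := by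
  decide +kernel

theorem a5_c3 : (Finset.univ.filter
    (fun g : Perm (Fin 5) => sign g = 1 ∧ (g ^ 3 = 1 ∧ g ≠ 1))).card = 20 := by
  decide +kernel

theorem a5_c5 : (Finset.univ.filter
    (fun g : Perm (Fin 5) => sign g = 1 ∧ (g ^ 5 = 1 ∧ g ≠ 1))).card = 24 := by
  decide +kernel

theorem cnt_a5_two : cnt (alternatingGroup (Fin 5)) 2 = 15 := by
  rw [alt_cnt_eq 5 2 _ (fun g => orderOf_two_iff g)]
  exact a5_c2

theorem cnt_a5_three : cnt (alternatingGroup (Fin 5)) 3 = 20 := by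
  rw [alt_cnt_eq 5 3 _ (fun g => orderOf_three_iff g)]
  exact a5_c3

theorem cnt_a5_five : cnt (alternatingGroup (Fin 5)) 5 = 24 := by
  rw [alt_cnt_eq 5 5 _ (fun g => orderOf_five_iff g)]
  exact a5_c5

theorem spec_a5 : Set.range (orderOf : alternatingGroup (Fin 5) → ℕ) = {1, 2, 3, 5} := by
  apply Set.Subset.antisymm
  · rintro n ⟨g, rfl⟩
    rw [← Subgroup.orderOf_coe]
    have h := a5_pow g.1 (mem_alternatingGroup.mp g.2)
    simp only [Set.mem_insert_iff, Set.mem_singleton_iff]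
    have hpos := orderOf_pos g.1
    rcases h with h | h | h
    · have := orderOf_dvd_of_pow_eq_one h
      have hle := Nat.le_of_dvd (by norm_num) this
      omega
    · have := orderOf_dvd_of_pow_eq_one h
      have hle := Nat.le_of_dvd (by norm_num) this
      have : orderOf g.1 ≠ 2 := by
        intro h2
        rw [h2] at this
        omega
      omega
    · have := orderOf_dvd_of_pow_eq_one h
      have hle := Nat.le_of_dvd (by norm_num) this
      have h2 : orderOf g.1 ≠ 2 := by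
        intro h2
        rw [h2] at this
        omega
      have h3 : orderOf g.1 ≠ 3 := by
        intro h2
        rw [h2] at this
        omega
      have h4 : orderOf g.1 ≠ 4 := by
        intro h2
        rw [h2] at this
        omega
      omega
  · intro n hn
    simp only [Set.mem_insert_iff, Set.mem_singleton_iff] at hn
    rcases hn with rfl | rfl | rfl | rfl
    · exact ⟨1, orderOf_one⟩
    · exact (cnt_ne_zero_iff 2).mp (by rw [cnt_a5_two]; norm_num)
    · exact (cnt_ne_zero_iff 3).mp (by rw [cnt_a5_three]; norm_num)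
    · exact (cnt_ne_zero_iff 5).mp (by rw [cnt_a5_five]; norm_num)

theorem nse_alt5 : ((fun m : ℕ => Nat.card {g : alternatingGroup (Fin 5) // orderOf g = m}) ''
    Set.range (orderOf : alternatingGroup (Fin 5) → ℕ)) = {1, 15, 20, 24} := by
  rw [spec_a5]
  simp only [Set.image_insert_eq, Set.image_singleton]
  change ({cnt (alternatingGroup (Fin 5)) 1, cnt (alternatingGroup (Fin 5)) 2,
    cnt (alternatingGroup (Fin 5)) 3, cnt (alternatingGroup (Fin 5)) 5} : Set ℕ) = _
  rw [cnt_one, cnt_a5_two, cnt_a5_three, cnt_a5_five]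

/-! ### Degree 6 -/

theorem a6_pow : ∀ g : Perm (Fin 6), sign g = 1 →
    g ^ 2 = 1 ∨ g ^ 3 = 1 ∨ g ^ 4 = 1 ∨ g ^ 5 = 1 := by
  decide +kernel

theorem a6_c2 : (Finset.univ.filter
    (fun g : Perm (Fin 6) => sign g = 1 ∧ (g ^ 2 = 1 ∧ g ≠ 1))).card = 45 := by
  decide +kernel

theorem a6_c3 : (Finset.univ.filter
    (fun g : Perm (Fin 6) => sign g = 1 ∧ (g ^ 3 = 1 ∧ g ≠ 1))).card = 80 := by
  decide +kernel

theorem a6_c4 : (Finset.univ.filter
    (fun g : Perm (Fin 6) => sign g = 1 ∧ (g ^ 4 = 1 ∧ g ^ 2 ≠ 1))).card = 90 := by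
  decide +kernel

theorem a6_c5 : (Finset.univ.filter
    (fun g : Perm (Fin 6) => sign g = 1 ∧ (g ^ 5 = 1 ∧ g ≠ 1))).card = 144 := by
  decide +kernel

theorem cnt_a6_two : cnt (alternatingGroup (Fin 6)) 2 = 45 := by
  rw [alt_cnt_eq 6 2 _ (fun g => orderOf_two_iff g)]
  exact a6_c2

theorem cnt_a6_three : cnt (alternatingGroup (Fin 6)) 3 = 80 := by
  rw [alt_cnt_eq 6 3 _ (fun g => orderOf_three_iff g)]
  exact a6_c3

theorem cnt_a6_four : cnt (alternatingGroup (Fin 6)) 4 = 90 := by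
  rw [alt_cnt_eq 6 4 _ (fun g => orderOf_four_iff g)]
  exact a6_c4

theorem cnt_a6_five : cnt (alternatingGroup (Fin 6)) 5 = 144 := by
  rw [alt_cnt_eq 6 5 _ (fun g => orderOf_five_iff g)]
  exact a6_c5

theorem spec_a6 : Set.range (orderOf : alternatingGroup (Fin 6) → ℕ) = {1, 2, 3, 4, 5} := by
  apply Set.Subset.antisymm
  · rintro n ⟨g, rfl⟩
    rw [← Subgroup.orderOf_coe]
    have h := orderOf_mem_of_pow g.1 (a6_pow g.1 (mem_alternatingGroup.mp g.2))
    simp only [Set.mem_insert_iff, Set.mem_singleton_iff]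
    exact h
  · intro n hn
    simp only [Set.mem_insert_iff, Set.mem_singleton_iff] at hn
    rcases hn with rfl | rfl | rfl | rfl | rfl
    · exact ⟨1, orderOf_one⟩
    · exact (cnt_ne_zero_iff 2).mp (by rw [cnt_a6_two]; norm_num)
    · exact (cnt_ne_zero_iff 3).mp (by rw [cnt_a6_three]; norm_num)
    · exact (cnt_ne_zero_iff 4).mp (by rw [cnt_a6_four]; norm_num)
    · exact (cnt_ne_zero_iff 5).mp (by rw [cnt_a6_five]; norm_num)

theorem nse_alt6 : ((fun m : ℕ => Nat.card {g : alternatingGroup (Fin 6) // orderOf g = m}) ''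
    Set.range (orderOf : alternatingGroup (Fin 6) → ℕ)) = {1, 45, 80, 90, 144} := by
  rw [spec_a6]
  simp only [Set.image_insert_eq, Set.image_singleton]
  change ({cnt (alternatingGroup (Fin 6)) 1, cnt (alternatingGroup (Fin 6)) 2,
    cnt (alternatingGroup (Fin 6)) 3, cnt (alternatingGroup (Fin 6)) 4,
    cnt (alternatingGroup (Fin 6)) 5} : Set ℕ) = _
  rw [cnt_one, cnt_a6_two, cnt_a6_three, cnt_a6_four, cnt_a6_five]

end Cfsg.Agent.Lib.Helper81.Nse
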