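import Mathlib
import Cfsg.Agent.Lib.Helper81.NseNormal
import Cfsg.Agent.Lib.Helper5.Order60
import Cfsg.Agent.S0228
import Cfsg.Agent.S0497

/-!
# Recognising `A₄`, `A₅`, `A₆` from the order and the numbers of elements of each order
-/

set_option autoImplicit false
set_option linter.unusedSectionVars false
set_option linter.unusedVariables false
set_option linter.style.haveILetI false

universe u

namespace Cfsg.Agent.Lib.Helper81.Nse

variable {G : Type u} [Group G] [Finite G]

theorem iso_A4 (hcard : Nat.card G = 12) (hspec : ∀ k, cnt G k ≠ 0 → k ∈ [1, 2, 3]) :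
    Nonempty (G ≃* alternatingGroup (Fin 4)) := by
  apply Cfsg.Agent.S0228.result hcard
  intro z hz hzc
  have h3 : cnt G 3 ≠ 0 := cnt_prime_ne_zero Nat.prime_three (by rw [hcard]; norm_num)
  obtain ⟨x, hx⟩ := (cnt_ne_zero_iff 3).mp h3
  have hcomm : Commute z x := (Subgroup.mem_center_iff.mp hzc x).symm
  have hord := hcomm.orderOf_mul_eq_mul_orderOf_of_coprime (by rw [hz, hx]; norm_num)
  rw [hz, hx] at hord
  have := hspec 6 ((cnt_ne_zero_iff 6).mpr ⟨z * x, hord⟩)
  simp at this

theorem simple_A5 (hcard : Nat.card G = 60) (h3 : cnt G 3 = 20) (h5 : cnt G 5 = 24)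
    (hspec : ∀ k, cnt G k ≠ 0 → k ∈ [1, 2, 3, 5]) : IsSimpleGroup G := by
  haveI : Nontrivial G := Finite.one_lt_card_iff_nontrivial.mp (by rw [hcard]; norm_num)
  refine ⟨fun N hN => ?_⟩
  by_contra hcon
  push Not at hcon
  obtain ⟨hbot, htop⟩ := hcon
  have hd : Nat.card N ∣ 60 := by rw [← hcard]; exact Subgroup.card_subgroup_dvd_card N
  have hd1 : Nat.card N ≠ 1 := fun h => hbot (Subgroup.eq_bot_of_card_eq N h)
  have hd60 : Nat.card N ≠ 60 := fun h => htop (Subgroup.eq_top_of_card_eq N (by rw [h, hcard]))
  have hidx : N.index * Nat.card N = 60 := by rw [Subgroup.index_mul_card, hcard]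
  have hle : Nat.card N ≤ 60 := Nat.le_of_dvd (by norm_num) hd
  have hpos : 0 < Nat.card N := Nat.card_pos
  have hin : ∀ S : Finset ℕ, (∀ k ∈ S, Nat.Coprime k N.index) → ∑ k ∈ S, cnt G k ≤ Nat.card N := by
    intro S hS
    apply sum_cnt_le_card
    intro g hg
    exact mem_of_coprime_index N (hS _ hg)
  generalize hdd : Nat.card N = d at *
  generalize hii : N.index = i at *
  by_cases h5d : 5 ∣ d
  · have hcop5 : Nat.Coprime 5 i := by
      rw [Nat.Prime.coprime_iff_not_dvd Nat.prime_five]
      intro h
      have h25 : 5 * 5 ∣ i * d := Nat.mul_dvd_mul h h5d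
      rw [hidx] at h25
      omega
    have h1 := hin {1, 5} (by
      intro k hk
      simp only [Finset.mem_insert, Finset.mem_singleton] at hk
      rcases hk with rfl | rfl
      · exact Nat.coprime_one_left _
      · exact hcop5)
    rw [Finset.sum_pair (by norm_num), cnt_one, h5] at h1
    have hd30 : d = 30 := by
      obtain ⟨b, rfl⟩ := h5d
      have hb : b ≤ 12 := by omega
      interval_cases b <;> omega
    subst hd30
    have hi2 : i = 2 := by omega
    subst hi2
    have h2 := hin {1, 3, 5} (by
      intro k hk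
      simp only [Finset.mem_insert, Finset.mem_singleton] at hk
      rcases hk with rfl | rfl | rfl <;> norm_num)
    rw [Finset.sum_insert (by simp), Finset.sum_pair (by norm_num), cnt_one, h3, h5] at h2
    omega
  · have hmod : d % 5 = 1 := by
      rw [← hdd]
      apply card_normal_mod N Nat.prime_five (by rw [h5]; norm_num) (by rw [hdd]; exact h5d)
      intro k hk1 hk0
      by_contra hne
      have h1 := hspec k hk0
      have h2 := hspec (5 * k) hne
      simp only [List.mem_cons, List.not_mem_nil, or_false] at h1 h2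
      omega
    have hd6 : d = 6 := by
      interval_cases d <;> omega
    subst hd6
    have hi10 : i = 10 := by omega
    subst hi10
    have h2 := hin {1, 3} (by
      intro k hk
      simp only [Finset.mem_insert, Finset.mem_singleton] at hk
      rcases hk with rfl | rfl <;> norm_num)
    rw [Finset.sum_pair (by norm_num), cnt_one, h3] at h2
    omega

theorem iso_A5 (hcard : Nat.card G = 60) (h3 : cnt G 3 = 20) (h5 : cnt G 5 = 24)
    (hspec : ∀ k, cnt G k ≠ 0 → k ∈ [1, 2, 3, 5]) :
    Nonempty (G ≃* alternatingGroup (Fin 5)) := by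
  haveI := simple_A5 hcard h3 h5 hspec
  exact Cfsg.Agent.Lib.Helper5.mulEquiv_alternatingGroup_five_of_card_eq_sixty hcard

theorem simple_A6 (hcard : Nat.card G = 360) (h3 : cnt G 3 = 80) (h5 : cnt G 5 = 144)
    (hspec : ∀ k, cnt G k ≠ 0 → k ∈ [1, 2, 3, 4, 5]) : IsSimpleGroup G := by
  haveI : Nontrivial G := Finite.one_lt_card_iff_nontrivial.mp (by rw [hcard]; norm_num)
  refine ⟨fun N hN => ?_⟩
  by_contra hcon
  push Not at hcon
  obtain ⟨hbot, htop⟩ := hcon
  have hd : Nat.card N ∣ 360 := by rw [← hcard]; exact Subgroup.card_subgroup_dvd_card N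
  have hd1 : Nat.card N ≠ 1 := fun h => hbot (Subgroup.eq_bot_of_card_eq N h)
  have hd60 : Nat.card N ≠ 360 :=
    fun h => htop (Subgroup.eq_top_of_card_eq N (by rw [h, hcard]))
  have hidx : N.index * Nat.card N = 360 := by rw [Subgroup.index_mul_card, hcard]
  have hle : Nat.card N ≤ 360 := Nat.le_of_dvd (by norm_num) hd
  have hpos : 0 < Nat.card N := Nat.card_pos
  have hin : ∀ S : Finset ℕ, (∀ k ∈ S, Nat.Coprime k N.index) → ∑ k ∈ S, cnt G k ≤ Nat.card N := by
    intro S hS
    apply sum_cnt_le_card
    intro g hg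
    exact mem_of_coprime_index N (hS _ hg)
  have h50 : cnt G 5 ≠ 0 := by rw [h5]; norm_num
  have hno : ∀ k, k ≠ 1 → cnt G k ≠ 0 → cnt G (5 * k) = 0 := by
    intro k hk1 hk0
    by_contra hne
    have h1 := hspec k hk0
    have h2 := hspec (5 * k) hne
    simp only [List.mem_cons, List.not_mem_nil, or_false] at h1 h2
    omega
  by_cases h5d : 5 ∣ Nat.card N
  · generalize hdd : Nat.card N = d at *
    generalize hii : N.index = i at *
    have hcop5 : Nat.Coprime 5 i := by
      rw [Nat.Prime.coprime_iff_not_dvd Nat.prime_five]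
      intro h
      have h25 : 5 * 5 ∣ i * d := Nat.mul_dvd_mul h h5d
      rw [hidx] at h25
      omega
    have h1 := hin {1, 5} (by
      intro k hk
      simp only [Finset.mem_insert, Finset.mem_singleton] at hk
      rcases hk with rfl | rfl
      · exact Nat.coprime_one_left _
      · exact hcop5)
    rw [Finset.sum_pair (by norm_num), cnt_one, h5] at h1
    have hd180 : d = 180 := by
      obtain ⟨b, rfl⟩ := h5d
      have hb : b ≤ 72 := by omega
      have hb2 : 29 ≤ b := by omega
      interval_cases b <;> omega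
    subst hd180
    have hi2 : i = 2 := by omega
    subst hi2
    have h2 := hin {1, 3, 5} (by
      intro k hk
      simp only [Finset.mem_insert, Finset.mem_singleton] at hk
      rcases hk with rfl | rfl | rfl <;> norm_num)
    rw [Finset.sum_insert (by simp), Finset.sum_pair (by norm_num), cnt_one, h3, h5] at h2
    omega
  · have hmod : Nat.card N % 5 = 1 := card_normal_mod N Nat.prime_five h50 h5d hno
    have hd72 : Nat.card N ∣ 72 := by
      have hc : Nat.Coprime (Nat.card N) 5 :=
        ((Nat.Prime.coprime_iff_not_dvd Nat.prime_five).mpr h5d).symm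
      exact hc.dvd_of_dvd_mul_right (by rw [show 72 * 5 = 360 from rfl]; exact hd)
    have hle72 : Nat.card N ≤ 72 := Nat.le_of_dvd (by norm_num) hd72
    have hcases : Nat.card N = 6 ∨ Nat.card N = 36 := by
      generalize Nat.card N = d at *
      interval_cases d <;> omega
    rcases hcases with h6 | h36
    · -- order 6
      have ha0 : cnt N 2 ≠ 0 := cnt_prime_ne_zero Nat.prime_two (by rw [h6]; norm_num)
      have hb0 : cnt N 3 ≠ 0 := cnt_prime_ne_zero Nat.prime_three (by rw [h6]; norm_num)
      have ha : 5 ∣ cnt N 2 := fpf_dvd_normal N Nat.prime_five (by norm_num) h50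
        (hno 2 (by norm_num) (cnt_subgroup_ne_zero N ha0))
      have hb : 5 ∣ cnt N 3 := fpf_dvd_normal N Nat.prime_five (by norm_num) h50
        (hno 3 (by norm_num) (cnt_subgroup_ne_zero N hb0))
      have hsum := card_eq_sum (G := N)
      rw [h6] at hsum
      have hdiv : Nat.divisors 6 = {1, 2, 3, 6} := by decide
      rw [hdiv, Finset.sum_insert (by simp), Finset.sum_insert (by simp),
        Finset.sum_pair (by norm_num)] at hsum
      obtain ⟨a, ha'⟩ := ha
      obtain ⟨b, hb'⟩ := hb
      omega
    · generalize hdd : Nat.card N = d at *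
      generalize hii : N.index = i at *
      subst h36
      have hi10 : i = 10 := by omega
      subst hi10
      have h2 := hin {1, 3} (by
        intro k hk
        simp only [Finset.mem_insert, Finset.mem_singleton] at hk
        rcases hk with rfl | rfl <;> norm_num)
      rw [Finset.sum_pair (by norm_num), cnt_one, h3] at h2
      omega

theorem iso_A6 (hcard : Nat.card G = 360) (h3 : cnt G 3 = 80) (h5 : cnt G 5 = 144)
    (hspec : ∀ k, cnt G k ≠ 0 → k ∈ [1, 2, 3, 4, 5]) :
    Nonempty (G ≃* alternatingGroup (Fin 6)) := by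
  haveI := simple_A6 hcard h3 h5 hspec
  exact Cfsg.Agent.S0497.result hcard

end Cfsg.Agent.Lib.Helper81.Nse
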