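import Mathlib
import Cfsg.Agent.Lib.Helper81.Q4Defs

/-!
# S6002: small glue lemmas for the assembly (helper81)
-/

set_option autoImplicit false
set_option linter.unusedVariables false
set_option linter.unusedSectionVars false

namespace Cfsg.Agent.Lib.Helper81.Q4

open Matrix

variable {F : Type*} [Field F]

theorem glue_mem_spGL_iff (g : GL I4 F) :
    g ∈ Cfsg.spGL 2 F ↔ ∀ u v, Cfsg.sympForm 2 F
      ((g : Matrix I4 I4 F) *ᵥ u) ((g : Matrix I4 I4 F) *ᵥ v) = Cfsg.sympForm 2 F u v := Iff.rfl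

/-- a scalar symplectic matrix is `±1`. -/
theorem glue_scalar_sq (x : GL I4 F) (hx : x ∈ Cfsg.spGL 2 F) (z : F)
    (hz : (x : Matrix I4 I4 F) = z • (1 : Matrix I4 I4 F)) : z * z = 1 := by
  have h := (glue_mem_spGL_iff x).mp hx (Pi.single (Sum.inl 0) 1) (Pi.single (Sum.inr 0) 1)
  rw [hz] at h
  simp only [Matrix.smul_mulVec, Matrix.one_mulVec] at h
  have hb : ∀ (a b : F) (u v : I4 → F), Cfsg.sympForm 2 F (a • u) (b • v) =
      a * b * Cfsg.sympForm 2 F u v := by
    intro a b u v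
    simp only [Cfsg.sympForm, Matrix.mulVec_smul, dotProduct_smul, smul_dotProduct, smul_eq_mul]
    ring
  rw [hb] at h
  have hne : Cfsg.sympForm 2 F (Pi.single (Sum.inl 0) 1) (Pi.single (Sum.inr 0) (1 : F)) ≠ 0 := by
    simp [Cfsg.sympForm, Matrix.J, Matrix.mulVec, dotProduct, Matrix.fromBlocks, Pi.single_apply]
  have h2 : (z * z - 1) * Cfsg.sympForm 2 F (Pi.single (Sum.inl 0) 1)
      (Pi.single (Sum.inr 0) (1 : F)) = 0 := by
    rw [sub_mul, h, one_mul, sub_self]
  rcases mul_eq_zero.mp h2 with h3 | h3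
  · exact sub_eq_zero.mp h3
  · exact absurd h3 hne

theorem glue_sq_eq_one_cases (z : F) (hz : z * z = 1) : z = 1 ∨ z = -1 := by
  have : (z - 1) * (z + 1) = 0 := by ring_nf; rw [sq, hz]; ring
  rcases mul_eq_zero.mp this with h | h
  · left; exact sub_eq_zero.mp h
  · right; exact eq_neg_of_add_eq_zero_left h

theorem glue_two_ne_zero (p : ℕ) [hp : Fact p.Prime] [CharP F p] (hodd : Odd p) : (2 : F) ≠ 0 := by
  intro h
  have h1 : ((2 : ℕ) : F) = 0 := by exact_mod_cast h
  rw [CharP.cast_eq_zero_iff F p] at h1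
  have h2 : p = 2 := (Nat.prime_dvd_prime_iff_eq hp.out Nat.prime_two).mp h1
  subst h2
  exact absurd hodd (by decide)

theorem glue_prime_eq_zero_iff (p : ℕ) [hp : Fact p.Prime] [CharP F p] (q : ℕ) (hq : q.Prime) :
    ((q : ℕ) : F) = 0 ↔ p = q := by
  rw [CharP.cast_eq_zero_iff F p]
  exact Nat.prime_dvd_prime_iff_eq hp.out hq

/-- an element anticommuting with an invertible matrix is not scalar. -/
theorem glue_not_scalar_of_anti (h2 : (2 : F) ≠ 0) (a b : GL I4 F)
    (hab : (a : Matrix I4 I4 F) * (b : Matrix I4 I4 F) =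
      -((b : Matrix I4 I4 F) * (a : Matrix I4 I4 F))) : ¬ IsScalar a := by
  rintro ⟨c, hc⟩
  rw [hc] at hab
  simp only [Matrix.smul_mul, Matrix.one_mul, Matrix.mul_smul, Matrix.mul_one] at hab
  have h3 : (2 * c) • (b : Matrix I4 I4 F) = 0 := by
    rw [mul_smul, two_smul]
    nth_rewrite 1 [hab]
    simp
  have h4 : (2 * c) • (1 : Matrix I4 I4 F) = 0 := by
    have := congrArg (fun M => M * ((b⁻¹ : GL I4 F) : Matrix I4 I4 F)) h3
    simpa [Matrix.smul_mul] using this
  have h5 : 2 * c = 0 := by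
    have := congrFun (congrFun h4 (Sum.inl 0)) (Sum.inl 0)
    simpa using this
  have hc0 : c = 0 := by
    rcases mul_eq_zero.mp h5 with h | h
    · exact absurd h h2
    · exact h
  have ha0 : (a : Matrix I4 I4 F) = 0 := by rw [hc, hc0, zero_smul]
  have h6 : (a : Matrix I4 I4 F) * ((a⁻¹ : GL I4 F) : Matrix I4 I4 F) = 1 := by
    rw [← Units.val_mul, mul_inv_cancel, Units.val_one]
  rw [ha0, zero_mul] at h6
  have := congrFun (congrFun h6 (Sum.inl 0)) (Sum.inl 0)
  simp at this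

/-- a matrix `-1` element of `GL` is central. -/
theorem glue_neg_one_comm (g0 : GL I4 F) (hg0 : (g0 : Matrix I4 I4 F) = -1) (x : GL I4 F) :
    g0 * x = x * g0 := by
  apply Units.ext
  simp [hg0]

end Cfsg.Agent.Lib.Helper81.Q4
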