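import Mathlib
import Cfsg.Agent.Lib.Helper15.PermChar

set_option autoImplicit false

/-!
# Towards Solomon's induction theorem

* `one_mem_of_forall_prime`: Banaschewski's lemma on rings of integer valued functions.
* `permFun H`: the permutation character of `G` on `G ⧸ H` as an integer valued function.
* `permSpan 𝓗`: the additive group spanned by the `permFun H`, `𝓗 H`; it is closed under
  multiplication when `𝓗` is closed under passing to subgroups of conjugates.
-/

namespace Cfsg.Agent.Lib.Helper81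

open MulAction

section Banaschewski

variable {X : Type*}

theorem exists_apply_eq_one (R : AddSubgroup (X → ℤ))
    (x : X) (h : ∀ p : ℕ, p.Prime → ∃ f ∈ R, ¬ (p : ℤ) ∣ f x) : ∃ f ∈ R, f x = 1 := by
  let I : AddSubgroup ℤ := R.map (Pi.evalAddMonoidHom (fun _ : X => ℤ) x)
  obtain ⟨a, ha⟩ := Int.subgroup_cyclic I
  have hmem : ∀ f ∈ R, a ∣ f x := by
    intro f hf
    have : f x ∈ I := ⟨f, hf, rfl⟩
    rw [ha, AddSubgroup.mem_closure_singleton] at this
    obtain ⟨n, hn⟩ := this
    exact ⟨n, by rw [← hn]; simp [mul_comm]⟩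
  have haI : a ∈ I := by
    rw [ha]
    exact AddSubgroup.subset_closure (Set.mem_singleton a)
  obtain ⟨f₀, hf₀, hf₀a⟩ := haI
  have hf₀a' : f₀ x = a := hf₀a
  by_cases h1 : a.natAbs = 1
  · rcases Int.natAbs_eq a with h2 | h2
    · refine ⟨f₀, hf₀, ?_⟩
      rw [hf₀a', h2, h1]
      rfl
    · refine ⟨-f₀, R.neg_mem hf₀, ?_⟩
      rw [Pi.neg_apply, hf₀a', h2, h1]
      simp
  · exfalso
    obtain ⟨p, hp, hpa⟩ := Nat.exists_prime_and_dvd h1
    obtain ⟨f, hf, hpf⟩ := h p hp
    apply hpf
    have h3 : (p : ℤ) ∣ a := Int.natCast_dvd.2 hpa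
    exact h3.trans (hmem f hf)

/-- Banaschewski's lemma: an additive group of integer valued functions on a finite set that is
closed under multiplication and, for every point `x` and prime `p`, contains a function whose
value at `x` is prime to `p`, contains the constant function `1`. -/
theorem one_mem_of_forall_prime [Finite X] (R : AddSubgroup (X → ℤ))
    (hmul : ∀ f ∈ R, ∀ g ∈ R, f * g ∈ R)
    (h : ∀ x : X, ∀ p : ℕ, p.Prime → ∃ f ∈ R, ¬ (p : ℤ) ∣ f x) : (1 : X → ℤ) ∈ R := by
  classical
  have : Fintype X := Fintype.ofFinite X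
  have key : ∀ T : Finset X, ∃ r ∈ R, ∀ x ∈ T, r x = 1 := by
    intro T
    induction T using Finset.induction_on with
    | empty => exact ⟨0, R.zero_mem, fun x hx => absurd hx (Finset.notMem_empty x)⟩
    | insert x T _ ih =>
      obtain ⟨r, hr, hrT⟩ := ih
      obtain ⟨f, hf, hfx⟩ := exists_apply_eq_one R x (h x)
      refine ⟨r + f - r * f, R.sub_mem (R.add_mem hr hf) (hmul r hr f hf), ?_⟩
      intro y hy
      rcases Finset.mem_insert.1 hy with rfl | hy
      · simp only [Pi.sub_apply, Pi.add_apply, Pi.mul_apply, hfx]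
        ring
      · simp only [Pi.sub_apply, Pi.add_apply, Pi.mul_apply, hrT y hy]
        ring
  obtain ⟨r, hr, hr1⟩ := key Finset.univ
  have : r = 1 := by
    funext x
    exact hr1 x (Finset.mem_univ x)
  rw [← this]
  exact hr

end Banaschewski

section PermFun

variable {G : Type*} [Group G]

/-- The permutation character of `G` on the cosets of `H`, as an integer valued function. -/
noncomputable def permFun (H : Subgroup G) : G → ℤ :=
  fun g => (Nat.card {q : G ⧸ H // g • q = q} : ℤ)

theorem permFun_apply (H : Subgroup G) (g : G) :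
    permFun H g = (Nat.card {q : G ⧸ H // g • q = q} : ℤ) := rfl

/-- The additive group spanned by the permutation characters on the cosets of the subgroups
satisfying `𝓗`. -/
noncomputable def permSpan (𝓗 : Subgroup G → Prop) : AddSubgroup (G → ℤ) :=
  AddSubgroup.closure {f | ∃ H : Subgroup G, 𝓗 H ∧ f = permFun H}

theorem permFun_mem_permSpan {𝓗 : Subgroup G → Prop} {H : Subgroup G} (hH : 𝓗 H) :
    permFun H ∈ permSpan 𝓗 :=
  AddSubgroup.subset_closure ⟨H, hH, rfl⟩

/-- The product of two permutation characters is a sum of permutation characters on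
intersections of conjugates. -/
theorem permFun_mul_mem [Finite G] {𝓗 : Subgroup G → Prop}
    (hsub : ∀ H K : Subgroup G, 𝓗 H → (∃ a : G, ∀ k ∈ K, a⁻¹ * k * a ∈ H) → 𝓗 K)
    (H K : Subgroup G) (hH : 𝓗 H) : permFun H * permFun K ∈ permSpan 𝓗 := by
  classical
  have : Fintype (orbitRel.Quotient G ((G ⧸ H) × (G ⧸ K))) := Fintype.ofFinite _
  let r : orbitRel.Quotient G ((G ⧸ H) × (G ⧸ K)) → (G ⧸ H) × (G ⧸ K) := fun ω => ω.out
  have hr : ∀ ω, (Quotient.mk'' (r ω) : orbitRel.Quotient G ((G ⧸ H) × (G ⧸ K))) = ω :=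
    fun ω => Quotient.out_eq' ω
  have hfun : permFun H * permFun K =
      ∑ ω : orbitRel.Quotient G ((G ⧸ H) × (G ⧸ K)), permFun (stabilizer G (r ω)) := by
    funext g
    rw [Pi.mul_apply, Finset.sum_apply]
    simp only [permFun_apply]
    have h1 := Cfsg.Agent.Lib.Helper15.card_fixed_eq_sum (G := G) (X := (G ⧸ H) × (G ⧸ K)) g r hr
    have h2 : Nat.card {x : (G ⧸ H) × (G ⧸ K) // g • x = x} =
        Nat.card {q : G ⧸ H // g • q = q} * Nat.card {q : G ⧸ K // g • q = q} := by
      rw [← Nat.card_prod]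
      apply Nat.card_congr
      exact
        { toFun := fun x => (⟨x.1.1, congrArg Prod.fst x.2⟩, ⟨x.1.2, congrArg Prod.snd x.2⟩)
          invFun := fun y => ⟨(y.1.1, y.2.1), Prod.ext y.1.2 y.2.2⟩
          left_inv := fun x => rfl
          right_inv := fun y => rfl }
    rw [← Nat.cast_mul, ← h2, h1]
    push_cast
    rfl
  rw [hfun]
  apply AddSubgroup.sum_mem
  intro ω _
  apply permFun_mem_permSpan
  -- the stabilizer of a pair lies in a conjugate of `H`
  obtain ⟨a, ha⟩ := QuotientGroup.mk_surjective (r ω).1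
  apply hsub H _ hH
  refine ⟨a, ?_⟩
  intro k hk
  rw [mem_stabilizer_iff] at hk
  have h1 : k • (r ω).1 = (r ω).1 := congrArg Prod.fst hk
  rw [← ha] at h1
  exact (Cfsg.Agent.Lib.Helper15.conj_mem_iff_smul_eq H k a).2 h1

/-- If `𝓗` is closed under passing to subgroups of conjugates, `permSpan 𝓗` is closed under
multiplication. -/
theorem permSpan_mul_mem [Finite G] {𝓗 : Subgroup G → Prop}
    (hsub : ∀ H K : Subgroup G, 𝓗 H → (∃ a : G, ∀ k ∈ K, a⁻¹ * k * a ∈ H) → 𝓗 K)
    (f : G → ℤ) (hf : f ∈ permSpan 𝓗) (g : G → ℤ) (hg : g ∈ permSpan 𝓗) :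
    f * g ∈ permSpan 𝓗 := by
  induction hf using AddSubgroup.closure_induction with
  | mem f hf =>
    obtain ⟨H, hH, rfl⟩ := hf
    induction hg using AddSubgroup.closure_induction with
    | mem g hg =>
      obtain ⟨K, _, rfl⟩ := hg
      exact permFun_mul_mem hsub H K hH
    | zero => rw [mul_zero]; exact AddSubgroup.zero_mem _
    | add a b _ _ iha ihb => rw [mul_add]; exact AddSubgroup.add_mem _ iha ihb
    | neg a _ iha => rw [mul_neg]; exact AddSubgroup.neg_mem _ iha
  | zero => rw [zero_mul]; exact AddSubgroup.zero_mem _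
  | add a b _ _ iha ihb => rw [add_mul]; exact AddSubgroup.add_mem _ iha ihb
  | neg a _ iha => rw [neg_mul]; exact AddSubgroup.neg_mem _ iha

/-- Solomon-type criterion: if `𝓗` is closed under subgroups of conjugates and, for every `x`
and prime `p`, some `H` with `𝓗 H` has `p ∤ permFun H x`, then `1` is an integer combination of
permutation characters on subgroups satisfying `𝓗`. -/
theorem one_mem_permSpan [Finite G] {𝓗 : Subgroup G → Prop}
    (hsub : ∀ H K : Subgroup G, 𝓗 H → (∃ a : G, ∀ k ∈ K, a⁻¹ * k * a ∈ H) → 𝓗 K)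
    (hex : ∀ x : G, ∀ p : ℕ, p.Prime → ∃ H : Subgroup G, 𝓗 H ∧ ¬ (p : ℤ) ∣ permFun H x) :
    (1 : G → ℤ) ∈ permSpan 𝓗 := by
  apply one_mem_of_forall_prime _ (permSpan_mul_mem hsub)
  intro x p hp
  obtain ⟨H, hH, hpH⟩ := hex x p hp
  exact ⟨permFun H, permFun_mem_permSpan hH, hpH⟩

end PermFun

end Cfsg.Agent.Lib.Helper81
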