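import Mathlib
import Cfsg.Agent.Lib.Helper81.Solomon

set_option autoImplicit false

/-!
# Quasi-elementary groups and Solomon's induction theorem
-/

namespace Cfsg.Agent.Lib.Helper81

open MulAction

/-- A group is `p`-quasi-elementary if it has a cyclic normal subgroup of order prime to `p`
and index a power of `p`. -/
def IsQuasiElem (p : ℕ) (H : Type*) [Group H] : Prop :=
  ∃ C : Subgroup H, C.Normal ∧ IsCyclic C ∧ (Nat.card C).Coprime p ∧ ∃ k : ℕ, C.index = p ^ k

theorem IsQuasiElem.of_injective {p : ℕ} (hp : p.Prime) {H K : Type*} [Group H] [Group K]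
    [Finite H] (h : IsQuasiElem p H) (f : K →* H) (hf : Function.Injective f) :
    IsQuasiElem p K := by
  obtain ⟨C, hCn, hCc, hCp, k, hk⟩ := h
  refine ⟨C.comap f, inferInstance, ?_, ?_, ?_⟩
  · -- cyclic
    let φ : C.comap f →* C := (f.comp (C.comap f).subtype).codRestrict C (fun x => x.2)
    have hφ : Function.Injective φ := by
      intro a b hab
      have : f a = f b := congrArg Subtype.val hab
      exact Subtype.ext (hf this)
    exact isCyclic_of_injective φ hφ
  · have hdvd : Nat.card (C.comap f) ∣ Nat.card C := by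
      let φ : C.comap f →* C := (f.comp (C.comap f).subtype).codRestrict C (fun x => x.2)
      have hφ : Function.Injective φ := by
        intro a b hab
        have : f a = f b := congrArg Subtype.val hab
        exact Subtype.ext (hf this)
      exact Subgroup.card_dvd_of_injective φ hφ
    exact Nat.Coprime.coprime_dvd_left hdvd hCp
  · rw [Subgroup.index_comap]
    have : C.relIndex f.range ∣ p ^ k := by
      rw [← hk]
      exact Subgroup.relIndex_dvd_index_of_normal C f.range
    obtain ⟨j, _, hj⟩ := (Nat.dvd_prime_pow hp).1 this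
    exact ⟨j, hj⟩


section Core

variable {G : Type*} [Group G] [Finite G]

omit [Finite G] in
/-- A normal subgroup acts trivially on the cosets of any subgroup containing it. -/
theorem smul_coset_eq_of_mem_normal (C H : Subgroup G) [hC : C.Normal] (hCH : C ≤ H) {c : G}
    (hc : c ∈ C) (q : G ⧸ H) : c • q = q := by
  obtain ⟨g, rfl⟩ := QuotientGroup.mk_surjective q
  rw [← Cfsg.Agent.Lib.Helper15.conj_mem_iff_smul_eq]
  apply hCH
  have := hC.conj_mem c hc g⁻¹
  simpa using this

/-- Core of Solomon's theorem: `C` a normal subgroup of order prime to `p`, `x` an element whose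
image modulo `C` is a `p`-element. Then there is a subgroup `H = C P` (`P` a Sylow `p`-subgroup)
on whose cosets the number of fixed points of `x` is prime to `p`. -/
theorem exists_sup_sylow (p : ℕ) [hp : Fact p.Prime] (C : Subgroup G) [hC : C.Normal]
    (hcop : (Nat.card C).Coprime p) (x : G) (k : ℕ) (hx : x ^ (p ^ k) ∈ C) :
    ∃ P : Sylow p G, ¬ (p : ℤ) ∣ permFun (C ⊔ (P : Subgroup G)) x := by
  classical
  set m := Nat.card C with hm
  -- `x ^ m` is a `p`-element
  have hz : (x ^ m) ^ (p ^ k) = 1 := by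
    rw [← pow_mul, mul_comm, pow_mul]
    have : (⟨x ^ (p ^ k), hx⟩ : C) ^ m = 1 := by
      rw [hm]
      exact pow_card_eq_one'
    exact congrArg Subtype.val this
  have hQ : IsPGroup p (Subgroup.zpowers (x ^ m)) := by
    apply IsPGroup.of_card (n := (orderOf (x ^ m)).factorization p)
    rw [Nat.card_zpowers]
    have hdvd : orderOf (x ^ m) ∣ p ^ k := orderOf_dvd_of_pow_eq_one hz
    obtain ⟨j, _, hj⟩ := (Nat.dvd_prime_pow hp.out).1 hdvd
    rw [hj, Nat.Prime.factorization_pow hp.out]
    simp
  obtain ⟨P, hQP⟩ := hQ.exists_le_sylow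
  refine ⟨P, ?_⟩
  set H := C ⊔ (P : Subgroup G) with hH
  -- Bezout
  have hcop' : IsCoprime (m : ℤ) ((p ^ k : ℕ) : ℤ) := by
    rw [Nat.isCoprime_iff_coprime]
    exact Nat.Coprime.pow_right k hcop
  obtain ⟨a, b, hab⟩ := hcop'
  have hxdecomp : x = (x ^ m) ^ a * (x ^ (p ^ k)) ^ b := by
    rw [← zpow_natCast x m, ← zpow_natCast x (p ^ k), ← zpow_mul, ← zpow_mul, ← zpow_add]
    have : (m : ℤ) * a + ((p ^ k : ℕ) : ℤ) * b = 1 := by rw [← hab]; ring
    rw [this, zpow_one]
  -- fixed points of `x` are the fixed points of `zpowers (x ^ m)`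
  have hfix : ∀ q : G ⧸ H, x • q = q ↔ q ∈ fixedPoints (Subgroup.zpowers (x ^ m)) (G ⧸ H) := by
    intro q
    rw [mem_fixedPoints]
    constructor
    · intro hq g
      obtain ⟨g, hg⟩ := g
      have : Subgroup.zpowers (x ^ m) ≤ stabilizer G q := by
        rw [Subgroup.zpowers_le, mem_stabilizer_iff, pow_smul_eq_iff_minimalPeriod_dvd]
        have : Function.minimalPeriod (x • ·) q = 1 := by
          rw [Function.minimalPeriod_eq_one_iff_isFixedPt]
          exact hq
        rw [this]
        exact one_dvd _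
      exact mem_stabilizer_iff.1 (this hg)
    · intro hq
      have h1 : ∀ i : ℤ, (x ^ m) ^ i • q = q := by
        intro i
        exact hq ⟨(x ^ m) ^ i, Subgroup.zpow_mem_zpowers _ i⟩
      have h2 : (x ^ (p ^ k)) ^ b • q = q :=
        smul_coset_eq_of_mem_normal C H le_sup_left (C.zpow_mem hx b) q
      conv_lhs => rw [hxdecomp, mul_smul, h2, h1 a]
  have hcard : Nat.card {q : G ⧸ H // x • q = q} =
      Nat.card (fixedPoints (Subgroup.zpowers (x ^ m)) (G ⧸ H)) :=
    Nat.card_congr (Equiv.subtypeEquivRight hfix)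
  have hmod := hQ.card_modEq_card_fixedPoints (G ⧸ H)
  have hidx : ¬ p ∣ Nat.card (G ⧸ H) := by
    intro hdvd
    have h1 : H.index ∣ (P : Subgroup G).index := Subgroup.index_dvd_of_le le_sup_right
    exact P.not_dvd_index (hdvd.trans h1)
  rw [permFun_apply, hcard]
  intro hdvd
  have hdvd' : p ∣ Nat.card (fixedPoints (Subgroup.zpowers (x ^ m)) (G ⧸ H)) :=
    Int.natCast_dvd_natCast.1 hdvd
  apply hidx
  exact (Nat.modEq_zero_iff_dvd.1 (hmod.trans (Nat.modEq_zero_iff_dvd.2 hdvd')))


/-- `C P` is `p`-quasi-elementary when `C` is a cyclic normal `p'`-subgroup and `P` a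
`p`-subgroup. -/
theorem isQuasiElem_sup (p : ℕ) [hp : Fact p.Prime] (C : Subgroup G) [hC : C.Normal]
    (hcyc : IsCyclic C) (hcop : (Nat.card C).Coprime p) (P : Subgroup G) (hP : IsPGroup p P) :
    IsQuasiElem p ↥(C ⊔ P) := by
  refine ⟨C.subgroupOf (C ⊔ P), hC.subgroupOf _, ?_, ?_, ?_⟩
  · exact isCyclic_of_injective (Subgroup.subgroupOfEquivOfLe (le_sup_left : C ≤ C ⊔ P)).toMonoidHom
      (Subgroup.subgroupOfEquivOfLe (le_sup_left : C ≤ C ⊔ P)).injective
  · rw [Nat.card_congr (Subgroup.subgroupOfEquivOfLe (le_sup_left : C ≤ C ⊔ P)).toEquiv]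
    exact hcop
  · have h1 : (C.subgroupOf (C ⊔ P)).index = C.relIndex P := by
      rw [← Subgroup.relIndex, Subgroup.relIndex_sup_left]
    have h2 : C.relIndex P ∣ Nat.card P := Subgroup.index_dvd_card _
    obtain ⟨n, hn⟩ := IsPGroup.iff_card.1 hP
    rw [hn] at h2
    obtain ⟨j, _, hj⟩ := (Nat.dvd_prime_pow hp.out).1 h2
    exact ⟨j, by rw [h1, hj]⟩

omit [Finite G] in
/-- In `C P` the elements of order prime to `p` lie in `C`. -/
theorem mem_of_coprime_orderOf (p : ℕ) [hp : Fact p.Prime] (C : Subgroup G) [hC : C.Normal]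
    (P : Subgroup G) (hP : IsPGroup p P) {h : G} (hh : h ∈ C ⊔ P)
    (hord : (orderOf h).Coprime p) : h ∈ C := by
  have hmem : h ∈ ((C ⊔ P : Subgroup G) : Set G) := hh
  rw [Subgroup.normal_mul, Set.mem_mul] at hmem
  obtain ⟨c, hc, q, hq, rfl⟩ := hmem
  obtain ⟨j, hj⟩ := hP ⟨q, hq⟩
  have hj' : q ^ (p ^ j) = 1 := congrArg Subtype.val hj
  -- the image in the quotient
  have h1 : ((c * q : G) : G ⧸ C) = ((q : G) : G ⧸ C) := by
    rw [QuotientGroup.eq]
    have : (c * q)⁻¹ * q = q⁻¹ * c⁻¹ * q := by group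
    rw [this]
    have := hC.conj_mem c⁻¹ (C.inv_mem hc) q⁻¹
    simpa using this
  have h2 : ((c * q : G) : G ⧸ C) ^ (p ^ j) = 1 := by
    rw [h1, ← QuotientGroup.mk_pow, hj']
    rfl
  have h3 : orderOf ((c * q : G) : G ⧸ C) ∣ p ^ j := orderOf_dvd_of_pow_eq_one h2
  have h4 : orderOf ((c * q : G) : G ⧸ C) ∣ orderOf (c * q) :=
    orderOf_map_dvd (QuotientGroup.mk' C) (c * q)
  have h5 : orderOf ((c * q : G) : G ⧸ C) = 1 := by
    have hc' : (orderOf (c * q)).Coprime (p ^ j) := Nat.Coprime.pow_right j hord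
    exact Nat.eq_one_of_dvd_coprimes hc' h4 h3
  rw [orderOf_eq_one_iff] at h5
  exact (QuotientGroup.eq_one_iff _).1 h5

end Core

section Transfer

variable {G : Type*} [Group G] [Finite G]

/-- Fixed points of `x ∈ N` on `G ⧸ H` and on `N ⧸ H` agree if every `y` with
`y⁻¹ x y ∈ H` lies in `N`. -/
theorem permFun_map_subtype (N : Subgroup G) (H' : Subgroup N) (x : N)
    (hN : ∀ y : G, y⁻¹ * (x : G) * y ∈ H'.map N.subtype → y ∈ N) :
    permFun (H'.map N.subtype) (x : G) = permFun H' x := by
  have h1 := Cfsg.Agent.Lib.Helper15.card_conj_mem_eq (H'.map N.subtype) (x : G)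
  have h2 := Cfsg.Agent.Lib.Helper15.card_conj_mem_eq H' x
  have hcard : Nat.card (H'.map N.subtype) = Nat.card H' :=
    Nat.card_congr (H'.equivMapOfInjective N.subtype N.subtype_injective).symm.toEquiv
  have e : {y : G // y⁻¹ * (x : G) * y ∈ H'.map N.subtype} ≃ {y : N // y⁻¹ * x * y ∈ H'} :=
    { toFun := fun y => ⟨⟨y.1, hN y.1 y.2⟩, by
        have := y.2
        rw [Subgroup.mem_map] at this
        obtain ⟨h, hh, hheq⟩ := this
        have : h = (⟨y.1, hN y.1 y.2⟩ : N)⁻¹ * x * ⟨y.1, hN y.1 y.2⟩ := Subtype.ext hheq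
        rw [← this]
        exact hh⟩
      invFun := fun y => ⟨y.1.1, by
        rw [Subgroup.mem_map]
        exact ⟨_, y.2, rfl⟩⟩
      left_inv := fun y => rfl
      right_inv := fun y => rfl }
  rw [Nat.card_congr e, h2, hcard] at h1
  have hpos : 0 < Nat.card H' := Nat.card_pos
  have := Nat.eq_of_mul_eq_mul_left hpos h1
  rw [permFun_apply, permFun_apply, this]

/-- For every element `x` and prime `p` there is a `p`-quasi-elementary subgroup `H` such that
the number of fixed points of `x` on `G ⧸ H` is prime to `p`. -/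
theorem exists_quasiElem_not_dvd (x : G) (p : ℕ) [hp : Fact p.Prime] :
    ∃ H : Subgroup G, IsQuasiElem p H ∧ ¬ (p : ℤ) ∣ permFun H x := by
  classical
  set n := orderOf x with hn
  have hn0 : n ≠ 0 := (orderOf_pos x).ne'
  set k := n.factorization p with hk
  have hpk : p ^ k ∣ n := Nat.ordProj_dvd n p
  set y := x ^ (p ^ k) with hy
  have hordy : orderOf y = n / p ^ k :=
    orderOf_pow_of_dvd (pow_ne_zero k hp.out.ne_zero) hpk
  have hcopy : (orderOf y).Coprime p := by
    rw [hordy]
    exact (Nat.coprime_ordCompl hp.out hn0).symm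
  set C := Subgroup.zpowers y with hC
  have hcardC : Nat.card C = orderOf y := Nat.card_zpowers y
  -- `x` centralizes `C`
  have hxc : ∀ c ∈ C, x * c * x⁻¹ = c := by
    intro c hc
    obtain ⟨i, rfl⟩ := Subgroup.mem_zpowers_iff.1 hc
    have : Commute x (y ^ i) := ((Commute.refl x).pow_right (p ^ k)).zpow_right i
    rw [this.eq]
    group
  set N := Subgroup.normalizer (C : Set G) with hNdef
  have hCN : C ≤ N := Subgroup.le_normalizer
  have hxN : x ∈ N := by
    rw [hNdef, Subgroup.mem_normalizer_iff]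
    intro c
    constructor
    · intro hc
      rw [hxc c hc]
      exact hc
    · intro hc
      have h1 : x⁻¹ * (x * c * x⁻¹) * x = c := by group
      have h2 : x * (x⁻¹ * (x * c * x⁻¹) * x) * x⁻¹ = x * c * x⁻¹ := by group
      have h3 : x * (x * c * x⁻¹) * x⁻¹ = x * c * x⁻¹ := hxc _ hc
      have h4 : x * c * x⁻¹ = c := by
        have : x * (x * c * x⁻¹) * x⁻¹ = x * (c) * x⁻¹ → x * c * x⁻¹ = c := by
          intro h
          have := mul_left_cancel (mul_right_cancel h)
          exact this
        exact this h3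
      rw [← h4]
      exact hc
  -- work inside `N`
  set C' : Subgroup N := C.subgroupOf N with hC'
  have : C'.Normal := Subgroup.normal_in_normalizer
  have eC : C' ≃* C := Subgroup.subgroupOfEquivOfLe hCN
  have hcycC' : IsCyclic C' := isCyclic_of_injective eC.toMonoidHom eC.injective
  have hcardC' : Nat.card C' = orderOf y := by rw [Nat.card_congr eC.toEquiv, hcardC]
  have hcopC' : (Nat.card C').Coprime p := by rw [hcardC']; exact hcopy
  let xN : N := ⟨x, hxN⟩
  have hxN' : xN ^ (p ^ k) ∈ C' := by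
    rw [hC', Subgroup.mem_subgroupOf]
    exact Subgroup.mem_zpowers y
  obtain ⟨P, hP⟩ := exists_sup_sylow p C' hcopC' xN k hxN'
  set H' : Subgroup N := C' ⊔ (P : Subgroup N) with hH'
  refine ⟨H'.map N.subtype, ?_, ?_⟩
  · have h1 : IsQuasiElem p ↥H' := isQuasiElem_sup p C' hcycC' hcopC' P P.isPGroup'
    exact h1.of_injective hp.out
      (H'.equivMapOfInjective N.subtype N.subtype_injective).symm.toMonoidHom
      (H'.equivMapOfInjective N.subtype N.subtype_injective).symm.injective
  · have key : ∀ z : G, z⁻¹ * (xN : G) * z ∈ H'.map N.subtype → z ∈ N := by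
      intro z hz
      rw [Subgroup.mem_map] at hz
      obtain ⟨h, hh, hheq⟩ := hz
      have hheq' : (h : G) = z⁻¹ * x * z := hheq
      -- `h ^ (p ^ k)` has order prime to `p`, so lies in `C'`
      have hpow : ((h ^ (p ^ k) : N) : G) = z⁻¹ * y * z := by
        rw [Subgroup.coe_pow, hheq', hy]
        have h1 : z⁻¹ * x * z = z⁻¹ * x * (z⁻¹)⁻¹ := by rw [inv_inv]
        rw [h1, conj_pow, inv_inv]
      have hord : orderOf (h ^ (p ^ k)) = orderOf y := by
        rw [← Subgroup.orderOf_coe, hpow]
        have hsc : SemiconjBy z⁻¹ y (z⁻¹ * y * z) := by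
          unfold SemiconjBy
          group
        exact (hsc.orderOf_eq).symm
      have hmemC' : h ^ (p ^ k) ∈ C' :=
        mem_of_coprime_orderOf p C' (P : Subgroup N) P.isPGroup' (H'.pow_mem hh _)
          (by rw [hord]; exact hcopy)
      have hyz : z⁻¹ * y * z ∈ C := by
        rw [← hpow]
        exact Subgroup.mem_subgroupOf.1 hmemC'
      -- hence `z⁻¹ C z ≤ C`
      have hsub : ∀ c ∈ C, z⁻¹ * c * z ∈ C := by
        intro c hc
        obtain ⟨i, rfl⟩ := Subgroup.mem_zpowers_iff.1 hc
        have : z⁻¹ * y ^ i * z = (z⁻¹ * y * z) ^ i := by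
          have h1 : z⁻¹ * y ^ i * z = z⁻¹ * y ^ i * (z⁻¹)⁻¹ := by group
          have h2 : z⁻¹ * y * z = z⁻¹ * y * (z⁻¹)⁻¹ := by group
          rw [h1, h2, conj_zpow]
        rw [this]
        exact C.zpow_mem hyz i
      let ψ : C → C := fun c => ⟨z⁻¹ * c * z, hsub c c.2⟩
      have hψinj : Function.Injective ψ := by
        intro a b hab
        have : z⁻¹ * (a : G) * z = z⁻¹ * (b : G) * z := congrArg Subtype.val hab
        exact Subtype.ext (mul_left_cancel (mul_right_cancel this))
      have hψsurj : Function.Surjective ψ := Finite.injective_iff_surjective.1 hψinj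
      rw [hNdef, Subgroup.mem_normalizer_iff]
      intro c
      constructor
      · intro hc
        obtain ⟨c', hc'⟩ := hψsurj ⟨c, hc⟩
        have : z⁻¹ * (c' : G) * z = c := congrArg Subtype.val hc'
        rw [← this]
        have : z * (z⁻¹ * (c' : G) * z) * z⁻¹ = c' := by group
        rw [this]
        exact c'.2
      · intro hc
        have := hsub _ hc
        have h1 : z⁻¹ * (z * c * z⁻¹) * z = c := by group
        rw [h1] at this
        exact this
    have := permFun_map_subtype N H' xN key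
    rw [show ((xN : N) : G) = x from rfl] at this
    rw [this]
    exact hP


/-- Subgroups of conjugates of quasi-elementary subgroups are quasi-elementary. -/
theorem isQuasiElem_of_conj_le {p : ℕ} (hp : p.Prime) (H K : Subgroup G) (hH : IsQuasiElem p H)
    (hK : ∃ a : G, ∀ k ∈ K, a⁻¹ * k * a ∈ H) : IsQuasiElem p K := by
  obtain ⟨a, ha⟩ := hK
  let f : K →* H :=
    { toFun := fun k => ⟨a⁻¹ * k * a, ha k k.2⟩
      map_one' := by
        apply Subtype.ext
        simp
      map_mul' := by
        intro x y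
        apply Subtype.ext
        simp only [Subgroup.coe_mul]
        group }
  have hf : Function.Injective f := by
    intro x y hxy
    have : a⁻¹ * (x : G) * a = a⁻¹ * (y : G) * a := congrArg Subtype.val hxy
    exact Subtype.ext (mul_left_cancel (mul_right_cancel this))
  exact hH.of_injective hp f hf

/-- Solomon's induction theorem: the constant function `1` is an integer combination of
permutation characters on the cosets of quasi-elementary subgroups. -/
theorem solomon : (1 : G → ℤ) ∈
    permSpan (fun H : Subgroup G => ∃ p : ℕ, p.Prime ∧ IsQuasiElem p H) := by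
  apply one_mem_permSpan
  · rintro H K ⟨p, hp, hH⟩ hK
    exact ⟨p, hp, isQuasiElem_of_conj_le hp H K hH hK⟩
  · intro x p hp
    have : Fact p.Prime := ⟨hp⟩
    obtain ⟨H, hH, hx⟩ := exists_quasiElem_not_dvd x p
    exact ⟨H, ⟨p, hp, hH⟩, hx⟩

end Transfer

end Cfsg.Agent.Lib.Helper81
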