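import Cfsg.Prelude.Def_Characters
import Mathlib.RingTheory.SimpleModule.IsAlgClosed
import Mathlib.RepresentationTheory.Maschke
import Mathlib.RepresentationTheory.Character
import Mathlib.RepresentationTheory.Irreducible
import Mathlib.LinearAlgebra.Matrix.ToLin
import Mathlib.LinearAlgebra.Matrix.StdBasis
import Mathlib.Analysis.Complex.Polynomial.Basic

set_option autoImplicit false

namespace Cfsg.Agent.Lib.Helper81

open scoped MonoidAlgebra

universe u
variable {G : Type u} [Group G]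

theorem stdBasis_repr_apply {m n : Type*} [Fintype m] [Fintype n] (M : Matrix m n ℂ)
    (j : m) (k : n) : (Matrix.stdBasis ℂ m n).repr M (j, k) = M j k := by
  simp [Matrix.stdBasis, Pi.basis_repr]

theorem trace_mulLeft_pi_matrix {n : ℕ} (d : Fin n → ℕ)
    (A : Π i, Matrix (Fin (d i)) (Fin (d i)) ℂ) :
    LinearMap.trace ℂ _ (LinearMap.mulLeft ℂ A) = ∑ i, (d i : ℂ) * (A i).trace := by
  classical
  let b := Pi.basis (fun i => Matrix.stdBasis ℂ (Fin (d i)) (Fin (d i)))
  rw [LinearMap.trace_eq_matrix_trace ℂ b, Matrix.trace]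
  simp only [Matrix.diag_apply, LinearMap.toMatrix_apply]
  rw [Fintype.sum_sigma]
  refine Finset.sum_congr rfl fun i _ => ?_
  rw [Fintype.sum_prod_type]
  have key : ∀ j k : Fin (d i),
      (b.repr ((LinearMap.mulLeft ℂ A) (b ⟨i, (j, k)⟩))) ⟨i, (j, k)⟩ = A i j j := by
    intro j k
    simp only [b, Pi.basis_apply, Pi.basis_repr, LinearMap.mulLeft_apply]
    rw [stdBasis_repr_apply, Pi.mul_apply, Pi.single_eq_same, Matrix.stdBasis_eq_single]
    simp [Matrix.mul_apply, Matrix.single_apply]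
  simp only [key]
  rw [Finset.sum_comm, Matrix.trace]
  simp [Finset.sum_const, Finset.mul_sum]

theorem trace_mulLeft_single [Fintype G] [DecidableEq G] (g : G) :
    LinearMap.trace ℂ (MonoidAlgebra ℂ G)
        (LinearMap.mulLeft ℂ (MonoidAlgebra.single g (1 : ℂ))) =
      if g = 1 then (Fintype.card G : ℂ) else 0 := by
  rw [LinearMap.trace_eq_matrix_trace ℂ (MonoidAlgebra.basis G ℂ), Matrix.trace]
  simp only [Matrix.diag_apply, LinearMap.toMatrix_apply, MonoidAlgebra.basis_apply,
    LinearMap.mulLeft_apply, MonoidAlgebra.single_mul_single, mul_one]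
  change ∑ i, (MonoidAlgebra.single (g * i) (1:ℂ)).coeff i = _
  simp only [MonoidAlgebra.coeff_single, Finsupp.single_apply, mul_eq_right]
  split_ifs with h
  · simp
  · simp

theorem trace_mulLeft_algEquiv {A B : Type*} [Ring A] [Ring B] [Algebra ℂ A] [Algebra ℂ B]
    (e : A ≃ₐ[ℂ] B) (x : A) :
    LinearMap.trace ℂ B (LinearMap.mulLeft ℂ (e x)) =
      LinearMap.trace ℂ A (LinearMap.mulLeft ℂ x) := by
  have : LinearMap.mulLeft ℂ (e x) = e.toLinearEquiv.conj (LinearMap.mulLeft ℂ x) := by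
    ext b
    simp [LinearEquiv.conj_apply]
  rw [this, LinearMap.trace_conj']

theorem exists_wedderburn [Finite G] : ∃ (n : ℕ) (d : Fin n → ℕ), (∀ i, NeZero (d i)) ∧
      Nonempty (MonoidAlgebra ℂ G ≃ₐ[ℂ] Π i, Matrix (Fin (d i)) (Fin (d i)) ℂ) := by
  have : NeZero (Nat.card G : ℂ) := ⟨by exact_mod_cast Nat.card_pos.ne'⟩
  exact IsSemisimpleRing.exists_algEquiv_pi_matrix_of_isAlgClosed ℂ (MonoidAlgebra ℂ G)

noncomputable def matRep {m : ℕ} (φ : MonoidAlgebra ℂ G →ₐ[ℂ] Matrix (Fin m) (Fin m) ℂ) :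
    Representation ℂ G (Fin m → ℂ) where
  toFun g := Matrix.toLin' (φ (MonoidAlgebra.of ℂ G g))
  map_one' := by rw [map_one, map_one]; exact Matrix.toLin'_one
  map_mul' a b := by rw [map_mul, map_mul, Matrix.toLin'_mul]; rfl

theorem matRep_apply {m : ℕ} (φ : MonoidAlgebra ℂ G →ₐ[ℂ] Matrix (Fin m) (Fin m) ℂ) (g : G) :
    matRep φ g = Matrix.toLin' (φ (MonoidAlgebra.of ℂ G g)) := rfl

theorem matRep_character {m : ℕ} (φ : MonoidAlgebra ℂ G →ₐ[ℂ] Matrix (Fin m) (Fin m) ℂ) (g : G) :
    (matRep φ).character g = (φ (MonoidAlgebra.of ℂ G g)).trace := by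
  rw [Representation.character, matRep_apply, Matrix.trace_toLin'_eq]

theorem matRep_mem {m : ℕ} (φ : MonoidAlgebra ℂ G →ₐ[ℂ] Matrix (Fin m) (Fin m) ℂ)
    (W : Subrepresentation (matRep φ)) (x : MonoidAlgebra ℂ G) (v : Fin m → ℂ)
    (hv : v ∈ W.toSubmodule) : Matrix.toLin' (φ x) v ∈ W.toSubmodule := by
  induction x using MonoidAlgebra.induction_on with
  | of g => exact W.apply_mem_toSubmodule g hv
  | add x y hx hy =>
    rw [map_add, map_add, LinearMap.add_apply]
    exact W.toSubmodule.add_mem hx hy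
  | smul r x hx =>
    rw [map_smul, map_smul, LinearMap.smul_apply]
    exact W.toSubmodule.smul_mem r hx

theorem matRep_isIrreducible {m : ℕ} [NeZero m]
    (φ : MonoidAlgebra ℂ G →ₐ[ℂ] Matrix (Fin m) (Fin m) ℂ) (hφ : Function.Surjective φ) :
    (matRep φ).IsIrreducible := by
  classical
  have hne : Nontrivial (Fin m → ℂ) := by
    have : Nonempty (Fin m) := ⟨⟨0, Nat.pos_of_ne_zero (NeZero.ne m)⟩⟩
    infer_instance
  refine { exists_pair_ne := ⟨⊥, ⊤, ?_⟩, eq_bot_or_eq_top := ?_ }
  · intro h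
    have h1 : (⊥ : Subrepresentation (matRep φ)).toSubmodule =
        (⊤ : Subrepresentation (matRep φ)).toSubmodule := by
      rw [h]
    exact bot_ne_top h1
  · intro W
    by_cases hW : W.toSubmodule = ⊥
    · left
      exact Subrepresentation.toSubmodule_injective hW
    · right
      apply Subrepresentation.toSubmodule_injective
      change W.toSubmodule = ⊤
      have hW' : W.toSubmodule ≠ ⊥ := hW
      rw [Submodule.ne_bot_iff] at hW'
      obtain ⟨w, hwW, hw0⟩ := hW'
      have : ∃ j, w j ≠ 0 := by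
        by_contra hcon
        exact hw0 (funext fun j => by_contra fun hj => hcon ⟨j, hj⟩)
      obtain ⟨j, hj⟩ := this
      rw [eq_top_iff]
      intro v _
      obtain ⟨x, hx⟩ := hφ (Matrix.of fun r c => if c = j then v r / w j else 0)
      have := matRep_mem φ W x w hwW
      rw [hx] at this
      convert this using 1
      ext r
      simp [Matrix.toLin'_apply, Matrix.mulVec, dotProduct]
      field_simp

/-- Wedderburn family: finitely many irreducible representations on coordinate spaces whose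
characters, weighted by their dimensions, sum to the regular character. -/
theorem exists_irr_family [Finite G] :
    ∃ (n : ℕ) (d : Fin n → ℕ) (ρ : ∀ i, Representation ℂ G (Fin (d i) → ℂ)),
      (∀ i, d i ≠ 0) ∧ (∀ i, (ρ i).IsIrreducible) ∧
      (∑ i, (d i : ℂ) * (ρ i).character 1 = (Nat.card G : ℂ)) ∧
      ∀ g : G, g ≠ 1 → ∑ i, (d i : ℂ) * (ρ i).character g = 0 := by
  classical
  have : Fintype G := Fintype.ofFinite G
  obtain ⟨n, d, hd, ⟨e⟩⟩ := exists_wedderburn (G := G)
  let φ : ∀ i, MonoidAlgebra ℂ G →ₐ[ℂ] Matrix (Fin (d i)) (Fin (d i)) ℂ := fun i =>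
    (Pi.evalAlgHom ℂ (fun i => Matrix (Fin (d i)) (Fin (d i)) ℂ) i).comp e.toAlgHom
  have hφ : ∀ i, Function.Surjective (φ i) := by
    intro i A
    obtain ⟨x, hx⟩ := e.surjective (Function.update 0 i A)
    refine ⟨x, ?_⟩
    change (e x) i = A
    rw [hx]
    simp
  have hform : ∀ g : G, ∑ i, (d i : ℂ) * (matRep (φ i)).character g =
      if g = 1 then (Fintype.card G : ℂ) else 0 := by
    intro g
    rw [← trace_mulLeft_single g, ← trace_mulLeft_algEquiv e, trace_mulLeft_pi_matrix]
    refine Finset.sum_congr rfl fun i _ => ?_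
    rw [matRep_character]
    rfl
  refine ⟨n, d, fun i => matRep (φ i), fun i => (hd i).ne, fun i => ?_, ?_, ?_⟩
  · haveI := hd i
    exact matRep_isIrreducible (φ i) (hφ i)
  · rw [hform 1, if_pos rfl, Fintype.card_eq_nat_card]
  · intro g hg
    rw [hform g, if_neg hg]

end Cfsg.Agent.Lib.Helper81
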