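import Mathlib
import Cfsg.Agent.Lib.Helper20.SuTorusDefs

/-!
# SU-H1: Eichler elements have `p`-power order (for helper20, S5172)
-/

set_option autoImplicit false
set_option linter.style.haveILetI false
set_option linter.unusedSimpArgs false
set_option linter.unusedSectionVars false
set_option linter.unusedVariables false

namespace Cfsg.Agent.Lib.Helper20.SuF

open Matrix Subgroup Cfsg.Agent.Lib.Helper20.PslF

variable {n : ℕ} {K : Type*} [Field K] [Fintype K] (F : Inv K)

/-- SU-H1: Eichler elements have `p`-power order. -/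
theorem h81_SgT_orderOf (p : ℕ) [Fact p.Prime] [CharP K p] (u w : Fin n → K) (c : K) :
    ∃ m : ℕ, orderOf (SgT F u w c) = p ^ m := by
  have hp : p.Prime := Fact.out
  by_cases h : hf F u u = 0 ∧ hf F w u = 0
  · obtain ⟨h1, h2⟩ := h
    have hk : ∀ k : ℕ, ∃ c' : K, SgT F u w c ^ k = SgT F u ((k : K) • w) c' := by
      intro k
      induction k with
      | zero => exact ⟨0, by rw [pow_zero, Nat.cast_zero, zero_smul, SgT_zero]⟩
      | succ k ih =>
        obtain ⟨c', hc'⟩ := ih
        have h3 : hf F ((k : K) • w) u = 0 := by rw [hf_smul_left, h2, mul_zero]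
        refine ⟨c' + c - hf F w ((k : K) • w), ?_⟩
        rw [pow_succ, hc', SgT_mul F _ _ h1 h3 h2]
        congr 1
        rw [Nat.cast_succ, add_smul, one_smul]
    obtain ⟨γ, hγ⟩ := hk p
    rw [CharP.cast_eq_zero, zero_smul] at hγ
    have h0 : hf F (0 : Fin n → K) u = 0 := hf_zero_left F u
    have hj : ∀ j : ℕ, SgT F u 0 γ ^ j = SgT F u 0 ((j : K) * γ) := by
      intro j
      induction j with
      | zero => rw [pow_zero, Nat.cast_zero, zero_mul, SgT_zero]
      | succ j ih =>
        rw [pow_succ, ih, SgT_mul F _ _ h1 h0 h0]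
        congr 1
        · simp
        · rw [hf_zero_left]; push_cast; ring
    have hpp : SgT F u w c ^ (p ^ 2) = 1 := by
      rw [pow_two, pow_mul, hγ, hj, CharP.cast_eq_zero, zero_mul, SgT_zero]
    obtain ⟨m, -, hm⟩ := (Nat.dvd_prime_pow hp).mp (orderOf_dvd_of_pow_eq_one hpp)
    exact ⟨m, hm⟩
  · refine ⟨0, ?_⟩
    unfold SgT
    rw [dif_neg h, orderOf_one, pow_zero]

end Cfsg.Agent.Lib.Helper20.SuF
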